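import Groth.Statements.S8695
import Groth.Agent.Lambda.FilProps

set_option autoImplicit false
universe u v
open Finset nonZeroDivisors
open LambdaRing

namespace Groth.Agent.S8695

open LambdaRing Groth.Agent.Lambda

/-- In the case where λ_{−1}(N) is a non-zero-divisor: let K be a binomial ring with its binomial
λ-structure, A a λ-ring in the strict sense which is an augmented K-λ-algebra with augmentation ε,
and Fil^n A the γ-filtration (the ideal generated by products of γ^{i}(z) with ε(z) = 0 of total
weight ≥ n; all of A for n = 0). Let d ≥ 1 and N ∈ A be of rank d, that is λ^k(N) = 0 for all k > d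
and ε(N) = d; put λ_{−1}(N) = Σ_{i ≤ d} (−1)^i λ^i(N), and suppose λ_{−1}(N) is a non-zero-divisor.
Then for p ≥ 1 and x ∈ A, the unique y with y · λ_{−1}(N) = γ^p(x · λ_{−1}(N)) — when it exists —
lies in Fil^{p−d} A. (The published statement is γ^p(N, x) ∈ Fil^{p−d} A for the element γ^p(N, x)
defined by substitution from the universal λ-ring, where it is characterised by γ^p(N, x) ·
λ_{−1}(N) = γ^p(x · λ_{−1}(N)); this row covers the case in which that identity determines the
element, λ_{−1}(N) being a non-zero-divisor. The published statement also omits the condition ε(N) =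
d, which its proof uses when it maps the universal generator to N − d compatibly with the
augmentations; without it N = 0, d = 1, x = 1, p = 2 in the integers gives γ^2(1) = 1 outside Fil^1
= 0, so ε(N) = d is assumed here, as is the standing assumption d ≥ 1.) The hypotheses hP and hQ,
existence of the universal polynomials, are true statements carried so that the identities of A can
be used at every index. -/
theorem result
    (K : Type u) [CommRing K] [LambdaRing.LambdaOps K] [BinomialRing K] (hKb : LambdaRing.IsBinomial K)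
    (hK : LambdaRing.IsSpecial K)
    (A : Type v) [CommRing A] [LambdaRing.LambdaOps A] [Algebra K A] (hA : LambdaRing.IsSpecial A)
    (hP : ∀ n : ℕ, ∃ P : MvPolynomial (Fin n ⊕ Fin n) ℤ, LambdaRing.IsMulPoly n P)
    (hQ : ∀ i j : ℕ, ∃ Q : MvPolynomial (Fin (i * j)) ℤ, LambdaRing.IsCompPoly i j Q)
    (ε : A →ₐ[K] K) (hε : LambdaRing.IsAugLambdaAlg K A ε)
    (d : ℕ) (hd : 1 ≤ d) (N : A) (hN : ∀ k : ℕ, d < k → LambdaRing.LambdaOps.lam k N = 0) (hNε : ε N = (d : K))
    (hnzd : (∑ j ∈ range (d + 1), (-1 : A) ^ j * LambdaRing.LambdaOps.lam j N) ∈ A⁰)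
    (p : ℕ) (hp : 1 ≤ p) (x y : A)
    (hy : y * (∑ j ∈ range (d + 1), (-1 : A) ^ j * LambdaRing.LambdaOps.lam j N) = LambdaRing.gamma p (x * (∑ j ∈ range (d + 1), (-1 : A) ^ j * LambdaRing.LambdaOps.lam j N))) :
    y ∈ LambdaRing.gammaFil (ε : A →+* K) (p - d) := by
  set ν := LambdaRing.gamma d (N - (d : A)) with hν
  have hν0 : (ε : A →+* K) (N - (d : A)) = 0 := by simp [hNε]
  rw [lamAlt_eq hA.lam_one_eq_zero hN] at hnzd hy
  rw [← hν] at hnzd hy
  have hνmem : ν ∈ gammaFil (ε : A →+* K) d := gammaFil_gamma_mem _ hν0 d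
  let T : ℕ → Ideal A := fun n => if n = 0 then ⊤ else Ideal.span {ν} * gammaFil (ε : A →+* K) (n - d)
  let F : GradedFam A := ⟨fun n => (T n).toAddSubgroup, by simp [T], by
    intro a b p q hp hq
    rcases Nat.eq_zero_or_pos a with rfl | ha
    · rw [zero_add]; exact Ideal.mul_mem_left _ _ hq
    rcases Nat.eq_zero_or_pos b with rfl | hb
    · rw [add_zero]; exact Ideal.mul_mem_right _ _ hp
    simp only [Submodule.mem_toAddSubgroup, T, if_neg ha.ne', if_neg hb.ne',
      if_neg (by omega : a + b ≠ 0)] at hp hq ⊢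
    obtain ⟨p', hp', rfl⟩ := Ideal.mem_span_singleton_mul.mp hp
    obtain ⟨q', hq', rfl⟩ := Ideal.mem_span_singleton_mul.mp hq
    refine Ideal.mem_span_singleton_mul.mpr ⟨ν * (p' * q'), ?_, by ring⟩
    exact gammaFil_anti _ (by omega) (gammaFil_mul _ _ _ (Ideal.mul_mem_mul hνmem
      (gammaFil_mul _ _ _ (Ideal.mul_mem_mul hp' hq'))))⟩
  have key : ∀ z : A, SeriesIn F (gammaSeries (z * ν)) := by
    intro z
    refine gammaFil_induction ε (n := 0) (motive := fun z => SeriesIn F (gammaSeries (z * ν)))
      (by rw [zero_mul, gammaSeries_zero]; exact SeriesIn.one)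
      (fun a b ha hb => by rw [add_mul, gammaSeries_add]; exact ha.mul hb)
      (fun k a ha => by
        rw [mul_assoc]
        exact ha.scalar (fun c _ _ h => Ideal.mul_mem_left _ c h) hA hKb hε.isLambdaAlg k)
      (fun f u hf hu => ?_) (by rw [gammaFil_zero]; trivial)
    intro j
    rcases Nat.eq_zero_or_pos j with rfl | hj
    · simp [F, T]
    have hd1 : d - 1 + 1 = d := Nat.sub_add_cancel hd
    have h := gamma_theta_top (ε : A →+* K) hA (consFam_ker _ hν0 hf) hd
      (fun j hj => gamma_sub_rank_eq_zero hA.lam_one_eq_zero hN hj) (n := d) hd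
      (by simpa [hd1] using consPoly_mem (d - 1) hu)
      (tau_consPoly (by omega) u) hj
    rw [theta_consPoly, hd1, mul_comm (LambdaRing.gamma d _) (theta f u)] at h
    simp only [gammaSeries, PowerSeries.coeff_mk, F, Submodule.mem_toAddSubgroup, T, if_neg hj.ne']
    exact h
  have h := gamma_mem_of_seriesIn (key ((-1) ^ d * x)) p
  simp only [F, Submodule.mem_toAddSubgroup, T, if_neg (by omega : p ≠ 0)] at h
  rw [show (-1 : A) ^ d * x * ν = x * ((-1) ^ d * ν) by ring, ← hy] at h
  obtain ⟨Y, hY, hY'⟩ := Ideal.mem_span_singleton_mul.mp h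
  have hsq : ((-1 : A) ^ d) * (-1) ^ d = 1 := by rw [← mul_pow, neg_one_mul, neg_neg, one_pow]
  have hyx : y = (-1) ^ d * Y := by
    refine (mul_cancel_right_mem_nonZeroDivisors hnzd).mp ?_
    linear_combination (norm := ring_nf) -hY' - (ν * Y) * hsq
  rw [hyx]
  exact Ideal.mul_mem_left _ _ hY

end Groth.Agent.S8695
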