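import Groth.Statements.S8696
import Groth.Agent.Lambda.FilProps

set_option autoImplicit false
universe u v
open Finset nonZeroDivisors
open LambdaRing

namespace Groth.Agent.S8696

open LambdaRing Groth.Agent.Lambda

/-- In the case where λ_{−1}(N) is a non-zero-divisor: let K be a binomial ring with its binomial
λ-structure, R a λ-ring in the strict sense which is an augmented K-λ-algebra with augmentation ε
and γ-filtration Fil^n R, d ≥ 1, N ∈ R of rank d (λ^k(N) = 0 for all k > d and ε(N) = d), λ_{−1}(N)
= Σ_{i ≤ d} (−1)^i λ^i(N) a non-zero-divisor, i a natural number and x ∈ Fil^i R. If y ∈ R satisfies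
y · λ_{−1}(N) = γ^{d+i}(x · λ_{−1}(N)), then y − (−1)^{d+i−1} (d+i−1)! · x ∈ Fil^{i+1} R. (The
published statement is about the element γ^{d+i}(N, x) defined by substitution from the universal
λ-ring, characterised there by γ^{q}(N, x) · λ_{−1}(N) = γ^{q}(x · λ_{−1}(N)); this row covers the
case in which that identity determines the element. The published statement also omits ε(N) = d,
which its proof uses when it maps the universal generator to N − d compatibly with the
augmentations; it is assumed here, together with the standing assumption d ≥ 1.) The hypotheses hP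
and hQ, existence of the universal polynomials, are true statements carried so that the identities
of R can be used at every index. -/
theorem result
    (K : Type u) [CommRing K] [LambdaRing.LambdaOps K] [BinomialRing K] (hKb : LambdaRing.IsBinomial K)
    (hK : LambdaRing.IsSpecial K)
    (A : Type v) [CommRing A] [LambdaRing.LambdaOps A] [Algebra K A] (hA : LambdaRing.IsSpecial A)
    (hP : ∀ n : ℕ, ∃ P : MvPolynomial (Fin n ⊕ Fin n) ℤ, LambdaRing.IsMulPoly n P)
    (hQ : ∀ i j : ℕ, ∃ Q : MvPolynomial (Fin (i * j)) ℤ, LambdaRing.IsCompPoly i j Q)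
    (ε : A →ₐ[K] K) (hε : LambdaRing.IsAugLambdaAlg K A ε)
    (d : ℕ) (hd : 1 ≤ d) (N : A) (hN : ∀ k : ℕ, d < k → LambdaRing.LambdaOps.lam k N = 0) (hNε : ε N = (d : K))
    (hnzd : (∑ j ∈ range (d + 1), (-1 : A) ^ j * LambdaRing.LambdaOps.lam j N) ∈ A⁰)
    (i : ℕ) (x : A) (hx : x ∈ LambdaRing.gammaFil (ε : A →+* K) i) (y : A)
    (hy : y * (∑ j ∈ range (d + 1), (-1 : A) ^ j * LambdaRing.LambdaOps.lam j N) = LambdaRing.gamma (d + i) (x * (∑ j ∈ range (d + 1), (-1 : A) ^ j * LambdaRing.LambdaOps.lam j N))) :
    y - (-1 : A) ^ (d + i - 1) * ((d + i - 1).factorial : A) * x ∈ LambdaRing.gammaFil (ε : A →+* K) (i + 1) := by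
  set ν := LambdaRing.gamma d (N - (d : A)) with hν
  have hν0 : (ε : A →+* K) (N - (d : A)) = 0 := by simp [hNε]
  rw [lamAlt_eq hA.lam_one_eq_zero hN] at hnzd hy
  rw [← hν] at hnzd hy
  set I := Ideal.span {ν} * gammaFil (ε : A →+* K) i
  set J := Ideal.span {ν} * gammaFil (ε : A →+* K) (i + 1)
  have hνmem : ν ∈ gammaFil (ε : A →+* K) d := gammaFil_gamma_mem _ hν0 d
  have hIJ : I * I ≤ J := by
    calc I * I = Ideal.span {ν} * (gammaFil (ε : A →+* K) i * (Ideal.span {ν} * gammaFil (ε : A →+* K) i)) := by
          simp only [I]; ring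
      _ ≤ Ideal.span {ν} * (gammaFil (ε : A →+* K) i * (gammaFil (ε : A →+* K) d * gammaFil (ε : A →+* K) i)) :=
          Ideal.mul_mono_right (Ideal.mul_mono_right (Ideal.mul_mono_left
            ((Ideal.span_singleton_le_iff_mem _).mpr hνmem)))
      _ ≤ J := Ideal.mul_mono_right (((Ideal.mul_mono_right (gammaFil_mul _ _ _)).trans
          (gammaFil_mul _ _ _)).trans (gammaFil_anti _ (by omega)))
  have hm : 1 ≤ d + i := by omega
  have key : ∀ z ∈ gammaFil (ε : A →+* K) i, IsLin I J (d + i) (linConst A (d + i)) (z * ν) := by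
    intro z hz
    refine gammaFil_induction ε (motive := fun z => IsLin I J (d + i) (linConst A (d + i)) (z * ν))
      (by simpa using IsLin.zero hm) (fun a b ha hb => by rw [add_mul]; exact ha.add hIJ hm hb)
      (fun k a ha => by rw [mul_assoc]; exact ha.scalar hA hKb hε.isLambdaAlg hIJ hm k)
      (fun f u hf hu => ?_) hz
    have hd1 : d - 1 + 1 = d := Nat.sub_add_cancel hd
    have h := gammaFil_lam_top (i := i) (ε : A →+* K) hA (consFam_ker _ hν0 hf) hd
      (fun j hj => gamma_sub_rank_eq_zero hA.lam_one_eq_zero hN hj)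
      (by have := consPoly_mem (d - 1) hu; rwa [hd1] at this)
      (tau_consPoly (by omega) u)
    rw [theta_consPoly, hd1, mul_comm (LambdaRing.gamma d _) (theta f u), show consFam (N - (d : A)) f 0 = N - (d : A) from rfl] at h
    exact h
  have h := (key ((-1) ^ d * x) (Ideal.mul_mem_left _ _ hx)).lin
  rw [show (-1 : A) ^ d * x * ν = x * ((-1) ^ d * ν) by ring, ← hy] at h
  obtain ⟨Y, hY, hY'⟩ := Ideal.mem_span_singleton_mul.mp h
  have hsq : ((-1 : A) ^ d) * (-1) ^ d = 1 := by rw [← mul_pow, neg_one_mul, neg_neg, one_pow]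
  have hyx : y - linConst A (d + i) * x = (-1) ^ d * Y := by
    refine (mul_cancel_right_mem_nonZeroDivisors hnzd).mp ?_
    linear_combination (norm := ring_nf) -hY' - (ν * Y) * hsq
  rw [show (-1 : A) ^ (d + i - 1) * ((d + i - 1).factorial : A) = linConst A (d + i) from rfl, hyx]
  exact Ideal.mul_mem_left _ _ hY

end Groth.Agent.S8696
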