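import Groth.Statements.S8697
import Groth.Agent.Lambda.FilProps

set_option autoImplicit false
universe u v
open Finset
open LambdaRing

namespace Groth.Agent.S8697

open LambdaRing Groth.Agent.Lambda

/-- Let K be a binomial ring with its binomial λ-structure and B a λ-ring in the strict sense which is
an augmented K-λ-algebra with augmentation ε. Let x ∈ B satisfy ε(x) = 0 and γ^k(x) = 0 for every k
> n, and assume that γ^1(x), …, γ^n(x) are algebraically independent over K and generate B as a
K-algebra — so B is the K-λ-algebra generated by one element subject to the relations γ^k = 0 for k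
> n, a polynomial ring K[γ^1 x, …, γ^n x]. Then for every k, the k-th ideal Fil^k B of the
γ-filtration (generated by the products of γ^{i}(z), ε(z) = 0, of total weight ≥ k) is the ideal
generated by the monomials ∏_j (γ^j x)^{e_j} with Σ_j j·e_j ≥ k: the λ-ring filtration is the
filtration by the weight in the γ^j x. (With λ in place of γ — relations λ^k x = 0 for k > n and
weights in the λ^j x — the assertion fails already for n = 1, where γ^i(x) = x for all i ≥ 1 puts x
in every Fil^k while x is not in the ideal (x²); the form with γ stated here is the one the proof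
establishes.) The hypotheses hP and hQ, existence of the universal polynomials, are true statements
carried so that the identities of B can be used at every index. -/
theorem result
    (K : Type u) [CommRing K] [LambdaRing.LambdaOps K] [BinomialRing K] (hKb : LambdaRing.IsBinomial K)
    (hK : LambdaRing.IsSpecial K)
    (B : Type v) [CommRing B] [LambdaRing.LambdaOps B] [Algebra K B] (hB : LambdaRing.IsSpecial B)
    (hP : ∀ n : ℕ, ∃ P : MvPolynomial (Fin n ⊕ Fin n) ℤ, LambdaRing.IsMulPoly n P)
    (hQ : ∀ i j : ℕ, ∃ Q : MvPolynomial (Fin (i * j)) ℤ, LambdaRing.IsCompPoly i j Q)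
    (ε : B →ₐ[K] K) (hε : LambdaRing.IsAugLambdaAlg K B ε)
    (n : ℕ) (x : B) (hx : ε x = 0) (hγ : ∀ k : ℕ, n < k → LambdaRing.gamma k x = 0)
    (hind : AlgebraicIndependent K (fun j : Fin n => LambdaRing.gamma ((j : ℕ) + 1) x))
    (hgen : Algebra.adjoin K (Set.range fun j : Fin n => LambdaRing.gamma ((j : ℕ) + 1) x) = ⊤)
    (k : ℕ) :
    LambdaRing.gammaFil (ε : B →+* K) k =
      Ideal.span {m : B | ∃ e : Fin n → ℕ, k ≤ ∑ j : Fin n, ((j : ℕ) + 1) * e j ∧
        m = ∏ j : Fin n, LambdaRing.gamma ((j : ℕ) + 1) x ^ e j} := by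
  let mon : (Fin n → ℕ) → B := fun e => ∏ j : Fin n, LambdaRing.gamma ((j : ℕ) + 1) x ^ e j
  let T : ℕ → Set B := fun k => {m : B | ∃ e : Fin n → ℕ, k ≤ ∑ j : Fin n, ((j : ℕ) + 1) * e j ∧
        m = mon e}
  change _ = Ideal.span (T k)
  have hanti : ∀ {a b : ℕ}, a ≤ b → Ideal.span (T b) ≤ Ideal.span (T a) := fun h =>
    Ideal.span_mono fun y ⟨e, he, hy⟩ => ⟨e, h.trans he, hy⟩
  let F : GradedFam B := ⟨fun k => (Ideal.span (T k)).toAddSubgroup,
    Ideal.subset_span ⟨0, by simp, by simp [mon]⟩, by
    intro a b p q hp hq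
    have := Ideal.mul_mem_mul hp hq
    rw [Ideal.span_mul_span'] at this
    refine Ideal.span_mono ?_ this
    rintro _ ⟨_, ⟨e, he, rfl⟩, _, ⟨e', he', rfl⟩, rfl⟩
    refine ⟨e + e', ?_, ?_⟩
    · simp only [Pi.add_apply, mul_add, Finset.sum_add_distrib]
      exact add_le_add he he'
    · simp only [mon, Pi.add_apply, pow_add, Finset.prod_mul_distrib]⟩
  have hgenx : ∀ (a i : ℕ), LambdaRing.gamma (i + 1) ((fun _ => x : ℕ → B) a) ∈ F.M (i + 1) := by
    intro _ i
    by_cases hi : i < n
    · refine Ideal.subset_span ⟨fun j => if j = ⟨i, hi⟩ then 1 else 0, ?_, ?_⟩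
      · simp [Finset.sum_ite_eq']
      · simp [mon, pow_ite, Finset.prod_ite_eq']
    · rw [hγ (i + 1) (by omega)]
      exact zero_mem _
  let θ := theta (fun _ : ℕ => x)
  have hker : ∀ z : B, ε z = 0 → SeriesIn F (gammaSeries z) := by
    intro z hz
    have hz' : z ∈ Algebra.adjoin K (Set.range fun j : Fin n => LambdaRing.gamma ((j : ℕ) + 1) x) := hgen ▸ trivial
    rw [Algebra.adjoin_range_eq_range_aeval] at hz'
    obtain ⟨p, rfl⟩ := hz'
    have hεg : (fun j : Fin n => ε (LambdaRing.gamma ((j : ℕ) + 1) x)) = fun _ => (0 : K) := by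
      funext j
      rw [LambdaRing.gamma, if_neg (Nat.succ_ne_zero _), map_sum]
      refine Finset.sum_eq_zero fun i _ => ?_
      rw [map_mul]
      split_ifs with hi
      · rw [map_zero, mul_zero]
      · rw [hε.map_lam, hx, lam_zero_arg (Nat.one_le_iff_ne_zero.mpr hi), mul_zero]
    have hp0 : MvPolynomial.coeff 0 p = 0 := by
      change ε (MvPolynomial.aeval _ p) = 0 at hz
      rw [MvPolynomial.comp_aeval_apply, hεg, MvPolynomial.aeval_zero'] at hz
      simpa [MvPolynomial.constantCoeff_eq] using hz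
    change SeriesIn F (gammaSeries (MvPolynomial.aeval _ p))
    rw [MvPolynomial.aeval_def, MvPolynomial.eval₂_eq, gammaSeries_sum]
    refine Finset.prod_induction _ (SeriesIn F) (fun _ _ => SeriesIn.mul) SeriesIn.one fun e he => ?_
    refine SeriesIn.scalar (fun c _ _ h => Ideal.mul_mem_left _ c h) hB hKb hε.isLambdaAlg _ ?_
    have hu : (∏ j ∈ e.support, LambdaRing.gamma ((j : ℕ) + 1) x ^ e j) =
        θ (∏ j ∈ e.support, MvPolynomial.X (0, (j : ℕ)) ^ e j) := by
      simp [θ, theta_X]
    rw [hu]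
    intro i
    rw [gammaSeries, PowerSeries.coeff_mk]
    have he0 : e ≠ 0 := fun h => MvPolynomial.mem_support_iff.mp he (h ▸ hp0)
    obtain ⟨j₀, hj₀⟩ := Finsupp.support_nonempty_iff.mpr he0
    refine gamma_theta_mem F (fun h _ hz => hanti h hz) hB hgenx (n := 1) le_rfl ?_ i
    rw [map_prod]
    refine wF_anti ?_ (wF.prod_mem e.support (fun j => e j * ((j : ℕ) + 1)) _ fun j _ => ?_)
    · refine le_trans ?_ (Finset.single_le_sum (fun _ _ => Nat.zero_le _) hj₀)
      exact Nat.one_le_iff_ne_zero.mpr (mul_ne_zero (Finsupp.mem_support_iff.mp hj₀) (Nat.succ_ne_zero _))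
    · rw [map_pow, iotaQ, MvPolynomial.map_X]
      exact wF.pow_mem (X_mem_wF (0, (j : ℕ))) _
  refine le_antisymm (Ideal.span_le.mpr ?_) (Ideal.span_le.mpr ?_)
  · rintro _ ⟨l, h1, h2, rfl⟩
    have h := F.list_prod_mem (l.map fun p => (p.1, LambdaRing.gamma p.1 p.2)) fun q hq => by
      obtain ⟨p, hp, rfl⟩ := List.mem_map.mp hq
      exact gamma_mem_of_seriesIn (hker p.2 (h1 p hp)) p.1
    simp only [List.map_map, Function.comp_def] at h
    exact hanti h2 h
  · rintro _ ⟨e, he, rfl⟩
    refine gammaFil_anti _ he ?_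
    have := (filFam (ε : B →+* K)).prod_mem univ (fun j : Fin n => e j * ((j : ℕ) + 1)) _
      fun j _ => (filFam (ε : B →+* K)).pow_mem
        (gammaFil_gamma_mem (ε : B →+* K) (x := x) hx ((j : ℕ) + 1)) (e j)
    rw [mem_filFam] at this
    simpa [mon, mul_comm] using this

end Groth.Agent.S8697
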