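import Groth.Statements.S8698
import Groth.Agent.Lambda.FilProps

set_option autoImplicit false
universe u v w
open Finset
open LambdaRing

namespace Groth.Agent.S8698

open LambdaRing Groth.Agent.Lambda

/-- Let K be a binomial ring with its binomial λ-structure, A a λ-ring in the strict sense which is an
augmented K-λ-algebra with augmentation ε_A, and B a λ-ring in the strict sense which is at once an
augmented K-λ-algebra with augmentation ε_B and an A-algebra compatibly with the K-structures, the
structure map A → B commuting with the λ^n and ε_B restricting to ε_A on A. Let x ∈ B with ε_B(x) =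
0, and assume that the family (γ^{j+1} x)_{j ∈ ℕ} is algebraically independent over A and generates
B as an A-algebra: B is the free λ-ring A[X, γ^2 X, γ^3 X, …] on one generator over A, augmented by
X ↦ 0. Then for every k the k-th ideal Fil^k B of the γ-filtration of B is the ideal generated by
the products a · m where m = ∏_j (γ^{j+1} x)^{e_j} is a monomial of weight i = Σ_j (j+1) e_j and a
lies in (the image of) Fil^{k−i} A, with Fil^s A = A for s ≤ 0; that is, Fil^k B = Fil^k A +
Fil^{k−1} A·M_1 + ⋯ + Fil^0 A·M_k + (monomials of weight > k), M_i denoting the monomials of weight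
i. The hypotheses hP and hQ, existence of the universal polynomials, are true statements carried so
that the identities of A and B can be used at every index. -/
theorem result
    (K : Type u) [CommRing K] [LambdaRing.LambdaOps K] [BinomialRing K] (hKb : LambdaRing.IsBinomial K)
    (hK : LambdaRing.IsSpecial K)
    (A : Type v) [CommRing A] [LambdaRing.LambdaOps A] [Algebra K A] (hA : LambdaRing.IsSpecial A)
    (εA : A →ₐ[K] K) (hεA : LambdaRing.IsAugLambdaAlg K A εA)
    (B : Type w) [CommRing B] [LambdaRing.LambdaOps B] [Algebra K B] [Algebra A B] [IsScalarTower K A B]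
    (hB : LambdaRing.IsSpecial B) (hAB : LambdaRing.IsLambdaAlg A B)
    (εB : B →ₐ[K] K) (hεB : LambdaRing.IsAugLambdaAlg K B εB) (hεAB : ∀ a : A, εB (algebraMap A B a) = εA a)
    (hP : ∀ n : ℕ, ∃ P : MvPolynomial (Fin n ⊕ Fin n) ℤ, LambdaRing.IsMulPoly n P)
    (hQ : ∀ i j : ℕ, ∃ Q : MvPolynomial (Fin (i * j)) ℤ, LambdaRing.IsCompPoly i j Q)
    (x : B) (hx : εB x = 0)
    (hind : AlgebraicIndependent A (fun j : ℕ => LambdaRing.gamma (j + 1) x))
    (hgen : Algebra.adjoin A (Set.range fun j : ℕ => LambdaRing.gamma (j + 1) x) = ⊤)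
    (k : ℕ) :
    LambdaRing.gammaFil (εB : B →+* K) k =
      Ideal.span {b : B | ∃ (e : ℕ →₀ ℕ) (a : A),
        a ∈ LambdaRing.gammaFil (εA : A →+* K) (k - e.sum fun j n => (j + 1) * n) ∧
        b = algebraMap A B a * e.prod fun j n => LambdaRing.gamma (j + 1) x ^ n} := by
  let mon : (ℕ →₀ ℕ) → B := fun e => e.prod fun j n => LambdaRing.gamma (j + 1) x ^ n
  let wg : (ℕ →₀ ℕ) → ℕ := fun e => e.sum fun j n => (j + 1) * n
  let T : ℕ → Set B := fun k => {b : B | ∃ (e : ℕ →₀ ℕ) (a : A),
        a ∈ LambdaRing.gammaFil (εA : A →+* K) (k - wg e) ∧ b = algebraMap A B a * mon e}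
  change _ = Ideal.span (T k)
  have hanti : ∀ {a b : ℕ}, a ≤ b → Ideal.span (T b) ≤ Ideal.span (T a) := fun h =>
    Ideal.span_mono fun y ⟨e, a, ha, hy⟩ =>
      ⟨e, a, gammaFil_anti _ (Nat.sub_le_sub_right h _) ha, hy⟩
  let F : GradedFam B := ⟨fun k => (Ideal.span (T k)).toAddSubgroup,
    Ideal.subset_span ⟨0, 1, by simp [gammaFil_zero], by simp [mon]⟩, by
    intro a b p q hp hq
    have := Ideal.mul_mem_mul hp hq
    rw [Ideal.span_mul_span'] at this
    refine Ideal.span_mono ?_ this
    rintro _ ⟨_, ⟨e, c, hc, rfl⟩, _, ⟨e', c', hc', rfl⟩, rfl⟩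
    refine ⟨e + e', c * c', ?_, ?_⟩
    · have hw : wg (e + e') = wg e + wg e' :=
        Finsupp.sum_add_index' (fun _ => mul_zero _) (fun _ _ _ => mul_add _ _ _)
      exact gammaFil_anti _ (by omega) (gammaFil_mul _ _ _ (Ideal.mul_mem_mul hc hc'))
    · have hm : mon (e + e') = mon e * mon e' :=
        Finsupp.prod_add_index' (fun _ => pow_zero _) (fun _ _ _ => pow_add _ _ _)
      simp only [hm, map_mul]
      ring⟩
  have hmap : ∀ (i : ℕ) (a : A), algebraMap A B (LambdaRing.gamma i a) = LambdaRing.gamma i (algebraMap A B a) := by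
    intro i a
    rw [LambdaRing.gamma, LambdaRing.gamma]
    split_ifs
    · exact map_one _
    · rw [map_sum]
      refine Finset.sum_congr rfl fun j _ => ?_
      rw [map_mul, map_natCast]
      split_ifs
      · rw [map_zero]
      · rw [hAB]
  have hεg : ∀ j, εB (LambdaRing.gamma (j + 1) x) = 0 := by
    intro j
    rw [LambdaRing.gamma, if_neg (Nat.succ_ne_zero _), map_sum]
    refine Finset.sum_eq_zero fun i _ => ?_
    rw [map_mul]
    split_ifs with hi
    · rw [map_zero, mul_zero]
    · rw [hεB.map_lam, hx, lam_zero_arg (Nat.one_le_iff_ne_zero.mpr hi), mul_zero]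
  have hgA : ∀ (i : ℕ) (a : A), εA a = 0 → LambdaRing.gamma i (algebraMap A B a) ∈ F.M i := by
    intro i a ha
    refine Ideal.subset_span ⟨0, LambdaRing.gamma i a, ?_, ?_⟩
    · simpa [wg] using gammaFil_gamma_mem (εA : A →+* K) (x := a) ha i
    · simp [mon, hmap]
  have hgx : ∀ i, LambdaRing.gamma (i + 1) x ∈ F.M (i + 1) := fun i =>
    Ideal.subset_span ⟨Finsupp.single i 1, 1, by simp [wg, gammaFil_zero], by simp [mon]⟩
  have hker : ∀ z : B, εB z = 0 → SeriesIn F (gammaSeries z) := by
    intro z hz
    have hz' : z ∈ Algebra.adjoin A (Set.range fun j : ℕ => LambdaRing.gamma (j + 1) x) := hgen ▸ trivial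
    rw [Algebra.adjoin_range_eq_range_aeval] at hz'
    obtain ⟨p, rfl⟩ := hz'
    have hp0 : εA (MvPolynomial.coeff 0 p) = 0 := by
      change εB (MvPolynomial.aeval _ p) = 0 at hz
      rw [MvPolynomial.aeval_def, MvPolynomial.eval₂_eq, map_sum] at hz
      by_cases h0 : (0 : ℕ →₀ ℕ) ∈ p.support
      · rw [Finset.sum_eq_single 0] at hz
        · simpa [hεAB] using hz
        · intro e _ he
          obtain ⟨j, hj⟩ := Finsupp.support_nonempty_iff.mpr he
          rw [map_mul, map_prod, Finset.prod_eq_zero hj, mul_zero]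
          rw [map_pow, hεg, zero_pow (Finsupp.mem_support_iff.mp hj)]
        · exact fun h => absurd h0 h
      · rw [MvPolynomial.notMem_support_iff.mp h0, map_zero]
    change SeriesIn F (gammaSeries (MvPolynomial.aeval _ p))
    rw [MvPolynomial.aeval_def, MvPolynomial.eval₂_eq, gammaSeries_sum]
    refine Finset.prod_induction _ (SeriesIn F) (fun _ _ => SeriesIn.mul) SeriesIn.one fun e _ => ?_
    set c := MvPolynomial.coeff e p with hc
    let f : ℕ → B := fun a => if a = 0 then algebraMap A B (c - algebraMap K A (εA c)) else x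
    have hf : ∀ a i, LambdaRing.gamma (i + 1) (f a) ∈ F.M (i + 1) := fun a i => by
      simp only [f]
      split_ifs
      · exact hgA (i + 1) _ (by simp)
      · exact hgx i
    let u : FZ := ∏ j ∈ e.support, MvPolynomial.X (1, j) ^ e j
    have hu : (∏ j ∈ e.support, LambdaRing.gamma (j + 1) x ^ e j) = theta f u := by
      simp [u, theta_X, f]
    have hwu : ∀ j ∈ e.support, iotaQ u ∈ wF.M (e j * (j + 1)) := by
      intro j hj
      simp only [u, map_prod]
      refine wF_anti (Finset.single_le_sum (f := fun j => e j * (j + 1)) (fun _ _ => Nat.zero_le _) hj)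
        (wF.prod_mem e.support _ _ fun j _ => ?_)
      rw [map_pow, iotaQ, MvPolynomial.map_X]
      exact wF.pow_mem (X_mem_wF (1, j)) _
    rw [hu, show algebraMap A B c = algebraMap K B (εA c) + algebraMap A B (c - algebraMap K A (εA c)) by
      rw [map_sub, ← IsScalarTower.algebraMap_apply]; ring, add_mul, gammaSeries_add]
    refine SeriesIn.mul ?_ ?_
    · rcases eq_or_ne e 0 with rfl | he
      · rw [hc, hp0, map_zero, zero_mul, gammaSeries_zero]
        exact SeriesIn.one
      · obtain ⟨j, hj⟩ := Finsupp.support_nonempty_iff.mpr he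
        refine SeriesIn.scalar (fun a _ _ h => Ideal.mul_mem_left _ a h) hB hKb hεB.isLambdaAlg _ ?_
        intro i
        rw [gammaSeries, PowerSeries.coeff_mk]
        exact gamma_theta_mem F (fun h _ hz => hanti h hz) hB hf
          (Nat.one_le_iff_ne_zero.mpr (mul_ne_zero (Finsupp.mem_support_iff.mp hj) (Nat.succ_ne_zero _)))
          (hwu j hj) i
    · rw [show algebraMap A B (c - algebraMap K A (εA c)) * theta f u =
        theta f (MvPolynomial.X (0, 0) * u) by rw [map_mul, theta_X, gamma_one]; simp [f]]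
      intro i
      rw [gammaSeries, PowerSeries.coeff_mk]
      refine gamma_theta_mem F (fun h _ hz => hanti h hz) hB hf (n := 1) le_rfl ?_ i
      rw [map_mul]
      simpa using wF.mul_mem (show iotaQ (MvPolynomial.X (0, 0)) ∈ wF.M 1 by
        rw [iotaQ, MvPolynomial.map_X]; exact X_mem_wF (0, 0)) (wF_zero (iotaQ u))
  refine le_antisymm (Ideal.span_le.mpr ?_) (Ideal.span_le.mpr ?_)
  · rintro _ ⟨l, h1, h2, rfl⟩
    have h := F.list_prod_mem (l.map fun p => (p.1, LambdaRing.gamma p.1 p.2)) fun q hq => by
      obtain ⟨p, hp, rfl⟩ := List.mem_map.mp hq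
      exact gamma_mem_of_seriesIn (hker p.2 (h1 p hp)) p.1
    simp only [List.map_map, Function.comp_def] at h
    exact hanti h2 h
  · rintro _ ⟨e, a, ha, rfl⟩
    have h1 : algebraMap A B a ∈ gammaFil (εB : B →+* K) (k - wg e) := by
      have : LambdaRing.gammaFil (εA : A →+* K) (k - wg e) ≤
          (gammaFil (εB : B →+* K) (k - wg e)).comap (algebraMap A B) := by
        refine Ideal.span_le.mpr ?_
        rintro _ ⟨l, h1, h2, rfl⟩
        rw [SetLike.mem_coe, Ideal.mem_comap, map_list_prod, List.map_map]
        refine Ideal.subset_span ⟨l.map fun p => (p.1, algebraMap A B p.2), fun q hq => ?_,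
          by simpa [List.map_map, Function.comp_def] using h2,
          by simp [List.map_map, Function.comp_def, hmap]⟩
        obtain ⟨p, hp, rfl⟩ := List.mem_map.mp hq
        exact (hεAB p.2).trans (h1 p hp)
      exact this ha
    have h2 : mon e ∈ gammaFil (εB : B →+* K) (wg e) := by
      have := (filFam (εB : B →+* K)).prod_mem e.support (fun j => e j * (j + 1)) _
        fun j _ => (filFam (εB : B →+* K)).pow_mem
          (gammaFil_gamma_mem (εB : B →+* K) (x := x) hx (j + 1)) (e j)
      rw [mem_filFam] at this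
      simpa [mon, wg, Finsupp.prod, Finsupp.sum, mul_comm] using this
    exact gammaFil_anti _ (by omega) (gammaFil_mul _ _ _ (Ideal.mul_mem_mul h1 h2))

end Groth.Agent.S8698
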