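import Groth.Statements.S8702
import Groth.Agent.Lambda.Universal

set_option autoImplicit false
universe u
open LambdaRing

namespace Groth.Agent.S8702

open Groth.Agent.Lambda LambdaRing

/-- Let K be a commutative ring which is an algebra over the rationals, and let ψ^k : K → K, k ≥ 1, be
additive maps with ψ^1 the identity. Then there is one and only one pre-λ-structure on K whose Adams
operations (defined through the logarithmic derivative of λ_t) are the ψ^k for every k ≥ 1, namely
λ_t(x) = exp(Σ_{k ≥ 1} (−1)^{k−1} ψ^k(x) t^k / k): in characteristic zero, pre-λ-structures and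
families of additive operations ψ^k with ψ^1 = id determine each other. (The value of the family at
k = 0 is ignored.) -/
theorem result (K : Type u) [CommRing K] [Algebra ℚ K]
    (ψ : ℕ → K →+ K) (hψ : ψ 1 = AddMonoidHom.id K) :
    ∃! L : LambdaRing.LambdaOps K, ∀ k : ℕ, 1 ≤ k → ∀ x : K, @LambdaRing.adamsOp K _ L k x = ψ k x := by
  let L : LambdaRing.LambdaOps K :=
    { lam := fun n x => E (fun k => ψ k x) n
      lam_zero := fun x => E_zero _
      lam_one := fun x => by
        rw [← N_one (E_zero fun k => ψ k x), N_E _ le_rfl, hψ, AddMonoidHom.id_apply]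
      lam_add := fun n x y => by
        rw [E_congr n (q := fun k => ψ k x + ψ k y) fun k _ _ => map_add _ x y, E_add]
        rfl }
  refine ⟨L, fun k hk x => ?_, fun L' hL' => ?_⟩
  · letI := L
    rw [adamsOp_eq]
    exact N_E (fun k => ψ k x) hk
  · have key : ∀ n x, @LambdaOps.lam K _ L' n x = E (fun k => ψ k x) n := by
      intro n x
      letI := L'
      rw [← E_N (e := fun j => LambdaOps.lam j x) (LambdaOps.lam_zero x) n]
      exact E_congr n fun k hk _ => (adamsOp_eq k x).symm.trans (hL' k hk x)
    cases L'
    simp only [L]
    congr
    funext n x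
    exact key n x

end Groth.Agent.S8702
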