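import Groth.Statements.S8703
import Groth.Agent.Lambda.Universal

set_option autoImplicit false
universe u
open LambdaRing

namespace Groth.Agent.S8703

open Groth.Agent.Lambda LambdaRing

/-- The Adams operations commute with λ-homomorphisms, and conversely, if K and K' are pre-λ-rings which
are algebras over the rationals, a ring homomorphism f : K → K' commuting with the ψ^k for all k ≥ 1
is a λ-homomorphism (commutes with all λ^i), the λ^i being expressible through the ψ^k in
characteristic zero. -/
theorem result (K K' : Type u) [CommRing K] [CommRing K']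
    [LambdaRing.LambdaOps K] [LambdaRing.LambdaOps K'] [Algebra ℚ K] [Algebra ℚ K'] (f : K →+* K') :
    LambdaRing.IsLambdaHom f ↔
      ∀ k : ℕ, 1 ≤ k → ∀ x : K, f (LambdaRing.adamsOp k x) = LambdaRing.adamsOp k (f x) := by
  refine ⟨fun h k _ x => ?_, fun h n x => ?_⟩
  · rw [adamsOp_eq, adamsOp_eq, map_N]
    congr 1
    funext j
    exact h j x
  · rw [← E_N (e := fun j => LambdaOps.lam j x) (LambdaOps.lam_zero x) n,
      ← E_N (e := fun j => LambdaOps.lam j (f x)) (LambdaOps.lam_zero _) n, map_E]
    exact E_congr n fun k hk _ => by rw [← adamsOp_eq, ← adamsOp_eq, h k hk]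

end Groth.Agent.S8703
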