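import Groth.Statements.S8704
import Groth.Agent.Lambda.Graded

set_option autoImplicit false
universe u v
open LambdaRing

namespace Groth.Agent.S8704

open LambdaRing Groth.Agent.Lambda

/-- Let K and A be λ-rings in the strict sense, A an augmented K-λ-algebra with augmentation ε : A → K,
and Fil^n A its γ-filtration, the ideal generated by the products γ^{i_1}(x_1) ⋯ γ^{i_k}(x_k) with
i_1 + ⋯ + i_k ≥ n and all ε(x_r) = 0. If a subset S generates A as an abelian group, then Fil^n A,
as a K-submodule of A, is generated over K by the products γ^{i_1}(s_1 − ε(s_1)) ⋯ γ^{i_k}(s_k −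
ε(s_k)) with s_r ∈ S and i_1 + ⋯ + i_k ≥ n. -/
theorem result
    (K : Type u) [CommRing K] [LambdaRing.LambdaOps K] (hK : LambdaRing.IsSpecial K)
    (A : Type v) [CommRing A] [LambdaRing.LambdaOps A] [Algebra K A] (hA : LambdaRing.IsSpecial A)
    (ε : A →ₐ[K] K) (hε : LambdaRing.IsAugLambdaAlg K A ε)
    (S : Set A) (hS : AddSubgroup.closure S = ⊤) (n : ℕ) :
    (LambdaRing.gammaFil (ε : A →+* K) n).restrictScalars K =
      Submodule.span K {y : A | ∃ l : List (ℕ × A), (∀ p ∈ l, p.2 ∈ S) ∧ n ≤ (l.map Prod.fst).sum ∧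
        y = (l.map fun p => LambdaRing.gamma p.1 (p.2 - algebraMap K A (ε p.2))).prod} := by
  let T : ℕ → Set A := fun k => {y : A | ∃ l : List (ℕ × A), (∀ p ∈ l, p.2 ∈ S) ∧ k ≤ (l.map Prod.fst).sum ∧
        y = (l.map fun p => LambdaRing.gamma p.1 (p.2 - algebraMap K A (ε p.2))).prod}
  change _ = Submodule.span K (T n)
  have hmul : ∀ {a b : ℕ} {x y : A}, x ∈ Submodule.span K (T a) → y ∈ Submodule.span K (T b) →
      x * y ∈ Submodule.span K (T (a + b)) := by
    intro a b x y hx hy
    have := Submodule.mul_mem_mul hx hy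
    rw [Submodule.span_mul_span] at this
    refine Submodule.span_mono ?_ this
    rintro _ ⟨p, ⟨l, h1, h2, rfl⟩, q, ⟨l', h1', h2', rfl⟩, rfl⟩
    refine ⟨l ++ l', fun r hr => ?_, by simp; omega, by simp⟩
    rcases List.mem_append.mp hr with hr | hr
    exacts [h1 r hr, h1' r hr]
  have hanti : ∀ {a b : ℕ}, a ≤ b → Submodule.span K (T b) ≤ Submodule.span K (T a) := fun h =>
    Submodule.span_mono fun y hy => by
      obtain ⟨l, h1, h2, h3⟩ := hy
      exact ⟨l, h1, h.trans h2, h3⟩
  let F : GradedFam A := ⟨fun k => (Submodule.span K (T k)).toAddSubgroup,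
    Submodule.subset_span ⟨[], by simp, by simp, by simp⟩, hmul⟩
  let proj : A →+ A := AddMonoidHom.id A -
    ((algebraMap K A).toAddMonoidHom.comp ε.toRingHom.toAddMonoidHom)
  have hproj : ∀ z : A, z - algebraMap K A (ε z) ∈ AddSubgroup.closure (proj '' S) := fun z => by
    have : z ∈ AddSubgroup.closure S := hS ▸ AddSubgroup.mem_top z
    rw [← AddMonoidHom.map_closure]
    exact ⟨z, this, rfl⟩
  have hser : ∀ z : A, SeriesIn F (gammaSeries (z - algebraMap K A (ε z))) := fun z =>
    seriesIn_gamma_closure (fun y hy k => by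
      obtain ⟨s, hs, rfl⟩ := hy
      rw [gammaSeries, PowerSeries.coeff_mk]
      exact Submodule.subset_span ⟨[(k, s)], by simpa using hs, by simp, by simp [proj]⟩) (hproj z)
  have hideal : ∀ (a : A) {y : A}, y ∈ Submodule.span K (T n) → a * y ∈ Submodule.span K (T n) := by
    intro a y hy
    rw [show a * y = ε a • y + (a - algebraMap K A (ε a)) * y by rw [Algebra.smul_def]; ring]
    refine add_mem (Submodule.smul_mem _ _ hy) (hanti (Nat.le_add_left n 1) (hmul ?_ hy))
    have h : gamma 1 (a - algebraMap K A (ε a)) ∈ Submodule.span K (T 1) :=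
      gamma_mem_of_seriesIn (F := F) (hser a) 1
    rwa [gamma_one] at h
  apply le_antisymm
  · intro y hy
    rw [Submodule.restrictScalars_mem, gammaFil] at hy
    induction hy using Submodule.span_induction with
    | mem y hy =>
      obtain ⟨l, h1, h2, rfl⟩ := hy
      have h := F.list_prod_mem (l.map fun p => (p.1, gamma p.1 p.2)) (fun q hq => by
        obtain ⟨p, hp, rfl⟩ := List.mem_map.mp hq
        have := gamma_mem_of_seriesIn (F := F) (hser p.2) p.1
        rwa [show ε p.2 = 0 from h1 p hp, map_zero, sub_zero] at this)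
      simp only [List.map_map, Function.comp_def] at h
      exact hanti h2 h
    | zero => exact zero_mem _
    | add a b _ _ ha hb => exact add_mem ha hb
    | smul a b _ hb => rw [smul_eq_mul]; exact hideal a hb
  · rw [Submodule.span_le]
    rintro _ ⟨l, -, h2, rfl⟩
    rw [SetLike.mem_coe, Submodule.restrictScalars_mem]
    refine Ideal.subset_span ⟨l.map fun p => (p.1, p.2 - algebraMap K A (ε p.2)), fun q hq => ?_,
      by simpa [List.map_map, Function.comp_def] using h2, by simp [List.map_map, Function.comp_def]⟩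
    obtain ⟨p, -, rfl⟩ := List.mem_map.mp hq
    simp

end Groth.Agent.S8704
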