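import Groth.Statements.S8709
import Groth.Agent.AxesUnit.Basic
import Groth.Agent.HomDiag.Points
import Groth.Agent.GeomRedPull.Basic

set_option autoImplicit false
set_option backward.isDefEq.respectTransparency false
set_option maxHeartbeats 800000
set_option linter.style.haveILetI false
universe u
open CategoryTheory CategoryTheory.Limits MonoidalCategory CartesianMonoidalCategory MonObj AlgebraicGeometry
open SGA7

namespace Groth.Agent.S8709

/-- Let k be a field and X, Y two k-schemes of finite type which are geometrically reduced and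
geometrically connected, with rational points e_X and e_Y. Then every k-morphism u from X ×_k Y to
the multiplicative group whose restrictions to X × e_Y and to e_X × Y are trivial is trivial.
(Morphisms to the multiplicative group over k form a group; trivial means equal to its unit
element.) -/
theorem result (k : Type u) [Field k]
    (X Y : Over (Spec (CommRingCat.of k)))
    [LocallyOfFiniteType X.hom] [QuasiCompact X.hom] [GeometricallyReduced X.hom] [GeometricallyConnected X.hom]
    [LocallyOfFiniteType Y.hom] [QuasiCompact Y.hom] [GeometricallyReduced Y.hom] [GeometricallyConnected Y.hom]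
    (eX : 𝟙_ (Over (Spec (CommRingCat.of k))) ⟶ X) (eY : 𝟙_ (Over (Spec (CommRingCat.of k))) ⟶ Y)
    (u : X ⊗ Y ⟶ Red.Gm (Spec (CommRingCat.of k)))
    (huX : lift (𝟙 X) (toUnit X ≫ eY) ≫ u = 1) (huY : lift (toUnit Y ≫ eX) (𝟙 Y) ≫ u = 1) :
    u = 1 := by
  classical
  let S := Spec (CommRingCat.of k)
  suffices hf : HomDiag.ch u (Multiplicative.ofAdd 1) = 1 by
    refine HomDiag.ch_ext fun m => ?_
    rw [HomDiag.ch_one]
    have h : HomDiag.ch u = 1 := MonoidHom.ext_mint (hf.trans (MonoidHom.one_apply _).symm)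
    rw [h]
    rfl
  let K := AlgebraicClosure k
  let s : Spec (CommRingCat.of K) ⟶ S := Spec.map (CommRingCat.ofHom (algebraMap k K))
  let X' : Over (Spec (CommRingCat.of K)) := Over.mk (pullback.snd X.hom s)
  let Y' : Over (Spec (CommRingCat.of K)) := Over.mk (pullback.snd Y.hom s)
  haveI : LocallyOfFiniteType X'.hom := inferInstanceAs (LocallyOfFiniteType (pullback.snd X.hom s))
  haveI : LocallyOfFiniteType Y'.hom := inferInstanceAs (LocallyOfFiniteType (pullback.snd Y.hom s))
  haveI : QuasiCompact X'.hom := inferInstanceAs (QuasiCompact (pullback.snd X.hom s))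
  haveI : QuasiCompact Y'.hom := inferInstanceAs (QuasiCompact (pullback.snd Y.hom s))
  haveI : ConnectedSpace X'.left :=
    pullback_of_geometrically (P := (ConnectedSpace ·)) GeometricallyConnected.geometrically_connectedSpace K s
  haveI : ConnectedSpace Y'.left :=
    pullback_of_geometrically (P := (ConnectedSpace ·)) GeometricallyConnected.geometrically_connectedSpace K s
  haveI : IsLocallyNoetherian X'.left := LocallyOfFiniteType.isLocallyNoetherian X'.hom
  haveI : IsLocallyNoetherian Y'.left := LocallyOfFiniteType.isLocallyNoetherian Y'.hom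
  haveI : CompactSpace X'.left := QuasiCompact.compactSpace_of_compactSpace X'.hom
  haveI : CompactSpace Y'.left := QuasiCompact.compactSpace_of_compactSpace Y'.hom
  haveI : IsNoetherian X'.left := {}
  haveI : IsNoetherian Y'.left := {}
  have cX : (fst X' Y').left ≫ pullback.snd X.hom s = (X' ⊗ Y').hom := Over.w (fst X' Y')
  have cY : (snd X' Y').left ≫ pullback.snd Y.hom s = (X' ⊗ Y').hom := Over.w (snd X' Y')
  let Φ : (X' ⊗ Y').left ⟶ (X ⊗ Y).left :=
    pullback.lift ((fst X' Y').left ≫ pullback.fst X.hom s) ((snd X' Y').left ≫ pullback.fst Y.hom s) (by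
      rw [Category.assoc, Category.assoc, pullback.condition, pullback.condition, reassoc_of% cX,
        reassoc_of% cY])
  have hunit : IsUnit (HomDiag.ch u (Multiplicative.ofAdd 1)) := (Group.isUnit _).map _
  let fu : Γ((X' ⊗ Y').left, ⊤)ˣ := (hunit.map Φ.appTop.hom).unit
  have wX : eX.left ≫ X.hom = 𝟙 S := Over.w eX
  have wY : eY.left ≫ Y.hom = 𝟙 S := Over.w eY
  let eX' : 𝟙_ (Over (Spec (CommRingCat.of K))) ⟶ X' :=
    Over.homMk (pullback.lift (f := X.hom) (g := s) (s ≫ eX.left) (𝟙 _)
      (by rw [Category.assoc, wX, Category.comp_id, Category.id_comp]))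
      (pullback.lift_snd _ _ _)
  let eY' : 𝟙_ (Over (Spec (CommRingCat.of K))) ⟶ Y' :=
    Over.homMk (pullback.lift (f := Y.hom) (g := s) (s ≫ eY.left) (𝟙 _)
      (by rw [Category.assoc, wY, Category.comp_id, Category.id_comp]))
      (pullback.lift_snd _ _ _)
  have huX' := congrArg (fun v => HomDiag.ch v (Multiplicative.ofAdd 1)) huX
  have huY' := congrArg (fun v => HomDiag.ch v (Multiplicative.ofAdd 1)) huY
  simp only [HomDiag.ch_comp, HomDiag.ch_one] at huX' huY'
  have hΦ : ∀ x y, (lift x y : 𝟙_ (Over (Spec (CommRingCat.of K))) ⟶ X' ⊗ Y').left ≫ Φ ≫ (fst X Y).left =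
      x.left ≫ pullback.fst X.hom s ∧
      (lift x y : 𝟙_ (Over (Spec (CommRingCat.of K))) ⟶ X' ⊗ Y').left ≫ Φ ≫ (snd X Y).left =
      y.left ≫ pullback.fst Y.hom s := fun x y => by
    constructor
    · rw [show Φ ≫ (fst X Y).left = (fst X' Y').left ≫ pullback.fst X.hom s from pullback.lift_fst _ _ _,
        ← Category.assoc, ← Over.comp_left, lift_fst]
    · rw [show Φ ≫ (snd X Y).left = (snd X' Y').left ≫ pullback.fst Y.hom s from pullback.lift_snd _ _ _,
        ← Category.assoc, ← Over.comp_left, lift_snd]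
  have hX : ∀ x, AxesUnit.val fu x eY' = 1 := fun x => by
    have e : (lift x eY').left ≫ Φ = (x.left ≫ pullback.fst X.hom s) ≫ (lift (𝟙 X) (toUnit X ≫ eY)).left := by
      apply pullback.hom_ext
      · refine ((Category.assoc _ _ _).trans (hΦ x eY').1).trans ?_
        refine Eq.trans ?_ (Category.assoc _ _ _).symm
        show _ = _ ≫ (lift (𝟙 X) (toUnit X ≫ eY)).left ≫ (fst X Y).left
        rw [← Over.comp_left, lift_fst, Over.id_left, Category.comp_id]
      · refine ((Category.assoc _ _ _).trans (hΦ x eY').2).trans ?_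
        refine Eq.trans ?_ (Category.assoc _ _ _).symm
        show _ = _ ≫ (lift (𝟙 X) (toUnit X ≫ eY)).left ≫ (snd X Y).left
        rw [← Over.comp_left, lift_snd, Over.comp_left]
        show eY'.left ≫ _ = (x.left ≫ pullback.fst X.hom s) ≫ X.hom ≫ eY.left
        have wx : x.left ≫ pullback.snd X.hom s = 𝟙 _ := Over.w x
        rw [Category.assoc, pullback.condition_assoc, reassoc_of% wx]
        exact pullback.lift_fst _ _ _
    apply Units.ext
    refine (congrArg (fun g : Spec (CommRingCat.of K) ⟶ (X ⊗ Y).left =>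
      g.appTop (HomDiag.ch u (Multiplicative.ofAdd 1))) e).trans ?_
    show (x.left ≫ pullback.fst X.hom s).appTop
      ((lift (𝟙 X) (toUnit X ≫ eY)).left.appTop (HomDiag.ch u (Multiplicative.ofAdd 1))) = 1
    rw [huX', map_one]
  have hY : ∀ y, AxesUnit.val fu eX' y = 1 := fun y => by
    have e : (lift eX' y).left ≫ Φ = (y.left ≫ pullback.fst Y.hom s) ≫ (lift (toUnit Y ≫ eX) (𝟙 Y)).left := by
      apply pullback.hom_ext
      · refine ((Category.assoc _ _ _).trans (hΦ eX' y).1).trans ?_
        refine Eq.trans ?_ (Category.assoc _ _ _).symm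
        show _ = _ ≫ (lift (toUnit Y ≫ eX) (𝟙 Y)).left ≫ (fst X Y).left
        rw [← Over.comp_left, lift_fst, Over.comp_left]
        show eX'.left ≫ _ = (y.left ≫ pullback.fst Y.hom s) ≫ Y.hom ≫ eX.left
        have wy : y.left ≫ pullback.snd Y.hom s = 𝟙 _ := Over.w y
        rw [Category.assoc, pullback.condition_assoc, reassoc_of% wy]
        exact pullback.lift_fst _ _ _
      · refine ((Category.assoc _ _ _).trans (hΦ eX' y).2).trans ?_
        refine Eq.trans ?_ (Category.assoc _ _ _).symm
        show _ = _ ≫ (lift (toUnit Y ≫ eX) (𝟙 Y)).left ≫ (snd X Y).left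
        rw [← Over.comp_left, lift_snd, Over.id_left, Category.comp_id]
    apply Units.ext
    refine (congrArg (fun g : Spec (CommRingCat.of K) ⟶ (X ⊗ Y).left =>
      g.appTop (HomDiag.ch u (Multiplicative.ofAdd 1))) e).trans ?_
    show (y.left ≫ pullback.fst Y.hom s).appTop
      ((lift (toUnit Y ≫ eX) (𝟙 Y)).left.appTop (HomDiag.ch u (Multiplicative.ofAdd 1))) = 1
    rw [huY', map_one]
  haveI : LocallyOfFiniteType (X ⊗ Y).hom :=
    inferInstanceAs (LocallyOfFiniteType (pullback.fst X.hom Y.hom ≫ X.hom))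
  haveI : JacobsonSpace ↥S := inferInstanceAs (JacobsonSpace (PrimeSpectrum k))
  haveI : JacobsonSpace ↥(X ⊗ Y).left := LocallyOfFiniteType.jacobsonSpace (X ⊗ Y).hom
  haveI : IsLocallyNoetherian Y.left := LocallyOfFiniteType.isLocallyNoetherian Y.hom
  haveI : AlgebraicGeometry.IsReduced Y.left :=
    GeometricallyReduced.isReduced_of_flat_of_isLocallyNoetherian Y.hom
  haveI : AlgebraicGeometry.IsReduced (X ⊗ Y).left := GeomRedPull.isReduced_pullback X.hom Y.hom
  let f : Γ((X ⊗ Y).left, ⊤) := HomDiag.ch u (Multiplicative.ofAdd 1)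
  show f = 1
  rw [← sub_eq_zero, ← basicOpen_eq_bot_iff]
  by_contra hne
  obtain ⟨z0, hz0⟩ : ((((X ⊗ Y).left.basicOpen (f - 1)) : (X ⊗ Y).left.Opens) : Set (X ⊗ Y).left).Nonempty :=
    Set.nonempty_iff_ne_empty.2 fun h => hne (TopologicalSpace.Opens.ext h)
  obtain ⟨z, hzU, hzc⟩ := nonempty_inter_closedPoints ⟨z0, hz0⟩
    ((X ⊗ Y).left.basicOpen (f - 1)).isOpen.isLocallyClosed
  let q : pullback (X ⊗ Y).hom s ⟶ Spec (CommRingCat.of K) := pullback.snd _ _
  haveI : JacobsonSpace ↥(pullback (X ⊗ Y).hom s) := LocallyOfFiniteType.jacobsonSpace q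
  haveI : Surjective s := inferInstance
  obtain ⟨w, hw, hwc⟩ := nonempty_inter_closedPoints
    (Z := (pullback.fst (X ⊗ Y).hom s) ⁻¹' {z})
    ((pullback.fst (X ⊗ Y).hom s).surjective z |>.elim fun a ha => ⟨a, ha⟩)
    (IsClosed.preimage (pullback.fst (X ⊗ Y).hom s).continuous hzc).isLocallyClosed
  let p : Spec (CommRingCat.of K) ⟶ (X ⊗ Y).left := pointOfClosedPoint q w hwc ≫ pullback.fst _ _
  have hp : p ≫ (X ⊗ Y).hom = s := by
    rw [Category.assoc, pullback.condition, pointOfClosedPoint_comp_assoc]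
  have hpz : p (IsLocalRing.closedPoint K) = z := by
    show (pullback.fst (X ⊗ Y).hom s) (pointOfClosedPoint q w hwc (IsLocalRing.closedPoint K)) = z
    rw [pointOfClosedPoint_apply]
    exact hw
  have wf : (p ≫ (fst X Y).left) ≫ X.hom = 𝟙 _ ≫ s := by
    rw [Category.assoc, Over.w (fst X Y), hp, Category.id_comp]
  have wg : (p ≫ (snd X Y).left) ≫ Y.hom = 𝟙 _ ≫ s := by
    rw [Category.assoc, Over.w (snd X Y), hp, Category.id_comp]
  let x : 𝟙_ (Over (Spec (CommRingCat.of K))) ⟶ X' :=
    Over.homMk (pullback.lift _ _ wf) (pullback.lift_snd _ _ _)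
  let y : 𝟙_ (Over (Spec (CommRingCat.of K))) ⟶ Y' :=
    Over.homMk (pullback.lift _ _ wg) (pullback.lift_snd _ _ _)
  have e : (lift x y).left ≫ Φ = p := by
    apply pullback.hom_ext
    · exact ((Category.assoc _ _ _).trans (hΦ x y).1).trans (pullback.lift_fst _ _ _)
    · exact ((Category.assoc _ _ _).trans (hΦ x y).2).trans (pullback.lift_fst _ _ _)
  have h1 : p.appTop f = 1 := by
    rw [← e]
    exact congrArg Units.val (AxesUnit.val_eq_one fu eX' eY' hX hY x y)
  have hmem : (IsLocalRing.closedPoint K : ↥(Spec (CommRingCat.of K))) ∈ p ⁻¹ᵁ (X ⊗ Y).left.basicOpen (f - 1) := by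
    show p (IsLocalRing.closedPoint K) ∈ (X ⊗ Y).left.basicOpen (f - 1)
    rw [hpz]; exact hzU
  rw [Scheme.preimage_basicOpen_top, map_sub, h1, map_one, sub_self, Scheme.basicOpen_zero] at hmem
  exact hmem

end Groth.Agent.S8709
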