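import Groth.Statements.S8720
import Groth.Agent.QuadPS.Basic

set_option autoImplicit false
universe u
open VanCyc

namespace Groth.Agent.S8720

/-- The formal computation carried out in its proof: let k be a field of characteristic 2, m a natural
number, and f a power series over k in the variables x_0 and x_i, x_i' (i = 1, ..., m) whose terms
of degree less than 3 are exactly those of x_0^2 + x_1 x_1' + ... + x_m x_m'. Then the ideal
generated by f and all its partial derivatives is the ideal generated by x_0^2 and the x_i, x_i',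
and the quotient of the power series ring by this ideal is two-dimensional over k. (Characteristic 2
is what makes the derivative in x_0 lose its linear term.) -/
theorem result (k : Type u) [Field k] [CharP k 2] (m : ℕ)
    (f : MvPowerSeries (Option (Fin m ⊕ Fin m)) k)
    (hf : ∀ d : Option (Fin m ⊕ Fin m) →₀ ℕ, d.degree < 3 →
      MvPowerSeries.coeff d f = MvPowerSeries.coeff d
        (MvPowerSeries.X none ^ 2 +
          ∑ i : Fin m, MvPowerSeries.X (some (Sum.inl i)) * MvPowerSeries.X (some (Sum.inr i)))) :
    Ideal.span ({f} ∪ Set.range fun i : Option (Fin m ⊕ Fin m) => MvPowerSeries.pderiv k i f) =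
      Ideal.span ({MvPowerSeries.X none ^ 2} ∪
        Set.range fun j : Fin m ⊕ Fin m => (MvPowerSeries.X (some j) : MvPowerSeries (Option (Fin m ⊕ Fin m)) k)) ∧
    Module.finrank k (MvPowerSeries (Option (Fin m ⊕ Fin m)) k ⧸
      Ideal.span ({MvPowerSeries.X none ^ 2} ∪
        Set.range fun j : Fin m ⊕ Fin m => (MvPowerSeries.X (some j) : MvPowerSeries (Option (Fin m ⊕ Fin m)) k))) = 2 := by
  classical
  have hX : ∀ (i j : Option (Fin m ⊕ Fin m)), (MvPowerSeries.X i * MvPowerSeries.X j : MvPowerSeries _ k) =
      MvPowerSeries.monomial (Finsupp.single i 1 + Finsupp.single j 1) 1 := fun i j => by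
    rw [MvPowerSeries.X_def, MvPowerSeries.X_def, MvPowerSeries.monomial_mul_monomial, one_mul]
  have hc : ∀ d : Option (Fin m ⊕ Fin m) →₀ ℕ, d.degree < 3 → MvPowerSeries.coeff d f =
      (if d = Finsupp.single none 2 then 1 else 0) + ∑ i : Fin m,
        if d = Finsupp.single (some (Sum.inl i)) 1 + Finsupp.single (some (Sum.inr i)) 1 then 1 else 0 := fun d hd => by
    rw [hf d hd, map_add, map_sum, MvPowerSeries.coeff_X_pow]
    simp only [hX, MvPowerSeries.coeff_monomial]
  have hs : Ideal.span ({f} ∪ Set.range fun i : Option (Fin m ⊕ Fin m) => MvPowerSeries.pderiv k i f) =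
      QuadPS.I₀ k (Fin m ⊕ Fin m) := by
    refine QuadPS.span_eq f (Equiv.sumComm _ _) (fun i => by cases i <;> simp) (fun d hd => ?_) ?_ (fun j => ?_)
      (fun i j => ?_)
    · have hd' : ∀ e : Option (Fin m ⊕ Fin m) →₀ ℕ, e.degree = 2 → d ≠ e := fun e he h => by subst h; omega
      rw [hc d (by omega), if_neg (hd' _ (by rw [Finsupp.degree_single])), zero_add]
      exact Finset.sum_eq_zero fun i _ => if_neg (hd' _ (by simp [Finsupp.degree_single]))
    · rw [hc _ (by simp [Finsupp.degree_single]), if_pos rfl, Finset.sum_eq_zero, add_zero]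
      intro i _
      refine if_neg fun e => ?_
      simpa using DFunLike.congr_fun e none
    · rw [hc _ (by simp [Finsupp.degree_single]), if_neg, zero_add, Finset.sum_eq_zero]
      · intro i _
        refine if_neg fun e => ?_
        simpa using DFunLike.congr_fun e none
      · intro e
        simpa using DFunLike.congr_fun e (some j)
    · rw [hc _ (by simp [Finsupp.degree_single]), if_neg, zero_add]
      · have key : ∀ x : Fin m, (Finsupp.single (some i) 1 + Finsupp.single (some j) 1 : Option (Fin m ⊕ Fin m) →₀ ℕ) =
            Finsupp.single (some (Sum.inl x)) 1 + Finsupp.single (some (Sum.inr x)) 1 ↔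
              (i = Sum.inl x ∧ j = Sum.inr x) ∨ (i = Sum.inr x ∧ j = Sum.inl x) := fun x => by
          rw [Finsupp.single_add_single_eq_single_add_single one_ne_zero one_ne_zero]
          simp
        simp only [key]
        rcases i with a | a <;> rcases j with b | b
        all_goals simp
        all_goals (by_cases hab : a = b <;> simp [hab, Finset.filter_eq, Finset.filter_eq_empty_iff] <;> rw [Finset.filter_false_of_mem (fun x _ h => hab (h.1.trans h.2.symm)), Finset.card_empty, Nat.cast_zero])
      · intro e
        simpa using DFunLike.congr_fun e none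
  refine ⟨hs, ?_⟩
  let L : MvPowerSeries (Option (Fin m ⊕ Fin m)) k →ₗ[k] k × k :=
    (MvPowerSeries.coeff 0).prod (MvPowerSeries.coeff (Finsupp.single none 1))
  have hk : (QuadPS.I₀ k (Fin m ⊕ Fin m)).restrictScalars k = LinearMap.ker L := by
    ext h
    rw [Submodule.restrictScalars_mem, QuadPS.mem_I₀, LinearMap.mem_ker]
    simp [L, Prod.ext_iff]
  have hL : Function.Surjective L := fun c => by
    refine ⟨c.1 • 1 + c.2 • MvPowerSeries.X none, ?_⟩
    simp [L, MvPowerSeries.coeff_one, MvPowerSeries.coeff_X, eq_comm (a := (0 : Option (Fin m ⊕ Fin m) →₀ ℕ))]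
  show Module.finrank k (_ ⧸ QuadPS.I₀ k (Fin m ⊕ Fin m)) = 2
  rw [← (Submodule.Quotient.restrictScalarsEquiv k (QuadPS.I₀ k (Fin m ⊕ Fin m))).finrank_eq,
    (Submodule.quotEquivOfEq _ _ hk).finrank_eq, (L.quotKerEquivOfSurjective hL).finrank_eq]
  simp

end Groth.Agent.S8720
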