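import Groth.Statements.S8724
import Mathlib

set_option autoImplicit false
open LefPen

namespace Groth.Agent.S8724

/-- The algebraic identity established in its proof: let a >= 1 and work in Z[y, z]. Then (1+y)^(a-1) -
(1+z)^(a-1) = (y - z) * (sum over i, j >= 0 with i + j + 1 <= a - 1 of C(a-1, i+j+1) y^i z^j), and
(1+y)^a z - (1+z)^a y = (y - z) * (-1 + sum over i, j >= 1 with i + j <= a of C(a, i+j) y^i z^j).
Consequently the rational function -((1+y)^(a-1) - (1+z)^(a-1)) / ((1+y)^a z - (1+z)^a y), the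
generating series of the primitive middle Hodge numbers of smooth hypersurfaces of degree a, equals
(sum_{i,j >= 0} C(a-1, i+j+1) y^i z^j) / (1 - sum_{i,j >= 1} C(a, i+j) y^i z^j). -/
theorem result (a : ℕ) (ha : 1 ≤ a) :
    let y : MvPolynomial (Fin 2) ℤ := MvPolynomial.X 0
    let z : MvPolynomial (Fin 2) ℤ := MvPolynomial.X 1
    ((1 + y) ^ (a - 1) - (1 + z) ^ (a - 1) =
      (y - z) * ∑ i ∈ Finset.range a, ∑ j ∈ Finset.range a,
        if i + j + 1 ≤ a - 1 then ((a - 1).choose (i + j + 1) : MvPolynomial (Fin 2) ℤ) * y ^ i * z ^ j else 0) ∧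
    ((1 + y) ^ a * z - (1 + z) ^ a * y =
      (y - z) * (-1 + ∑ i ∈ Finset.range (a + 1), ∑ j ∈ Finset.range (a + 1),
        if 1 ≤ i ∧ 1 ≤ j ∧ i + j ≤ a then (a.choose (i + j) : MvPolynomial (Fin 2) ℤ) * y ^ i * z ^ j else 0)) := by
  intro y z
  have key : ∀ (n N : ℕ), n ≤ N → ∀ g : ℕ → ℕ → MvPolynomial (Fin 2) ℤ,
      (∑ i ∈ Finset.range N, ∑ j ∈ Finset.range N, if i + j + 1 ≤ n then g i j else 0) =
        ∑ k ∈ Finset.range n, ∑ i ∈ Finset.range (k + 1), g i (k - i) := by
    intro n
    induction n with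
    | zero => intro N _ g; simp
    | succ n ih =>
      intro N hN g
      rw [Finset.sum_range_succ, ← ih N (Nat.le_of_succ_le hN) g]
      have hlast : ∑ i ∈ Finset.range (n + 1), g i (n - i) =
          ∑ i ∈ Finset.range N, ∑ j ∈ Finset.range N, if i + j = n then g i j else 0 := by
        have h' : ∀ i, i ≤ n → (∑ j ∈ Finset.range N, if i + j = n then g i j else 0) = g i (n - i) := fun i hi => by
          rw [Finset.sum_eq_single (n - i) (fun j _ hj => if_neg (by omega))
            (fun h => absurd (Finset.mem_range.2 (by omega)) h), if_pos (by omega)]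
        symm
        rw [← Finset.sum_subset (Finset.range_mono hN) (fun i _ hi => Finset.sum_eq_zero fun j _ => if_neg (by
          simp only [Finset.mem_range, not_lt] at hi; omega))]
        exact Finset.sum_congr rfl fun i hi => h' i (Nat.lt_succ_iff.1 (Finset.mem_range.1 hi))
      rw [hlast, ← Finset.sum_add_distrib]
      refine Finset.sum_congr rfl fun i _ => ?_
      rw [← Finset.sum_add_distrib]
      refine Finset.sum_congr rfl fun j _ => ?_
      rcases lt_trichotomy (i + j) n with h | h | h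
      · rw [if_pos (by omega), if_pos (by omega), if_neg (by omega), add_zero]
      · rw [if_pos (by omega), if_neg (by omega), if_pos h, zero_add]
      · rw [if_neg (by omega), if_neg (by omega), if_neg (by omega), add_zero]
  have hA : ∀ (n N : ℕ), n ≤ N → (1 + y) ^ n - (1 + z) ^ n = (y - z) *
      ∑ i ∈ Finset.range N, ∑ j ∈ Finset.range N,
        if i + j + 1 ≤ n then (n.choose (i + j + 1) : MvPolynomial (Fin 2) ℤ) * y ^ i * z ^ j else 0 := by
    intro n N hN
    rw [key n N hN (fun i j => (n.choose (i + j + 1) : MvPolynomial (Fin 2) ℤ) * y ^ i * z ^ j),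
      add_comm 1 y, add_comm 1 z, add_pow, add_pow, ← Finset.sum_sub_distrib, Finset.sum_range_succ',
      Finset.mul_sum]
    simp only [one_pow, mul_one, pow_zero, sub_self, add_zero]
    refine Finset.sum_congr rfl fun k _ => ?_
    rw [← sub_mul, ← (Commute.all y z).geom_sum₂_mul (k + 1), mul_comm (y - z), Finset.sum_mul, Finset.sum_mul,
      Finset.sum_mul]
    refine Finset.sum_congr rfl fun i hi => ?_
    have hi' := Finset.mem_range.1 hi
    rw [show i + (k - i) + 1 = k + 1 by omega, show k + 1 - 1 - i = k - i by omega]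
    ring
  refine ⟨hA (a - 1) a (Nat.sub_le _ _), ?_⟩
  obtain ⟨b, rfl⟩ : ∃ b, a = b + 1 := ⟨a - 1, by omega⟩
  have hd := hA (b + 1) (b + 1) le_rfl
  set f : ℕ → ℕ → MvPolynomial (Fin 2) ℤ :=
    fun i j => if i + j ≤ b + 1 then ((b + 1).choose (i + j) : MvPolynomial (Fin 2) ℤ) * y ^ i * z ^ j else 0 with hf
  have h1 : z * (∑ i ∈ Finset.range (b + 1), ∑ j ∈ Finset.range (b + 1),
        if i + j + 1 ≤ b + 1 then ((b + 1).choose (i + j + 1) : MvPolynomial (Fin 2) ℤ) * y ^ i * z ^ j else 0) =
      ∑ i ∈ Finset.range (b + 1), ∑ j ∈ Finset.range (b + 1), f i (j + 1) := by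
    simp only [Finset.mul_sum]
    refine Finset.sum_congr rfl fun i _ => Finset.sum_congr rfl fun j _ => ?_
    simp only [hf, ← add_assoc]
    split_ifs with h
    · ring
    · rw [mul_zero]
  have h2 : (∑ i ∈ Finset.range (b + 1 + 1), ∑ j ∈ Finset.range (b + 1 + 1),
        if 1 ≤ i ∧ 1 ≤ j ∧ i + j ≤ b + 1 then ((b + 1).choose (i + j) : MvPolynomial (Fin 2) ℤ) * y ^ i * z ^ j else 0) =
      ∑ i ∈ Finset.range (b + 1), ∑ j ∈ Finset.range (b + 1), f (i + 1) (j + 1) := by
    rw [Finset.sum_range_succ']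
    simp only [Finset.sum_range_succ' _ (b + 1)]
    simp [hf]
  have h3 : (1 + z) ^ (b + 1) = 1 + ∑ j ∈ Finset.range (b + 1), f 0 (j + 1) := by
    rw [add_comm 1 z, add_pow, Finset.sum_range_succ', add_comm]
    congr 1
    · simp
    · refine Finset.sum_congr rfl fun j hj => ?_
      simp only [hf, Finset.mem_range] at hj ⊢
      rw [if_pos (by omega)]
      simp [mul_comm]
  have h4 : ∑ i ∈ Finset.range (b + 1), ∑ j ∈ Finset.range (b + 1), f i (j + 1) =
      (∑ i ∈ Finset.range (b + 1), ∑ j ∈ Finset.range (b + 1), f (i + 1) (j + 1)) +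
        ∑ j ∈ Finset.range (b + 1), f 0 (j + 1) := by
    have e := Finset.sum_range_succ' (fun i => ∑ j ∈ Finset.range (b + 1), f i (j + 1)) (b + 1)
    rw [Finset.sum_range_succ] at e
    have hz : ∑ j ∈ Finset.range (b + 1), f (b + 1) (j + 1) = 0 :=
      Finset.sum_eq_zero fun j _ => if_neg (by omega)
    rw [hz, add_zero] at e
    exact e
  rw [h2]
  linear_combination z * hd + (y - z) * h1 + (y - z) * h4 - (y - z) * h3

end Groth.Agent.S8724
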