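import Groth.Statements.S8727
import Groth.Agent.Castel.InterNeg

set_option autoImplicit false
universe u
open CategoryTheory CategoryTheory.Limits AlgebraicGeometry
open ArSurf

set_option backward.isDefEq.respectTransparency false
set_option backward.isDefEq.respectTransparency.types false

namespace Groth.Agent.S8727

/-- The assertion on the kernel of the intersection form: let R be a discrete valuation ring, X an
arithmetic surface over Spec R (regular, integral, of dimension 2, flat and projective over R) whose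
special fibre is connected, Γ_1, ..., Γ_r pairwise distinct vertical prime divisors whose union is
the whole special fibre, n_i the multiplicity of Γ_i in the special fibre, i.e. the length of
O_{X,γ_i}/m_R O_{X,γ_i} for γ_i the generic point of Γ_i, and L_j invertible O_X-modules with L_j ⊗
I(Γ_j) ≅ O_X. Then for integers a_1, ..., a_r one has Σ_j a_j (Γ_i · Γ_j) = 0 for every i, where Γ_i
· Γ_j = deg(L_j|_{Γ_i}) over the residue field, if and only if (a_1, ..., a_r) is a rational
multiple of (n_1, ..., n_r): the kernel of the (negative semi-definite) intersection form on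
vertical divisors is spanned by the special fibre. -/
theorem result (R : Type u) [CommRing R] [IsDomain R] [IsDiscreteValuationRing R]
    (X : Over (Spec (CommRingCat.of R))) (hX : ArSurf.IsArithSurface R X)
    (hconn : _root_.IsConnected {x : ↥X.left | X.hom.base x = IsLocalRing.closedPoint R})
    {r : ℕ} (Γ : Fin r → ArSurf.VertComp R X)
    (hdist : Function.Injective fun i => Set.range (Γ i).ι.base)
    (hcov : ∀ x : ↥X.left, X.hom.base x = IsLocalRing.closedPoint R → ∃ i, x ∈ Set.range (Γ i).ι.base)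
    (L : Fin r → X.left.Modules) (hL : ∀ j, ClSub.IsInverseOf (L j) (ClSub.idealMod ((Γ j).ι.ker)))
    (a : Fin r → ℤ) :
    let γ : Fin r → ↥X.left := fun i => (Γ i).ι.base (genericPoint ↥(Γ i).curve.left)
    let ρ : ∀ i, R →+* ↑(X.left.presheaf.stalk (γ i)) := fun i =>
      (X.left.presheaf.germ ⊤ (γ i) trivial).hom.comp
        (X.hom.appTop.hom.comp (Scheme.ΓSpecIso (CommRingCat.of R)).inv.hom)
    let n : Fin r → ℕ := fun i => (Module.length ↑(X.left.presheaf.stalk (γ i))
      (↑(X.left.presheaf.stalk (γ i)) ⧸ (IsLocalRing.maximalIdeal R).map (ρ i))).toNat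
    (∀ i, ∑ j, a j * ArSurf.inter R X (L j) (Γ i) = 0) ↔
      ∃ c : ℚ, ∀ i, (a i : ℚ) = c * (n i : ℚ) := by
  intro γ ρ n
  classical
  haveI := Groth.Agent.Castel.isProper_hom_of_isArithSurface hX
  have hmult : ∀ i, n i = Models.mult R X (Γ i) := fun i => rfl
  have hcov' : Models.specialFibreSet R X ⊆ ⋃ i, Set.range (Γ i).ι := fun x hx => Set.mem_iUnion.2 (hcov x hx)
  have hz := Groth.Agent.Castel.sum_mult_inter_eq_zero hX Γ hdist hcov' L hL
  constructor
  · intro h
    obtain ⟨hsym, hoff, J, -, hrow⟩ := Groth.Agent.Castel.interMat_facts hX Γ hdist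
    have hM : ∀ p q, ArSurf.inter R X (L q) (Γ p) = Groth.Agent.Castel.interMat Γ p q := fun p q =>
      Groth.Agent.Castel.inter_eq_interMat hX Γ (hL q)
    have h0 : ∑ i, ∑ j, a i * a j * Groth.Agent.Castel.interMat Γ i j = 0 := by
      refine Finset.sum_eq_zero fun i _ => ?_
      have : ∑ j, a i * a j * Groth.Agent.Castel.interMat Γ i j = a i * ∑ j, a j * ArSurf.inter R X (L j) (Γ i) := by
        rw [Finset.mul_sum]
        exact Finset.sum_congr rfl fun j _ => by rw [hM]; ring
      rw [this, h i, mul_zero]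
    obtain ⟨hprop, -⟩ := (Groth.Agent.Castel.quad_nonpos _ hsym (fun i j h => (hoff i j h).1) _ (fun i => (hrow i).1)
      (fun i => (hrow i).2.1) a).2 h0
    obtain ⟨x0, hx0⟩ := hconn.nonempty
    obtain ⟨i0, hi0⟩ := hcov x0 hx0
    have hn0 : (n i0 : ℚ) ≠ 0 := by rw [hmult]; exact Nat.cast_ne_zero.2 (hrow i0).1.ne'
    refine ⟨(a i0 : ℚ) / (n i0 : ℚ), fun i => ?_⟩
    let P : Fin r → Prop := fun i => a i * (n i0 : ℤ) = a i0 * (n i : ℤ)
    have hall : P i := by
      by_contra hi
      let U : Set X.left := ⋃ j ∈ {j | P j}, Set.range (Γ j).ι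
      let V : Set X.left := ⋃ j ∈ {j | ¬ P j}, Set.range (Γ j).ι
      have hU : IsClosed U := Set.Finite.isClosed_biUnion (Set.toFinite _) fun j _ => (Γ j).ι.isClosedEmbedding.isClosed_range
      have hV : IsClosed V := Set.Finite.isClosed_biUnion (Set.toFinite _) fun j _ => (Γ j).ι.isClosedEmbedding.isClosed_range
      have hfib : ∀ j, Set.range (Γ j).ι ⊆ {x : X.left | X.hom.base x = IsLocalRing.closedPoint R} := fun j =>
        Groth.Agent.Castel.range_subset_specialFibre (Γ j)
      obtain ⟨z, -, hzU, hzV⟩ := isPreconnected_closed_iff.1 hconn.isPreconnected U V hU hV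
        (fun x hx => by
          obtain ⟨j, hj⟩ := hcov x hx
          by_cases hj' : P j
          · exact Or.inl (Set.mem_iUnion₂.2 ⟨j, hj', hj⟩)
          · exact Or.inr (Set.mem_iUnion₂.2 ⟨j, hj', hj⟩))
        ⟨x0, hx0, Set.mem_iUnion₂.2 ⟨i0, rfl, hi0⟩⟩
        ⟨(Γ i).ι (genericPoint (Γ i).curve.left), hfib i ⟨_, rfl⟩, Set.mem_iUnion₂.2 ⟨i, hi, ⟨_, rfl⟩⟩⟩
      obtain ⟨j, hj, hzj⟩ := Set.mem_iUnion₂.1 hzU
      obtain ⟨j', hj', hzj'⟩ := Set.mem_iUnion₂.1 hzV
      have hne : j ≠ j' := fun e => hj' (e ▸ hj)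
      have hM0 : Groth.Agent.Castel.interMat Γ j j' ≠ 0 := fun e =>
        Set.disjoint_left.1 ((hoff j j' hne).2.1 e) hzj hzj'
      have hp := hprop j j' hM0
      rw [← hmult, ← hmult] at hp
      have hnj : (n j : ℤ) ≠ 0 := by rw [hmult]; exact Nat.cast_ne_zero.2 (hrow j).1.ne'
      refine hj' (mul_right_cancel₀ hnj ?_)
      have hj2 : a j * (n i0 : ℤ) = a i0 * (n j : ℤ) := hj
      linear_combination (n j' : ℤ) * hj2 - (n i0 : ℤ) * hp
    have hall' : (a i : ℚ) * (n i0 : ℚ) = (a i0 : ℚ) * (n i : ℚ) := by exact_mod_cast hall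
    rw [div_mul_eq_mul_div, eq_div_iff hn0]
    exact hall'
  · rintro ⟨c, hc⟩ i
    have h1 : ((∑ j, a j * ArSurf.inter R X (L j) (Γ i) : ℤ) : ℚ) =
        c * ((∑ j, (Models.mult R X (Γ j) : ℤ) * ArSurf.inter R X (L j) (Γ i) : ℤ) : ℚ) := by
      push_cast
      rw [Finset.mul_sum]
      exact Finset.sum_congr rfl fun j _ => by rw [hc, hmult]; ring
    rw [hz (Γ i), Int.cast_zero, mul_zero] at h1
    exact_mod_cast h1

end Groth.Agent.S8727
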