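import Groth.Statements.S8729
import Groth.Agent.Castel.Vert

set_option autoImplicit false
universe u
open CategoryTheory CategoryTheory.Limits AlgebraicGeometry
open ArSurf

set_option backward.isDefEq.respectTransparency false
set_option backward.isDefEq.respectTransparency.types false

namespace Groth.Agent.S8729

/-- For a vertical prime divisor: let R be a discrete valuation ring, X an arithmetic surface over Spec
R (regular, integral, of dimension 2, flat and projective), Γ a vertical prime divisor of X over the
closed point with ideal sheaf I, N = I/I^2 its conormal sheaf (an invertible O_Γ-module) and L an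
O_X-module with L ⊗ I ≅ O_X (L = O_X(Γ)). Then the self-intersection number (Γ · Γ) = deg_k(L|_Γ)
equals -deg_k(N), degrees over the residue field k being differences of Euler characteristics. -/
theorem result (R : Type u) [CommRing R] [IsDomain R] [IsDiscreteValuationRing R]
    (X : Over (Spec (CommRingCat.of R))) (hX : ArSurf.IsArithSurface R X) (Γ : ArSurf.VertComp R X)
    (L : X.left.Modules) (hL : ClSub.IsInverseOf L (ClSub.idealMod Γ.ι.ker)) :
    ArSurf.inter R X L Γ =
      - ArSurf.curveDeg (IsLocalRing.ResidueField R) Γ.curve.left (Omega.conormal Γ.ι) := by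
  obtain ⟨hXr, hXi, hXd, -, hXp⟩ := hX
  haveI := hXi
  haveI := Groth.Agent.PtBlow.isProper_of_isProjectiveOver (Z := X) hXp
  haveI : IsLocallyNoetherian X.left := LocallyOfFiniteType.isLocallyNoetherian X.hom
  haveI : CompactSpace X.left := QuasiCompact.compactSpace_of_compactSpace X.hom
  haveI : IsNoetherian X.left := {}
  haveI : IsProper (Γ.curve.hom ≫ Spec.map (CommRingCat.ofHom (IsLocalRing.residue R))) := by
    rw [← Γ.w]; infer_instance
  haveI : IsProper Γ.curve.hom :=
    IsProper.of_comp Γ.curve.hom (Spec.map (CommRingCat.ofHom (IsLocalRing.residue R)))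
  haveI : IsProper (Γ.curve.left ↘ Spec (CommRingCat.of (IsLocalRing.ResidueField R))) := ‹IsProper Γ.curve.hom›
  let i := Γ.ι
  haveI : IsIso i.toImage := inferInstance
  haveI : Nonempty i.ker.subscheme := ⟨i.toImage (genericPoint Γ.curve.left)⟩
  haveI : IsIntegral i.ker.subscheme := isIntegral_of_isOpenImmersion (inv i.toImage)
  have hI : BlowUp.IsEffCartierIdeal i.ker := by
    refine Groth.Agent.S1684.result X.left i.ker (Groth.Agent.Castel.ringKrullDim_stalk_curve hXd ?_) fun x _ => ?_
    · have hr : Set.range i.ker.subschemeι = Set.range i := by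
        rw [Scheme.IdealSheafData.range_subschemeι, Scheme.Hom.support_ker]
        exact i.isClosedEmbedding.isClosed_range.closure_eq
      have h1 : closure ({i.ker.subschemeι (genericPoint i.ker.subscheme)} : Set X.left) = Set.range i := by
        rw [← hr, ← Groth.Agent.Intersect.image_closure i.ker.subschemeι, genericPoint_closure]
        exact Set.image_univ
      rw [h1, ← i.isClosedEmbedding.isEmbedding.toHomeomorph.isHomeomorph.topologicalKrullDim_eq, Γ.dim_eq]
      rfl
    · haveI := hXr x
      exact Groth.Agent.S2821.result _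
  have hIi : PicF.IsInvertible (ClSub.idealMod i.ker) := (Groth.Agent.S8914.result _).2 hI
  have hLi := Groth.Agent.Castel.isInvertible_of_isInverseOf hIi hL
  have hd : topologicalKrullDim Γ.curve.left ≤ ((1 : ℕ) : WithBot ℕ∞) := le_of_eq Γ.dim_eq
  obtain ⟨q⟩ := hL
  obtain ⟨t⟩ := TMul.nonempty_pullTensorIso i L (ClSub.idealMod i.ker)
  have key : ∀ F : Γ.curve.left.Modules, ArSurf.curveDeg (IsLocalRing.ResidueField R) Γ.curve.left F =
      Curv2.deg (IsLocalRing.ResidueField R) Γ.curve.left F 1 := fun F => by
    rw [ArSurf.curveDeg, Groth.Agent.Intersect.eulerCharLE_eq _ 1 hd, Groth.Agent.Intersect.eulerCharLE_eq _ 1 hd, Curv2.deg]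
    simp
  rw [ArSurf.inter, key, key]
  have h := Groth.Agent.CurveRR.deg_tensor_inv (k := IsLocalRing.ResidueField R) hd
    (PicLoc.isInvertible_pullback i hLi) (PicLoc.isInvertible_pullback i hIi)
  have h0 : Curv2.deg (IsLocalRing.ResidueField R) Γ.curve.left
      (CohB1.tensorMod ((Scheme.Modules.pullback i).obj L) ((Scheme.Modules.pullback i).obj (ClSub.idealMod i.ker))) 1 = 0 := by
    rw [Curv2.deg, Groth.Agent.CurveRR.euler_eq_of_iso
      (t ≪≫ (Scheme.Modules.pullback i).mapIso q ≪≫ Groth.Agent.DerPerf.pullUnitIso i)]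
    simp
  change _ = -Curv2.deg (IsLocalRing.ResidueField R) Γ.curve.left ((Scheme.Modules.pullback i).obj (ClSub.idealMod i.ker)) 1
  rw [h] at h0
  linarith

end Groth.Agent.S8729
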