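import Groth.Statements.S8734
import Groth.Agent.PnHodge.Dim
-- import your own Groth.Agent.* helpers here

set_option autoImplicit false
universe u
open CategoryTheory CategoryTheory.Limits AlgebraicGeometry
open LefPen

namespace Groth.Agent.S8734

/-- Over a field: let k be a field, r >= 1, P = P^r_k, Ω = Ω^1_{P/k}, L an O_P-module which is a j-th
exterior power of Ω, and n a nonzero integer; write L(n) = L ⊗ O_P(n). Then H^i(P, L(n)) = H^i(P^r,
Ω^j(n)) is zero unless either i = 0 and n > j, or i = r and n < j - r. -/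
theorem result (k : Type u) [Field k] (r : ℕ) (hr : 1 ≤ r) (j : ℕ)
    (L : (CohB1.ProjSpace r k).Modules)
    (hL : ExtPow.IsExtPow j (Omega.sheaf (CohB1.ProjSpace.toSpec r k)) L) (n : ℤ) (hn : n ≠ 0) (i : ℕ)
    (h0 : ¬ (i = 0 ∧ (j : ℤ) < n)) (hr' : ¬ (i = r ∧ n < (j : ℤ) - r)) :
    Subsingleton (Coh.HH (CohB1.ProjSpace r k)
      (CohB1.tensorMod L (Twist.twistProjSpace r k n)) i) := by
  by_cases hjr : r < j
  · exact Groth.Agent.PnHodge.subsingleton_of_big hjr hL n i
  by_cases hpos : 0 < n ∧ i = 0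
  · obtain ⟨d, rfl⟩ := Int.eq_ofNat_of_zero_le hpos.1.le
    obtain ⟨rfl⟩ := hpos.2
    obtain ⟨h1, h2⟩ := Groth.Agent.PnHodge.finrank_H_pos (n := r) (k := k) j (by omega) d (by omega) L hL
    rw [Groth.Agent.PnHodge.hzero, Nat.choose_eq_zero_of_lt (show d - 1 < j by omega), mul_zero] at h2
    haveI := h1
    exact Module.finrank_zero_iff.1 h2
  by_cases hneg : n < 0 ∧ i = r
  · obtain ⟨e, rfl⟩ : ∃ e : ℕ, n = -(e : ℤ) := ⟨(-n).toNat, by omega⟩
    obtain ⟨rfl⟩ := hneg.2
    obtain ⟨h1, h2⟩ := Groth.Agent.PnHodge.finrank_H_neg (n := r) (k := k) j (by omega) e (by omega) L hL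
    rw [Groth.Agent.PnHodge.hzero, Nat.choose_eq_zero_of_lt (show e - 1 < r - j by omega), mul_zero] at h2
    haveI := h1
    exact Module.finrank_zero_iff.1 h2
  exact Groth.Agent.PnHodge.vanish j n i (by omega) hpos hneg L hL

end Groth.Agent.S8734
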