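import Groth.Statements.S8737
import Groth.Agent.CliffSm.EvenSplit
import Groth.Agent.CliffSm.CenterDescent

set_option autoImplicit false
universe u v
open SGA7II

namespace Groth.Agent.S8737

/-- Let A be a commutative ring, V a free A-module of rank 2m with m >= 1, and Q a quadratic form on V
which is non-degenerate in the sense that its polar bilinear form induces a bijection V -> Hom_A(V,
A). Let Z be the centre of the even Clifford algebra C^+(Q), and regard C^+(Q) as a Z-algebra
through the inclusion of the centre. Then Z is an etale A-algebra which is finitely generated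
projective of rank 2 at every prime of A, and C^+(Q) is an Azumaya algebra over Z. (The published
statement allows V locally free of rank 2m; this row takes V free.) -/
theorem result (A : Type u) [CommRing A] (V : Type v) [AddCommGroup V] [Module A V]
    [Module.Free A V] [Module.Finite A V] (m : ℕ) (hm : 1 ≤ m) (hV : Module.finrank A V = 2 * m)
    (Q : QuadraticForm A V) (hQ : Function.Bijective (QuadraticMap.polarBilin Q)) :
    letI : Algebra ↥(Subalgebra.center A ↥(CliffordAlgebra.even Q)) ↥(CliffordAlgebra.even Q) :=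
      (Subalgebra.center A ↥(CliffordAlgebra.even Q)).val.toRingHom.toAlgebra'
        (fun c x => (Subalgebra.mem_center_iff.mp c.2 x).symm)
    Algebra.Etale A ↥(Subalgebra.center A ↥(CliffordAlgebra.even Q)) ∧
      Module.Finite A ↥(Subalgebra.center A ↥(CliffordAlgebra.even Q)) ∧
      Module.Projective A ↥(Subalgebra.center A ↥(CliffordAlgebra.even Q)) ∧
      (∀ p : PrimeSpectrum A, Module.rankAtStalk ↥(Subalgebra.center A ↥(CliffordAlgebra.even Q)) p = 2) ∧
      IsAzumaya ↥(Subalgebra.center A ↥(CliffordAlgebra.even Q)) ↥(CliffordAlgebra.even Q) := by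
  obtain ⟨n, rfl⟩ : ∃ n, m = n + 1 := ⟨m - 1, by omega⟩
  obtain ⟨b⟩ : Nonempty (Module.Basis (Fin (2 * (n + 1))) A V) := by
    rcases subsingleton_or_nontrivial A with hA | hA
    · haveI : Subsingleton V := Module.subsingleton A V
      exact ⟨⟨LinearEquiv.ofSubsingleton V (Fin (2 * (n + 1)) →₀ A)⟩⟩
    · exact ⟨Module.finBasisOfFinrankEq A V hV⟩
  let l : (Fin (2 * (n + 1)) → A) ≃ₗ[A] V := b.equivFun.symm
  let Q' : QuadraticForm A (Fin (2 * (n + 1)) → A) := Q.comp (l : (Fin (2 * (n + 1)) → A) →ₗ[A] V)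
  let iso : Q'.IsometryEquiv Q := ⟨l, fun _ => rfl⟩
  have hreg : QuadGrp.IsRegular Q' := by
    have h : ⇑(QuadraticMap.polarBilin Q') = (fun φ : V →ₗ[A] A => φ.comp (l : _ →ₗ[A] V)) ∘
        ⇑(QuadraticMap.polarBilin Q) ∘ l := by
      funext x
      refine LinearMap.ext fun y => ?_
      simp [Q', QuadraticMap.polar]
    show Function.Bijective _
    rw [h]
    refine Function.Bijective.comp ?_ (hQ.comp l.bijective)
    refine ⟨fun φ ψ hh => LinearMap.ext fun v => ?_, fun φ => ⟨φ.comp (l.symm : _ →ₗ[A] _), ?_⟩⟩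
    · simpa using LinearMap.congr_fun hh (l.symm v)
    · ext; simp
  obtain ⟨A', _, _, hff, -, -, P, P', h⟩ :=
    Groth.Agent.CliffSm.exists_hyp_cover (Pi.basisFun A (Fin (2 * (n + 1)))) hreg
  let c : Module.Basis (Fin (n + 1) ⊕ Fin (n + 1)) A' (TensorProduct A A' (Fin (2 * (n + 1)) → A)) :=
    ((Pi.basisFun A (Fin (2 * (n + 1)))).baseChange A').reindex
      ((finCongr (two_mul (n + 1))).trans finSumFinEquiv.symm)
  obtain ⟨e2⟩ := Groth.Agent.CliffSm.hyp_even h (h.span_eq c)
  let F := CliffordAlgebra.equivOfIsometry iso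
  have hF : ∀ x, x ∈ CliffordAlgebra.even Q' → F x ∈ CliffordAlgebra.even Q := fun x hx => by
    induction x, hx using CliffordAlgebra.even_induction with
    | algebraMap r => rw [AlgEquiv.commutes]; exact (CliffordAlgebra.even Q).algebraMap_mem r
    | add x y _ _ hx hy => rw [map_add]; exact add_mem hx hy
    | ι_mul_ι_mul x y z _ hz =>
      rw [map_mul, map_mul]
      simp only [F, CliffordAlgebra.equivOfIsometry_apply, CliffordAlgebra.map_apply_ι]
      exact mul_mem (CliffordAlgebra.ι_mul_ι_mem_evenOdd_zero Q _ _) hz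
  have hF' : ∀ x, x ∈ CliffordAlgebra.even Q → F.symm x ∈ CliffordAlgebra.even Q' := fun x hx => by
    induction x, hx using CliffordAlgebra.even_induction with
    | algebraMap r => rw [AlgEquiv.commutes]; exact (CliffordAlgebra.even Q').algebraMap_mem r
    | add x y _ _ hx hy => rw [map_add]; exact add_mem hx hy
    | ι_mul_ι_mul x y z _ hz =>
      rw [map_mul, map_mul]
      refine mul_mem ?_ hz
      simp only [F, CliffordAlgebra.equivOfIsometry_symm, CliffordAlgebra.equivOfIsometry_apply,
        CliffordAlgebra.map_apply_ι]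
      exact CliffordAlgebra.ι_mul_ι_mem_evenOdd_zero Q' _ _
  let E : ↥(CliffordAlgebra.even Q) ≃ₐ[A] ↥(CliffordAlgebra.even Q') :=
    AlgEquiv.ofAlgHom ((F.symm.toAlgHom.comp (CliffordAlgebra.even Q).val).codRestrict _ fun x => hF' x x.2)
      ((F.toAlgHom.comp (CliffordAlgebra.even Q').val).codRestrict _ fun x => hF x x.2)
      (AlgHom.ext fun x => Subtype.ext (F.symm_apply_apply x.1))
      (AlgHom.ext fun x => Subtype.ext (F.apply_symm_apply x.1))
  let Θ := (((Algebra.TensorProduct.congr (AlgEquiv.refl : A' ≃ₐ[A'] A') E).trans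
    (AlgEquiv.ofInjective (Groth.Agent.CliffSm.evenT Q' A') (Groth.Agent.CliffSm.evenT_injective Q' A'))).trans
      (Subalgebra.equivOfEq _ _ (Groth.Agent.CliffSm.evenT_range Q' A'))).trans e2
  haveI : Module.Finite A (CliffordAlgebra Q) :=
    Module.Finite.equiv (Groth.Agent.CliffSm.toExt Q).symm
  haveI : Module.Finite A ↥(CliffordAlgebra.even Q) :=
    Module.Finite.of_surjective ((Groth.Agent.CliffSm.part Q 0).codRestrict (CliffordAlgebra.even Q).toSubmodule
      fun x => Groth.Agent.CliffSm.part_mem Q 0 x)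
      fun x => ⟨x.1, Subtype.ext (Groth.Agent.CliffSm.part_of_mem Q x.2)⟩
  obtain ⟨h1, h2, h3, h4⟩ := Groth.Agent.CliffSm.center_properties A' Nat.one_le_two_pow Θ
  exact ⟨h1, h2, h3, h4, Groth.Agent.CliffSm.isAzumaya_center A' Nat.one_le_two_pow Θ⟩

end Groth.Agent.S8737
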