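import Groth.Statements.S8738
import Mathlib

set_option autoImplicit false
universe u
open SGA7II

namespace Groth.Agent.S8738

theorem exists_derivation_extend {A P Q : Type u} [CommRing A] [CommRing P] [CommRing Q] [Algebra A P] [Algebra P Q]
    [Algebra A Q] [IsScalarTower A P Q] [Algebra.FormallyEtale P Q] (L : Derivation A P P) :
    ∃ L' : Derivation A Q Q, ∀ z, L' (algebraMap P Q z) = algebraMap P Q (L z) := by
  let e := KaehlerDifferential.tensorKaehlerEquivOfFormallyEtale A P Q
  let l : Ω[P⁄A] →ₗ[P] Q := (Algebra.linearMap P Q).comp L.liftKaehlerDifferential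
  let m : Ω[Q⁄A] →ₗ[Q] Q := (LinearMap.liftBaseChange Q l).comp e.symm.toLinearMap
  refine ⟨m.compDer (KaehlerDifferential.D A Q), fun z => ?_⟩
  change LinearMap.liftBaseChange Q l (e.symm (KaehlerDifferential.D A Q (algebraMap P Q z))) = _
  rw [KaehlerDifferential.tensorKaehlerEquivOfFormallyEtale_symm_D_algebraMap, LinearMap.liftBaseChange_tmul, one_smul]
  exact congrArg (algebraMap P Q) (Derivation.liftKaehlerDifferential_comp_D L z)

section
variable {K : Type u} [CommRing K] (d : K → K) (y : K)

/-- iterated commutator of the `m`-th iterate of `d` with multiplication by `y` -/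
def S : ℕ → ℕ → K → K
  | 0, m, z => d^[m] z
  | n + 1, m, z => S n m (y * z) - y * S n m z

variable {d y} (hsub : ∀ a b, d (a - b) = d a - d b) (hmul : ∀ a b, d (a * b) = a * d b + b * d a)
include hsub hmul

lemma d_S : ∀ n m z, d (S d y n m z) = S d y n (m + 1) z - n * d y * S d y (n - 1) m z
  | 0, m, z => by simp [S, Function.iterate_succ_apply']
  | n + 1, m, z => by
    simp only [S, Nat.add_sub_cancel, hsub, hmul, d_S n]
    rcases n with _ | n
    · simp [S]; ring
    · simp only [S, Nat.add_sub_cancel]; push_cast; ring

lemma S_vanish : ∀ m, (∀ n, m < n → ∀ z, S d y n m z = 0) ∧ ∀ z, S d y m m z = m.factorial * d y ^ m * z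
  | 0 => by
    have h : ∀ n, 0 < n → ∀ z, S d y n 0 z = 0 := by
      intro n
      induction n with
      | zero => simp
      | succ n ih =>
        intro _ z
        rcases Nat.eq_zero_or_pos n with rfl | hn
        · simp [S]
        · simp [S, ih hn]
    exact ⟨h, fun z => by simp [S]⟩
  | m + 1 => by
    have hd0 : d 0 = 0 := by simpa using hsub 0 0
    obtain ⟨h1, h2⟩ := S_vanish m
    refine ⟨fun n hn z => ?_, fun z => ?_⟩
    · have h := d_S (y := y) hsub hmul n m z
      rw [h1 n (by omega), h1 (n - 1) (by omega), hd0, mul_zero, sub_zero] at h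
      exact h.symm
    · have h := d_S (y := y) hsub hmul (m + 1) m z
      rw [h1 _ (Nat.lt_succ_self m), Nat.add_sub_cancel, h2, hd0] at h
      rw [Nat.factorial_succ, pow_succ]
      push_cast at h ⊢
      linear_combination (norm := ring_nf) h.symm

omit hsub hmul in
lemma S_mem (R : Subring K) (hd : ∀ a ∈ R, d a ∈ R) (r : K) (hr : ∀ i, r * y ^ i ∈ R) :
    ∀ n m z, (∀ j, z * y ^ j ∈ R) → ∀ i, r * y ^ i * S d y n m z ∈ R
  | 0, m, z, hz, i => by
    refine mul_mem (hr i) ?_
    induction m with
    | zero => simpa [S] using hz 0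
    | succ m ih => simpa [S, Function.iterate_succ_apply'] using hd _ ih
  | n + 1, m, z, hz, i => by
    have h1 := S_mem R hd r hr n m (y * z) (fun j => by
      have := hz (j + 1); rw [pow_succ'] at this; convert this using 1; ring) i
    have h2 := S_mem R hd r hr n m z hz (i + 1)
    have : r * y ^ i * S d y (n + 1) m z =
        r * y ^ i * S d y n m (y * z) - r * y ^ (i + 1) * S d y n m z := by
      simp only [S]; ring
    rw [this]; exact sub_mem h1 h2

end

theorem key {k A K : Type u} [Field k] [CharZero k] [CommRing A] [IsNoetherianRing A] [Algebra k A]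
    [CommRing K] [Algebra A K] [IsFractionRing A K] [Algebra k K] [IsScalarTower k A K]
    (D : Derivation k A A) (D' : Derivation k K K) (hD : ∀ a, D' (algebraMap A K a) = algebraMap A K (D a))
    (y : K) (hy : IsIntegral A y) : IsIntegral A (D' y) := by
  obtain ⟨r, hr, hr'⟩ := hy.isAlmostIntegral
  have hrR : ∀ i, algebraMap A K r * y ^ i ∈ (algebraMap A K).range := fun i => by
    rw [← Algebra.smul_def]; exact hr' i
  refine IsAlmostIntegral.isIntegral_of_nonZeroDivisors_le_comap ⟨r * r, mul_mem hr hr, fun n => ?_⟩
    (fun a ha => (IsLocalization.map_units K (⟨a, ha⟩ : nonZeroDivisors A)).mem_nonZeroDivisors)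
  have hsub : ∀ a b, D' (a - b) = D' a - D' b := map_sub D'
  have hmul : ∀ a b, D' (a * b) = a * D' b + b * D' a := fun a b => by
    simpa using D'.leibniz a b
  have hmem := S_mem (d := D') (y := y) (algebraMap A K).range
    (by rintro _ ⟨a, rfl⟩; exact ⟨D a, (hD a).symm⟩) (algebraMap A K r) hrR n n (algebraMap A K r) hrR 0
  rw [(S_vanish hsub hmul n).2] at hmem
  obtain ⟨a, ha⟩ := hmem
  have hu : IsUnit ((n.factorial : k)) := IsUnit.mk0 _ (Nat.cast_ne_zero.2 n.factorial_ne_zero)
  obtain ⟨c, hc⟩ : ∃ c : A, (n.factorial : A) * c = 1 := by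
    obtain ⟨v, hv⟩ := hu.map (algebraMap k A)
    exact ⟨↑v⁻¹, by rw [← map_natCast (algebraMap k A), ← hv, Units.mul_inv]⟩
  refine ⟨c * a, ?_⟩
  have hc' : (n.factorial : K) * algebraMap A K c = 1 := by
    rw [← map_natCast (algebraMap A K), ← map_mul, hc, map_one]
  rw [map_mul, ha, Algebra.smul_def, map_mul]
  linear_combination (algebraMap A K r * algebraMap A K r * D' y ^ n) * hc'


/-- Let k be a field of characteristic zero and A a reduced Noetherian local k-algebra of Krull
dimension one, essentially of finite type over k (the local ring of a reduced curve over k at one of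
its points), and let A' be the integral closure of A in its total ring of fractions (the
normalization). Then every k-derivation D of A extends to a k-derivation D' of A', i.e. D' agrees
with D on the image of A. -/
theorem result (k : Type u) [Field k] [CharZero k] (A : Type u) [CommRing A]
    [Algebra k A] [IsReduced A] [IsNoetherianRing A] [IsLocalRing A] [Algebra.EssFiniteType k A]
    (hdim : ringKrullDim A = 1) (D : Derivation k A A) :
    ∃ D' : Derivation k ↥(integralClosure A (FractionRing A)) ↥(integralClosure A (FractionRing A)),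
      ∀ a : A, (D' (algebraMap A ↥(integralClosure A (FractionRing A)) a) : FractionRing A) =
        algebraMap A (FractionRing A) (D a) := by
  haveI : Algebra.FormallyEtale A (FractionRing A) :=
    Algebra.FormallyEtale.of_isLocalization (nonZeroDivisors A)
  obtain ⟨D', hD'⟩ := exists_derivation_extend (Q := FractionRing A) D
  refine ⟨Derivation.mk'
    { toFun := fun x => ⟨D' x, key D D' hD' x x.2⟩
      map_add' := fun x y => Subtype.ext (map_add D' (x : FractionRing A) y)
      map_smul' := fun c x => Subtype.ext (D'.map_smul c (x : FractionRing A)) }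
    fun x y => Subtype.ext (D'.leibniz (x : FractionRing A) y), fun a => hD' a⟩

end Groth.Agent.S8738
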