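import Groth.Statements.S8741
import Groth.Agent.AdeqLib.Cover

set_option autoImplicit false
set_option linter.style.haveILetI false
set_option backward.isDefEq.respectTransparency false
open CategoryTheory CategoryTheory.Limits
universe u
open CategoryTheory Limits
open Adeq

namespace Groth.Agent.S8741

/-- An adequate functor `F` on `A`-algebras admits a surjection `L → F` from a direct sum `L` of
linearly adequate functors: there are linearly adequate `L_i`, a coproduct cocone of the family
which is a colimit, and an epimorphism from its point onto `F`. -/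
theorem result (A : Type u) [CommRing A] (F : Adeq.MVF A) (hF : Adeq.adequate A F) :
    ∃ (ι : Type (u + 1)) (L : ι → Adeq.MVF A), (∀ i, Adeq.linAdequate A (L i)) ∧
      ∃ (c : Cofan L) (_ : IsColimit c) (π : c.pt ⟶ F), Epi π := by
  let T : Type (u + 1) := Σ B : Adeq.Alg A, F.obj (Adeq.pt B)
  choose c ψ w hw using fun t : T => AdeqLib.exists_hit hF t.1 t.2
  refine ⟨T, fun t => AdeqLib.stdL (c t), fun t => AdeqLib.linAdequate_stdL _,
    Cofan.mk (∐ fun t => AdeqLib.stdL (c t)) (Sigma.ι _), coproductIsCoproduct _, Sigma.desc ψ,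
    AdeqLib.epi_of_surjective _ fun B y =>
      ⟨AdeqLib.appL (Sigma.ι (fun t : T => AdeqLib.stdL (c t)) ⟨B, y⟩) B (w ⟨B, y⟩), ?_⟩⟩
  have h := congrArg (fun k => AdeqLib.appL k B (w ⟨B, y⟩)) (Sigma.ι_desc ψ (⟨B, y⟩ : T))
  exact h.trans (hw ⟨B, y⟩)

end Groth.Agent.S8741
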