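import Groth.Statements.S8744
import Groth.Agent.AdeqLib.Cover

set_option autoImplicit false
set_option linter.style.haveILetI false

universe u
open CategoryTheory Limits
open Adeq

namespace Groth.Agent.S8744

/-- The kernel of a morphism of adequate functors on `A`-algebras, computed in the category of all
module-valued functors, is adequate. -/
theorem result (A : Type u) [CommRing A] {F G : Adeq.MVF A} (φ : F ⟶ G)
    (hF : Adeq.adequate A F) (hG : Adeq.adequate A G) : Adeq.adequate A (kernel φ) := by
  exact AdeqLib.adequate_kernel φ hF hG

end Groth.Agent.S8744
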