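import Groth.Statements.S8746
import Groth.Agent.AdeqLib.Core
import Mathlib.RingTheory.Flat.Localization
import Mathlib.RingTheory.RingHom.Flat
import Mathlib.RingTheory.Localization.Away.Basic
import Mathlib.Algebra.Polynomial.Module.Basic
import Mathlib.RingTheory.Flat.Stability
import Mathlib.RingTheory.LocalProperties.Basic
import Mathlib.RingTheory.Localization.BaseChange

set_option autoImplicit false
set_option linter.style.haveILetI false
set_option backward.isDefEq.respectTransparency false
open CategoryTheory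
universe u
open CategoryTheory Limits
open Adeq

namespace Groth.Agent.S8746

open scoped TensorProduct in
lemma eq_zero {R : Type u} [CommRing R] {N : Type (u + 1)} [AddCommGroup N] [Module R N]
    (p : Polynomial R) (hp : p.Monic) (z : N) (h : (1 : Localization.Away p) ⊗ₜ[R] z = 0) : z = 0 := by
  have h' : ((IsScalarTower.toAlgHom R (Polynomial R) (Localization.Away p)).toLinearMap.rTensor N)
      ((1 : Polynomial R) ⊗ₜ[R] z) = 0 := by simpa using h
  haveI : IsLocalizedModule (Submonoid.powers p) (TensorProduct.AlgebraTensorModule.rTensor R N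
      (Algebra.linearMap (Polynomial R) (Localization.Away p))) :=
    inferInstance
  obtain ⟨⟨_, k, rfl⟩, hk⟩ := (IsLocalizedModule.eq_zero_iff (Submonoid.powers p)
    (TensorProduct.AlgebraTensorModule.rTensor R N
      (Algebra.linearMap (Polynomial R) (Localization.Away p)))).mp
    (show TensorProduct.AlgebraTensorModule.rTensor R N
      (Algebra.linearMap (Polynomial R) (Localization.Away p)) ((1 : Polynomial R) ⊗ₜ[R] z) = 0 by
        simpa using h)
  rw [Submonoid.smul_def, TensorProduct.smul_tmul', smul_eq_mul, mul_one] at hk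
  have h2 := congrArg (fun w => TensorProduct.lid R N
    ((Polynomial.lcoeff R (p ^ k).natDegree).rTensor N w)) hk
  simp only [LinearMap.rTensor_tmul, Polynomial.lcoeff_apply, (hp.pow k).coeff_natDegree, map_zero,
    TensorProduct.lid_tmul, one_smul] at h2
  exact h2


/-- Let `F`, `G` be module-valued functors on `A`-algebras and `φ` a transformation of the underlying
set-valued functors which is additive and satisfies `φ(uξ) = uφ(ξ)` for units `u`. If `B' ⊗_B G(B) →
G(B')` is an isomorphism for every flat `B → B'`, then `φ` is `B`-linear for every `B`, i.e. a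
morphism of module-valued functors. -/
theorem result (A : Type u) [CommRing A] (F G : Adeq.MVF A)
    (φ : ∀ B : Adeq.Alg A, F.obj (Adeq.pt B) → G.obj (Adeq.pt B))
    (hnat : ∀ ⦃B B' : Adeq.Alg A⦄ (f : B ⟶ B') (x : F.obj (Adeq.pt B)),
      φ B' (F.map (Adeq.ptHom f) x) = G.map (Adeq.ptHom f) (φ B x))
    (hadd : ∀ (B : Adeq.Alg A) (x y : F.obj (Adeq.pt B)), φ B (x + y) = φ B x + φ B y)
    (hunit : ∀ (B : Adeq.Alg A) (v : (B : Type u)ˣ) (x : F.obj (Adeq.pt B)), φ B ((v : B) • x) = (v : B) • φ B x)
    (hG : ∀ ⦃B B' : Adeq.Alg A⦄ (f : B ⟶ B'), f.hom.toRingHom.Flat → IsIso (G.bc f))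
    (B : Adeq.Alg A) (b : B) (x : F.obj (Adeq.pt B)) : φ B (b • x) = b • φ B x := by
  classical
  let p : Polynomial (B : Type u) := Polynomial.X * (Polynomial.X + Polynomial.C b)
  let S := Localization.Away p
  let B' : Adeq.Alg A := Adeq.algOf A S
  let f : B ⟶ B' := CommAlgCat.ofHom (IsScalarTower.toAlgHom A (B : Type u) S)
  have hf : f.hom.toRingHom.Flat := by
    change (algebraMap (B : Type u) S).Flat
    rw [RingHom.flat_algebraMap_iff]
    exact Module.Flat.trans (B : Type u) (Polynomial (B : Type u)) S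
  haveI := hG f hf
  have hp : p.Monic := Polynomial.monic_X.mul (Polynomial.monic_X_add_C b)
  -- `G B → G B'` is injective
  have hinj : ∀ z : G.obj (Adeq.pt B), AdeqLib.mp G f z = 0 → z = 0 := by
    intro z hz
    have h1 : ((1 : S) ⊗ₜ[(B : Type u)] z) = 0 := by
      have hi : Function.Injective (G.bc f).hom :=
        ((ConcreteCategory.isIso_iff_bijective (G.bc f)).mp inferInstance).1
      have h₁ : (G.bc f).hom ((1 : S) ⊗ₜ[(B : Type u)] z) = (1 : S) • AdeqLib.mp G f z := by
        rw [Adeq.MVF.bc]
        rfl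
      rw [hz, smul_zero] at h₁
      have h₂ := hi (h₁.trans (map_zero (G.bc f).hom).symm)
      let e : (ModuleCat.restrictScalars f.hom.toRingHom).obj (ModuleCat.of (B' : Type u) (B' : Type u)) →ₗ[(B : Type u)] S :=
        { toFun := fun q => q
          map_add' := fun _ _ => rfl
          map_smul' := fun r q => (Algebra.smul_def r (show S from q)).symm }
      exact (congrArg (e.rTensor (G.obj (Adeq.pt B))) h₂).trans (map_zero _)
    exact eq_zero p hp z h1
  have key : ∀ y : F.obj (Adeq.pt B'), φ B' (f.hom b • y) = f.hom b • φ B' y := by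
    intro y
    have hu : IsUnit (algebraMap (Polynomial (B : Type u)) S p) := IsLocalization.Away.algebraMap_isUnit p
    rw [map_mul] at hu
    obtain ⟨u₁, hu₁⟩ := isUnit_of_mul_isUnit_left hu
    obtain ⟨u₂, hu₂⟩ := isUnit_of_mul_isUnit_right hu
    have hb : f.hom b = (u₂ : S) - (u₁ : S) := by
      rw [hu₁, hu₂, map_add, add_sub_cancel_left]
      exact IsScalarTower.algebraMap_apply (B : Type u) (Polynomial (B : Type u)) S b
    have hneg : ∀ w : F.obj (Adeq.pt B'), φ B' (-w) = -φ B' w := fun w =>
      map_neg (AddMonoidHom.mk' (φ B') (hadd B')) w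
    rw [hb, sub_smul, sub_smul, sub_eq_add_neg, hadd, hneg, hunit B' u₂, hunit B' u₁, ← sub_eq_add_neg]
  refine sub_eq_zero.mp (hinj _ ?_)
  rw [map_sub, sub_eq_zero, AdeqLib.mp_smul]
  change G.map (Adeq.ptHom f) (φ B (b • x)) = f.hom b • G.map (Adeq.ptHom f) (φ B x)
  rw [← hnat f, ← hnat f, ← key]
  exact congrArg (φ B') (AdeqLib.mp_smul F f b x)

end Groth.Agent.S8746
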