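import Groth.Statements.S8747
import Groth.Agent.AdeqLib.Cover

set_option autoImplicit false
set_option linter.style.haveILetI false
set_option backward.isDefEq.respectTransparency false
universe u
open CategoryTheory Limits
open Adeq

namespace Groth.Agent.S8747

/-- A short exact sequence `0 → underline(M) → G → L → 0` of module-valued functors on `A`-algebras with
`L` linearly adequate splits, and `G` is adequate. -/
theorem result (A : Type u) [CommRing A]
    (S : ShortComplex (Adeq.MVF A)) (hS : S.ShortExact) (M : ModuleCat.{u + 1} A)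
    (e : S.X₁ ≅ (Adeq.underline A).obj M) (hL : Adeq.linAdequate A S.X₃) :
    Nonempty S.Splitting ∧ Adeq.adequate A S.X₂ := by
  have h1 : Adeq.adequate A S.X₁ :=
    AdeqLib.adequate_of_emb (N := M) 0 e.hom
      (fun B => AdeqLib.injective_of_mono e.hom B) fun B x => by
        simp only [ModuleCat.hom_zero, LinearMap.baseChange_zero, LinearMap.zero_apply, iff_true]
        exact ⟨AdeqLib.appL e.inv B x, congrArg (fun k => AdeqLib.appL k B x) e.inv_hom_id⟩
  obtain ⟨P, P', a, _, _, _, _, ⟨i⟩⟩ := hL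
  obtain ⟨n, ⟨bP⟩⟩ := AdeqLib.exists_finBasis P
  obtain ⟨k, ⟨bP'⟩⟩ := AdeqLib.exists_finBasis P'
  obtain ⟨s, hs⟩ := AdeqLib.exists_lift bP bP' a (AdeqLib.adExt_of_shortExact hS h1) i.inv
  have hsec : (i.hom ≫ s) ≫ S.g = 𝟙 S.X₃ := by rw [Category.assoc, hs, i.hom_inv_id]
  exact ⟨⟨ShortComplex.Splitting.ofExactOfSection S hS.exact (i.hom ≫ s) hsec hS.mono_f⟩,
    AdeqLib.adequate_ext hS h1 ⟨P, P', a, ⟨i⟩⟩⟩

end Groth.Agent.S8747
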