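import Groth.Statements.S8759
import Groth.Agent.AdeqLib.TExact
import Groth.Agent.AdeqLib.ModBasic

set_option autoImplicit false
set_option linter.style.haveILetI false

universe u
open CategoryTheory Limits AlgebraicGeometry
open Adeq

namespace Groth.Agent.S8759

/-- For an adequate `O`-module `M` on the big fppf site of `S` and an affine scheme `U` over `S`,
`H^q(U, M) = 0` for all `q > 0`. -/
theorem result (S : Scheme.{u}) (M : BigSite.Mod Scheme.fppfPrecoverage S)
    (hM : Adeq.adequateMod Scheme.fppfPrecoverage S M) (U : Over S) [IsAffine U.left] (q : ℕ) (hq : 0 < q) :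
    Subsingleton (BigSite.HU Scheme.fppfPrecoverage ((BigSite.toAbMod Scheme.fppfPrecoverage S).obj M) q U) := by
  obtain ⟨p, rfl⟩ : ∃ p, q = p + 1 := ⟨q - 1, by omega⟩
  exact Groth.Agent.AdeqLib.subsingleton_H_of_texact
    (Groth.Agent.AdeqLib.texact_adequate _ (Groth.Agent.AdeqLib.adequateMod_pullMod U.hom M hM)) p

end Groth.Agent.S8759
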