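import Groth.Statements.S8794
import Groth.Agent.HTLib.CompKill

set_option autoImplicit false
universe u
open CategoryTheory
attribute [local instance] HasDerivedCategory.standard
open LocCoh

namespace Groth.Agent.S8794

/-- Let (A, m) be a Noetherian local ring with a dualizing complex, I an ideal and d a natural with
cd(A, I) ≤ d, M a finite A-module, p a prime of A and s a natural with depth(M_p) + dim(A/p) > d +
s. Assume the total right derived functor RΓ_m and derived I-adic completion exist on D(A). Then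
there is f ∈ A with f ∉ p annihilating the cohomology modules H^i of the derived I-adic completion
of RΓ_m(M) for all i ≤ s. -/
theorem result (A : Type u) [CommRing A] [IsNoetherianRing A] [IsLocalRing A] (hdc : ∃ ω : Dual.D A, Dual.IsDualizing A ω) (I : Ideal A) [DRing.HasRgammaI (IsLocalRing.maximalIdeal A)] [DRing.HasDerivedCompletion I] (M : Type u) [AddCommGroup M] [Module A M] [Module.Finite A M] (p : PrimeSpectrum A) (s d : ℕ) (h2 : LocCoh.CdLE A I d) (h3 : (((d + s : ℕ) : ℕ∞) : WithBot ℕ∞) < ((LocCoh.depth (Localization.AtPrime p.asIdeal) (LocalizedModule p.asIdeal.primeCompl M) : ℕ∞) : WithBot ℕ∞) + ringKrullDim (A ⧸ p.asIdeal)) : ∃ f : A, f ∉ p.asIdeal ∧ ∀ i : ℤ, i ≤ s → ∀ x : Dual.HD A ((DRing.derivedCompletion I).obj ((DRing.RgammaI (IsLocalRing.maximalIdeal A)).obj (Dual.inD A M))).obj i, f • x = 0 := by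
  obtain ⟨ω, hω⟩ := hdc
  let c := IsLocalRing.closedPoint A
  have hpc : p ≤ c := IsLocalRing.le_maximalIdeal p.isPrime.ne_top
  have hdim : ringKrullDim (A ⧸ p.asIdeal) = Order.krullDim (Set.Icc p c) :=
    (ringKrullDim_quotient _).trans (Order.krullDim_eq_of_orderIso
      { toFun := fun w => ⟨w.1, w.2, IsLocalRing.le_maximalIdeal w.1.isPrime.ne_top⟩
        invFun := fun r => ⟨r.1, r.2.1⟩
        left_inv := fun _ => rfl
        right_inv := fun _ => rfl
        map_rel_iff' := Iff.rfl })
  rw [hdim] at h3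
  obtain ⟨f, hf, hk⟩ := HTLib.CompKill.exists_killer_prime M hω (IsLocalRing.maximalIdeal A ⊔ I) p (d + s)
    fun p' q hp hpq hq i hi => by
      obtain rfl : q = c := PrimeSpectrum.ext ((IsLocalRing.maximalIdeal.isMaximal A).eq_of_le q.isPrime.ne_top
        (le_sup_left.trans hq)).symm
      intro x
      obtain ⟨t, ht, htx⟩ := (HTLib.cond_iff hω M hpc (d + s)).1 h3 i hi x
      exact ⟨t, fun h => ht (hp h), htx⟩
  haveI := RGammaI.hasRgammaI I
  exact ⟨f ^ (d + s + 1), fun hmem => hf (p.isPrime.mem_of_pow_mem _ hmem), fun i hi x =>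
    HTLib.CompKill.pow_smul_completion_eq_zero M I (IsLocalRing.maximalIdeal A) h2 s f hk i hi x⟩

end Groth.Agent.S8794
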