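import Groth.Statements.S8801
import Groth.Agent.RigPts.ComplEquiv
import Groth.Agent.Hensel.PairNoeth
import Groth.Agent.Hensel.PairNbhd

set_option autoImplicit false
set_option linter.style.haveILetI false
set_option backward.isDefEq.respectTransparency false
open Groth.Agent
universe u
open AdicRing

namespace Groth.Agent.S8801

/-- Let A be a Noetherian ring and I an ideal. Let C be an A-algebra of finite type and Cʰ a
henselization of the pair (C, IC), viewed as an A-algebra through C, and let J be an ideal of Cʰ.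
Then there is an A-algebra B of finite type whose IB-adic completion is isomorphic as an A-algebra
to the I(Cʰ/J)-adic completion of Cʰ/J (existence of an isomorphism only; the published statement
names no particular map). -/
theorem result (A : Type u) [CommRing A] [IsNoetherianRing A] (I : Ideal A) (C : Type u) [CommRing C] [Algebra A C] [Algebra.FiniteType A C] (Ch : Type u) [CommRing Ch] [Algebra C Ch] [Algebra A Ch] [IsScalarTower A C Ch] (hCh : Hens2.IsPairHenselization C (I.map (algebraMap A C)) Ch) (J : Ideal Ch) : ∃ (B : Type u) (_ : CommRing B) (_ : Algebra A B), Algebra.FiniteType A B ∧ Nonempty (AdicCompletion (I.map (algebraMap A B)) B ≃ₐ[A] AdicCompletion (I.map (algebraMap A (Ch ⧸ J))) (Ch ⧸ J)) := by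
  classical
  haveI : IsNoetherianRing C := Algebra.FiniteType.isNoetherianRing A C
  let IC := I.map (algebraMap A C)
  haveI : IsNoetherianRing Ch := Hensel.isNoetherianRing_pairHenselization hCh
  obtain ⟨s, hs⟩ := IsNoetherian.noetherian J
  obtain ⟨C', _, _, _, hbij, φ, hφ⟩ := Hensel.exists_nhd_finite hCh s
  letI : Algebra A C' := ((algebraMap C C').comp (algebraMap A C)).toAlgebra
  haveI : IsScalarTower A C C' := IsScalarTower.of_algebraMap_eq' rfl
  haveI : Algebra.FiniteType A C' := Algebra.FiniteType.trans (R := A) (S := C) inferInstance inferInstance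
  have hb := Hensel.powBij_nhd hCh hbij φ
  have hh := Hensel.powBij_henselization hCh
  have e' : IC.map (algebraMap C C') = I.map (algebraMap A C') := by
    rw [Ideal.map_map, ← IsScalarTower.algebraMap_eq]
  have eh : IC.map (algebraMap C Ch) = I.map (algebraMap A Ch) := by
    rw [Ideal.map_map, ← IsScalarTower.algebraMap_eq]
  let φA : C' →ₐ[A] Ch := φ.restrictScalars A
  let J' := J.comap φA
  have hJ' : J'.map φA = J := le_antisymm Ideal.map_comap_le (by
    rw [← hs]
    refine Submodule.span_le.2 fun x hx => ?_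
    obtain ⟨y, hy⟩ := hφ hx
    have hyJ : y ∈ J' := by
      rw [Ideal.mem_comap]
      exact hs ▸ hy ▸ Submodule.subset_span hx
    exact hy ▸ Ideal.mem_map_of_mem φA hyJ)
  let f : C' ⧸ J' →ₐ[A] Ch ⧸ J := Ideal.quotientMapₐ J φA le_rfl
  have hmap : ∀ {S : Type u} [CommRing S] [Algebra A S] (L : Ideal S) (n : ℕ),
      (I.map (algebraMap A (S ⧸ L))) ^ n = ((I.map (algebraMap A S)) ^ n).map (Ideal.Quotient.mk L) := by
    intro S _ _ L n
    rw [Ideal.map_pow, Ideal.map_map, ← Ideal.Quotient.algebraMap_eq, ← IsScalarTower.algebraMap_eq]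
  refine ⟨C' ⧸ J', inferInstance, inferInstance,
    Algebra.FiniteType.of_surjective (A := C') (Ideal.Quotient.mkₐ A J') Ideal.Quotient.mk_surjective,
    RigPts.adicCompletion_algEquiv f _ _ (fun n => ?_) (fun n b hb' => ?_) (fun n d => ?_)⟩
  · rw [← Ideal.map_le_iff_le_comap, Ideal.map_pow, Ideal.map_map]
    exact le_of_eq (congrArg (· ^ n) (congrArg I.map f.comp_algebraMap))
  · obtain ⟨y, rfl⟩ := Ideal.Quotient.mk_surjective b
    change Ideal.Quotient.mk J (φA y) ∈ _ at hb'
    rw [hmap, Ideal.mem_map_iff_of_surjective _ Ideal.Quotient.mk_surjective] at hb'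
    obtain ⟨t, ht, hty⟩ := hb'
    let π := Ideal.Quotient.mk ((I.map (algebraMap A Ch)) ^ n)
    have hsπ : Function.Surjective (π.comp φA.toRingHom) := fun z => by
      obtain ⟨x, rfl⟩ := Ideal.Quotient.mk_surjective z
      obtain ⟨c, hc⟩ := hh.exists_sub n x
      refine ⟨algebraMap C C' c, (Ideal.Quotient.eq.2 ?_).symm⟩
      rw [← eh]
      exact (φ.commutes c).symm ▸ hc
    have h1 : π (φA y - t) ∈ J'.map (π.comp φA.toRingHom) := by
      rw [← Ideal.map_map]
      refine Ideal.mem_map_of_mem π ?_
      exact hJ'.symm ▸ Ideal.Quotient.eq.1 hty.symm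
    obtain ⟨j, hj, hjy⟩ := (Ideal.mem_map_iff_of_surjective _ hsπ).1 h1
    have h2 : φA (y - j) ∈ (I.map (algebraMap A Ch)) ^ n := by
      have h3 := Ideal.Quotient.eq.1 hjy
      have h4 := sub_mem ht h3
      rw [map_sub]
      convert h4 using 1
      simp only [AlgHom.toRingHom_eq_coe, RingHom.coe_coe]
      ring
    obtain ⟨c, hc⟩ := hb.exists_sub n (y - j)
    have h5 : algebraMap C Ch c ∈ IC.map (algebraMap C Ch) ^ n := by
      have h6 : φ (y - j - algebraMap C C' c) ∈ (IC.map (algebraMap C Ch)) ^ n := by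
        have h7 := Ideal.mem_map_of_mem φ.toRingHom hc
        rw [Ideal.map_pow, Ideal.map_map] at h7
        exact (congrArg (fun r => φ (y - j - algebraMap C C' c) ∈ (IC.map r) ^ n) φ.comp_algebraMap).mp h7
      rw [map_sub, φ.commutes] at h6
      rw [eh] at h6 ⊢
      exact (Submodule.sub_mem_iff_right _ h2).1 h6
    have h8 : algebraMap C C' c ∈ (IC.map (algebraMap C C')) ^ n := by
      rw [← Ideal.map_pow]
      exact Ideal.mem_map_of_mem _ (hh.mem n c h5)
    have h9 : y - j ∈ (I.map (algebraMap A C')) ^ n := by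
      rw [← e']
      exact (Submodule.sub_mem_iff_left _ h8).1 hc
    rw [hmap, Ideal.mem_map_iff_of_surjective _ Ideal.Quotient.mk_surjective]
    exact ⟨y - j, h9, by rw [map_sub, Ideal.Quotient.eq_zero_iff_mem.2 hj, sub_zero]⟩
  · obtain ⟨x, rfl⟩ := Ideal.Quotient.mk_surjective d
    obtain ⟨c, hc⟩ := hh.exists_sub n x
    refine ⟨Ideal.Quotient.mk J' (algebraMap C C' c), ?_⟩
    have hfc : f (Ideal.Quotient.mk J' (algebraMap C C' c)) = Ideal.Quotient.mk J (algebraMap C Ch c) :=
      congrArg (Ideal.Quotient.mk J) (φ.commutes c)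
    rw [hfc, hmap, ← map_sub]
    refine Ideal.mem_map_of_mem _ ?_
    rw [← eh, ← neg_sub]
    exact neg_mem hc

end Groth.Agent.S8801
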