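import Groth.Statements.S8802
import Groth.Agent.AlgzGr.Regular

set_option autoImplicit false
universe u
open CategoryTheory AlgebraicGeometry Opposite
open Algz
set_option backward.isDefEq.respectTransparency false
set_option backward.isDefEq.respectTransparency.types false

namespace Groth.Agent.S8802

/-- Let A be a Noetherian ring, I ⊆ 𝔞 ideals, U the complement of V(𝔞) in Spec A, and (F_n) an object of
Coh(U, IO_U), indexed here from 0. Assume: (1) there are f_1, …, f_d ∈ I such that for every point y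
of U lying in V(I) the ideal IO_{U,y} is generated by the images of f_1, …, f_d and f_1, …, f_d form
a regular sequence on the completed stalk F^∧_y over the completed local ring; (2) writing F_0 for
the first term of the system, both cohomology groups H^1(U, F_0) and H^0(U, F_0) are finitely
generated over A. Under these hypotheses the system (F_n) admits a canonical extension to all of
Spec A. -/
theorem result (A : Type u) [CommRing A] [IsNoetherianRing A] (I 𝔞 : Ideal A) (hI𝔞 : I ≤ 𝔞) (G : ℕᵒᵖ ⥤ (↑(LocCoh.puncturedOpen A 𝔞) : Scheme.{u}).Modules) (hG : Formal.IsCohFormal I G) (d : ℕ) (f : Fin d → A) (hfI : ∀ j, f j ∈ I) (h1 : ∀ (y : (↑(LocCoh.puncturedOpen A 𝔞) : Scheme.{u})), (LocCoh.puncturedOpen A 𝔞).ι.base y ∈ PrimeSpectrum.zeroLocus (R := A) I → Algz.stalkIdeal I y = Ideal.span (Set.range (fun j => Algz.toStalk A (↑(LocCoh.puncturedOpen A 𝔞) : Scheme.{u}) y (f j))) ∧ RingTheory.Sequence.IsRegular ↥(Algz.hatStalk I G y) (List.ofFn (fun j => algebraMap ((↑(LocCoh.puncturedOpen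 A 𝔞) : Scheme.{u}).presheaf.stalk y) (Algz.hatRing I y) (Algz.toStalk A (↑(LocCoh.puncturedOpen A 𝔞) : Scheme.{u}) y (f j))))) (h2 : Module.Finite A (Coh.HH (↑(LocCoh.puncturedOpen A 𝔞) : Scheme.{u}) (G.obj (op 0)) 0) ∧ Module.Finite A (Coh.HH (↑(LocCoh.puncturedOpen A 𝔞) : Scheme.{u}) (G.obj (op 0)) 1)) : Algz.CanonicallyExtends A I (LocCoh.puncturedOpen A 𝔞) G := by
  have hy : ∀ y : (↑(LocCoh.puncturedOpen A 𝔞) : Scheme.{u}), Algz.stalkIdeal I y ≠ ⊤ →
      (LocCoh.puncturedOpen A 𝔞).ι.base y ∈ PrimeSpectrum.zeroLocus (R := A) I :=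
    fun y hy => Groth.Agent.AlgzGr.mem_zeroLocus_of_ne_top hy
  have hl : ∀ t, ∀ a ∈ Groth.Agent.AlgzGr.monList f (t + 1), a ∈ I ^ (t + 1) := fun t a ha => by
    refine Ideal.pow_right_mono (Ideal.span_le.2 ?_) (t + 1)
      ((Groth.Agent.AlgzGr.span_monList f (t + 1)).le (Ideal.subset_span ha))
    rintro _ ⟨j, rfl⟩
    exact hfI j
  have hgen := Groth.Agent.AlgzGr.generates hG (fun t => Groth.Agent.AlgzGr.monList f (t + 1)) hl
    (fun t y hne => by
      rw [Groth.Agent.AlgzGr.map_monList, Groth.Agent.AlgzGr.span_monList, (h1 y (hy y hne)).1])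
    (fun t y hne => by
      rw [Groth.Agent.AlgzGr.map_monList, (h1 y (hy y hne)).1]
      refine Groth.Agent.AlgzGr.indep_monList _ (Groth.Agent.AlgzGr.isWeaklyRegular_stL hG y _ ?_) (t + 1)
      rw [List.map_ofFn]
      exact (h1 y (hy y hne)).2.toIsWeaklyRegular)
  exact Groth.Agent.AlgzGr.canonicallyExtends hG h2.1 h2.2 (hgen 0) (hgen 1)

end Groth.Agent.S8802
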