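import Groth.Statements.S8805
import Groth.Agent.RigPts.LiftMain

set_option autoImplicit false
set_option linter.style.haveILetI false
set_option backward.isDefEq.respectTransparency false
open Groth.Agent
universe u
open AdicRing

namespace Groth.Agent.S8805

/-- Let A be a Noetherian ring, I ⊆ A an ideal and J ⊆ A a nilpotent ideal. Let C be a finite type
A-algebra whose structure morphism Spec C → Spec A becomes etale once restricted to the complement
of V(I), meaning that C_a is etale over A for each a ∈ I. Let B₀ be an (A/J)-algebra of finite type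
such that Spec B₀ → Spec(A/J) is etale over the complement of V(I), together with an etale algebra
map B₀ → C/JC over A inducing a bijection B₀/IB₀ → (C/JC)/I(C/JC). Then there exist an A-algebra B
of finite type, an etale algebra structure B → C over A and a surjection B → B₀ over A with kernel
JB, such that the composite B → B₀ → C/JC agrees with B → C → C/JC and Spec B → Spec A is etale over
the complement of V(I). -/
theorem result (A : Type u) [CommRing A] [IsNoetherianRing A] (I J : Ideal A) (hJ : IsNilpotent J) (C : Type u) [CommRing C] [Algebra A C] [Algebra.FiniteType A C] (hC : ∀ a ∈ I, Algebra.Etale A (Localization.Away (algebraMap A C a))) (B₀ : Type u) [CommRing B₀] [Algebra A B₀] [Algebra (A ⧸ J) B₀] [IsScalarTower A (A ⧸ J) B₀] [Algebra.FiniteType (A ⧸ J) B₀] (hB₀ : ∀ a ∈ I, Algebra.Etale (A ⧸ J) (Localization.Away (algebraMap A B₀ a))) [Algebra B₀ (C ⧸ J.map (algebraMap A C))] [IsScalarTower A B₀ (C ⧸ J.map (algebraMap A C))] [Algebra.Etale B₀ (C ⧸ J.map (algebraMap A C))]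 (h3 : (∀ c : (C ⧸ J.map (algebraMap A C)), ∃ b : B₀, algebraMap B₀ (C ⧸ J.map (algebraMap A C)) b - c ∈ I.map (algebraMap A (C ⧸ J.map (algebraMap A C)))) ∧ ∀ b : B₀, algebraMap B₀ (C ⧸ J.map (algebraMap A C)) b ∈ I.map (algebraMap A (C ⧸ J.map (algebraMap A C))) → b ∈ I.map (algebraMap A B₀)) : ∃ (B : Type u) (_ : CommRing B) (_ : Algebra A B) (_ : Algebra B C) (_ : IsScalarTower A B C) (_ : Algebra B B₀) (_ : IsScalarTower A B B₀), Algebra.FiniteType A B ∧ Algebra.Etale B C ∧ (∀ a ∈ I, Algebra.Etale A (Localization.Away (algebraMap A B a))) ∧ Function.Surjective (algebraMap B B₀) ∧ RingHom.ker (algebraMap B B₀) = J.map (algebraMap A B) ∧ ∀ b : B, algebraMap B₀ (C ⧸ J.map (algebraMap A C)) (algebraMap B B₀ b) = Ideal.Quotient.mk (J.map (algebraMap A C)) (algebraMap B C b) := by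
  classical
  let φ₀ : B₀ →ₐ[A] C ⧸ J.map (algebraMap A C) := IsScalarTower.toAlgHom A B₀ _
  haveI : Algebra.FiniteType A B₀ := Algebra.FiniteType.trans (R := A) (S := A ⧸ J) inferInstance inferInstance
  have hB₀J : J.map (algebraMap A B₀) = ⊥ := by
    rw [IsScalarTower.algebraMap_eq A (A ⧸ J) B₀, ← Ideal.map_map, Ideal.Quotient.algebraMap_eq,
      Ideal.map_quotient_self, Ideal.map_bot]
  obtain ⟨m, hm⟩ := hJ
  have hnil : ∀ x ∈ J, IsNilpotent x := fun x hx => ⟨m, by
    have := Ideal.pow_mem_pow hx m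
    rwa [hm, Ideal.zero_eq_bot, Ideal.mem_bot] at this⟩
  have hbase : RigPts.LiftProp I J C B₀ φ₀ J := by
    refine ⟨B₀, inferInstance, inferInstance, inferInstance, hB₀J, fun a ha => ?_, AlgHom.id A B₀, φ₀,
      Function.surjective_id, ?_, RingHom.etale_algebraMap.2 inferInstance, fun b c h => h, h3.1, fun p hp hIp => ?_⟩
    · haveI := hB₀ a ha
      obtain ⟨T, _, _, hT, ⟨e⟩⟩ := MultT.exists_etale_lift hnil (Localization.Away (algebraMap A B₀ a))
      refine ⟨T, inferInstance, inferInstance, hT, (e.toAlgHom.restrictScalars A).comp (Ideal.Quotient.mkₐ A _),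
        e.surjective.comp Ideal.Quotient.mk_surjective, Ideal.ext fun x => ?_⟩
      show e (Ideal.Quotient.mk _ x) = 0 ↔ _
      rw [map_eq_zero_iff _ e.injective, Ideal.Quotient.eq_zero_iff_mem]
    · refine le_antisymm (fun b hb => ?_) (le_of_eq_of_le hB₀J bot_le)
      rw [show b = 0 from hb]
      exact zero_mem _
    · haveI := hp
      let g := Ideal.quotientMap (I.map (algebraMap A (C ⧸ J.map (algebraMap A C)))) φ₀.toRingHom
        (I := I.map (algebraMap A B₀)) (Ideal.map_le_iff_le_comap.2 fun x hx => by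
          rw [Ideal.mem_comap, Ideal.mem_comap]
          show φ₀ (algebraMap A B₀ x) ∈ _
          rw [φ₀.commutes]
          exact Ideal.mem_map_of_mem _ hx)
      have hg : Function.Bijective g := by
        refine ⟨(injective_iff_map_eq_zero _).2 fun z hz => ?_, fun z => ?_⟩
        · obtain ⟨b, rfl⟩ := Ideal.Quotient.mk_surjective z
          exact Ideal.Quotient.eq_zero_iff_mem.2 (h3.2 b (Ideal.Quotient.eq_zero_iff_mem.1 hz))
        · obtain ⟨c, rfl⟩ := Ideal.Quotient.mk_surjective z
          obtain ⟨b, hb⟩ := h3.1 c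
          exact ⟨Ideal.Quotient.mk _ b, Ideal.Quotient.eq.2 hb⟩
      haveI : (p.map (Ideal.Quotient.mk (I.map (algebraMap A B₀)))).IsPrime :=
        Ideal.map_isPrime_of_surjective Ideal.Quotient.mk_surjective (by rwa [Ideal.mk_ker])
      refine ⟨((p.map (Ideal.Quotient.mk (I.map (algebraMap A B₀)))).comap (RingEquiv.ofBijective g hg).symm.toRingHom).comap
        (Ideal.Quotient.mk _), inferInstance, Ideal.ext fun b => ?_⟩
      rw [Ideal.mem_comap, Ideal.mem_comap, Ideal.mem_comap]
      show (RingEquiv.ofBijective g hg).symm (g (Ideal.Quotient.mk _ b)) ∈ _ ↔ _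
      rw [show g (Ideal.Quotient.mk _ b) = RingEquiv.ofBijective g hg (Ideal.Quotient.mk _ b) from rfl,
        RingEquiv.symm_apply_apply, ← Ideal.mem_comap,
        Ideal.comap_map_of_surjective _ Ideal.Quotient.mk_surjective, ← RingHom.ker_eq_comap_bot, Ideal.mk_ker,
        sup_eq_left.2 hIp]
  have hall : ∀ k, RigPts.LiftProp I J C B₀ φ₀ (J ^ (k + 1)) := by
    intro k
    induction k with
    | zero => rw [zero_add, pow_one]; exact hbase
    | succ k ih =>
      exact RigPts.liftProp_step I J C hC B₀ φ₀ _ _ (Ideal.pow_le_self (Nat.succ_ne_zero k))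
        (Ideal.pow_le_pow_right (Nat.le_succ _)) (by rw [← pow_add]; exact Ideal.pow_le_pow_right (by omega)) ih
  obtain ⟨B, _, _, hft, hK, hEt, ρ, ψ, hρ, hkρ, hψ, hcomp, -, -⟩ := hall m
  have hJm : J ^ (m + 1) = ⊥ := by rw [pow_succ, hm, zero_mul, Ideal.zero_eq_bot]
  have hbot : (J ^ (m + 1)).map (algebraMap A C) = ⊥ := by rw [hJm, Ideal.map_bot]
  have hbij : Function.Bijective (Ideal.Quotient.mkₐ A ((J ^ (m + 1)).map (algebraMap A C))) :=
    ⟨(injective_iff_map_eq_zero _).2 fun c hc => by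
      rw [← Ideal.mem_bot, ← hbot]
      exact Ideal.Quotient.eq_zero_iff_mem.1 hc, Ideal.Quotient.mk_surjective⟩
  let eC := AlgEquiv.ofBijective _ hbij
  let ψ' : B →ₐ[A] C := eC.symm.toAlgHom.comp ψ
  have hψ' : ∀ b, ψ b = Ideal.Quotient.mk _ (ψ' b) := fun b => (eC.apply_symm_apply (ψ b)).symm
  letI : Algebra B C := ψ'.toRingHom.toAlgebra
  letI : Algebra B B₀ := ρ.toRingHom.toAlgebra
  refine ⟨B, inferInstance, inferInstance, ψ'.toRingHom.toAlgebra, IsScalarTower.of_algebraMap_eq fun x => (ψ'.commutes x).symm,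
    ρ.toRingHom.toAlgebra, IsScalarTower.of_algebraMap_eq fun x => (ρ.commutes x).symm, hft, ?_, fun a ha => ?_,
    hρ, hkρ, fun b => ?_⟩
  · exact RingHom.etale_algebraMap.1 ((RingHom.Etale.respectsIso.1 ψ.toRingHom eC.symm.toRingEquiv) hψ)
  · obtain ⟨L, _, _, hL, q, hqs, hqk⟩ := hEt a ha
    haveI := hL
    refine Algebra.Etale.of_equiv (AlgEquiv.ofBijective q ⟨(RingHom.injective_iff_ker_eq_bot q).2 ?_, hqs⟩)
    rw [hqk, hJm, Ideal.map_bot]
  · exact hcomp b (ψ' b) (hψ' b)

end Groth.Agent.S8805
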