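import Groth.Statements.S8815
import Groth.Agent.DeltaZ.Scheme

set_option autoImplicit false
universe u
open CategoryTheory AlgebraicGeometry
open Algz

namespace Groth.Agent.S8815

/-- Let A be a catenary Noetherian local ring, Y = Spec A and Z the closed point. Then δ_Z(y) equals the
dimension of the closure of y, i.e. dim(A/p_y), for every point y. -/
theorem result (A : Type u) [CommRing A] [IsNoetherianRing A] [IsLocalRing A] (hA : CAlg.IsCatenary A) (y : Spec (CommRingCat.of A)) : ((Algz.deltaZ ({IsLocalRing.closedPoint A} : Set (Spec (CommRingCat.of A))) y : ℕ∞) : WithBot ℕ∞) = ringKrullDim (A ⧸ y.asIdeal) := by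
  exact (congrArg (fun d : ℕ∞ => (d : WithBot ℕ∞)) (Groth.Agent.DeltaZ.deltaZ_closedPoint hA y)).trans
    (Groth.Agent.DeltaZ.ringKrullDim_quotient_eq_coheight y).symm

end Groth.Agent.S8815
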