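import Groth.Statements.S8825
import Groth.Agent.RigPts.RegPower

set_option autoImplicit false
set_option linter.style.haveILetI false
set_option backward.isDefEq.respectTransparency false
open Groth.Agent
universe u
open AdicRing

namespace Groth.Agent.S8825

/-- Let A be a Noetherian ring which is complete for the adic topology of an ideal I, let p be a
rig-closed prime of A (I ⊄ p and p is maximal among the primes not containing I), and let n ≥ 1.
Then the ring map from A/p to the restricted power series ring (A/p){x_1, …, x_n}, i.e. the I-adic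
completion of the polynomial ring (A/p)[x_1, …, x_n], is a regular ring map (flat, with Noetherian
and geometrically regular fibres). (The consequence for the fibre over the fraction field is not
stated.) -/
theorem result (A : Type u) [CommRing A] [IsNoetherianRing A] (I : Ideal A) [IsAdicComplete I A] (p : PrimeSpectrum A) (hp : ¬ I ≤ p.asIdeal ∧ ∀ q : PrimeSpectrum A, p ≤ q → ¬ I ≤ q.asIdeal → q = p) (n : ℕ) (hn : 1 ≤ n) : CAlg.IsRegularHom (A ⧸ p.asIdeal) (AdicCompletion (I.map (algebraMap A (MvPolynomial (Fin n) (A ⧸ p.asIdeal)))) (MvPolynomial (Fin n) (A ⧸ p.asIdeal))) := by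
  haveI := RigPts.quotient_setup I p.asIdeal
  haveI := p.isPrime
  have h := RigPts.isRegularHom_comp_mvPolynomial (I.map (Ideal.Quotient.mk p.asIdeal)) (RigPts.map_ne_bot hp.1)
    (RigPts.dim_eq_one_of_rigClosed I hp).le n
  have e : I.map (algebraMap A (MvPolynomial (Fin n) (A ⧸ p.asIdeal))) =
      (I.map (Ideal.Quotient.mk p.asIdeal)).map (algebraMap (A ⧸ p.asIdeal) (MvPolynomial (Fin n) (A ⧸ p.asIdeal))) := by
    rw [Ideal.map_map]
    rfl
  exact (congrArg (fun K : Ideal (MvPolynomial (Fin n) (A ⧸ p.asIdeal)) =>
    CAlg.IsRegularHom (A ⧸ p.asIdeal) (AdicCompletion K (MvPolynomial (Fin n) (A ⧸ p.asIdeal)))) e).mpr h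

end Groth.Agent.S8825
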