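import Groth.Statements.S8826
import Groth.Agent.RigPts.FormalSol
import Groth.Agent.RigPts.Unram
import Groth.Agent.RigPts.CompPoly
import Groth.Agent.RigPts.ComplEquiv
import Groth.Agent.Hensel.PairNoeth

set_option autoImplicit false
set_option linter.style.haveILetI false
set_option backward.isDefEq.respectTransparency false
open Groth.Agent
universe u
open AdicRing

namespace Groth.Agent.S8826

/-- Let A be a Noetherian ring and I an ideal. Let B be an A-algebra of finite type such that Spec B →
Spec A is etale over the complement of V(I) (B_a etale over A for every a ∈ I), let C be a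
Noetherian A-algebra with a henselization Cʰ of the pair (C, IC), and let φ be an A-algebra map from
the IB-adic completion of B to the IC-adic completion of C. Then there is exactly one A-algebra map
ψ : B → Cʰ which induces φ on completions, in the sense that for every n and every b ∈ B there is c
∈ C with ψ(b) − c ∈ I^n Cʰ and with the n-th truncation of φ(b) in C/I^n C equal to the class of c
(recall C/I^n C = Cʰ/I^n Cʰ). (The second assertion, that such maps factor through an etale
neighbourhood, is not stated.) -/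
theorem result (A : Type u) [CommRing A] [IsNoetherianRing A] (I : Ideal A) (B : Type u) [CommRing B] [Algebra A B] [Algebra.FiniteType A B] (hB : ∀ a ∈ I, Algebra.Etale A (Localization.Away (algebraMap A B a))) (C : Type u) [CommRing C] [Algebra A C] [IsNoetherianRing C] (Ch : Type u) [CommRing Ch] [Algebra C Ch] [Algebra A Ch] [IsScalarTower A C Ch] (hCh : Hens2.IsPairHenselization C (I.map (algebraMap A C)) Ch) (φ : (AdicCompletion (I.map (algebraMap A B)) B) →ₐ[A] (AdicCompletion (I.map (algebraMap A C)) C)) : ∃! ψ : B →ₐ[A] Ch, ∀ (n : ℕ) (b : B), ∃ c : C, ψ b - algebraMap C Ch c ∈ (I.map (algebraMap A Ch)) ^ n ∧ AdicCompletion.eval (I.map (algebraMap A C)) C n (φ (AdicCompletion.of (I.map (algebraMap A B)) B b)) = Submodule.Quotient.mk c := by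
  classical
  let IC := I.map (algebraMap A C)
  let T := AdicCompletion IC C
  let hb := Hensel.powBij_henselization hCh
  let ι : Ch →+* T := hb.toCompletion
  letI : Algebra Ch T := ι.toAlgebra
  haveI : Module.FaithfullyFlat Ch T := Hensel.faithfullyFlat_toCompletion hCh
  haveI : IsNoetherianRing T := RigPts.isNoetherianRing_comp I C
  haveI := RigPts.isAdicComplete_comp I C
  have hιC : ∀ c, ι (algebraMap C Ch c) = algebraMap C T c := fun c => AdicCompletion.ext_evalₐ fun n => by
    rw [hb.evalₐ_toCompletion (n := n) (s := algebraMap C Ch c) (a := c) (by simp),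
      AlgHom.commutes, Ideal.Quotient.algebraMap_eq]
  haveI : IsScalarTower A Ch T := IsScalarTower.of_algebraMap_eq fun x => by
    show _ = ι (algebraMap A Ch x)
    rw [IsScalarTower.algebraMap_apply A C Ch, hιC, ← IsScalarTower.algebraMap_apply]
  have eI : IC.map (algebraMap C Ch) = I.map (algebraMap A Ch) := by
    rw [Ideal.map_map, ← IsScalarTower.algebraMap_eq]
  haveI : HenselianRing Ch (I.map (algebraMap A Ch)) := eI ▸ hCh.1
  let Φ : B →ₐ[A] T :=
    φ.comp ((Algebra.ofId B (AdicCompletion (I.map (algebraMap A B)) B)).restrictScalars A)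
  obtain ⟨n, π, hπ⟩ := Algebra.FiniteType.iff_quotient_mvPolynomial''.1 (inferInstance : Algebra.FiniteType A B)
  obtain ⟨r, a, ha⟩ := Submodule.fg_iff_exists_fin_generating_family.1 (IsNoetherian.noetherian I)
  have haI : ∀ k, a k ∈ I := fun k => ha ▸ Submodule.subset_span ⟨k, rfl⟩
  have hsys : ∀ k, ∃ e : ℕ, 1 ≤ e ∧ ∃ g : Fin n → MvPolynomial (Fin n) A, (∀ i, π (g i) = 0) ∧
      ∀ i j, π (MvPolynomial.pderiv j (g i)) = if i = j then algebraMap A B (a k ^ e) else 0 := fun k => by
    haveI := hB (a k) (haI k)
    obtain ⟨e, he, hkill⟩ := RigPts.exists_pow_smul_kaehler (A := A) (algebraMap A B (a k))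
    exact ⟨e, he, RigPts.exists_system π hπ _ (by rw [map_pow]; exact hkill)⟩
  choose e he g hg hgd using hsys
  let σ : Fin n → T := fun i => Φ (π (MvPolynomial.X i))
  let a' : Fin r → Ch := fun k => algebraMap A Ch (a k ^ e k)
  have hσ : ∀ p : MvPolynomial (Fin n) A,
      MvPolynomial.aeval σ (MvPolynomial.map (algebraMap A Ch) p) = Φ (π p) := fun p => by
    rw [MvPolynomial.aeval_map_algebraMap]
    exact DFunLike.congr_fun (MvPolynomial.algHom_ext (fun i => by simp [σ]) :
      MvPolynomial.aeval σ = Φ.comp π) p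
  have hσmem : ∀ i, σ i ∈ Set.range (algebraMap Ch T) := by
    refine RigPts.exists_descend (I.map (algebraMap A Ch)) a'
      (fun k => Ideal.mem_map_of_mem _ (Ideal.pow_mem_of_mem I (haI k) _ (he k))) (fun k => ?_)
      (fun K x hx => ?_) (fun y N => ?_) σ (fun k i => MvPolynomial.map (algebraMap A Ch) (g k i))
      (fun k i => by rw [hσ, hg, map_zero]) (fun k i j => ?_)
    · rw [← IsScalarTower.algebraMap_apply A Ch T]
      exact IsAdicComplete.le_jacobson_bot (I.map (algebraMap A T))
        (Ideal.mem_map_of_mem _ (Ideal.pow_mem_of_mem I (haI k) _ (he k)))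
    · rwa [← Ideal.mem_comap, Ideal.comap_map_eq_self_of_faithfullyFlat] at hx
    · obtain ⟨M, hM⟩ := Ideal.exists_pow_le_of_le_radical_of_fg (I := I) (J := Ideal.span (Set.range fun k => a k ^ e k)) (by
        conv_lhs => rw [← ha]
        refine Submodule.span_le.2 ?_
        rintro _ ⟨k, rfl⟩
        exact ⟨e k, Ideal.subset_span ⟨k, rfl⟩⟩) (IsNoetherian.noetherian _)
      obtain ⟨c, hc⟩ := Ideal.Quotient.mk_surjective (AdicCompletion.evalₐ IC (M * N) y)
      refine ⟨algebraMap C Ch c, ?_⟩
      have h1 : algebraMap Ch T (algebraMap C Ch c) = algebraMap C T c := hιC c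
      rw [h1]
      have h2 : y - algebraMap C T c ∈ LinearMap.ker (AdicCompletion.eval IC C (M * N)) := by
        rw [LinearMap.mem_ker, map_sub, sub_eq_zero,
          ← AdicCompletion.factor_evalₐ_eq_eval IC y (le_of_eq (Ideal.mul_top _).symm), ← hc]
        rfl
      rw [← AdicCompletion.pow_smul_top_eq_ker_eval (Ideal.FG.map (IsNoetherian.noetherian I) _),
        Ideal.smul_top_eq_map, Submodule.restrictScalars_mem, Ideal.map_pow, Ideal.map_map,
        ← IsScalarTower.algebraMap_eq, pow_mul, ← Ideal.map_pow, ← Ideal.map_pow] at h2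
      have h4 : ((Ideal.span (Set.range a')) ^ N).map (algebraMap Ch T) =
          ((Ideal.span (Set.range fun k => a k ^ e k)) ^ N).map (algebraMap A T) := by
        rw [Ideal.map_pow _ _ N, Ideal.map_pow _ _ N, Ideal.map_span, Ideal.map_span, ← Set.range_comp,
          ← Set.range_comp]
        refine congrArg (fun s => Ideal.span (Set.range s) ^ N) (funext fun k => ?_)
        exact (IsScalarTower.algebraMap_apply A Ch T _).symm
      rw [h4]
      exact Ideal.map_mono (Ideal.pow_right_mono hM N) h2
    · rw [MvPolynomial.pderiv_map, hσ, hgd, apply_ite Φ, map_zero, AlgHom.commutes,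
        IsScalarTower.algebraMap_apply A Ch T]
  have hinj : Function.Injective (algebraMap Ch T) := FaithfulSMul.algebraMap_injective Ch T
  have hΦ : ∀ b, Φ b ∈ (IsScalarTower.toAlgHom A Ch T).range := fun b => by
    obtain ⟨p, rfl⟩ := hπ b
    induction p using MvPolynomial.induction_on with
    | C x =>
      rw [← MvPolynomial.algebraMap_eq, AlgHom.commutes, AlgHom.commutes]
      exact Subalgebra.algebraMap_mem _ x
    | add p q hp hq => rw [map_add, map_add]; exact add_mem hp hq
    | mul_X p i hp => rw [map_mul, map_mul]; exact mul_mem hp (hσmem i)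
  let ψ : B →ₐ[A] Ch :=
    (AlgEquiv.ofInjective (IsScalarTower.toAlgHom A Ch T) hinj).symm.toAlgHom.comp (Φ.codRestrict _ hΦ)
  have hψ : ∀ b, algebraMap Ch T (ψ b) = Φ b := fun b =>
    congrArg Subtype.val ((AlgEquiv.ofInjective (IsScalarTower.toAlgHom A Ch T) hinj).apply_symm_apply (Φ.codRestrict _ hΦ b))
  have hof : ∀ b, φ (AdicCompletion.of (I.map (algebraMap A B)) B b) = Φ b := fun b => rfl
  refine ⟨ψ, fun n b => ?_, fun ψ' hψ' => ?_⟩
  · obtain ⟨c, hc⟩ := hb.exists_sub n (ψ b)
    refine ⟨c, by rw [← eI]; exact hc, ?_⟩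
    rw [hof, ← AdicCompletion.factor_evalₐ_eq_eval IC (Φ b) (le_of_eq (Ideal.mul_top _).symm), ← hψ]
    show Ideal.Quotient.factor _ (AdicCompletion.evalₐ IC n (hb.toCompletion (ψ b))) = _
    rw [hb.evalₐ_toCompletion hc]
    rfl
  · refine AlgHom.ext fun b => hinj ((hψ b).trans ?_).symm
    refine AdicCompletion.ext_evalₐ fun n => ?_
    obtain ⟨c, hc, hev⟩ := hψ' n b
    rw [← eI] at hc
    show _ = AdicCompletion.evalₐ IC n (hb.toCompletion (ψ' b))
    rw [hb.evalₐ_toCompletion hc, ← hof, ← AdicCompletion.factor_eval_eq_evalₐ IC _ (le_of_eq (Ideal.mul_top _)), hev]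
    rfl

end Groth.Agent.S8826
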