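import Groth.Statements.S8831
import Groth.Agent.S8832
import Groth.Agent.CohFinite.Linear

set_option autoImplicit false
universe u
open CategoryTheory AlgebraicGeometry Opposite
open LocCoh

namespace Groth.Agent.S8831

/-- Let (A, m) be a Noetherian local ring and U = Spec A ∖ {m} the punctured spectrum. Suppose we are
given a system (F_n), indexed inversely by n, of coherent modules on U. In each positive degree i,
the cohomology groups H^i(U, F_n) then form a Mittag-Leffler system; concretely, given any n one can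
find r ≥ n such that for all s ≥ r the image of H^i(U, F_s) → H^i(U, F_n) equals the image of H^i(U,
F_r) → H^i(U, F_n). -/
theorem result (A : Type u) [CommRing A] [IsNoetherianRing A] [IsLocalRing A] (G : ℕᵒᵖ ⥤ (↑(LocCoh.puncturedOpen A (IsLocalRing.maximalIdeal A)) : Scheme.{u}).Modules) (hG : ∀ n : ℕᵒᵖ, Coh.IsCoh (G.obj n)) (i : ℕ) (hi : 0 < i) (n : ℕ) : ∃ (r : ℕ) (hnr : n ≤ r), ∀ (s : ℕ) (hrs : r ≤ s), Set.range (Sheaf.H.map ((SheafOfModules.toSheaf _).map (G.map (homOfLE (hnr.trans hrs : n ≤ s)).op)) i) = Set.range (Sheaf.H.map ((SheafOfModules.toSheaf _).map (G.map (homOfLE (hnr : n ≤ r)).op)) i) := by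
  haveI := Groth.Agent.S8832.result A (G.obj (Opposite.op n)) (hG _) i hi
  let R : ℕ → Submodule A (Coh.HH (↑(LocCoh.puncturedOpen A (IsLocalRing.maximalIdeal A)) : Scheme.{u})
      (G.obj (Opposite.op n)) i) := fun k =>
    LinearMap.range (Groth.Agent.CohFinite.hhMap A (G.map (homOfLE (Nat.le_add_right n k)).op) i)
  have hR : Antitone R := fun a b hab => by
    rintro _ ⟨x, rfl⟩
    refine ⟨Groth.Agent.CohFinite.hhMap A (G.map (homOfLE (Nat.add_le_add_left hab n)).op) i x, ?_⟩
    rw [← Groth.Agent.CohFinite.hhMap_comp, ← G.map_comp]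
    rfl
  obtain ⟨k, hk⟩ := monotone_stabilizes_iff_artinian.2
    (inferInstanceAs (IsArtinian A (Coh.HH (↑(LocCoh.puncturedOpen A (IsLocalRing.maximalIdeal A)) : Scheme.{u})
      (G.obj (Opposite.op n)) i))) ⟨fun k => OrderDual.toDual (R k), fun a b h => hR h⟩
  refine ⟨n + k, Nat.le_add_right n k, fun s hrs => ?_⟩
  obtain ⟨l, rfl⟩ : ∃ l, s = n + l := ⟨s - n, by omega⟩
  have h : R k = R l := hk l (by omega)
  exact (congrArg SetLike.coe h).symm

end Groth.Agent.S8831
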