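import Groth.Statements.S8842
import Groth.Agent.CdOneTop.Limit

set_option autoImplicit false
set_option backward.isDefEq.respectTransparency false
set_option backward.isDefEq.respectTransparency.types false
set_option linter.style.haveILetI false
set_option maxHeartbeats 1000000
set_option backward.isDefEq.respectTransparency false
universe u
open scoped BigOperators
attribute [local instance] CategoryTheory.Abelian.hasFiniteBiproducts
open Formal2

namespace Groth.Agent.S8842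

open CategoryTheory CategoryTheory.Limits AlgebraicGeometry Opposite in
/-- Let A be a Noetherian ring, f_1, …, f_r ∈ A and I = (f_1, …, f_r) with cd(A, I) = 1; let c ≥ 1 and
φ_j : I^c → A be A-linear with x = Σ_j f_j φ_j(x) for x ∈ I^c. Let X be a Noetherian scheme over
Spec A, (F_n) a coherent formal module for I on X (coherent O_X-modules with F_n = F_{n+1}/I^n
F_{n+1}; indices shifted by one) and F = lim F_n, the limit in O_X-modules. Then there is c' ≥ c
with the following property. Write φ_j again for the restrictions to I^{c'} and let Φ be a graded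
A-algebra homomorphism from ⊕_{n ≥ 0} I^{nc'} to A[T_1, …, T_r] with Φ(g) = Σ_j φ_j(g) T_j on I^{c'}
(there is exactly one; encoded by functions Φ_n : A → A[T_1, …, T_r] additive and A-homogeneous on
I^{nc'}, with values homogeneous of degree n, multiplicative across degrees, Φ_0 the structure map,
Φ_1 as prescribed). Then for every n there is a unique map of O_X-modules Φ_{F,n} from the submodule
I^{nc'}F to F[T_1, …, T_r]_n = ⊕_{|e| = n} F (one copy of F for each exponent tuple e of total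
degree n) such that Φ_{F,n}(g s) = Φ_n(g) s for g ∈ I^{nc'} and local sections s of F, i.e.
precomposed with multiplication by g, F → I^{nc'}F, it is the map whose component at T^e is
multiplication by the coefficient of T^e in Φ_n(g); moreover composing Φ_{F,n} with the map
⊕_{|e|=n} F → F which is multiplication by f^e = ∏ f_j^{e_j} on the copy at T^e gives the inclusion
I^{nc'}F → F. -/
theorem result (A : Type u) [CommRing A] [IsNoetherianRing A] (r : ℕ) (f : Fin r → A) (I : Ideal A) (hI : I = Ideal.span (Set.range f)) (h1 : LocCoh.CdLE A I 1) (h0 : ¬ LocCoh.CdLE A I 0) (c : ℕ) (hc : 1 ≤ c) (φ : Fin r → (↥(I ^ c) →ₗ[A] A)) (hφ : ∀ x : ↥(I ^ c), (x : A) = ∑ j, f j * φ j x) (X : Scheme.{u}) [X.Over (Spec (CommRingCat.of A))] [IsNoetherian X] (G : ℕᵒᵖ ⥤ X.Modules) (hG : Formal.IsCohFormal I G) : ∃ c' : ℕ, ∃ hcc' : c ≤ c', ∀ Φ : ℕ → A → MvPolynomial (Fin r) A, ((∀ n : ℕ, ∀ g ∈ I ^ (n * c'), ∀ h ∈ I ^ (n * c'), Φ n (g + h) = Φ n g + Φ n h)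 ∧ (∀ (n : ℕ) (a : A), ∀ g ∈ I ^ (n * c'), Φ n (a * g) = a • Φ n g) ∧ (∀ n : ℕ, ∀ g ∈ I ^ (n * c'), (Φ n g).IsHomogeneous n) ∧ (∀ n m : ℕ, ∀ g ∈ I ^ (n * c'), ∀ h ∈ I ^ (m * c'), Φ (n + m) (g * h) = Φ n g * Φ m h) ∧ (∀ a : A, Φ 0 a = MvPolynomial.C a) ∧ (∀ (g : A) (hg : g ∈ I ^ c'), Φ 1 g = ∑ j, MvPolynomial.C (φ j ⟨g, Ideal.pow_le_pow_right hcc' hg⟩) * MvPolynomial.X j)) → ∀ n : ℕ, ∃ ΦF : (Formal2.idealPowMod I (n * c') (limit G)) ⟶ ⨁ (fun _ : ↥(Finset.Nat.antidiagonalTuple r n) ↦ (limit G)), (∀ g ∈ I ^ (n * c'), ∀ γ : (limit G) ⟶ (Formal2.idealPowMod I (n * c') (limit G)), γ ≫ Formal2.idealPowModι I (n * c') (limit G) = Formal.smulMod A (limit G) g → γ ≫ ΦF = biproduct.lift (fun e : ↥(Finset.Nat.antidiagonalTuple r n) ↦ Formal.smulMod A (limit G) (MvPolynomial.coeff (Finsupp.equivFunOnFinite.symm e.1) (Φ n g)))) ∧ ΦF ≫ biproduct.desc (fun e : ↥(Finset.Nat.antidiagonalTuple r n) ↦ Formal.smulMod A (limit G) (∏ j, f j ^ (e.1 j))) = Formal2.idealPowModι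 I (n * c') (limit G) ∧ (∀ ΦF' : (Formal2.idealPowMod I (n * c') (limit G)) ⟶ ⨁ (fun _ : ↥(Finset.Nat.antidiagonalTuple r n) ↦ (limit G)), (∀ g ∈ I ^ (n * c'), ∀ γ : (limit G) ⟶ (Formal2.idealPowMod I (n * c') (limit G)), γ ≫ Formal2.idealPowModι I (n * c') (limit G) = Formal.smulMod A (limit G) g → γ ≫ ΦF' = biproduct.lift (fun e : ↥(Finset.Nat.antidiagonalTuple r n) ↦ Formal.smulMod A (limit G) (MvPolynomial.coeff (Finsupp.equivFunOnFinite.symm e.1) (Φ n g)))) → ΦF' = ΦF) := by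
  classical
  obtain ⟨d₀, hd₀⟩ := CdOneTop.exists_rel_limit hG c
  refine ⟨c + d₀, Nat.le_add_right c d₀, fun Φ ⟨hadd, hsmul, hhom, hmul, hΦ0, hΦ1⟩ n => ?_⟩
  let L := limit G
  have hcI : I ^ (c + d₀) ≤ I ^ c := Ideal.pow_le_pow_right (Nat.le_add_right c d₀)
  let ψ : Fin r → A → A := fun j g => if hg : g ∈ I ^ c then φ j ⟨g, hg⟩ else 0
  have hψeq : ∀ j g (hg : g ∈ I ^ c), ψ j g = φ j ⟨g, hg⟩ := fun j g hg => dif_pos hg
  have h1' : ∀ g ∈ I ^ (c + d₀), Φ 1 g = ∑ j, MvPolynomial.C (ψ j g) * MvPolynomial.X j := fun g hg => by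
    rw [hΦ1 g hg]; simp only [hψeq _ g (hcI hg)]
  have hψadd : ∀ j, ∀ g ∈ I ^ (c + d₀), ∀ h ∈ I ^ (c + d₀), ψ j (g + h) = ψ j g + ψ j h := fun j g hg h hh => by
    rw [hψeq j g (hcI hg), hψeq j h (hcI hh), hψeq j _ (hcI (add_mem hg hh)), ← map_add]
    rfl
  have hψmul : ∀ j (a : A), ∀ g ∈ I ^ (c + d₀), ψ j (a * g) = a * ψ j g := fun j a g hg => by
    rw [hψeq j g (hcI hg), hψeq j _ (Ideal.mul_mem_left _ a (hcI hg))]
    exact map_smul (φ j) a ⟨g, hcI hg⟩
  have hψmem : ∀ (j : Fin r) (m : ℕ), ∀ g ∈ I ^ ((m + 1) * (c + d₀)), ψ j g ∈ I ^ (m * (c + d₀)) := fun j m g hg => by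
    have hg' : g ∈ I ^ c := Ideal.pow_le_pow_right ((Nat.le_add_right c d₀).trans (Nat.le_mul_of_pos_left _ m.succ_pos)) hg
    rw [hψeq j g hg']
    refine CdOneTop.linear_mem (φ j) g (Ideal.pow_le_pow_right ?_ hg) hg'
    rw [Nat.succ_mul]
    omega
  obtain ⟨l, a, ha⟩ := Submodule.fg_iff_exists_fin_generating_family.1
    (IsNoetherian.noetherian (I ^ (n * (c + d₀))))
  have ha' : Ideal.span (Set.range a) = I ^ (n * (c + d₀)) := ha
  have hrel : ∀ (j : Fin r) (l : ℕ) (a : Fin l → A), (∀ i, a i ∈ I ^ (c + d₀)) →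
      kernel.ι (CdOneTop.gmap a L) ≫ CdOneTop.gmap (fun i => ψ j (a i)) L = 0 := fun j l a ha => by
    rw [show (fun i => ψ j (a i)) = fun i => φ j ⟨a i, hcI (ha i)⟩ from funext fun i => hψeq _ _ _]
    exact hd₀ (φ j) l a ha
  have hdesc := fun e : Fin r →₀ ℕ => CdOneTop.exists_descK ha'
    (CdOneTop.gmap (fun i => MvPolynomial.coeff e (Φ n (a i))) L)
    (CdOneTop.coeff_rel hadd hsmul hmul ψ h1' hψadd hψmul hψmem hΦ0 L hrel n e l a fun i => CdOneTop.gens_mem ha' i)
  choose F hF using hdesc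
  let ΦF : Formal2.idealPowMod I (n * (c + d₀)) L ⟶
      ⨁ (fun _ : ↥(Finset.Nat.antidiagonalTuple r n) ↦ L) :=
    biproduct.lift fun e => F (Finsupp.equivFunOnFinite.symm e.1)
  have hK : ∀ g ∈ I ^ (n * (c + d₀)), ∀ γ : L ⟶ Formal2.idealPowMod I (n * (c + d₀)) L,
      γ ≫ Formal2.idealPowModι I (n * (c + d₀)) L = Formal.smulMod A L g →
      γ ≫ ΦF = biproduct.lift (fun e : ↥(Finset.Nat.antidiagonalTuple r n) ↦
        Formal.smulMod A L (MvPolynomial.coeff (Finsupp.equivFunOnFinite.symm e.1) (Φ n g))) := by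
    intro g hg γ hγ
    obtain ⟨co, hco, rfl⟩ := CdOneTop.exists_factor ha' L hg γ hγ
    refine biproduct.hom_ext _ _ fun e => ?_
    generalize he : Finsupp.equivFunOnFinite.symm e.1 = e'
    rw [Category.assoc, Category.assoc, biproduct.lift_π, he, hF, biproduct.lift_π, biproduct.lift_desc, he]
    let K : ↥(I ^ (n * (c + d₀))) →ₗ[A] A :=
      { toFun := fun x => MvPolynomial.coeff e' (Φ n x)
        map_add' := fun x y => by rw [Submodule.coe_add, hadd n _ x.2 _ y.2, MvPolynomial.coeff_add]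
        map_smul' := fun b x => by
          rw [SetLike.val_smul, smul_eq_mul, hsmul n b _ x.2, MvPolynomial.coeff_smul, RingHom.id_apply] }
    have hsum : MvPolynomial.coeff e' (Φ n g) = ∑ i, co i * MvPolynomial.coeff e' (Φ n (a i)) := by
      have hgx : (⟨g, hg⟩ : ↥(I ^ (n * (c + d₀)))) = ∑ i, co i • (⟨a i, CdOneTop.gens_mem ha' i⟩ : ↥(I ^ (n * (c + d₀)))) :=
        Subtype.ext (by simp [hco])
      have := congrArg K hgx
      rw [map_sum] at this
      simp only [map_smul, smul_eq_mul] at this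
      exact this
    rw [hsum, CdOneTop.smulMod_sum]
    exact Finset.sum_congr rfl fun i _ => by rw [W7Exist.smulMod_comp, mul_comm]
  have hgen : ∀ i, (biproduct.ι (fun _ : Fin l => L) i ≫ CdOneTop.gl ha' L) ≫
      Formal2.idealPowModι I (n * (c + d₀)) L = Formal.smulMod A L (a i) := fun i => by
    rw [Category.assoc, kernel.lift_ι, biproduct.ι_desc]
  haveI := CdOneTop.epi_gl ha' L
  refine ⟨ΦF, hK, ?_, fun ΦF' hK' => ?_⟩
  · rw [← cancel_epi (CdOneTop.gl ha' L)]
    refine biproduct.hom_ext' _ _ fun i => ?_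
    rw [← Category.assoc, ← Category.assoc, hK _ (CdOneTop.gens_mem ha' i) _ (hgen i), biproduct.lift_desc,
      ← Category.assoc, hgen i]
    rw [Finset.sum_congr rfl fun e _ => W7Exist.smulMod_comp L _ _, ← CdOneTop.smulMod_sum]
    refine congrArg _ ?_
    let S : Finset (Fin r →₀ ℕ) := (Finset.Nat.antidiagonalTuple r n).map Finsupp.equivFunOnFinite.symm.toEmbedding
    have hS : (Φ n (a i)).support ⊆ S := fun d hd => by
      refine Finset.mem_map.2 ⟨d, Finset.Nat.mem_antidiagonalTuple.2 ?_, by ext; simp⟩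
      rw [← Finsupp.degree_eq_sum, Finsupp.degree_eq_weight_one]
      exact hhom n _ (CdOneTop.gens_mem ha' i) (MvPolynomial.mem_support_iff.1 hd)
    have hev := CdOneTop.eval_Φ hadd hsmul hmul ψ h1' hψadd hψmul hψmem (f := f) hΦ0
      (fun g hg => by simp only [hψeq _ g (hcI hg)]; exact hφ ⟨g, hcI hg⟩) n _ (CdOneTop.gens_mem ha' i)
    conv_rhs => rw [← hev, MvPolynomial.eval_eq']
    rw [Finset.sum_subset hS fun d _ hd => by rw [MvPolynomial.notMem_support_iff.1 hd, zero_mul], Finset.sum_map,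
      ← Finset.sum_coe_sort (Finset.Nat.antidiagonalTuple r n)]
    exact Finset.sum_congr rfl fun e _ => by simp [mul_comm]
  · rw [← cancel_epi (CdOneTop.gl ha' L)]
    refine biproduct.hom_ext' _ _ fun i => ?_
    rw [← Category.assoc, ← Category.assoc, hK _ (CdOneTop.gens_mem ha' i) _ (hgen i),
      hK' _ (CdOneTop.gens_mem ha' i) _ (hgen i)]

end Groth.Agent.S8842
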