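import Groth.Statements.S8849
import Groth.Agent.FlatCartier.Alg
import Groth.Agent.BlowUpLib.Cartier

set_option autoImplicit false
universe u
open CategoryTheory CategoryTheory.Limits AlgebraicGeometry TopologicalSpace
open SDiv

namespace Groth.Agent.S8849

/-- Let f : X ⟶ S be a morphism of schemes and 𝓘 the ideal sheaf of an effective Cartier divisor D ⊆ X
with D flat over S (a relative effective Cartier divisor). If f is flat at every point of X not in
D, then f is flat. -/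
theorem result {X S : Scheme.{u}} (f : X ⟶ S) (𝓘 : X.IdealSheafData)
    (hD : BlowUp.IsEffCartierIdeal 𝓘 ∧ Flat (𝓘.subschemeι ≫ f))
    (hflat : ∀ x : ↥X, x ∉ 𝓘.support → (f.stalkMap x).hom.Flat) : Flat f := by
  have hQ : RingHom.StableUnderCompositionWithLocalizationAwaySource RingHom.Flat :=
    (RingHom.Flat.stableUnderComposition.stableUnderCompositionWithLocalizationAway
      RingHom.Flat.holdsForLocalizationAway).left
  rw [HasRingHomProperty.iff_exists_appLE (P := @Flat) hQ]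
  intro x
  obtain ⟨V, hV, hxV, -⟩ := exists_isAffineOpen_mem_and_subset (X := S) (U := ⊤) (trivial : f.base x ∈ (⊤ : S.Opens))
  obtain ⟨U, hxU, hUV, g, hg, he⟩ := Groth.Agent.BlowUpLib.exists_small_generator hD.1 (O := f ⁻¹ᵁ V) hxV
  refine ⟨⟨V, hV⟩, U, hxU, hUV, ?_⟩
  have hι : IsAffineOpen (𝓘.subschemeι ⁻¹ᵁ U.1) := U.2.preimage 𝓘.subschemeι
  have e1 : 𝓘.subschemeι ⁻¹ᵁ U.1 ≤ (𝓘.subschemeι ≫ f) ⁻¹ᵁ V := fun z hz => hUV hz
  have h1 := @Scheme.Hom.flat_appLE _ _ (𝓘.subschemeι ≫ f) hD.2 V hV _ hι e1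
  rw [← Scheme.Hom.appLE_comp_appLE 𝓘.subschemeι f V U.1 (𝓘.subschemeι ⁻¹ᵁ U.1) hUV le_rfl,
    ← Scheme.Hom.app_eq_appLE, Scheme.IdealSheafData.subschemeι_app, ← Category.assoc,
    CommRingCat.hom_comp, RingHom.Flat.respectsIso.cancel_right_isIso] at h1
  let φ := (f.appLE V U.1 hUV).hom
  let W : X.Opens := X.basicOpen g
  have hW : IsAffineOpen W := U.2.basicOpen g
  have hWU : W ≤ U.1 := X.basicOpen_le g
  have e2 : W.ι ⁻¹ᵁ W ≤ (W.ι ≫ f) ⁻¹ᵁ V := fun z hz => hUV (hWU hz)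
  have hflat' : Flat (W.ι ≫ f) := by
    refine Flat.of_stalkMap _ fun y => ?_
    rw [Scheme.Hom.stalkMap_comp]
    exact RingHom.Flat.comp
      (hflat _ ((Groth.Agent.BlowUpLib.mem_basicOpen_of_notMem_support he (hWU y.2)).2 y.2)) (Flat.stalkMap W.ι y)
  have hW' : IsAffineOpen (W.ι ⁻¹ᵁ W) := by
    rw [Scheme.Opens.ι_preimage_self]
    have : IsAffine (W : Scheme.{u}) := hW
    exact isAffineOpen_top _
  haveI : IsIso (W.ι.app W) := by rw [Scheme.Opens.ι_app_self]; exact Functor.map_isIso X.presheaf _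
  have h2 := @Scheme.Hom.flat_appLE _ _ (W.ι ≫ f) hflat' V hV (W.ι ⁻¹ᵁ W) hW' e2
  rw [← Scheme.Hom.appLE_comp_appLE W.ι f V W (W.ι ⁻¹ᵁ W) (hWU.trans hUV) le_rfl,
    ← Scheme.Hom.app_eq_appLE, CommRingCat.hom_comp, RingHom.Flat.respectsIso.cancel_right_isIso,
    ← Scheme.Hom.appLE_map f hUV (homOfLE hWU).op] at h2
  letI := φ.toAlgebra
  letI : Algebra Γ(S, V) (Γ(X, U.1) ⧸ Ideal.span {g}) := ((Ideal.Quotient.mk _).comp φ).toAlgebra
  letI : Algebra Γ(X, U.1) Γ(X, W) := (X.presheaf.map (homOfLE hWU).op).hom.toAlgebra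
  letI : Algebra Γ(S, V) Γ(X, W) := ((X.presheaf.map (homOfLE hWU).op).hom.comp φ).toAlgebra
  haveI : IsScalarTower Γ(S, V) Γ(X, U.1) Γ(X, W) := IsScalarTower.of_algebraMap_eq fun _ => rfl
  haveI : IsLocalization.Away g Γ(X, W) := U.2.isLocalization_basicOpen g
  haveI : Module.Flat Γ(S, V) Γ(X, W) := h2
  haveI hq : Module.Flat Γ(S, V) (Γ(X, U.1) ⧸ Ideal.span {g}) := by
    rw [he] at h1
    exact h1
  exact Groth.Agent.FlatCartier.flat_of_flat_quotient_of_flat_away g hg Γ(X, W)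

end Groth.Agent.S8849
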