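import Groth.Statements.S8850
import Mathlib

set_option autoImplicit false
universe u
open CategoryTheory CategoryTheory.Limits AlgebraicGeometry TopologicalSpace
open SDiv

namespace Groth.Agent.S8850

/-- Let S be a scheme, X a Noetherian S-scheme, Y a proper S-scheme, U ⊆ X an open subscheme and f : U ⟶
Y a morphism compatible with the structure morphisms to S. Then there are a proper morphism p : X' ⟶
X restricting to an isomorphism over U and an S-morphism f' : X' ⟶ Y whose restriction to p⁻¹(U) is
f composed with p. The published statement takes U dense, so that f is an S-rational map; this row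
allows any open U, which its proof does not need. -/
theorem result {X Y S : Scheme.{u}} [IsNoetherian X] (a : X ⟶ S) (b : Y ⟶ S)
    [IsProper b] (U : X.Opens) (f : (U : Scheme.{u}) ⟶ Y) (hf : f ≫ b = U.ι ≫ a) :
    ∃ (X' : Scheme.{u}) (p : X' ⟶ X) (f' : X' ⟶ Y), IsProper p ∧ IsIso (p ∣_ U) ∧ f' ≫ b = p ≫ a ∧
      (p ⁻¹ᵁ U).ι ≫ f' = (p ∣_ U) ≫ f := by
  let j : (U : Scheme.{u}) ⟶ pullback a b := pullback.lift U.ι f hf.symm
  have hNs : NoetherianSpace ↥U := (IsNoetherian.noetherianSpace (X := X)).set _
  have hU : QuasiCompact j := ⟨fun s _ _ => @NoetherianSpace.isCompact _ _ hNs _⟩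
  let X' := j.image
  let p : X' ⟶ X := j.imageι ≫ pullback.fst a b
  let f' : X' ⟶ Y := j.imageι ≫ pullback.snd a b
  let i : (U : Scheme.{u}) ⟶ X' := j.toImage
  have hip : i ≫ p = U.ι := by
    rw [← Category.assoc, j.toImage_imageι, pullback.lift_fst]
  have hif : i ≫ f' = f := by
    rw [← Category.assoc, j.toImage_imageι, pullback.lift_snd]
  have hker : IsSchemeTheoreticallyDominant i := by
    refine ⟨Scheme.IdealSheafData.ext_of_iSup_eq_top
      (fun W : (pullback a b).affineOpens => (⟨_, W.2.preimage j.imageι⟩ : X'.affineOpens)) ?_ fun W => ?_⟩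
    · rw [eq_top_iff]
      intro z _
      obtain ⟨W, hW, hzW, -⟩ := exists_isAffineOpen_mem_and_subset (X := pullback a b) (U := ⊤)
        (trivial : j.imageι.base z ∈ (⊤ : (pullback a b).Opens))
      exact Opens.mem_iSup.2 ⟨⟨W, hW⟩, hzW⟩
    · rw [Scheme.Hom.ker_apply, Scheme.IdealSheafData.ideal_bot, Pi.bot_apply]
      exact (RingHom.injective_iff_ker_eq_bot _).1 (j.toImage_app_injective W)
  have : IsProper p := inferInstance
  let W : X'.Opens := p ⁻¹ᵁ U
  have hqc : QuasiCompact i := inferInstanceAs (QuasiCompact j.toImage)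
  let t := i ∣_ W
  have hdom : IsSchemeTheoreticallyDominant t :=
    IsSchemeTheoreticallyDominant.of_isPullback (isPullback_morphismRestrict i W).flip
  have htp : t ≫ (p ∣_ U) = (i ⁻¹ᵁ W).ι := by
    rw [← cancel_mono U.ι, Category.assoc, morphismRestrict_ι, ← Category.assoc, morphismRestrict_ι,
      Category.assoc, hip]
  have htop : i ⁻¹ᵁ W = ⊤ := by
    rw [eq_top_iff]
    intro z _
    show (i ≫ p).base z ∈ U
    rw [hip]
    exact z.2
  have hiso : IsIso (i ⁻¹ᵁ W).ι := by
    rw [htop]
    exact (Scheme.topIso _).isIso_hom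
  have : IsClosedImmersion (t ≫ (p ∣_ U)) := by rw [htp]; infer_instance
  have : IsClosedImmersion t := IsClosedImmersion.of_comp t (p ∣_ U)
  have : IsIso t := IsClosedImmersion.isIso_iff_ker_eq_bot.2 hdom.ker_eq_bot
  have : IsIso (t ≫ (p ∣_ U)) := by rw [htp]; infer_instance
  have hpU : IsIso (p ∣_ U) := IsIso.of_isIso_comp_left t (p ∣_ U)
  refine ⟨X', p, f', inferInstance, hpU, ?_, ?_⟩
  · rw [Category.assoc, Category.assoc, pullback.condition]
  · rw [← cancel_epi t, ← Category.assoc, morphismRestrict_ι, Category.assoc, hif, ← Category.assoc, htp]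

end Groth.Agent.S8850
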