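import Groth.Statements.S8853
import Groth.Agent.BlowUpLib.Basic

set_option autoImplicit false
universe u
open CategoryTheory CategoryTheory.Limits AlgebraicGeometry TopologicalSpace
open SDiv

namespace Groth.Agent.S8853

/-- Let Z be a locally principal closed subscheme of a scheme S, with ideal sheaf 𝓘 generated by a
single section on some affine open neighbourhood of each point of its support, and let U be the open
complement of Z. Then the inclusion U ⟶ S is an affine morphism. -/
theorem result {S : Scheme.{u}} (𝓘 : S.IdealSheafData) (h : Curv2.IsLocPrincipal 𝓘) :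
    IsAffineHom (Scheme.Opens.ι 𝓘.support.compl) := by
  have key : ∀ x : S, ∃ V : S.Opens, x ∈ V ∧ IsAffineOpen V ∧ IsAffineOpen (V ⊓ 𝓘.support.compl) := by
    intro x
    by_cases hx : x ∈ 𝓘.support
    · obtain ⟨U, hxU, f, hf⟩ := h x hx
      refine ⟨U.1, hxU, U.2, ?_⟩
      have e : U.1 ⊓ 𝓘.support.compl = S.basicOpen f := by
        ext y
        exact ⟨fun hy => (Groth.Agent.BlowUpLib.mem_basicOpen_of_notMem_support hf hy.1).1 hy.2,
          fun hy => ⟨S.basicOpen_le f hy,
            (Groth.Agent.BlowUpLib.mem_basicOpen_of_notMem_support hf (S.basicOpen_le f hy)).2 hy⟩⟩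
      rw [e]
      exact U.2.basicOpen f
    · obtain ⟨V, hV, hxV, hVle⟩ := exists_isAffineOpen_mem_and_subset (X := S) (U := 𝓘.support.compl) hx
      exact ⟨V, hxV, hV, by rwa [inf_eq_left.2 (show V ≤ 𝓘.support.compl from hVle)]⟩
  choose V hxV hV hVc using key
  refine isAffineHom_of_forall_exists_isAffineOpen _ fun x => ⟨V x, hxV x, hV x, ?_⟩
  rw [← (Scheme.Opens.ι (X := S) 𝓘.support.compl).isAffineOpen_iff_of_isOpenImmersion, Scheme.Hom.image_preimage_eq_opensRange_inf,
    Scheme.Opens.opensRange_ι, inf_comm]
  exact hVc x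

end Groth.Agent.S8853
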