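import Groth.Statements.S8858
import Groth.Agent.RZExt.Consequences
-- import your own Groth.Agent.* helpers here

set_option autoImplicit false
universe u
open CategoryTheory CategoryTheory.Limits AlgebraicGeometry TopologicalSpace
open SDiv

namespace Groth.Agent.S8858

/-- Let X be a quasi-compact and quasi-separated scheme, U ⊆ X a quasi-compact open subscheme, and b_i :
X_i ⟶ X, i < n, blowing ups of X in quasi-coherent ideal sheaves 𝓘_i of finite type with support
disjoint from U (U-admissible blow-ups). Then there is a U-admissible blow-up c : X' ⟶ X such that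
(a) c factors as X' ⟶ X_i ⟶ X for every i, and (b) each factor X' ⟶ X_i is a blowing up of X_i in a
quasi-coherent ideal sheaf of finite type whose support is disjoint from the inverse image of U. -/
theorem result (X : Scheme.{u}) [CompactSpace ↥X] [QuasiSeparatedSpace ↥X]
    (U : X.Opens) (hU : IsCompact (U : Set ↥X)) {n : ℕ} (Xi : Fin n → Scheme.{u}) (b : ∀ i, Xi i ⟶ X)
    (𝓘 : Fin n → X.IdealSheafData) (hb : ∀ i, BlowUp.IsBlowUp (b i) (𝓘 i)) (ha : ∀ i, BlowUp.IsAdmissibleFor U (𝓘 i)) :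
    ∃ (𝓙 : X.IdealSheafData) (X' : Scheme.{u}) (c : X' ⟶ X), BlowUp.IsBlowUp c 𝓙 ∧ BlowUp.IsAdmissibleFor U 𝓙 ∧
      ∀ i, ∃ (g : X' ⟶ Xi i) (𝓚 : (Xi i).IdealSheafData), g ≫ b i = c ∧ BlowUp.IsBlowUp g 𝓚 ∧
        BlowUp.IsAdmissibleFor ((b i) ⁻¹ᵁ U) 𝓚 := by
  classical
  have hprod : ∀ s : Finset (Fin n), BlowUp.IsAdmissibleFor U (∏ i ∈ s, 𝓘 i) := fun s =>
    Finset.prod_induction _ (BlowUp.IsAdmissibleFor U)
      (fun A B hA hB => ⟨fun V => by
          rw [Scheme.IdealSheafData.ideal_mul, Pi.mul_apply]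
          exact (hA.1 V).mul (hB.1 V),
        by rw [Scheme.IdealSheafData.support_mul, TopologicalSpace.Closeds.coe_sup]; exact hA.2.union_left hB.2⟩)
      ⟨fun V => by
          rw [Scheme.IdealSheafData.one_eq_top, Scheme.IdealSheafData.ideal_top]
          exact ⟨{1}, by simp⟩,
        by rw [Scheme.IdealSheafData.one_eq_top, Scheme.IdealSheafData.support_top]; simp⟩
      fun i _ => ha i
  obtain ⟨X', c, hc⟩ := Groth.Agent.BlowUpExist.exists_isBlowUp X (∏ i, 𝓘 i)
  refine ⟨∏ i, 𝓘 i, X', c, hc, hprod _, fun i => ?_⟩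
  obtain ⟨Y, g, hg⟩ := Groth.Agent.BlowUpExist.exists_isBlowUp (Xi i) ((∏ j ∈ Finset.univ.erase i, 𝓘 j).comap (b i))
  have hgb := Groth.Agent.BlowUpLib.isBlowUp_comp (hb i) hg
  rw [Finset.mul_prod_erase _ _ (Finset.mem_univ i)] at hgb
  obtain ⟨e, he, -⟩ := hgb.2 X' c hc.1
  obtain ⟨e', he', -⟩ := hc.2 Y (g ≫ b i) hgb.1
  haveI : IsIso e := ⟨e',
    (hc.2 X' c hc.1).unique (by rw [Category.assoc, he', he]) (Category.id_comp _),
    (hgb.2 Y _ hgb.1).unique (by rw [Category.assoc, he, he']) (Category.id_comp _)⟩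
  refine ⟨e ≫ g, _, by rw [Category.assoc]; exact he, Groth.Agent.RZExt.isBlowUp_iso_comp hg e,
    Groth.Agent.RZExt.isFiniteType_comap _ (hprod _).1, ?_⟩
  rw [Scheme.IdealSheafData.support_comap, TopologicalSpace.Closeds.coe_preimage]
  exact (hprod _).2.preimage _

end Groth.Agent.S8858
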