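import Groth.Statements.S8860
import Groth.Agent.AbsApprox.FreeNhdsFLF
import Groth.Agent.NormLB.Normal
import Groth.Agent.NormAmple.Descend
import Groth.Agent.TMul.AmpleBasis

set_option autoImplicit false
universe u
open CategoryTheory CategoryTheory.Limits AlgebraicGeometry TopologicalSpace
open SDiv

namespace Groth.Agent.S8860

/-- Let π : X ⟶ Y be a finite surjective morphism of schemes with X quasi-affine. If either π is finite
locally free (finite, flat and locally of finite presentation), or Y is integral with all local
rings integrally closed domains (normal), then Y is quasi-affine. -/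
theorem result {X Y : Scheme.{u}} (π : X ⟶ Y) [IsFinite π] [Surjective π]
    (hX : X.IsQuasiAffine) (h : Mor2.IsFinLocFree π ∨ (IsIntegral Y ∧ Pi1.IsNormalScheme Y)) :
    Y.IsQuasiAffine := by
  haveI : X.IsQuasiAffine := hX
  haveI : CompactSpace Y := ⟨by rw [← π.surjective.range_eq]; exact isCompact_range π.continuous⟩
  obtain ⟨D, hD, ⟨N⟩⟩ : ∃ D, 0 < D ∧ Nonempty (Groth.Agent.NormAmple.NormMap π D) := by
    rcases h with ⟨-, hfl, hfp⟩ | ⟨hint, hn⟩
    · haveI := hfl; haveI := hfp
      exact Groth.Agent.NormAmple.exists_normMap Groth.Agent.AbsApprox.freeNhds_of_flat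
    · haveI := hint
      exact Groth.Agent.NormLB.exists_normMap_of_normal hn
  have hO : CohB1.IsAmple ((Scheme.Modules.pullback π).obj (Coh.structureModule Y)) :=
    TMul.isAmple_congr (PicLoc.pullbackStructureIso π).symm
      (TMul.isAmple_of_isQuasiAffine TMul.isInvertible_structureModule)
  exact TMul.isQuasiAffine_of_isAmple
    (Groth.Agent.NormAmple.isAmple_of_pullback hD N TMul.isInvertible_structureModule hO)

end Groth.Agent.S8860
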