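import Groth.Statements.S8861
import Groth.Agent.WeakAssLib.Regular
import Groth.Agent.BlowUpLib.Cartier

set_option autoImplicit false
universe u
open CategoryTheory CategoryTheory.Limits AlgebraicGeometry TopologicalSpace
open SDiv

namespace Groth.Agent.S8861

/-- Let f : X ⟶ Y be a morphism of schemes and 𝓘 the ideal sheaf of an effective Cartier divisor D ⊆ Y.
If f x ∉ D for every weakly associated point x of X (weakly associated point of the structure
sheaf), then the inverse image ideal sheaf of 𝓘 on X is the ideal of an effective Cartier divisor,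
i.e. the pullback of D by f is defined. -/
theorem result {X Y : Scheme.{u}} (f : X ⟶ Y) (𝓘 : Y.IdealSheafData)
    (hD : BlowUp.IsEffCartierIdeal 𝓘)
    (h : ∀ x : ↥X, Curv2.IsWeakAssPoint (Coh.structureModule X) x → f x ∉ 𝓘.support) :
    BlowUp.IsEffCartierIdeal (𝓘.comap f) := by
  intro x
  obtain ⟨U, hxU, g, hg, he⟩ := hD (f.base x)
  obtain ⟨W, hW, hxW, hle⟩ := exists_isAffineOpen_mem_and_subset (X := X) (U := f ⁻¹ᵁ U.1) hxU
  refine ⟨⟨W, hW⟩, hxW, (f.appLE U.1 W hle).hom g, ?_, ?_⟩
  · refine mem_nonZeroDivisors_iff_right.2 fun (a : Γ(X, W)) ha => ?_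
    refine Groth.Agent.WeakAssLib.eq_zero_of_mul_eq_zero ((f.appLE U.1 W hle).hom g) a (fun y hy hw => ?_)
      ((mul_comm _ _).trans ha)
    refine (X.mem_basicOpen _ y hy).1 ?_
    rw [Scheme.basicOpen_appLE]
    exact ⟨hy, (Groth.Agent.BlowUpLib.mem_basicOpen_of_notMem_support he (hle hy)).1 (h y hw)⟩
  · rw [Groth.Agent.FpqcDescent.ideal_comap_appLE 𝓘 f U ⟨W, hW⟩ hle, he, Ideal.map_span, Set.image_singleton]

end Groth.Agent.S8861
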