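import Groth.Statements.S8863
import Groth.Agent.QC.Generated
import Mathlib

set_option autoImplicit false
universe u
open CategoryTheory CategoryTheory.Limits AlgebraicGeometry TopologicalSpace
open SDiv

set_option backward.isDefEq.respectTransparency false

namespace Groth.Agent.S8863

/-- Let X be a locally Noetherian scheme and x a point of X. Then the monoid S_x of germs at x of
regular sections of O_X (sections whose germ at every point of their open of definition is a
nonzerodivisor) is the whole monoid of nonzerodivisors of O_{X,x}; consequently K_{X,x} is the total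
ring of fractions of O_{X,x}. -/
theorem result (X : Scheme.{u}) [IsLocallyNoetherian X] (x : ↥X) :
    Mero.regStalk X x = nonZeroDivisors ↑(X.presheaf.stalk x) := by
  refine le_antisymm ?_ ?_
  · rintro g ⟨U, hx, f, hf, rfl⟩
    exact hf ⟨x, hx⟩
  intro g hg
  obtain ⟨U, hU, hxU, -⟩ := exists_isAffineOpen_mem_and_subset (x := x) (U := (⊤ : X.Opens)) trivial
  haveI : IsNoetherianRing Γ(X, U) := IsLocallyNoetherian.component_noetherian ⟨U, hU⟩
  letI := X.presheaf.algebra_section_stalk (⟨x, hxU⟩ : U)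
  haveI := hU.isLocalization_stalk ⟨x, hxU⟩
  let p := (hU.primeIdealOf ⟨x, hxU⟩).asIdeal
  obtain ⟨⟨a, s⟩, has⟩ := IsLocalization.surj p.primeCompl g
  let Ann : Ideal Γ(X, U) := LinearMap.ker (LinearMap.mulRight Γ(X, U) a)
  obtain ⟨gens, hgens⟩ := IsNoetherian.noetherian Ann
  have h1 : ∀ b : gens, ∃ e : p.primeCompl, e.1 * b.1 = 0 := fun b => by
    have hb : b.1 * a = 0 := hgens.le (Submodule.subset_span b.2)
    have h2 : algebraMap Γ(X, U) (X.presheaf.stalk x) b.1 * g = 0 := by
      refine ((IsLocalization.map_units (X.presheaf.stalk x) s).mul_left_eq_zero).1 ?_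
      rw [mul_assoc, has, ← map_mul, hb, map_zero]
    exact (IsLocalization.map_eq_zero_iff p.primeCompl (X.presheaf.stalk x) b.1).1
      ((mem_nonZeroDivisors_iff_right.1 hg) _ h2)
  choose e he using h1
  let h : Γ(X, U) := ∏ b, (e b).1
  have hh : ∀ r, r * a = 0 → h * r = 0 := fun r hr => by
    have : Submodule.span Γ(X, U) (gens : Set Γ(X, U)) ≤
        LinearMap.ker (LinearMap.mulLeft Γ(X, U) h) := by
      rw [Submodule.span_le]
      intro b hb
      obtain ⟨q, hq⟩ : (e ⟨b, hb⟩).1 ∣ h := Finset.dvd_prod_of_mem _ (Finset.mem_univ _)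
      show h * b = 0
      rw [hq]
      linear_combination q * he ⟨b, hb⟩
    exact this (hgens.symm ▸ hr : r ∈ Submodule.span Γ(X, U) (gens : Set Γ(X, U)))
  let W := X.basicOpen (h * s.1)
  have hWU : W ≤ U := X.basicOpen_le _
  have hu := Groth.Agent.QC.isUnit_resO_basicOpen hU (h * s.1)
  rw [map_mul] at hu
  have hsu := isUnit_of_mul_isUnit_right hu
  have hxW : x ∈ W := (X.mem_basicOpen _ x hxU).2 (by
    show IsUnit (algebraMap Γ(X, U) (X.presheaf.stalk x) (h * s.1))
    exact IsLocalization.map_units (X.presheaf.stalk x)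
      (⟨h * s.1, p.primeCompl.mul_mem (p.primeCompl.prod_mem fun b _ => (e b).2) s.2⟩ : p.primeCompl))
  refine ⟨W, hxW, Groth.Agent.QC.resO X hWU a * hsu.unit⁻¹.val, fun y => ?_, ?_⟩
  · rw [map_mul]
    refine Submonoid.mul_mem _ ?_ ((hsu.unit⁻¹).isUnit.map _).mem_nonZeroDivisors
    rw [TopCat.Presheaf.germ_res_apply]
    letI := X.presheaf.algebra_section_stalk (⟨y.1, hWU y.2⟩ : U)
    haveI := hU.isLocalization_stalk ⟨y.1, hWU y.2⟩
    let q := (hU.primeIdealOf ⟨y.1, hWU y.2⟩).asIdeal
    rw [mem_nonZeroDivisors_iff_right]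
    intro z hz
    obtain ⟨⟨r, t⟩, hrt⟩ := IsLocalization.surj q.primeCompl z
    have h3 : algebraMap Γ(X, U) (X.presheaf.stalk y.1) (r * a) = 0 := by
      rw [map_mul, ← hrt, mul_right_comm]
      exact mul_eq_zero_of_left hz _
    obtain ⟨w, hw⟩ := (IsLocalization.map_eq_zero_iff q.primeCompl _ _).1 h3
    have h4 : h * (w.1 * r) = 0 := hh _ (by rw [mul_assoc]; exact hw)
    have hhu : IsUnit (algebraMap Γ(X, U) (X.presheaf.stalk y.1) (h * w.1)) := by
      rw [map_mul]
      refine IsUnit.mul ?_ (IsLocalization.map_units _ w)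
      have h5 : IsUnit (algebraMap Γ(X, U) (X.presheaf.stalk y.1) (h * s.1)) :=
        (X.mem_basicOpen _ y.1 (hWU y.2)).1 y.2
      rw [map_mul] at h5
      exact isUnit_of_mul_isUnit_left h5
    refine ((IsLocalization.map_units (X.presheaf.stalk y.1) t).mul_left_eq_zero).1 ?_
    rw [hrt]
    refine hhu.mul_right_eq_zero.1 ?_
    rw [← map_mul, mul_assoc, h4, map_zero]
  · rw [map_mul, TopCat.Presheaf.germ_res_apply]
    have h6 := congrArg (X.presheaf.germ W x hxW) hsu.mul_val_inv
    rw [map_mul, TopCat.Presheaf.germ_res_apply, map_one] at h6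
    change algebraMap Γ(X, U) (X.presheaf.stalk x) a * _ = g
    rw [← has]
    exact (mul_assoc _ _ _).trans ((congrArg (g * ·) h6).trans (mul_one g))

end Groth.Agent.S8863
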