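import Groth.Statements.S8865
import Groth.Agent.MeroLib.Basic
open Groth.Agent.MeroLib Mero

set_option autoImplicit false
universe u
open CategoryTheory CategoryTheory.Limits AlgebraicGeometry TopologicalSpace
open SDiv

set_option backward.isDefEq.respectTransparency false
namespace Groth.Agent.S8865

/-- Let X be a quasi-compact scheme, h a global section of O_X and f a global section of the sheaf of
meromorphic functions K_X whose restriction to the open X_h where h is invertible vanishes. Then h^n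
f = 0 in K_X(X) for some natural number n. -/
theorem result (X : Scheme.{u}) [CompactSpace ↥X] (h : Γ(X, ⊤))
    (f : Γ(Mero.kmod X, ⊤)) (hf : (Mero.kmod X).presheaf.map (homOfLE (le_top : X.basicOpen h ≤ ⊤)).op f = 0) :
    ∃ n : ℕ, Mero.toK X ⊤ h ^ n * f = 0 := by
  classical
  have key : ∀ x : X, ∃ (W : X.Opens) (n : ℕ), x ∈ W ∧ ∀ y : X, y ∈ W →
      iK y (gO y (show y ∈ (⊤ : X.Opens) from trivial) h) ^ n * f.1 ⟨y, trivial⟩ = 0 := by
    intro x
    obtain ⟨W, hWU, a, b, hW, hxW, hb, hab⟩ := exists_frac f ⟨x, trivial⟩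
    set hw := X.presheaf.map (homOfLE hWU).op h with hhw
    have hg : ∀ (y : X) (hy : y ∈ W), gO y hy hw = gO y (show y ∈ (⊤ : X.Opens) from trivial) h :=
      fun y hy => X.presheaf.germ_res_apply (homOfLE hWU) y hy h
    have hle : X.basicOpen hw ≤ X.basicOpen h := by
      rw [hhw, Scheme.basicOpen_res]; exact inf_le_right
    have ha : X.presheaf.map (homOfLE (X.basicOpen_le hw)).op a = 0 := by
      refine TopCat.Presheaf.section_ext X.sheaf _ _ _ fun y hy => ?_
      refine ((X.presheaf.germ_res_apply (homOfLE (X.basicOpen_le hw)) y hy a).trans ?_).trans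
        (map_zero _).symm
      apply iK_inj y
      rw [map_zero, ← hab ⟨y, X.basicOpen_le hw hy⟩]
      have h0 : f.1 ⟨y, trivial⟩ = 0 := by
        have h1 := congrArg (fun g : Γ(Mero.kmod X, X.basicOpen h) => g.1 ⟨y, hle hy⟩) hf
        exact h1
      rw [h0, zero_mul]
    haveI := hW.isLocalization_basicOpen hw
    obtain ⟨⟨_, n, rfl⟩, hn⟩ :=
      (IsLocalization.map_eq_zero_iff (Submonoid.powers hw) Γ(X, X.basicOpen hw) a).mp ha
    refine ⟨W, n, hxW, fun y hy => ?_⟩
    refine (isUnit_iK_of_mem (regGerm ⟨y, hy⟩ ⟨b, hb⟩).2).mul_left_eq_zero.mp ?_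
    rw [mul_assoc, hab ⟨y, hy⟩, ← hg y hy, ← map_pow, ← map_mul, ← map_pow, ← map_mul]
    exact (congrArg (fun c => iK y (gO y hy c)) hn).trans (by rw [map_zero, map_zero])
  choose W n hxW hWn using key
  obtain ⟨S, hS⟩ := isCompact_univ.elim_finite_subcover (fun x => (W x : Set X)) (fun x => (W x).2)
    (fun x _ => Set.mem_iUnion.mpr ⟨x, hxW x⟩)
  refine ⟨S.sup n, Subtype.ext <| funext fun y => ?_⟩
  obtain ⟨x, hxS, hyW⟩ : ∃ x ∈ S, y.1 ∈ W x := by
    simpa [Set.mem_iUnion] using hS (Set.mem_univ y.1)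
  rw [kmod_mul_apply, ← map_pow, toK_val, map_pow, map_pow,
    ← Nat.sub_add_cancel (Finset.le_sup (f := n) hxS), pow_add, mul_assoc]
  exact (congrArg (_ * ·) (hWn x y.1 hyW)).trans (mul_zero _)

end Groth.Agent.S8865
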