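import Groth.Statements.S8869
import Groth.Agent.WeakAssLib.Struct

set_option autoImplicit false
universe u
open CategoryTheory CategoryTheory.Limits AlgebraicGeometry TopologicalSpace
open SDiv

namespace Groth.Agent.S8869

/-- Assume X is a reduced scheme and x is a point of X. Then x is weakly associated to the structure
sheaf O_X exactly when every generization of x equals x itself; equivalently, x is a generic point
of some irreducible component of X. -/
theorem result (X : Scheme.{u}) [IsReduced X] (x : ↥X) :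
    Curv2.IsWeakAssPoint (Coh.structureModule X) x ↔ ∀ y : ↥X, y ⤳ x → y = x := by
  obtain ⟨U, hU, hx, -⟩ := exists_isAffineOpen_mem_and_subset (X := X) (U := ⊤) (trivial : x ∈ (⊤ : X.Opens))
  rw [Groth.Agent.WeakAssLib.minimal_iff_maximalPt hU hx,
    Groth.Agent.WeakAssLib.isWeakAssPoint_iff hU (Groth.Agent.WeakAssLib.isLoc_struct hU) hx]
  set p := (hU.primeIdealOf ⟨x, hx⟩).asIdeal
  constructor
  · rintro ⟨s, hs⟩
    have hker : ∀ b : Γ(X, U), b ∈ LinearMap.ker (LinearMap.toSpanSingleton Γ(X, U)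
        Γ(Coh.structureModule X, U) s) ↔ b * (show Γ(X, U) from s) = 0 := fun b => Iff.rfl
    set s' : Γ(X, U) := (show Γ(X, U) from s)
    have hsp : s' ∉ p := by
      intro hsp
      let K : Ideal Γ(X, U) := LinearMap.ker (LinearMap.toSpanSingleton Γ(X, U) Γ(Coh.structureModule X, U) s)
      obtain ⟨n, t, ht, hts⟩ : ∃ (n : ℕ) (t : Γ(X, U)), t ∉ p ∧ t * s' ^ n * s' = 0 := by
        haveI : p.IsPrime := (hU.primeIdealOf ⟨x, hx⟩).isPrime
        let L := Localization.AtPrime p
        obtain ⟨n, hn⟩ : ∃ n : ℕ, (algebraMap Γ(X, U) L s') ^ n ∈ K.map (algebraMap Γ(X, U) L) := by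
          have hrad : algebraMap Γ(X, U) L s' ∈ (K.map (algebraMap Γ(X, U) L)).radical := by
            rw [Ideal.radical_eq_sInf]
            refine Submodule.mem_sInf.2 fun Q hQ => ?_
            have hle := Ideal.map_le_iff_le_comap.1 hQ.1
            have hQp : Ideal.comap (algebraMap Γ(X, U) L) Q ≤ p := by
              exact (Ideal.comap_mono (IsLocalRing.le_maximalIdeal hQ.2.ne_top)).trans
                (IsLocalization.AtPrime.under_maximalIdeal L p).le
            exact hs.2 ⟨hQ.2.comap _, hle⟩ hQp hsp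
          exact hrad
        rw [← map_pow, IsLocalization.algebraMap_mem_map_algebraMap_iff p.primeCompl] at hn
        obtain ⟨t, ht, hts⟩ := hn
        exact ⟨n, t, ht, (hker _).1 hts⟩
      have h0 : t * s' = 0 := IsReduced.eq_zero _ ⟨n + 1, by
        rw [show (t * s') ^ (n + 1) = t ^ n * (t * s' ^ n * s') by ring, hts, mul_zero]⟩
      exact ht (hs.1.2 ((hker t).2 h0))
    refine ⟨⟨(hU.primeIdealOf ⟨x, hx⟩).isPrime, bot_le⟩, fun q hq hqp => hs.2 ⟨hq.1, fun b hb => ?_⟩ hqp⟩
    exact (hq.1.mem_or_mem ((hker b).1 hb ▸ q.zero_mem)).resolve_right fun h => hsp (hqp h)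
  · intro h
    refine ⟨(1 : Γ(X, U)), ⟨h.1.1, ?_⟩, fun q hq hqp => h.2 ⟨hq.1, bot_le⟩ hqp⟩
    intro b (hb : b * 1 = 0)
    rw [mul_one] at hb
    rw [hb]
    exact Ideal.zero_mem _

end Groth.Agent.S8869
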