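import Groth.Statements.S8870
import Groth.Agent.WeakAssLib.Stalk

set_option autoImplicit false
universe u
open CategoryTheory CategoryTheory.Limits AlgebraicGeometry TopologicalSpace
open SDiv

namespace Groth.Agent.S8870

/-- Let X be a scheme and 0 → F₁ → F₂ → F₃ → 0 a short exact sequence of quasi-coherent O_X-modules.
Then WeakAss(F₂) ⊆ WeakAss(F₁) ∪ WeakAss(F₃) and WeakAss(F₁) ⊆ WeakAss(F₂). -/
theorem result (X : Scheme.{u}) (S : ShortComplex X.Modules) (hS : S.ShortExact)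
    (h₁ : Coh.IsQCoh S.X₁) (h₂ : Coh.IsQCoh S.X₂) (h₃ : Coh.IsQCoh S.X₃) :
    (∀ x : ↥X, Curv2.IsWeakAssPoint S.X₂ x → Curv2.IsWeakAssPoint S.X₁ x ∨ Curv2.IsWeakAssPoint S.X₃ x) ∧
      (∀ x : ↥X, Curv2.IsWeakAssPoint S.X₁ x → Curv2.IsWeakAssPoint S.X₂ x) := by
  have hmono : Mono S.f := hS.mono_f
  constructor
  · intro x ⟨m, hm⟩
    by_cases hg : Groth.Agent.WeakAssLib.stalkHom S.g x m = 0
    · obtain ⟨m₁, rfl⟩ := Groth.Agent.WeakAssLib.stalk_exact S hS x m hg
      refine Or.inl ⟨m₁, ?_⟩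
      rw [← hm]
      congr 1
      ext r
      simp only [LinearMap.mem_ker, LinearMap.toSpanSingleton_apply]
      rw [← Groth.Agent.WeakAssLib.stalkHom_smul]
      exact (map_eq_zero_iff _ (Groth.Agent.WeakAssLib.stalkHom_injective S.f x)).symm
    · refine Or.inr ⟨Groth.Agent.WeakAssLib.stalkHom S.g x m, le_antisymm ?_ ?_⟩
      · refine IsLocalRing.le_maximalIdeal fun h => hg ?_
        have h1 : (1 : X.presheaf.stalk x) • Groth.Agent.WeakAssLib.stalkHom S.g x m = 0 :=
          (Ideal.eq_top_iff_one _).1 (Ideal.radical_eq_top.1 h)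
        rwa [one_smul] at h1
      · rw [← hm]
        refine Ideal.radical_mono fun r hr => ?_
        rw [LinearMap.mem_ker, LinearMap.toSpanSingleton_apply] at hr
        rw [LinearMap.mem_ker, LinearMap.toSpanSingleton_apply]
        rw [← Groth.Agent.WeakAssLib.stalkHom_smul, hr, map_zero]
  · intro x ⟨m, hm⟩
    refine ⟨Groth.Agent.WeakAssLib.stalkHom S.f x m, ?_⟩
    rw [← hm]
    congr 1
    ext r
    simp only [LinearMap.mem_ker, LinearMap.toSpanSingleton_apply]
    rw [← Groth.Agent.WeakAssLib.stalkHom_smul]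
    exact map_eq_zero_iff _ (Groth.Agent.WeakAssLib.stalkHom_injective S.f x)

end Groth.Agent.S8870
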