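import Groth.Statements.S8871
import Groth.Agent.ZCl.S2
import Groth.Agent.LocFree.Rank
import Groth.Agent.AssLib.Points
import Groth.Agent.QGorD.Basic

set_option autoImplicit false
universe u
open CategoryTheory CategoryTheory.Limits AlgebraicGeometry TopologicalSpace
open SDiv

set_option backward.isDefEq.respectTransparency false

namespace Groth.Agent.S8871

open Groth.Agent.WeakAssLib

variable {X : Scheme.{u}} {F : X.Modules}

/-- Supported primes of a stalk are the generizations with nonzero stalk. -/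
theorem mem_support_iff (hF : Coh.IsQCoh F) {A : X.Opens} (hA : IsAffineOpen A) {x z : X}
    (hx : x ∈ A) (hz : z ∈ A) (P : PrimeSpectrum (X.presheaf.stalk x))
    (hP : P.asIdeal.comap (X.presheaf.germ A x hx).hom = (hA.primeIdealOf ⟨z, hz⟩).asIdeal) :
    P ∈ Module.support (X.presheaf.stalk x) (F.presheaf.stalk x) ↔
      Nontrivial (F.presheaf.stalk z) := by
  have hL : QC.IsLoc F A := QC.isLoc_of_isQCoh hA (hM := hF)
  let := TopCat.Presheaf.algebra_section_stalk X.presheaf ⟨x, hx⟩
  let p := (hA.primeIdealOf ⟨x, hx⟩).asIdeal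
  let q := (hA.primeIdealOf ⟨z, hz⟩).asIdeal
  have hloc : IsLocalization.AtPrime (X.presheaf.stalk x) p := hA.isLocalization_stalk ⟨x, hx⟩
  have hmem : ∀ a : Γ(X, A), algebraMap Γ(X, A) (X.presheaf.stalk x) a ∈ P.asIdeal ↔ a ∈ q := fun a =>
    SetLike.ext_iff.1 hP a
  have hqp : q ≤ p := fun a ha => by
    by_contra hap
    exact P.2.ne_top (Ideal.eq_top_of_isUnit_mem _ ((hmem a).2 ha)
      (IsLocalization.map_units (M := p.primeCompl) (X.presheaf.stalk x) ⟨a, hap⟩))
  rw [Module.mem_support_iff']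
  constructor
  · rintro ⟨σ, hσ⟩
    obtain ⟨a, m, ha, ham⟩ := exists_germ hA hL hx σ
    refine ⟨mgerm F hz m, 0, fun h0 => ?_⟩
    obtain ⟨b, hb, hbz⟩ := (germ_eq_zero_iff hA hL hz m).1 h0
    have h1 : mgerm F hx (b • m) = 0 := by rw [hbz, map_zero]
    rw [mgerm_smul, ← ham, smul_smul] at h1
    refine hσ _ (fun hmP => ?_) h1
    rcases P.2.mem_or_mem hmP with h | h
    · exact hb ((hmem b).1 h)
    · exact P.2.ne_top (Ideal.eq_top_of_isUnit_mem _ h (isUnit_germ hA hx ha))
  · intro hn
    by_contra hcon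
    push Not at hcon
    obtain ⟨σ, hσ⟩ := @exists_ne _ hn (0 : F.presheaf.stalk z)
    obtain ⟨a, m, ha, ham⟩ := exists_germ hA hL hz σ
    obtain ⟨r, hr, hrm⟩ := hcon (mgerm F hx m)
    obtain ⟨⟨c, s⟩, hcs⟩ := IsLocalization.surj p.primeCompl r
    have hcq : c ∉ q := fun hc => by
      rcases P.2.mem_or_mem (show r * algebraMap Γ(X, A) (X.presheaf.stalk x) (s : Γ(X, A)) ∈ P.asIdeal by
        rw [hcs]; exact (hmem c).2 hc) with h | h
      · exact hr h
      · exact s.2 (hqp ((hmem _).1 h))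
    have h1 : mgerm F hx (c • m) = 0 := by
      rw [mgerm_smul]
      change algebraMap Γ(X, A) (X.presheaf.stalk x) c • mgerm F hx m = 0
      rw [← hcs, mul_comm, mul_smul, hrm, smul_zero]
    obtain ⟨b, hb, hbz⟩ := (germ_eq_zero_iff hA hL hx _).1 h1
    have h2 : mgerm F hz m = 0 := (germ_eq_zero_iff hA hL hz _).2
      ⟨b * c, (hA.primeIdealOf ⟨z, hz⟩).asIdeal.primeCompl.mul_mem (fun h => hb (hqp h)) hcq,
        by rw [mul_smul]; exact hbz⟩
    rw [← ham] at h2
    exact hσ ((isUnit_germ hA hz ha).smul_eq_zero.1 h2)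

theorem one_le_supportDim_iff [IsLocallyNoetherian X] (hF : Coh.IsCoh F) (x : X) :
    (1 : WithBot ℕ∞) ≤ Module.supportDim (X.presheaf.stalk x) (F.presheaf.stalk x) ↔
      ∃ z : X, z ⤳ x ∧ z ≠ x ∧ Nontrivial (F.presheaf.stalk z) := by
  obtain ⟨A, hA, hx, -⟩ := exists_isAffineOpen_mem_and_subset (show x ∈ (⊤ : X.Opens) from trivial)
  let := TopCat.Presheaf.algebra_section_stalk X.presheaf ⟨x, hx⟩
  let p := (hA.primeIdealOf ⟨x, hx⟩).asIdeal
  have hloc : IsLocalization.AtPrime (X.presheaf.stalk x) p := hA.isLocalization_stalk ⟨x, hx⟩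
  have hmax : (IsLocalRing.maximalIdeal (X.presheaf.stalk x)).comap
      (algebraMap Γ(X, A) (X.presheaf.stalk x)) = p :=
    IsLocalization.AtPrime.under_maximalIdeal (X.presheaf.stalk x) p
  constructor
  · intro h
    obtain ⟨P, Q, hPQ⟩ := Order.one_le_krullDim_iff.1 h
    let q : PrimeSpectrum Γ(X, A) := ⟨P.1.asIdeal.comap (algebraMap Γ(X, A) (X.presheaf.stalk x)),
      Ideal.comap_isPrime _ _⟩
    have hz : hA.fromSpec q ∈ A := by rw [← SetLike.mem_coe, ← hA.range_fromSpec]; exact ⟨_, rfl⟩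
    have hzq : hA.primeIdealOf ⟨hA.fromSpec q, hz⟩ = q :=
      hA.fromSpec.isOpenEmbedding.injective (ZCl.fromSpec_primeIdealOf' hA hz)
    have hqp : q.asIdeal ≤ p := hmax ▸ Ideal.comap_mono (IsLocalRing.le_maximalIdeal P.1.2.ne_top)
    refine ⟨_, AssLib.specializes_of_le hA hz hx (by rw [hzq]; exact hqp), fun he => ?_,
      (mem_support_iff hF.1 hA hx hz P.1 (by rw [hzq]; rfl)).1 P.2⟩
    have hqe : q.asIdeal = p := by
      rw [← hzq]; exact congrArg (fun w => (hA.primeIdealOf w).asIdeal) (Subtype.ext he)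
    have hPm : P.1.asIdeal = IsLocalRing.maximalIdeal (X.presheaf.stalk x) :=
      congrArg PrimeSpectrum.asIdeal (PrimeSpectrum.localization_comap_injective (X.presheaf.stalk x)
        p.primeCompl (a₁ := P.1) (a₂ := IsLocalRing.closedPoint _) (PrimeSpectrum.ext (hqe.trans hmax.symm)))
    exact absurd (le_antisymm (show P.1.asIdeal ≤ Q.1.asIdeal from hPQ.le)
      (hPm ▸ IsLocalRing.le_maximalIdeal Q.1.2.ne_top)) (fun e => hPQ.ne (Subtype.ext (PrimeSpectrum.ext e)))
  · rintro ⟨z, hzx, hne, hnt⟩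
    have hz : z ∈ A := hzx.mem_open A.2 hx
    let q := (hA.primeIdealOf ⟨z, hz⟩).asIdeal
    have hqp : q ≤ p := ZCl.le_of_specializes hA hx hz hzx
    have hd : Disjoint (p.primeCompl : Set Γ(X, A)) (q : Set Γ(X, A)) :=
      Set.disjoint_left.2 fun a ha haq => ha (hqp haq)
    let P : PrimeSpectrum (X.presheaf.stalk x) := ⟨q.map (algebraMap _ _),
      IsLocalization.isPrime_of_isPrime_disjoint p.primeCompl _ _ (hA.primeIdealOf ⟨z, hz⟩).isPrime hd⟩
    have hc : P.asIdeal.comap (algebraMap Γ(X, A) (X.presheaf.stalk x)) = q :=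
      IsLocalization.comap_map_of_isPrime_disjoint p.primeCompl _ (hA.primeIdealOf ⟨z, hz⟩).isPrime hd
    have hP := (mem_support_iff hF.1 hA hx hz P hc).2 hnt
    have hlt : P.asIdeal < IsLocalRing.maximalIdeal (X.presheaf.stalk x) := by
      refine lt_of_le_of_ne (IsLocalRing.le_maximalIdeal P.2.ne_top) fun he => hne ?_
      have e : hA.primeIdealOf ⟨z, hz⟩ = hA.primeIdealOf ⟨x, hx⟩ :=
        PrimeSpectrum.ext (hc.symm.trans ((congrArg (Ideal.comap _) he).trans hmax))
      rw [← ZCl.fromSpec_primeIdealOf' hA hz, e, ZCl.fromSpec_primeIdealOf' hA hx]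
    exact Order.one_le_krullDim_iff.2
      ⟨⟨P, hP⟩, ⟨IsLocalRing.closedPoint _, Module.mem_support_mono hlt.le hP⟩, hlt⟩

/-- Let X be a locally Noetherian scheme and F a coherent O_X-module. Then F has no embedded associated
points (every associated point of F is maximal among the associated points of F under
specialization) if and only if F has property (S_1): for every point x, depth F_x ≥ min(1, dim Supp
F_x), where dim Supp F_x is the Krull dimension of the support of the O_{X,x}-module F_x (for F_x =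
0 the depth is infinite and the support empty, so the condition holds). -/
theorem result (X : Scheme.{u}) [IsLocallyNoetherian X] (F : X.Modules) (hF : Coh.IsCoh F) :
    (∀ x : ↥X, Curv2.IsAssPoint F x → ∀ y : ↥X, Curv2.IsAssPoint F y → y ⤳ x → y = x) ↔
      ∀ x : ↥X, min (1 : WithBot ℕ∞) (Module.supportDim ↑(X.presheaf.stalk x) ↑(F.presheaf.stalk x)) ≤
        ((LocCoh.depth (X.presheaf.stalk x) (F.presheaf.stalk x) : ℕ∞) : WithBot ℕ∞) := by
  constructor
  · intro H x
    by_cases hx : Curv2.IsAssPoint F x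
    · have h : ¬ (1 : WithBot ℕ∞) ≤ Module.supportDim (X.presheaf.stalk x) (F.presheaf.stalk x) := by
        rw [one_le_supportDim_iff hF]
        rintro ⟨z, hzx, hne, hnt⟩
        obtain ⟨w, hwz, hw⟩ := AssLib.exists_ass_specializes hF.1 hnt
        obtain rfl := H x hx w hw (hwz.trans hzx)
        exact hne (hzx.antisymm hwz).eq
      refine (min_le_right _ _).trans ?_
      revert h
      generalize Module.supportDim (X.presheaf.stalk x) (F.presheaf.stalk x) = d
      intro h
      induction d using WithBot.recBotCoe with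
      | bot => exact bot_le
      | coe d =>
        obtain rfl : d = 0 := ENat.lt_one_iff_eq_zero.1 (not_le.1 fun h' => h (WithBot.coe_le_coe.2 h'))
        exact WithBot.coe_le_coe.2 zero_le
    · exact (min_le_left _ _).trans
        (WithBot.coe_le_coe.2 (ZCl.depth_one_of_not_ass hF hx))
  · intro H x hx y hy hyx
    by_contra hne
    have h1 := (one_le_supportDim_iff hF x).2 ⟨y, hyx, hne, AssLib.nontrivial_of_isAssPoint hy⟩
    have h2 := H x
    rw [min_eq_left h1] at h2
    obtain ⟨A, hA, hxA, -⟩ := exists_isAffineOpen_mem_and_subset (show x ∈ (⊤ : X.Opens) from trivial)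
    haveI : Module.Finite Γ(X, A) Γ(F, A) := (QC.isCoh_iff_finite_sections.mp hF).2 ⟨A, hA⟩
    haveI := LocFree.finite_stalk hA hF.1 hxA
    obtain ⟨r, hr, hreg⟩ := QGorD.exists_regular_of_one_le
      (IsLocalRing.maximalIdeal (X.presheaf.stalk x)) (F.presheaf.stalk x) (WithBot.coe_le_coe.1 h2)
    exact (QGorD.isSMulRegular_iff_not_mem r).1 hreg (Set.mem_biUnion hx hr)

end Groth.Agent.S8871
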