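import Groth.Statements.S8876
import Groth.Agent.FittLib.Sheaf
import Groth.Agent.S6891

set_option autoImplicit false
universe u
open CategoryTheory CategoryTheory.Limits AlgebraicGeometry TopologicalSpace
open SDiv

namespace Groth.Agent.S8876

/-- Let S be a scheme and F a quasi-coherent O_S-module of finite type. Then the closed subset of S cut
out by Fit_0(F) equals the support of F (the scheme-theoretic support and the Fit_0 subscheme have
the same underlying set). -/
theorem result (S : Scheme.{u}) (F : S.Modules) (hF : Coh.IsQCoh F) (hft : CohB1.IsFT F) :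
    ((Fitt.sheafIdeal F 0).support : Set ↥S) = CohB1.support F := by
  ext x
  obtain ⟨U, hU, hx⟩ := Groth.Agent.QC.exists_affine_mem x
  haveI : Module.Finite Γ(S, U) Γ(F, U) := Groth.Agent.QC.finite_sections hU (hM := hF) hft
  rw [SetLike.mem_coe, FittLib.mem_support_iff _ ⟨U, hU⟩ hx, FittLib.sheafIdeal_ideal hF hft,
    ← Groth.Agent.QC.mem_moduleSupport_iff (hM := hF) hU hx,
    ← (Groth.Agent.S6891.result Γ(F, U) (⊥ : Ideal Γ(S, U))).2.1, PrimeSpectrum.mem_zeroLocus]
  rfl

end Groth.Agent.S8876
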