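import Groth.Statements.S8877
import Groth.Agent.FittLib.Sheaf

set_option autoImplicit false
universe u
open CategoryTheory CategoryTheory.Limits AlgebraicGeometry TopologicalSpace
open SDiv

namespace Groth.Agent.S8877

/-- Let S be a scheme and F a quasi-coherent O_S-module of finite type, and let Z_r ⊆ S be the closed
subset cut out by the r-th Fitting ideal of F. Then the intersection of all the Z_r is empty. -/
theorem result (S : Scheme.{u}) (F : S.Modules) (hF : Coh.IsQCoh F) (hft : CohB1.IsFT F)
    (s : ↥S) : ∃ r : ℕ, s ∉ (Fitt.sheafIdeal F r).support := by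
  obtain ⟨U, hU, hx⟩ := Groth.Agent.QC.exists_affine_mem s
  haveI : Module.Finite Γ(S, U) Γ(F, U) := Groth.Agent.QC.finite_sections hU (hM := hF) hft
  obtain ⟨n, g, hg⟩ := FittLib.exists_generators Γ(S, U) Γ(F, U)
  refine ⟨n, fun h => ?_⟩
  rw [FittLib.mem_support_iff _ ⟨U, hU⟩ hx, FittLib.sheafIdeal_ideal hF hft,
    FittLib.ideal_eq_top_of_generators g hg (by simp)] at h
  exact (hU.primeIdealOf ⟨s, hx⟩).isPrime.ne_top (top_le_iff.mp h)

end Groth.Agent.S8877
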