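import Groth.Statements.S8880
import Groth.Agent.NormLB.Plain
import Groth.Agent.TMul.AmpleBasis
-- import your own Groth.Agent.* helpers here

set_option autoImplicit false
universe u
open CategoryTheory CategoryTheory.Limits AlgebraicGeometry TopologicalSpace
open SDiv

namespace Groth.Agent.S8880

/-- Let π : X ⟶ Y be a finite morphism of schemes such that a norm of degree d exists for π, and assume
X is quasi-affine. Then Y is quasi-affine. -/
theorem result {X Y : Scheme.{u}} (π : X ⟶ Y) [IsFinite π] (d : ℕ) (hN : Nrm.HasNorm π d)
    (hX : X.IsQuasiAffine) : Y.IsQuasiAffine := by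
  obtain ⟨N⟩ := hN
  haveI := hX
  haveI : CompactSpace Y := ⟨by
    rw [← Set.image_univ_of_surjective (f := π.base)
      (Groth.Agent.NormLB.ofNormMap (Groth.Agent.NormLB.ofNormOfDegree N)).surjective]
    exact isCompact_univ.image π.continuous⟩
  refine TMul.isQuasiAffine_of_isAmple (Groth.Agent.NormAmple.isAmple_of_pullback
    (Nat.lt_of_lt_of_le Nat.zero_lt_one N.one_le) (Groth.Agent.NormLB.ofNormOfDegree N)
    TMul.isInvertible_structureModule ?_)
  exact TMul.isAmple_of_isQuasiAffine (PicLoc.isInvertible_pullback π TMul.isInvertible_structureModule)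

end Groth.Agent.S8880
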