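import Groth.Statements.S8886
import Mathlib

set_option autoImplicit false
universe u
open CategoryTheory CategoryTheory.Limits AlgebraicGeometry TopologicalSpace
open SDiv

namespace Groth.Agent.S8886

/-- Let f : X ⟶ Y be a flat morphism of schemes with Y integral. If the scheme-theoretic fibre of f over
the generic point of Y is integral, then X is integral. -/
theorem result {X Y : Scheme.{u}} (f : X ⟶ Y) [Flat f] [IsIntegral Y]
    (h : IsIntegral (f.fiber (genericPoint ↥Y))) : IsIntegral X := by
  have : IsDominant (Y.fromSpecResidueField (genericPoint Y)) := by
    refine ⟨?_⟩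
    rw [DenseRange, Scheme.range_fromSpecResidueField, dense_iff_closure_eq]
    exact genericPoint_spec Y
  have : QuasiCompact (Y.fromSpecResidueField (genericPoint Y)) :=
    ⟨fun U _ _ => Set.Subsingleton.isCompact (fun a _ b _ => Subsingleton.elim a b)⟩
  have := IsSchemeTheoreticallyDominant.of_isDominant (Y.fromSpecResidueField (genericPoint Y))
  have hd : IsSchemeTheoreticallyDominant (f.fiberι (genericPoint Y)) :=
    inferInstanceAs (IsSchemeTheoreticallyDominant (pullback.fst f (Y.fromSpecResidueField (genericPoint Y))))
  have : QuasiCompact (f.fiberι (genericPoint Y)) :=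
    inferInstanceAs (QuasiCompact (pullback.fst f (Y.fromSpecResidueField (genericPoint Y))))
  have : IsReduced X := IsSchemeTheoreticallyDominant.isReduced (f.fiberι (genericPoint Y))
  have hdense : DenseRange (f.fiberι (genericPoint Y)).base := (f.fiberι (genericPoint Y)).denseRange
  have : IrreducibleSpace X := by
    have hirr : IsIrreducible (Set.range (f.fiberι (genericPoint Y)).base) := by
      rw [← Set.image_univ]
      exact (IrreducibleSpace.isIrreducible_univ _).image _ (f.fiberι (genericPoint Y)).continuous.continuousOn
    have h2 := hirr.closure
    rw [hdense.closure_eq] at h2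
    exact { toNonempty := h2.nonempty.to_type, isPreirreducible_univ := h2.isPreirreducible }
  exact isIntegral_of_irreducibleSpace_of_isReduced X

end Groth.Agent.S8886
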