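import Groth.Statements.S8887
import Groth.Agent.LocFree.Rank
-- import your own Groth.Agent.* helpers here

set_option autoImplicit false
universe u
open CategoryTheory CategoryTheory.Limits AlgebraicGeometry TopologicalSpace
open SDiv

set_option backward.isDefEq.respectTransparency false

namespace Groth.Agent.S8887

open Groth.Agent.QC Groth.Agent.WeakAssLib Opposite

/-- A basis of the sections over an affine open trivialises a quasi-coherent module. -/
lemma iso_free_of_basis {X : Scheme.{u}} {M : X.Modules} (hM : Coh.IsQCoh M) {U : X.Opens} (hU : IsAffineOpen U)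
    {n : ℕ} (b₀ : Module.Basis (Fin n) Γ(X, U) Γ(M, U)) :
    Nonempty (M.restrict U.ι ≅ FlatMod.freeMod (↑U) n) := by
  classical
  let e1 : Γ(M, U) ≃ₗ[Γ(X, U)] (ULift.{u} (Fin n) →₀ Γ(X, U)) := (b₀.reindex Equiv.ulift.symm).repr
  haveI : M.IsQuasicoherent := hM
  haveI : (M.restrict hU.fromSpec).IsQuasicoherent := isQCoh_restrict hU.fromSpec hM
  let e2 : (modulesSpecToSheaf.obj (M.restrict hU.fromSpec)).presheaf.obj (op ⊤) ≅
      ModuleCat.of Γ(X, U) (ULift.{u} (Fin n) →₀ Γ(X, U)) :=
    ((topEquiv hU M).trans e1).toModuleIso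
  let e3 : M.restrict hU.fromSpec ≅ SheafOfModules.free.{u} (ULift.{u} (Fin n)) :=
    (isoTildeΓ (M.restrict hU.fromSpec)).symm ≪≫ (tilde.functor _).mapIso e2 ≪≫
      tildeFinsupp (R := Γ(X, U)) (ULift.{u} (Fin n))
  let e4 : SheafOfModules.free.{u} (R := (Spec Γ(X, U)).ringCatSheaf) (ULift.{u} (Fin n)) ≅
      FlatMod.freeMod (Spec Γ(X, U)) n :=
    Sigma.whiskerEquiv (g := fun _ : Fin n => Coh.structureModule (Spec Γ(X, U))) Equiv.ulift
      fun _ => Iso.refl _
  exact ⟨(fromSpecIso hU M).symm ≪≫
    (Scheme.Modules.restrictFunctor hU.isoSpec.hom).mapIso (e3 ≪≫ e4) ≪≫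
    (Scheme.Modules.restrictFunctorIsoPullback hU.isoSpec.hom).app _ ≪≫
    Groth.Agent.DerPerf.pullFreeIso hU.isoSpec.hom n⟩

/-- Let X be an integral scheme and F a quasi-coherent O_X-module of finite type, of rank r (r being the
finite dimension of the generic stalk of F as a vector space over the function field of X). Then one
can find an open subset U of X, not empty, on which the restriction of F is isomorphic to the free
module of rank r. -/
theorem result (X : Scheme.{u}) [IsIntegral X] (F : X.Modules) (hF : Coh.IsQCoh F)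
    (hft : CohB1.IsFT F) :
    ∃ U : X.Opens, (U : Set ↥X).Nonempty ∧
      Nonempty (F.restrict U.ι ≅ FlatMod.freeMod (↑U)
        (Module.finrank ↑(X.presheaf.stalk (genericPoint ↥X)) ↑(F.presheaf.stalk (genericPoint ↥X)))) := by
  classical
  let η := genericPoint ↥X
  obtain ⟨U, hU, hη, -⟩ := exists_isAffineOpen_mem_and_subset (x := η) (U := (⊤ : X.Opens)) trivial
  haveI := finite_sections hU (hM := hF) hft
  haveI := LocFree.finite_stalk hU hF hη
  obtain ⟨r, s, hηr, hs⟩ := LocFree.exists_spanning hU hF hη
  have hD := hU.basicOpen r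
  have hspan := LocFree.span_germ hD hF hηr s hs
  -- the germs at the generic point form a basis
  have hfield : IsField (X.presheaf.stalk η) := Field.toIsField (X.presheaf.stalk (genericPoint X))
  letI := hfield.toField
  let v := fun i => mgerm F hηr (s i)
  have hli : LinearIndependent (X.presheaf.stalk η) v := by
    rw [Fintype.linearIndependent_iff]
    intro c hc i
    have h1 := congrArg (fun t => (1 : IsLocalRing.ResidueField (X.presheaf.stalk η)) ⊗ₜ[X.presheaf.stalk η] t) hc
    simp only [TensorProduct.tmul_sum, TensorProduct.tmul_zero, TensorProduct.tmul_smul] at h1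
    have h2 := Fintype.linearIndependent_iff.1 (LocFree.indep_residue v hspan rfl)
      (fun j => IsLocalRing.residue _ (c j)) (by
        rw [← h1]
        refine Finset.sum_congr rfl fun j _ => ?_
        exact algebraMap_smul (IsLocalRing.ResidueField (X.presheaf.stalk η)) (c j) _) i
    exact (map_eq_zero _).1 h2
  let bη := Module.Basis.mk hli hspan.ge
  have hn : Module.finrank (X.presheaf.stalk η) (F.presheaf.stalk η) = LocFree.rk F η :=
    (Module.finrank_eq_card_basis bη).trans (Fintype.card_fin _)
  have hliD : LinearIndependent Γ(X, X.basicOpen r) s := by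
    rw [Fintype.linearIndependent_iff]
    intro c hc i
    have h := congrArg (mgerm F hηr) hc
    rw [map_sum, map_zero] at h
    simp only [mgerm_smul] at h
    have h' := Fintype.linearIndependent_iff.1 hli _ h i
    haveI : Nonempty (X.basicOpen r) := ⟨⟨η, hηr⟩⟩
    exact AlgebraicGeometry.germ_injective_of_isIntegral X η hηr (h'.trans (map_zero _).symm)
  refine ⟨X.basicOpen r, ⟨η, hηr⟩, ?_⟩
  rw [show Module.finrank ↑(X.presheaf.stalk (genericPoint ↥X)) ↑(F.presheaf.stalk (genericPoint ↥X)) =
    LocFree.rk F η from hn]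
  exact iso_free_of_basis hF hD (Module.Basis.mk hliD hs.ge)

end Groth.Agent.S8887
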