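import Groth.Statements.S8888
import Groth.Agent.KFlat.Pullback

set_option autoImplicit false
universe u
open CategoryTheory CategoryTheory.Limits AlgebraicGeometry TopologicalSpace
open SDiv

namespace Groth.Agent.S8888

/-- Let f : X ⟶ Y be a dominant morphism of integral schemes and G a quasi-coherent O_Y-module. Then the
rank of f^*G on X, the dimension of its stalk at the generic point of X over the function field of
X, equals the rank of G on Y. -/
theorem result {X Y : Scheme.{u}} [IsIntegral X] [IsIntegral Y] (f : X ⟶ Y) [IsDominant f]
    (G : Y.Modules) (hG : Coh.IsQCoh G) :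
    Module.rank ↑(X.presheaf.stalk (genericPoint ↥X)) ↑(((Scheme.Modules.pullback f).obj G).presheaf.stalk (genericPoint ↥X)) =
      Module.rank ↑(Y.presheaf.stalk (genericPoint ↥Y)) ↑(G.presheaf.stalk (genericPoint ↥Y)) := by
  have hgen : f.base (genericPoint ↥X) = genericPoint ↥Y := by
    have h1 := (genericPoint_spec ↥X).image f.continuous
    have h2 : closure (Set.range f.base) = Set.univ := f.denseRange.closure_range
    rw [Set.image_univ, h2] at h1
    exact h1.eq (genericPoint_spec ↥Y)
  have key : ∀ y : ↥Y, f.base (genericPoint ↥X) = y →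
      Module.rank ↑(Y.presheaf.stalk (f.base (genericPoint ↥X))) ↑(G.presheaf.stalk (f.base (genericPoint ↥X))) =
        Module.rank ↑(Y.presheaf.stalk y) ↑(G.presheaf.stalk y) := by
    rintro y rfl; rfl
  refine Eq.trans ?_ (key _ hgen)
  have hF : IsField (Y.presheaf.stalk (f.base (genericPoint ↥X))) := by
    rw [hgen]
    exact Field.toIsField Y.functionField
  letI : Field (Y.presheaf.stalk (f.base (genericPoint ↥X))) := hF.toField
  letI := (f.stalkMap (genericPoint ↥X)).hom.toAlgebra
  have e := ((KFlat.pullStalkIso f (genericPoint ↥X)).app G).toLinearEquiv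
  refine e.rank_eq.trans ?_
  refine Eq.trans ?_ (Cardinal.lift_id _)
  exact Module.rank_baseChange

end Groth.Agent.S8888
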