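import Groth.Statements.S8889
import Groth.Agent.WeakAssLib.Stalk

set_option autoImplicit false
universe u
open CategoryTheory CategoryTheory.Limits AlgebraicGeometry TopologicalSpace
open SDiv

namespace Groth.Agent.S8889

/-- Let X be a scheme and φ : F ⟶ G a morphism of quasi-coherent O_X-modules. Assume that for every
point x of X either the stalk map F_x → G_x is injective or x is not a weakly associated point of F.
Then φ is injective. -/
theorem result (X : Scheme.{u}) {F G : X.Modules} (φ : F ⟶ G) (hF : Coh.IsQCoh F)
    (hG : Coh.IsQCoh G)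
    (h : ∀ x : ↥X, Function.Injective ((TopCat.Presheaf.stalkFunctor AddCommGrpCat.{u} x).map (Scheme.Modules.Hom.mapPresheaf φ)) ∨ ¬ Curv2.IsWeakAssPoint F x) :
    Mono φ := by
  rw [Groth.Agent.QC.mono_iff_app_injective]
  intro V
  rw [injective_iff_map_eq_zero]
  intro s hs
  refine Groth.Agent.WeakAssLib.eq_zero_of_forall hF s fun y hy hw => ?_
  exact Groth.Agent.WeakAssLib.eq_zero_of_stalkHom φ hy s ((h y).resolve_right (not_not.2 hw)) hs

end Groth.Agent.S8889
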