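import Groth.Statements.S8895
import Groth.Agent.RelH1.Sch
import Groth.Agent.KoszulLib.Kinds

set_option autoImplicit false
universe u
open CategoryTheory CategoryTheory.Limits AlgebraicGeometry TopologicalSpace
open SDiv

namespace Groth.Agent.S8895

/-- Let f : X ⟶ S be locally of finite presentation and i : Z ⟶ X a relative H_1-regular immersion. Then
(1) there is an open subscheme U ⊆ X containing the image of Z such that U ⟶ S is flat, and (2) i is
a regular immersion and remains one after any base change S' ⟶ S. -/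
theorem result {Z X S : Scheme.{u}} (f : X ⟶ S) [LocallyOfFinitePresentation f] (i : Z ⟶ X)
    (hi : RegImm.IsRelRegularImmersion RegImm.Kind.h1 f i) :
    (∃ U : X.Opens, Set.range (fun z : ↥Z => i z) ⊆ (U : Set ↥X) ∧ Flat (U.ι ≫ f)) ∧
      RegImm.IsRegularImmersion RegImm.Kind.regular i ∧
      ∀ (S' : Scheme.{u}) (g : S' ⟶ S), RegImm.IsRegularImmersion RegImm.Kind.regular (pullback.snd i (pullback.fst f g)) := by
  have key : ∀ {Z X S : Scheme.{u}} (f : X ⟶ S) [LocallyOfFinitePresentation f] (i : Z ⟶ X),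
      RegImm.IsRelRegularImmersion RegImm.Kind.h1 f i →
      ∃ U : X.Opens, (∀ z, i z ∈ U) ∧ (∀ x ∈ U, (f.stalkMap x).hom.Flat) ∧
        RegImm.IsRegularImmersion RegImm.Kind.regular i := by
    intro Z X S f _ i hi
    let U : X.Opens := ⟨_, Groth.Agent.S0386.result f⟩
    have hU : ∀ z, i z ∈ U := fun z => RelH1.flat_stalkMap f i hi z
    have hq : RegImm.IsRelRegularImmersion RegImm.Kind.quasi f i :=
      ⟨KoszulLib.isRegularImmersion_mono (fun R _ rs h => KoszulLib.quasi_seq_of_h1 h) hi.1, hi.2⟩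
    exact ⟨U, hU, fun x hx => hx, RelH1.isRegularImmersion_regular f i U hU (fun x hx => hx) hq⟩
  obtain ⟨U, hU, hfl, hreg⟩ := key f i hi
  refine ⟨⟨U, Set.range_subset_iff.mpr hU, ?_⟩, hreg, fun S' g => ?_⟩
  · rw [Flat.iff_flat_stalkMap]
    intro x
    rw [Scheme.Hom.stalkMap_comp]
    exact RingHom.Flat.comp (hfl (U.ι x) x.2) (Flat.stalkMap U.ι x)
  · obtain ⟨U', -, -, hreg'⟩ := key (pullback.snd f g) _
      (KoszulLib.isRelRegularImmersion_baseChange f i .h1 (.inl rfl) hi (IsPullback.of_hasPullback f g)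
        (IsPullback.of_hasPullback i (pullback.fst f g)))
    exact hreg'

end Groth.Agent.S8895
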