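import Groth.Statements.S8896
import Groth.Agent.RelQuasi.Basic

set_option autoImplicit false
set_option linter.style.haveILetI false
set_option backward.isDefEq.respectTransparency false
open Groth.Agent
universe u
open CategoryTheory CategoryTheory.Limits AlgebraicGeometry TopologicalSpace
open SDiv

namespace Groth.Agent.S8896

/-- Let φ : X ⟶ S be flat and locally of finite presentation and 𝓘 a quasi-coherent ideal sheaf on X
whose closed subscheme T is flat and locally of finite presentation over S. If for every point s of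
S the fibre T_s ⟶ X_s (base change of T ⟶ X to the scheme-theoretic fibre) is a quasi-regular
immersion, then T ⟶ X is a relative quasi-regular immersion. -/
theorem result {X S : Scheme.{u}} (φ : X ⟶ S) [Flat φ] [LocallyOfFinitePresentation φ]
    (𝓘 : X.IdealSheafData) [Flat (𝓘.subschemeι ≫ φ)] [LocallyOfFinitePresentation (𝓘.subschemeι ≫ φ)]
    (hfib : ∀ s : ↥S, RegImm.IsRegularImmersion RegImm.Kind.quasi (pullback.snd 𝓘.subschemeι (φ.fiberι s))) :
    RegImm.IsRelRegularImmersion RegImm.Kind.quasi φ 𝓘.subschemeι := by
  refine ⟨⟨inferInstance, fun z => ?_⟩, inferInstance⟩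
  obtain ⟨U, hxU, rs, hrs, hI⟩ := RelQuasi.exists_regular_chart φ 𝓘 hfib z
  haveI : IsClosedImmersion (𝓘.subschemeι ∣_ U.1) := IsZariskiLocalAtTarget.restrict (P := @IsClosedImmersion) inferInstance U.1
  exact ⟨U, hxU, inferInstance, rs,
    RegIdeal.isQuasiRegular_of_wReg ((RegIdeal.wReg_iff rs.get).2 (by rwa [List.ofFn_get])),
    (Scheme.IdealSheafData.ker_subschemeι_app (I := 𝓘) U).trans hI⟩

end Groth.Agent.S8896
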