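import Groth.Statements.S8897
import Groth.Agent.SmoothDesc.Sch
import Groth.Agent.KoszulLib.SchSmooth

set_option autoImplicit false
universe u
open CategoryTheory CategoryTheory.Limits AlgebraicGeometry TopologicalSpace
open SDiv

namespace Groth.Agent.S8897

/-- Let p : X ⟶ S be smooth and let i : Y ⟶ X and j : Y ⟶ S be immersions with i ≫ p = j. If i is a
Koszul-regular (resp. H_1-regular, resp. quasi-regular) immersion, then so is j. -/
theorem result {Y X S : Scheme.{u}} (p : X ⟶ S) [Smooth p] (i : Y ⟶ X) (j : Y ⟶ S)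
    [IsImmersion i] [IsImmersion j] (h : i ≫ p = j) (k : RegImm.Kind) (hk : k ≠ RegImm.Kind.regular)
    (hi : RegImm.IsRegularImmersion k i) : RegImm.IsRegularImmersion k j := by
  cases k with
  | regular => exact absurd rfl hk
  | koszul => exact (Groth.Agent.KoszulLib.isRegularImmersion_smooth_iff j i p h).mpr hi
  | h1 =>
    exact ⟨inferInstance, fun z => SmoothDesc.isRegularImmersionAt_of_smooth KoszulLib.goodSeq_h1 _ hk
      (fun _ _ _ => Iff.rfl) (fun π hπ _ _ y a hker h => SmoothDesc.h1_tail π hπ y a hker h) j i p h z (hi.2 z)⟩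
  | quasi =>
    exact ⟨inferInstance, fun z => SmoothDesc.isRegularImmersionAt_of_smooth KoszulLib.goodSeq_quasi _ hk
      (fun _ _ _ => Iff.rfl) (fun π hπ _ _ y a hker h => SmoothDesc.quasi_tail π hπ y a hker h) j i p h z (hi.2 z)⟩

end Groth.Agent.S8897
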