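import Groth.Statements.S8898
import Groth.Agent.BlowUpLib.Basic

set_option autoImplicit false
universe u
open CategoryTheory CategoryTheory.Limits AlgebraicGeometry TopologicalSpace
open SDiv

namespace Groth.Agent.S8898

/-- Let X be a scheme, 𝓘 a quasi-coherent ideal sheaf and b : X' ⟶ X a blowing up of X in 𝓘. Then the
pullback b⁻¹D is defined for every effective Cartier divisor D ⊆ X (the inverse image ideal of the
ideal of D is again the ideal of an effective Cartier divisor), and pullbacks of meromorphic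
functions are defined for b (b carries regular sections of O_X, i.e. sections whose germs are
nonzerodivisors, to regular sections of O_{X'}). -/
theorem result {X X' : Scheme.{u}} (𝓘 : X.IdealSheafData) (b : X' ⟶ X) (hb : BlowUp.IsBlowUp b 𝓘) :
    (∀ 𝓓 : X.IdealSheafData, BlowUp.IsEffCartierIdeal 𝓓 → BlowUp.IsEffCartierIdeal (𝓓.comap b)) ∧
      ∀ (U : X.Opens) (s : Γ(X, U)), s ∈ Mero.regSub X U → b.app U s ∈ Mero.regSub X' (b ⁻¹ᵁ U) := by
  refine ⟨fun 𝓓 h => Groth.Agent.BlowUpLib.cartier_comap_blowUp hb h, fun U s hs y => ?_⟩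
  obtain ⟨W, hyW, hWU, g, hg, hge⟩ := Groth.Agent.BlowUpLib.exists_small_generator hb.1 (O := b ⁻¹ᵁ U) (x := y.1) y.2
  let t : Γ(X', W.1) := (X'.presheaf.map (homOfLE hWU).op).hom (b.app U s)
  have ht : t ∈ nonZeroDivisors Γ(X', W.1) := by
    refine mem_nonZeroDivisors_iff_right.2 fun a ha => Groth.Agent.BlowUpLib.eq_zero_of_germ hg a fun z hz => ?_
    have hzW : z ∈ W.1 := X'.basicOpen_le g hz
    have hiso := Groth.Agent.BlowUpLib.isIso_stalkMap hb
      (Groth.Agent.BlowUpLib.notMem_support_of_mem_basicOpen b 𝓘 hge hz)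
    have hreg : (b.stalkMap z).hom ((X.presheaf.germ U (b.base z) (hWU hzW)).hom s) ∈
        nonZeroDivisors (X'.presheaf.stalk z) :=
      Groth.Agent.BlowUpLib.mem_nonZeroDivisors_map_of_flat (b.stalkMap z)
        (RingHom.Flat.of_bijective (ConcreteCategory.bijective_of_isIso (b.stalkMap z))) (hs ⟨b.base z, hWU hzW⟩)
    have hgerm : (b.stalkMap z).hom ((X.presheaf.germ U (b.base z) (hWU hzW)).hom s) =
        (X'.presheaf.germ W.1 z hzW).hom t :=
      (Scheme.Hom.germ_stalkMap_apply b U z (hWU hzW) s).trans (X'.presheaf.germ_res_apply _ _ _ _).symm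
    rw [hgerm] at hreg
    have h0 := congrArg (X'.presheaf.germ W.1 z hzW).hom ha
    rw [map_mul, map_zero] at h0
    exact (mul_right_mem_nonZeroDivisors_eq_zero_iff hreg).1 h0
  letI := (X'.presheaf.germ W.1 y.1 hyW).hom.toAlgebra
  haveI : IsLocalization.AtPrime (X'.presheaf.stalk y.1) (W.2.primeIdealOf ⟨y.1, hyW⟩).asIdeal :=
    W.2.isLocalization_stalk ⟨y.1, hyW⟩
  have h := IsLocalization.map_nonZeroDivisors_le (W.2.primeIdealOf ⟨y.1, hyW⟩).asIdeal.primeCompl
    (X'.presheaf.stalk y.1) (Submonoid.mem_map_of_mem _ ht)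
  have e : (X'.presheaf.germ W.1 y.1 hyW).hom t = (X'.presheaf.germ (b ⁻¹ᵁ U) y.1 y.2).hom (b.app U s) :=
    X'.presheaf.germ_res_apply _ _ _ _
  rw [← e]
  exact h

end Groth.Agent.S8898
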