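import Groth.Statements.S8899
import Groth.Agent.KFlat.Pullback
-- import your own Groth.Agent.* helpers here

set_option autoImplicit false
set_option backward.isDefEq.respectTransparency false
universe u
open CategoryTheory CategoryTheory.Limits AlgebraicGeometry TopologicalSpace
open SDiv

namespace Groth.Agent.S8899

/-- Let f : X ⟶ S be a morphism of schemes, G a quasi-coherent O_S-module and x a point of X over s = f
x such that f is flat at x, no point of f⁻¹(s) other than x specialises to x (x is the generic point
of some irreducible component of the fibre X_s), and s is weakly associated to G. Then x is weakly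
associated to f^*G. -/
theorem result {X S : Scheme.{u}} (f : X ⟶ S) (G : S.Modules) (hG : Coh.IsQCoh G)
    (x : ↥X) (hfl : (f.stalkMap x).hom.Flat) (hgen : ∀ y : ↥X, f y = f x → y ⤳ x → y = x)
    (hs : Curv2.IsWeakAssPoint G (f x)) : Curv2.IsWeakAssPoint ((Scheme.Modules.pullback f).obj G) x := by
  obtain ⟨m, hm⟩ := hs
  let A := S.presheaf.stalk (f x)
  let B := X.presheaf.stalk x
  let φ : A →+* B := (f.stalkMap x).hom
  let M := (DerSch.stalkFunctor S (f x)).obj G
  let e := ((Groth.Agent.KFlat.pullStalkIso f x).app G).toLinearEquiv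
  have hm0 : (show M from m) ≠ 0 := fun h => by
    rw [show m = 0 from h, LinearMap.toSpanSingleton_zero, LinearMap.ker_zero, Ideal.radical_top] at hm
    exact (IsLocalRing.maximalIdeal.isMaximal _).ne_top hm.symm
  letI := φ.toAlgebra
  haveI : Module.Flat A B := RingHom.flat_algebraMap_iff.1 hfl
  haveI : IsLocalHom (algebraMap A B) := inferInstanceAs (IsLocalHom (f.stalkMap x).hom)
  haveI : Module.FaithfullyFlat A B := Module.FaithfullyFlat.of_flat_of_isLocalHom
  let u : TensorProduct A B M := (1 : B) ⊗ₜ[A] (show M from m)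
  have hu : u ≠ 0 := fun h => hm0 ((Module.FaithfullyFlat.tensorProduct_mk_injective (B := B) M) (by
    show u = (1 : B) ⊗ₜ[A] (0 : M)
    rw [TensorProduct.tmul_zero]; exact h))
  refine ⟨e.symm u, le_antisymm (IsLocalRing.le_maximalIdeal fun h => hu ?_) ?_⟩
  · rw [Ideal.radical_eq_top] at h
    have h1 : (1 : B) • e.symm u = 0 := (h ▸ Submodule.mem_top :
      (1 : B) ∈ LinearMap.ker (LinearMap.toSpanSingleton B _ (e.symm u)))
    rw [one_smul] at h1
    exact e.symm.injective (h1.trans (map_zero _).symm)
  rw [Ideal.radical_eq_sInf]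
  refine le_sInf fun Q hQ => ?_
  haveI := hQ.2
  -- the prime contains the maximal ideal of the base
  have hcm : Q.comap φ = IsLocalRing.maximalIdeal A := by
    refine le_antisymm (IsLocalRing.le_maximalIdeal (Ideal.comap_isPrime φ Q).ne_top) ?_
    rw [← hm]
    intro a ha
    obtain ⟨n, hn⟩ := ha
    refine (Ideal.comap_isPrime φ Q).mem_of_pow_mem n (hQ.1 ?_)
    show φ (a ^ n) • e.symm u = 0
    rw [← map_smul, show φ (a ^ n) • u = (0 : TensorProduct A B M) from ?_, map_zero]
    show algebraMap A B (a ^ n) • u = 0
    rw [algebraMap_smul, ← TensorProduct.tmul_smul, show a ^ n • (show M from m) = 0 from hn,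
      TensorProduct.tmul_zero]
  -- so it is the closed point
  let P : Spec B := ⟨Q, inferInstance⟩
  let y := X.fromSpecStalk x P
  have hyx : y ⤳ x := by
    have h := Specializes.map (IsLocalRing.specializes_closedPoint (show PrimeSpectrum B from P))
      (X.fromSpecStalk x).continuous
    rwa [show (X.fromSpecStalk x) (IsLocalRing.closedPoint B) = x from Scheme.fromSpecStalk_closedPoint] at h
  have hfy : f y = f x := by
    have hcl : Spec.map (f.stalkMap x) P = IsLocalRing.closedPoint A := PrimeSpectrum.ext hcm
    calc f y = (X.fromSpecStalk x ≫ f) P := rfl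
      _ = (Spec.map (f.stalkMap x) ≫ S.fromSpecStalk (f x)) P := by rw [Scheme.SpecMap_stalkMap_fromSpecStalk]
      _ = S.fromSpecStalk (f x) (Spec.map (f.stalkMap x) P) := rfl
      _ = f x := by rw [hcl]; exact Scheme.fromSpecStalk_closedPoint
  have hP : P = IsLocalRing.closedPoint B := (X.fromSpecStalk x).isEmbedding.injective
    ((hgen y hfy hyx).trans Scheme.fromSpecStalk_closedPoint.symm)
  exact (congrArg PrimeSpectrum.asIdeal hP).ge

end Groth.Agent.S8899
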