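import Groth.Statements.S8908
import Groth.Agent.AssLib.Push
import Groth.Agent.AssDecomp.Basic
import Groth.Agent.W7Hull.Avoid
import Groth.Agent.QC.Support
import Groth.Agent.IdealMulSec.Basic

set_option autoImplicit false
universe u
open CategoryTheory CategoryTheory.Limits AlgebraicGeometry TopologicalSpace
open SDiv

namespace Groth.Agent.S8908

set_option backward.isDefEq.respectTransparency false
set_option linter.style.haveILetI false

open Groth.Agent Groth.Agent.QC
open Groth.Agent.WeakAssLib (mgerm mgerm_res ext_germ)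

/-- A morphism injective on a stalk preserves associated points. -/
theorem ass_map {X : Scheme.{u}} {M N : X.Modules} (f : M ⟶ N) (x : X)
    (hf : Function.Injective (W7Hull.st f x)) (h : Curv2.IsAssPoint M x) : Curv2.IsAssPoint N x :=
  h.map_of_injective _ hf

/-- An associated point is preserved by a bijection on the stalk. -/
theorem ass_comap {X : Scheme.{u}} {M N : X.Modules} (f : M ⟶ N) (x : X)
    (hf : Function.Bijective (W7Hull.st f x)) (h : Curv2.IsAssPoint N x) : Curv2.IsAssPoint M x := by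
  let l := LinearEquiv.ofBijective (W7Hull.st f x) hf
  exact h.map_of_injective _ l.symm.injective

/-- Let X be a locally Noetherian scheme and F a coherent O_X-module. The coherent subsheaves K ⊆ F
whose support is nowhere dense in Supp(F) have a largest element K. Setting F' = F/K: (1) Supp(F') =
Supp(F); (2) F' has no embedded associated points; (3) there is a dense open U ⊆ X with U ∩ Supp(F)
dense in Supp(F) over which the quotient map F → F' restricts to an isomorphism. -/
theorem result (X : Scheme.{u}) [IsLocallyNoetherian X] (F : X.Modules)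
    (hF : Coh.IsCoh F) :
    ∃ K : Subobject F, Coh.IsCoh (K : X.Modules) ∧
      (∀ U : X.Opens, (U : Set ↥X) ∩ CohB1.support F ⊆ CohB1.support (K : X.Modules) → (U : Set ↥X) ∩ CohB1.support F = ∅) ∧
      (∀ K' : Subobject F, Coh.IsCoh (K' : X.Modules) →
        (∀ U : X.Opens, (U : Set ↥X) ∩ CohB1.support F ⊆ CohB1.support (K' : X.Modules) → (U : Set ↥X) ∩ CohB1.support F = ∅) →
        K' ≤ K) ∧
      CohB1.support (cokernel K.arrow) = CohB1.support F ∧
      (∀ x : ↥X, Curv2.IsAssPoint (cokernel K.arrow) x → ∀ y : ↥X, Curv2.IsAssPoint (cokernel K.arrow) y → y ⤳ x → y = x) ∧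
      ∃ U : X.Opens, Dense (U : Set ↥X) ∧ CohB1.support F ⊆ closure ((U : Set ↥X) ∩ CohB1.support F) ∧
        IsIso ((Scheme.Modules.restrictFunctor U.ι).map (cokernel.π K.arrow)) := by
  classical
  have hFq := hF.1
  let B : Set X := {y | Curv2.IsAssPoint F y ∧ ∃ z, Curv2.IsAssPoint F z ∧ z ⤳ y ∧ z ≠ y}
  have hopen : IsOpen {x : X | ∀ y ∈ B, ¬ y ⤳ x} := by
    refine isOpen_iff_forall_mem_open.2 fun x hx => ?_
    obtain ⟨W, hW, hxW, -⟩ := exists_isAffineOpen_mem_and_subset (X := X) (U := ⊤) (trivial : x ∈ (⊤ : X.Opens))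
    have hfin : {y | y ∈ B ∧ y ∈ W}.Finite :=
      (AssDecomp.finite_ass_inter hF hW).subset fun y hy => ⟨hy.1.1, hy.2⟩
    refine ⟨(W : Set X) ∩ (⋃ y ∈ {y | y ∈ B ∧ y ∈ W}, closure ({y} : Set X))ᶜ, ?_,
      W.2.inter (hfin.isClosed_biUnion fun _ _ => isClosed_closure).isOpen_compl, hxW, ?_⟩
    · rintro x' ⟨hx'W, hx'⟩ y hy hyx
      exact hx' (Set.mem_iUnion₂.2 ⟨y, ⟨hy, hyx.mem_open W.2 hx'W⟩, specializes_iff_mem_closure.1 hyx⟩)
    · intro hc
      obtain ⟨y, hy, hyx⟩ := Set.mem_iUnion₂.1 hc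
      exact hx y hy.1 (specializes_iff_mem_closure.2 hyx)
  let U : X.Opens := ⟨_, hopen⟩
  have hUstable : ∀ {y x : X}, y ⤳ x → x ∈ U → y ∈ U := fun h hx => h.mem_open U.2 hx
  have hgen : ∀ x ∈ CohB1.support F, ∃ z, z ⤳ x ∧ z ∈ U ∧ Curv2.IsAssPoint F z := by
    intro x hx
    obtain ⟨y, hyx, hy⟩ := AssLib.exists_ass_specializes hFq (not_subsingleton_iff_nontrivial.1 hx)
    obtain ⟨W, hW, hxW, -⟩ := exists_isAffineOpen_mem_and_subset (X := X) (U := ⊤) (trivial : x ∈ (⊤ : X.Opens))
    letI := specializationOrder X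
    have hfin : {w | Curv2.IsAssPoint F w ∧ w ⤳ x}.Finite :=
      (AssDecomp.finite_ass_inter hF hW).subset fun w hw => ⟨hw.1, hw.2.mem_open W.2 hxW⟩
    obtain ⟨z, hz⟩ := hfin.exists_maximal ⟨y, hy, hyx⟩
    have hmax : ∀ w, Curv2.IsAssPoint F w → w ⤳ z → w = z := fun w hw hwz =>
      le_antisymm (hz.2 ⟨hw, hwz.trans hz.1.2⟩ hwz) hwz
    refine ⟨z, hz.1.2, fun w hw hwz => ?_, hz.1.1⟩
    obtain rfl := hmax w hw.1 hwz
    obtain ⟨v, hv, hvw, hne⟩ := hw.2
    exact hne (hmax v hv hvw)
  have hFU : Coh.IsQCoh (F.restrict U.ι) := QC.isQCoh_restrict U.ι hFq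
  let P := (Scheme.Modules.pushforward U.ι).obj (F.restrict U.ι)
  have hP : Coh.IsQCoh P := QC.isQCoh_pushforward (hM := hFU) U.ι
  let e : F ⟶ P := Devissage.unitE U F
  have he : ∀ x ∈ U, Function.Bijective (W7Hull.st e x) := fun x hx => W7Hull.bijective_unitE U F hx
  have hres : ∀ (V : X.Opens) (s : Γ(P, V)), res P (inf_le_left : V ⊓ U ≤ V) s = 0 → s = 0 := fun V s hs => by
    have hle : U.ι ⁻¹ᵁ V ≤ U.ι ⁻¹ᵁ (V ⊓ U) := fun w hw => ⟨hw, w.2⟩
    have h := congrArg (res (F.restrict U.ι) hle) hs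
    change res (F.restrict U.ι) hle (res (F.restrict U.ι) (U.ι.preimage_mono (inf_le_left : V ⊓ U ≤ V)) s) =
      res (F.restrict U.ι) hle 0 at h
    rw [res_res, res_self, map_zero] at h
    exact h
  have hassP : {x | Curv2.IsAssPoint P x} ⊆ (U : Set X) :=
    (AssLib.ass_subset_iff hP U).2 fun V _ s hs => hres V s hs
  let K : Subobject F := Subobject.mk (kernel.ι e)
  have hKi : (Subobject.underlyingIso (kernel.ι e)).hom ≫ kernel.ι e = K.arrow :=
    Subobject.underlyingIso_hom_comp_eq_mk _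
  have hKe : K.arrow ≫ e = 0 := by rw [← hKi, Category.assoc, kernel.condition, comp_zero]
  have hKcoh : Coh.IsCoh (K : X.Modules) := by
    refine QC.isCoh_of_mono K.arrow hF ?_
    exact QC.isQCoh_of_iso (Subobject.underlyingIso (kernel.ι e)).symm (QC.isQCoh_kernel hFq hP e)
  let T := ShortComplex.mk K.arrow e hKe
  have hT : T.Exact := ShortComplex.exact_of_f_is_kernel T
    (IsKernel.isoKernel e K.arrow (kernelIsKernel e) (Subobject.underlyingIso (kernel.ι e)) hKi)
  let Q := cokernel K.arrow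
  have hQ : Coh.IsCoh Q := QC.isCoh_cokernel hKcoh.1 hF K.arrow
  let q : F ⟶ Q := cokernel.π K.arrow
  let m : Q ⟶ P := cokernel.desc K.arrow e hKe
  haveI : Mono m := hT.mono_cokernelDesc
  have hm : ∀ x, Function.Injective (W7Hull.st m x) := fun x => W7Hull.st_injective m x
  have hqm : ∀ x t, W7Hull.st m x (W7Hull.st q x t) = W7Hull.st e x t := fun x t => by
    rw [← W7Hull.st_comp, cokernel.π_desc]
  have hq : ∀ x ∈ U, Function.Bijective (W7Hull.st q x) := fun x hx =>
    ⟨fun a b hab => (he x hx).1 (by rw [← hqm, ← hqm, hab]), fun t => by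
      obtain ⟨a, ha⟩ := (he x hx).2 (W7Hull.st m x t)
      exact ⟨a, hm x (by rw [hqm, ha])⟩⟩
  have hassQ : ∀ y, Curv2.IsAssPoint Q y → y ∈ U ∧ Curv2.IsAssPoint F y := fun y hy => by
    have h1 := ass_map m y (hm y) hy
    exact ⟨hassP h1, ass_comap e y (he y (hassP h1)) h1⟩
  have hnd : ∀ V : X.Opens, (V : Set X) ∩ CohB1.support F ⊆ CohB1.support (K : X.Modules) →
      (V : Set X) ∩ CohB1.support F = ∅ := by
    intro V hV
    refine Set.eq_empty_of_forall_notMem fun x hx => ?_
    obtain ⟨z, hzx, hzU, hz⟩ := hgen x hx.2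
    have hz' : z ∈ (V : Set X) ∩ CohB1.support F :=
      ⟨hzx.mem_open V.2 hx.1, not_subsingleton_iff_nontrivial.2 (AssLib.nontrivial_of_isAssPoint hz)⟩
    refine hV hz' ⟨fun a b => ?_⟩
    refine W7Hull.st_injective K.arrow z ((he z hzU).1 ?_)
    rw [← W7Hull.st_comp, ← W7Hull.st_comp, hKe, W7Hull.st_zero, W7Hull.st_zero]
  refine ⟨K, hKcoh, hnd, ?_, ?_, ?_, U, ?_, ?_, ?_⟩
  · intro K' hK' hnd'
    have h0 : ∀ x ∈ U, Subsingleton ((K' : X.Modules).presheaf.stalk x) := by
      intro x hxU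
      by_contra hx
      obtain ⟨z, hzx, hz⟩ := AssLib.exists_ass_specializes hK'.1 (not_subsingleton_iff_nontrivial.1 hx)
      have hzU := hUstable hzx hxU
      have hzF := ass_map K'.arrow z (W7Hull.st_injective _ z) hz
      have hmin : ∀ w, Curv2.IsAssPoint F w → w ⤳ z → w = z := fun w hw hwz => by
        by_contra hne
        exact hzU z ⟨hzF, w, hw, hwz, hne⟩ specializes_rfl
      obtain ⟨W, hW, hzW, -⟩ := exists_isAffineOpen_mem_and_subset (X := X) (U := ⊤) (trivial : z ∈ (⊤ : X.Opens))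
      let A := {w | (Curv2.IsAssPoint F w ∧ w ∈ W) ∧ ¬ z ⤳ w}
      have hA : IsClosed (⋃ w ∈ A, closure ({w} : Set X)) :=
        ((AssDecomp.finite_ass_inter hF hW).subset fun w hw => hw.1).isClosed_biUnion fun _ _ => isClosed_closure
      let V : X.Opens := W ⊓ ⟨(⋃ w ∈ A, closure ({w} : Set X))ᶜ, hA.isOpen_compl⟩
      have hzV : z ∈ V := ⟨hzW, fun hc => by
        obtain ⟨w, hw, hwz⟩ := Set.mem_iUnion₂.1 hc
        exact hw.2 (hmin w hw.1.1 (specializes_iff_mem_closure.2 hwz) ▸ specializes_rfl)⟩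
      have hsub : (V : Set X) ∩ CohB1.support F ⊆ CohB1.support (K' : X.Modules) := by
        rintro v ⟨hvV, hv⟩
        obtain ⟨w, hwv, hw⟩ := AssLib.exists_ass_specializes hFq (not_subsingleton_iff_nontrivial.1 hv)
        have hwV : w ∈ V := hwv.mem_open V.2 hvV
        have hzw : z ⤳ w := by
          by_contra hc
          exact hwV.2 (Set.mem_iUnion₂.2 ⟨w, ⟨⟨hw, hwV.1⟩, hc⟩, subset_closure rfl⟩)
        exact (hzw.trans hwv).mem_closed (QC.isClosed_support hK'.2)
          (not_subsingleton_iff_nontrivial.2 (AssLib.nontrivial_of_isAssPoint hz))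
      exact Set.eq_empty_iff_forall_notMem.1 (hnd' V hsub) z
        ⟨hzV, not_subsingleton_iff_nontrivial.2 (AssLib.nontrivial_of_isAssPoint hzF)⟩
    have h1 : K'.arrow ≫ e = 0 := IdealMulSec.hom_eq_zero _ fun V s => by
      refine hres V.1 _ ?_
      rw [app_res, show res (K' : X.Modules) (inf_le_left : V.1 ⊓ U ≤ V.1) s = 0 from
        ext_germ _ _ fun y hy => by
          haveI := h0 y hy.2
          exact Subsingleton.elim _ _, map_zero]
    exact Subobject.le_mk_of_comm (kernel.lift e K'.arrow h1) (kernel.lift_ι _ _ _)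
  · refine Set.Subset.antisymm (fun x hx => ?_) (fun x hx => ?_)
    · obtain ⟨y, hyx, hy⟩ := AssLib.exists_ass_specializes hQ.1 (not_subsingleton_iff_nontrivial.1 hx)
      exact hyx.mem_closed (QC.isClosed_support hF.2)
        (not_subsingleton_iff_nontrivial.2 (AssLib.nontrivial_of_isAssPoint (hassQ y hy).2))
    · obtain ⟨z, hzx, hzU, hz⟩ := hgen x hx
      exact hzx.mem_closed (QC.isClosed_support hQ.2)
        (not_subsingleton_iff_nontrivial.2 (AssLib.nontrivial_of_isAssPoint (ass_map q z (hq z hzU).1 hz)))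
  · intro x hx y hy hyx
    by_contra hne
    exact (hassQ x hx).1 x ⟨(hassQ x hx).2, y, (hassQ y hy).2, hyx, hne⟩ specializes_rfl
  · intro x
    have hirr : IsIrreducible (irreducibleComponent x) := isIrreducible_irreducibleComponent
    have hgp := hirr.isGenericPoint_genericPoint isClosed_irreducibleComponent
    have hξx : hirr.genericPoint ⤳ x := hgp.specializes mem_irreducibleComponent
    refine mem_closure_iff.2 fun O hO hxO => ⟨_, hξx.mem_open hO hxO, ?_⟩
    intro y hy hyξ
    have hmin : ∀ w, w ⤳ hirr.genericPoint → w = hirr.genericPoint := fun w hw => by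
      have hsub : irreducibleComponent x ⊆ closure {w} := fun v hv =>
        specializes_iff_mem_closure.1 (hw.trans (hgp.specializes hv))
      have heq := eq_irreducibleComponent isIrreducible_singleton.closure.2 hsub
      exact (hgp.eq (show IsGenericPoint w (irreducibleComponent x) from heq)).symm
    obtain rfl := hmin y hyξ
    obtain ⟨w, hw, hwy, hne⟩ := hy.2
    exact hne (hmin w hwy)
  · intro x hx
    obtain ⟨z, hzx, hzU, hz⟩ := hgen x hx
    have hz' : z ∈ (U : Set X) ∩ CohB1.support F :=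
      ⟨hzU, not_subsingleton_iff_nontrivial.2 (AssLib.nontrivial_of_isAssPoint hz)⟩
    exact closure_mono (Set.singleton_subset_iff.2 hz') (specializes_iff_mem_closure.1 hzx)
  · exact W7Hull.isIso_restrict_of_bijective q U hq

end Groth.Agent.S8908
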