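import Groth.Statements.S8909
import Groth.Agent.DivPart.Main

set_option autoImplicit false
universe u
open CategoryTheory CategoryTheory.Limits AlgebraicGeometry TopologicalSpace
open SDiv

namespace Groth.Agent.S8909

/-- Let X be a Noetherian scheme and Z ⊆ X a closed subscheme with ideal sheaf 𝓩. Suppose given a family
of integral effective Cartier divisors D_i ⊆ X (ideal sheaves 𝓓_i, i ∈ I) and a closed subset Z' ⊆ X
whose irreducible components all have codimension at least 2 in X (the local ring of X at each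
maximal point of Z' has dimension ≥ 2), such that Z ⊆ Z' ∪ ⋃ D_i set-theoretically. Then there are
integers a_i ≥ 0, almost all zero, such that the effective Cartier divisor D = Σ a_i D_i (with ideal
sheaf the product of the 𝓓_i^{a_i}) is contained in Z as a closed subscheme and the inclusion D → Z
is an isomorphism outside codimension 2: for some open U ⊆ X the ideal sheaves of D and Z agree on U
and every irreducible component of Z ∖ U has codimension ≥ 2 in X. The published statement also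
asserts that such D_i and Z' exist when Z is nowhere dense in X and either every local ring of X at
a point of Z is factorial or X is regular; this row does not. -/
theorem result (X : Scheme.{u}) [IsNoetherian X] (𝓩 : X.IdealSheafData)
    {I : Type u} (𝓓 : I → X.IdealSheafData) (hD : ∀ i, BlowUp.IsEffCartierIdeal (𝓓 i)) (hDint : ∀ i, IsIntegral (𝓓 i).subscheme)
    (Z' : Set ↥X) (hZ' : IsClosed Z')
    (hcodim : ∀ z ∈ Z', (∀ y ∈ Z', y ⤳ z → y = z) → (2 : WithBot ℕ∞) ≤ ringKrullDim ↑(X.presheaf.stalk z))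
    (hcover : (𝓩.support : Set ↥X) ⊆ Z' ∪ ⋃ i, ((𝓓 i).support : Set ↥X)) :
    ∃ a : I →₀ ℕ, 𝓩 ≤ a.prod (fun i n => 𝓓 i ^ n) ∧
      ∃ U : X.Opens, (a.prod (fun i n => 𝓓 i ^ n)).comap U.ι = 𝓩.comap U.ι ∧
        ∀ z ∈ (𝓩.support : Set ↥X) \ (U : Set ↥X), (∀ y ∈ (𝓩.support : Set ↥X) \ (U : Set ↥X), y ⤳ z → y = z) →
          (2 : WithBot ℕ∞) ≤ ringKrullDim ↑(X.presheaf.stalk z) := by
  classical
  obtain ⟨a, hle, U, hU, hcod⟩ := Groth.Agent.DivPart.exists_divisorial_part 𝓩 𝓓 hD hDint Z' hZ' hcodim hcover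
  refine ⟨a, hle, U, ?_, fun z hz _ => hcod z hz⟩
  choose W hxW hWU heq using hU
  have haff : ∀ x : ↥U, IsAffineOpen (U.ι ⁻¹ᵁ (W x.1 x.2).1) := fun x =>
    (U.ι.isAffineOpen_iff_of_isOpenImmersion).mp (by
      rw [U.ι.image_preimage_eq_opensRange_inf, U.opensRange_ι, inf_of_le_right (hWU x.1 x.2)]
      exact (W x.1 x.2).2)
  refine Scheme.IdealSheafData.ext_of_iSup_eq_top (X := (U : Scheme.{u}))
    (fun x : ↥U => (⟨U.ι ⁻¹ᵁ (W x.1 x.2).1, haff x⟩ : (U : Scheme.{u}).affineOpens))
    (eq_top_iff.mpr fun x _ => TopologicalSpace.Opens.mem_iSup.mpr ⟨x, hxW x.1 x.2⟩) fun x => ?_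
  rw [Scheme.IdealSheafData.ideal_comap_of_isOpenImmersion, Scheme.IdealSheafData.ideal_comap_of_isOpenImmersion]
  congr 1
  have key : ∀ (V : X.affineOpens), V = W x.1 x.2 → (a.prod fun i n => 𝓓 i ^ n).ideal V = 𝓩.ideal V := by
    rintro V rfl
    exact heq x.1 x.2
  exact key _ (Subtype.ext (by
    show U.ι ''ᵁ (U.ι ⁻¹ᵁ (W x.1 x.2).1) = (W x.1 x.2).1
    rw [U.ι.image_preimage_eq_opensRange_inf, U.opensRange_ι, inf_of_le_right (hWU x.1 x.2)]))

end Groth.Agent.S8909
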