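import Groth.Statements.S8911
import Groth.Agent.FittLib.StrictTransform
import Groth.Agent.S8874

set_option autoImplicit false
universe u
open CategoryTheory CategoryTheory.Limits AlgebraicGeometry TopologicalSpace
open SDiv Groth.Agent

namespace Groth.Agent.S8911

/-- Let S be a scheme, F a quasi-coherent O_S-module of finite type, k ≥ 0, b : S' ⟶ S a blowing up of S
in the closed subscheme Z_k cut out by Fit_k(F), and π : b^*F ⟶ G the strict transform of F along b.
Then G can locally be generated by at most k sections. -/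
theorem result (S : Scheme.{u}) (F : S.Modules) (hF : Coh.IsQCoh F) (hft : CohB1.IsFT F)
    (k : ℕ) {S' : Scheme.{u}} (b : S' ⟶ S) (hb : BlowUp.IsBlowUp b (Fitt.sheafIdeal F k)) (G : S'.Modules)
    (π : (Scheme.Modules.pullback b).obj F ⟶ G) (hG : BlowUp.IsStrictTransform b (Fitt.sheafIdeal F k) F G π) (s' : ↥S') :
    ∃ U : S'.Opens, s' ∈ U ∧ ∃ q : FlatMod.freeMod (↑U) k ⟶ G.restrict U.ι, Epi q := by
  have hGq := FittLib.isQCoh_strictTransform b _ F G π hF hb.1 hG
  haveI : Epi π := hG.1
  have hGf : CohB1.IsFT G := QC.isFT_of_epi π (QC.isCoh_pullback b (M := F) ⟨hF, hft⟩).2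
  obtain ⟨U, hsU, q, hq⟩ := (S8874.result S' G hGq hGf s' k).2 (by
    rw [FittLib.sheafIdeal_strictTransform_eq_top b F G π hF hft hb.1 hG le_rfl]
    simp only [Scheme.IdealSheafData.support_top]
    exact fun h => h)
  exact ⟨U, hsU, q, hq⟩

end Groth.Agent.S8911
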