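import Groth.Statements.S8912
import Groth.Agent.FittLib.StrictTransform
import Groth.Agent.S8875

set_option autoImplicit false
universe u
open CategoryTheory CategoryTheory.Limits AlgebraicGeometry TopologicalSpace
open SDiv Groth.Agent

namespace Groth.Agent.S8912

/-- Let S be a scheme, F a quasi-coherent O_S-module of finite type and k ≥ 0 such that F is locally
free of rank k on the complement of the closed subscheme Z_k cut out by Fit_k(F). Let b : S' ⟶ S be
a blowing up of S in Z_k and π : b^*F ⟶ G the strict transform of F. Then G is finite locally free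
of rank k. -/
theorem result (S : Scheme.{u}) (F : S.Modules) (hF : Coh.IsQCoh F) (hft : CohB1.IsFT F)
    (k : ℕ) (hfree : FlatMod.IsFinLocFreeOfRank k (F.restrict (Scheme.Opens.ι (Fitt.sheafIdeal F k).support.compl)))
    {S' : Scheme.{u}} (b : S' ⟶ S) (hb : BlowUp.IsBlowUp b (Fitt.sheafIdeal F k)) (G : S'.Modules)
    (π : (Scheme.Modules.pullback b).obj F ⟶ G) (hG : BlowUp.IsStrictTransform b (Fitt.sheafIdeal F k) F G π) :
    FlatMod.IsFinLocFreeOfRank k G := by
  have hGq := FittLib.isQCoh_strictTransform b _ F G π hF hb.1 hG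
  haveI : Epi π := hG.1
  have hGf : CohB1.IsFT G := QC.isFT_of_epi π (QC.isCoh_pullback b (M := F) ⟨hF, hft⟩).2
  refine (S8875.result S' G hGq hGf k).2 ⟨fun j hj => ?_, fun j hj =>
    FittLib.sheafIdeal_strictTransform_eq_top b F G π hF hft hb.1 hG hj⟩
  refine FittLib.sheafIdeal_strictTransform_eq_bot b _ F G π hF hft (Fitt.sheafIdeal F k).support.compl
    (le_refl _) ?_ hb.1 hG
  rw [← FittLib.sheafIdeal_restrict F hF hft]
  exact ((S8875.result _ _ (QC.isQCoh_restrict _ hF) (QC.isFT_restrict _ hft) k).1 hfree).1 j hj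

end Groth.Agent.S8912
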