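import Groth.Statements.S8915
import Groth.Agent.FittLib.OmegaFit
import Groth.Agent.S6891

set_option autoImplicit false
universe u
open CategoryTheory CategoryTheory.Limits AlgebraicGeometry TopologicalSpace
open SDiv

namespace Groth.Agent.S8915

/-- Let f : X ⟶ S be locally of finite type and quasi-separated. Then the closed subset of X defined by
the Fitting ideal Fit_0(Ω_{X/S}) is exactly the set of points at which f is not unramified, i.e.
which have no open neighbourhood on which f is formally unramified. The published statement does not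
assume f quasi-separated; this row does, because the module Ω_{X/S} used here is defined for
quasi-separated f. -/
theorem result {X S : Scheme.{u}} (f : X ⟶ S) [LocallyOfFiniteType f] [QuasiSeparated f]
    (x : ↥X) :
    x ∈ (Fitt.sheafIdeal (Omega.sheaf f) 0).support ↔ ¬ ∃ U : X.Opens, x ∈ U ∧ FormallyUnramified (U.ι ≫ f) := by
  have hq := FittLib.isQCoh_omega f
  have hft := FittLib.isFT_omega f
  have key : ∀ (U : S.Opens) (hU : IsAffineOpen U) (V : X.Opens) (hV : IsAffineOpen V)
      (h : V ≤ f ⁻¹ᵁ U), FormallyUnramified (V.ι ≫ f) ↔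
        Fitt.ideal Γ(X, V) Γ(Omega.sheaf f, V) 0 = ⊤ := by
    intro U hU V hV h
    letI : Algebra Γ(S, U) Γ(X, V) := (f.appLE U V h).hom.toAlgebra
    haveI := FittLib.finite_omega f hU hV h
    have h1 : Fitt.ideal Γ(X, V) Γ(Omega.sheaf f, V) 0 = ⊤ ↔
        Subsingleton Ω[Γ(X, V)⁄Γ(S, U)] := by
      obtain ⟨e⟩ := FittLib.exists_omega_sections f hU hV h
      rw [← e.toEquiv.subsingleton_congr]
      constructor
      · intro hT
        refine subsingleton_of_forall_eq 0 fun m => ?_
        have hle := (Groth.Agent.S6891.result (R := Γ(X, V)) Γ(Omega.sheaf f, V) ⊥).1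
        rw [hT] at hle
        simpa using Module.mem_annihilator.mp (hle (Submodule.mem_top : (1 : Γ(X, V)) ∈ ⊤)) m
      · intro hs
        exact FittLib.ideal_eq_top_of_generators (fun i : Fin 0 => (i.elim0 : Γ(Omega.sheaf f, V)))
          (eq_top_iff.mpr fun m _ => by rw [Subsingleton.elim m 0]; exact zero_mem _) (by simp)
    rw [h1]
    have hfs : hV.isoSpec.hom ≫ hV.fromSpec = V.ι := hV.isoSpec_hom_fromSpec
    have hw : Spec.map (f.appLE U V h) ≫ hU.fromSpec = hV.fromSpec ≫ f :=
      IsAffineOpen.SpecMap_appLE_fromSpec f hU hV h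
    rw [← hfs, Category.assoc, MorphismProperty.cancel_left_of_respectsIso (P := @FormallyUnramified),
      ← hw]
    have h2 : FormallyUnramified (Spec.map (f.appLE U V h) ≫ hU.fromSpec) ↔
        FormallyUnramified (Spec.map (f.appLE U V h)) :=
      ⟨fun _ => FormallyUnramified.of_comp _ hU.fromSpec,
        fun _ => MorphismProperty.comp_mem _ _ _ inferInstance inferInstance⟩
    rw [h2, HasRingHomProperty.Spec_iff (P := @FormallyUnramified)]
    exact ⟨fun hu => (Algebra.formallyUnramified_iff _ _).mp hu,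
      fun hu => (Algebra.formallyUnramified_iff _ _).mpr hu⟩
  obtain ⟨U, hU, V, hV, hVU, hx⟩ := Groth.Agent.QC.exists_affine_pair f x
  rw [FittLib.mem_support_iff _ ⟨V, hV⟩ hx, FittLib.sheafIdeal_ideal hq hft]
  constructor
  · rintro hle ⟨W, hxW, hW⟩
    obtain ⟨r, hrW, hxr⟩ := hV.exists_basicOpen_le (⟨x, hxW⟩ : W) hx
    have hDU : X.basicOpen r ≤ f ⁻¹ᵁ U := (X.basicOpen_le r).trans hVU
    have : FormallyUnramified ((X.basicOpen r).ι ≫ f) := by
      rw [← Scheme.homOfLE_ι X hrW, Category.assoc]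
      exact MorphismProperty.comp_mem _ _ _ inferInstance hW
    have htop := (key U hU _ (hV.basicOpen r) hDU).mp this
    rw [← FittLib.ideal_basicOpen hq hft ⟨V, hV⟩ r 0] at htop
    letI : Algebra Γ(X, V) Γ(X, X.basicOpen r) :=
      (Groth.Agent.QC.resO X (X.basicOpen_le r)).toAlgebra
    haveI := hV.isLocalization_basicOpen r
    have hrp : r ∉ (hV.primeIdealOf ⟨x, hx⟩).asIdeal := by
      have hfs : hV.fromSpec (hV.primeIdealOf ⟨x, hx⟩) = x := hV.fromSpec_primeIdealOf ⟨x, hx⟩
      have hm : hV.primeIdealOf ⟨x, hx⟩ ∈ hV.fromSpec ⁻¹ᵁ X.basicOpen r := by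
        change hV.fromSpec _ ∈ X.basicOpen r
        rw [hfs]
        exact hxr
      rw [hV.fromSpec_preimage_basicOpen] at hm
      exact hm
    refine (IsLocalization.map_algebraMap_ne_top_iff_disjoint (Submonoid.powers r) Γ(X, X.basicOpen r)
      (Fitt.ideal Γ(X, V) Γ(Omega.sheaf f, V) 0)).mpr ?_ htop
    rw [Set.disjoint_left]
    rintro _ ⟨n, rfl⟩ hn
    exact hrp ((hV.primeIdealOf ⟨x, hx⟩).isPrime.mem_of_pow_mem n (hle hn))
  · intro hno
    by_contra hle
    obtain ⟨r, hr, hrp⟩ := SetLike.not_le_iff_exists.mp hle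
    refine hno ⟨X.basicOpen r, ?_, ?_⟩
    · have hfs : hV.fromSpec (hV.primeIdealOf ⟨x, hx⟩) = x := hV.fromSpec_primeIdealOf ⟨x, hx⟩
      have hm : hV.primeIdealOf ⟨x, hx⟩ ∈ hV.fromSpec ⁻¹ᵁ X.basicOpen r := by
        rw [hV.fromSpec_preimage_basicOpen]
        exact hrp
      rw [← hfs]
      exact hm
    · refine (key U hU _ (hV.basicOpen r) ((X.basicOpen_le r).trans hVU)).mpr ?_
      rw [← FittLib.ideal_basicOpen hq hft ⟨V, hV⟩ r 0]
      letI : Algebra Γ(X, V) Γ(X, X.basicOpen r) :=
        (Groth.Agent.QC.resO X (X.basicOpen_le r)).toAlgebra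
      haveI := hV.isLocalization_basicOpen r
      exact Ideal.eq_top_of_isUnit_mem _ (Ideal.mem_map_of_mem _ hr)
        (IsLocalization.Away.algebraMap_isUnit (S := Γ(X, X.basicOpen r)) r)

end Groth.Agent.S8915
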