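import Groth.Statements.S8916
import Groth.Agent.FittLib.SmoothCrit
import Groth.Agent.S2156

set_option autoImplicit false
universe u
open CategoryTheory CategoryTheory.Limits AlgebraicGeometry TopologicalSpace
open SDiv Groth.Agent

namespace Groth.Agent.S8916

/-- Let f : X ⟶ S be flat, locally of finite presentation and quasi-separated, and d ≥ 0 such that all
irreducible components of each nonempty fibre of f have dimension d. Then the closed subset of X
defined by the Fitting ideal Fit_d(Ω_{X/S}) is exactly the set of points at which f is not smooth,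
i.e. which have no open neighbourhood on which f is smooth. The published statement does not assume
f quasi-separated; this row does, because the module Ω_{X/S} used here is defined for
quasi-separated f. -/
theorem result {X S : Scheme.{u}} (f : X ⟶ S) [Flat f] [LocallyOfFinitePresentation f] [QuasiSeparated f]
    (d : ℕ) (hdim : ∀ s : ↥S, ∀ T ∈ irreducibleComponents ↥(f.fiber s), topologicalKrullDim ↥T = d) (x : ↥X) :
    x ∈ (Fitt.sheafIdeal (Omega.sheaf f) d).support ↔ ¬ ∃ U : X.Opens, x ∈ U ∧ Smooth (U.ι ≫ f) := by
  classical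
  have hd := FittLib.fibreDimAt_eq_of_components f x (hdim (f x))
  haveI : LocallyOfFinitePresentation (f.fiberToSpecResidueField (f x)) :=
    MorphismProperty.pullback_snd _ _ ‹_›
  haveI : QuasiSeparated (f.fiberToSpecResidueField (f x)) := MorphismProperty.pullback_snd _ _ ‹_›
  constructor
  · rintro hx ⟨U, hxU, hU⟩
    refine absurd hx ((FittLib.not_mem_support_omega_iff f d x).2 ?_)
    obtain ⟨A, hA, B, hB, hu, e, he⟩ := Smooth.exists_isStandardSmooth (U.ι ≫ f) ⟨x, hxU⟩
    obtain ⟨w, hw⟩ : (⟨x, hxU⟩ : (U : Scheme.{u})) ∈ Set.range hB.fromSpec := hB.range_fromSpec.ge hu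
    algebraize [((U.ι ≫ f).appLE A B e).hom]
    obtain ⟨_, _, _, _, ⟨P⟩⟩ := ‹Algebra.IsStandardSmooth Γ(S, A) Γ((U : Scheme.{u}), B)›
    have hP : Algebra.IsStandardSmoothOfRelativeDimension P.dimension Γ(S, A) Γ((U : Scheme.{u}), B) :=
      P.isStandardSmoothOfRelativeDimension rfl
    let j := hB.fromSpec ≫ U.ι
    have hjf : Spec.map ((U.ι ≫ f).appLE A B e) ≫ hA.fromSpec = j ≫ f :=
      (IsAffineOpen.SpecMap_appLE_fromSpec (U.ι ≫ f) hA hB e).trans (Category.assoc _ _ _).symm
    have hsm : SmoothOfRelativeDimension P.dimension (j ≫ f) := by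
      rw [← hjf]
      haveI : SmoothOfRelativeDimension P.dimension (Spec.map ((U.ι ≫ f).appLE A B e)) := by
        rw [HasRingHomProperty.Spec_iff (P := @SmoothOfRelativeDimension P.dimension)]
        exact RingHom.locally_of RingHom.isStandardSmoothOfRelativeDimension_respectsIso _
          (RingHom.isStandardSmoothOfRelativeDimension_algebraMap P.dimension |>.mpr hP)
      exact inferInstanceAs (SmoothOfRelativeDimension (P.dimension + 0) (_ ≫ _))
    have hjw : j w = x := congrArg U.ι hw
    have hn : P.dimension = d := by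
      have h1 := LocalDimBC.fibreDimAt_of_smoothOfRelativeDimension P.dimension (j ≫ f) w
      rw [LocalDimBC.fibreDimAt_openImmersion_comp, hjw, hd] at h1
      exact_mod_cast h1.symm
    refine ⟨j.opensRange, _, j.isoOpensRange.inv, j ≫ f, ⟨w, hjw⟩, inferInstance, hn ▸ hsm, ?_⟩
    rw [← Category.assoc, Scheme.Hom.isoOpensRange_inv_comp]
  · intro h
    by_contra hx
    apply h
    have hflat : (f.stalkMap x).hom.Flat := Flat.stalkMap f x
    have hne : f.asFiber x ∉
        (Fitt.sheafIdeal (Omega.sheaf (f.fiberToSpecResidueField (f x))) d).support := by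
      intro hm
      have e := FittLib.sheafIdeal_omega_comap f (S.fromSpecResidueField (f x)) d
      have hm' : f.asFiber x ∈ (((Fitt.sheafIdeal (Omega.sheaf f) d).comap (f.fiberι (f x))).support :
          TopologicalSpace.Closeds ↥(f.fiber (f x))) :=
        SetLike.ext_iff.mp (congrArg Scheme.IdealSheafData.support e.symm) _ |>.mp hm
      rw [Scheme.IdealSheafData.support_comap] at hm'
      exact hx ((f.fiberι_asFiber x) ▸ (show f.fiberι (f x) (f.asFiber x) ∈ _ from hm'))
    have hsm : x ∈ f.smoothLocus := (S2156.result f x).2 ⟨hflat,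
      FittLib.mem_smoothLocus_of_not_mem (K := S.residueField (f x)) _ _ hne hd.ge⟩
    refine ⟨f.smoothLocus, hsm, ?_⟩
    rw [← Scheme.Hom.smoothLocus_eq_top_iff, ← Scheme.Hom.preimage_smoothLocus_eq]
    exact eq_top_iff.2 fun z _ => z.2

end Groth.Agent.S8916
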