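import Groth.Statements.S8923
import Groth.Agent.RefDiv.Inv

set_option autoImplicit false
universe u
open CategoryTheory CategoryTheory.Limits AlgebraicGeometry TopologicalSpace
open SDiv

namespace Groth.Agent.S8923

open Groth.Agent.RefDiv

/-- Let X be an integral scheme that is locally Noetherian, L an invertible O_X-module and s a nonzero
rational (regular meromorphic) section of L, viewed as a nonzero element of the stalk of L at the
generic point. Then the collection of prime divisors Z ⊆ X with ord_{Z,L}(s) ≠ 0, i.e. the closures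
of the codimension-1 points x (dim O_{X,x} = 1) along which s has nonzero order, is locally finite
in X. -/
theorem result (X : Scheme.{u}) [IsIntegral X] [IsLocallyNoetherian X] (L : X.Modules)
    (hL : PicF.IsInvertible L) (s : Cyc.secFibre L (genericPoint ↥X)) (hs : s ≠ 0) :
    LocallyFinite (fun x : {x : ↥X // ringKrullDim ↑(X.presheaf.stalk x) = 1 ∧
        Cyc.secOrdAt L (genericPoint ↥X) x ((genericPoint_spec ↥X).specializes (Set.mem_univ x)) s ≠ 0} => closure ({x.1} : Set ↥X)) := by

  obtain ⟨v, rfl⟩ := Submodule.Quotient.mk_surjective _ s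
  have hv : v ≠ 0 := fun e => hs (by rw [e]; rfl)
  have lL := lat_of_isInvertible hL
  obtain ⟨W, hW, e, he⟩ := lL.exists_isGen_generic
  obtain ⟨φ, hφ⟩ := (bijective_germ_of_isGen he hW).2 v
  change φ • _ = v at hφ
  have hφ0 : (φ : X.functionField) ≠ 0 := fun h => hv (by rw [← hφ, h]; exact zero_smul _ _)
  intro z
  obtain ⟨U, hU, hzU, -⟩ := exists_isAffineOpen_mem_and_subset (x := z) (U := (⊤ : X.Opens)) trivial
  haveI := DivOrd.noetherianSpace_subset_affine U hU ((U : Set X) \ W) Set.sdiff_subset
  refine ⟨U, U.2.mem_nhds hzU, (((DivOrd.finite_coheight_one ((U : Set X) \ W) (W : Set X)ᶜ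
    W.2.isClosed_compl (fun x hx => hx.2) (fun h => h hW)).union
    (DivOrd.finite_ord_ne_zero U hU φ hφ0)).preimage Subtype.val_injective.injOn).subset ?_⟩
  rintro ⟨x, hx1, hx⟩ ⟨y, hy, hyU⟩
  have hxU : x ∈ U := (specializes_iff_mem_closure.2 hy).mem_open U.2 hyU
  rw [ringKrullDim_stalk_eq_coheight] at hx1
  have h1 : Order.coheight x = 1 := WithBot.coe_inj.1 hx1
  by_cases hxW : x ∈ W
  · refine Or.inr ⟨hxU, h1, fun h => hx ?_⟩
    rw [lL.secOrdAt_mk h1 (span_eq_top_of_surjective (bijective_germ_of_isGen he hxW).2) hφ0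
      ((congrArg (φ • ·) (RefStalk.msp_germ L _ hxW e)).trans hφ), h]
  · exact Or.inl ⟨⟨hxU, hxW⟩, h1⟩

end Groth.Agent.S8923
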