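import Groth.Statements.S8926
import Mathlib
-- import your own Groth.Agent.* helpers here

set_option autoImplicit false
universe u
open InjHull TensorProduct

namespace Groth.Agent.S8926

/-- Suppose R → S is an epimorphism of rings and E is an S-module whose underlying R-module (via
restriction of scalars) is injective; then E is injective as an S-module as well. -/
theorem result (R S : Type u) [CommRing R] [CommRing S] [Algebra R S] [Algebra.IsEpi R S] (E : Type u) [AddCommGroup E] [Module S E] [Module R E] [IsScalarTower R S E] [Module.Injective R E] : Module.Injective S E := by
  refine ⟨fun X Y _ _ _ _ ι hι g => ?_⟩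
  let := Module.compHom X (algebraMap R S)
  let := Module.compHom Y (algebraMap R S)
  have : IsScalarTower R S X := .of_algebraMap_smul fun r x => rfl
  have : IsScalarTower R S Y := .of_algebraMap_smul fun r x => rfl
  obtain ⟨h, hh⟩ := Module.Injective.out (R := R) (ι.restrictScalars R) hι (g.restrictScalars R)
  have hS : ∀ (s : S) (y : Y), h (s • y) = s • h y := by
    intro s y
    let B : S →ₗ[R] S →ₗ[R] E :=
      LinearMap.mk₂ R (fun a b => a • h (b • y))
        (fun a a' b => add_smul _ _ _) (fun r a b => smul_assoc r a _)
        (fun a b b' => by simp [add_smul, smul_add])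
        (fun r a b => by simp [smul_assoc, smul_comm a r])
    have e := congrArg (TensorProduct.lift B)
      ((Algebra.isEpi_iff_forall_one_tmul_eq R S).1 inferInstance s)
    simpa [B] using e
  exact ⟨{ toFun := h, map_add' := h.map_add, map_smul' := hS }, hh⟩

end Groth.Agent.S8926
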