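import Groth.Statements.S8929
import Groth.Agent.Easy3.FlatAss
-- import your own Groth.Agent.* helpers here

set_option autoImplicit false
universe u
open scoped TensorProduct
open Disc

namespace Groth.Agent.S8929

/-- Let A → B be a map of Noetherian rings with the going-up property. If B_q is flat over A for every
associated prime q of B and for every prime q of B lying over an associated prime of A, then Q(A)
⊗_A B is flat over the total ring of fractions Q(A). -/
theorem result (A B : Type u) [CommRing A] [CommRing B] [IsNoetherianRing A] [IsNoetherianRing B] [Algebra A B] [Algebra.HasGoingUp A B] (h3 : ∀ (q : Ideal B) [q.IsPrime], IsAssociatedPrime q B → Module.Flat A (Localization.AtPrime q)) (h4 : ∀ (q : Ideal B) [q.IsPrime], IsAssociatedPrime (q.comap (algebraMap A B)) A → Module.Flat A (Localization.AtPrime q)) : Module.Flat (FractionRing A) (FractionRing A ⊗[A] B) := by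
  haveI : Module.Flat A (B ⊗[A] FractionRing A) := by
    haveI : IsLocalization (Algebra.algebraMapSubmonoid B (nonZeroDivisors A)) (B ⊗[A] FractionRing A) :=
      IsLocalization.tensor (FractionRing A) (nonZeroDivisors A)
    refine Module.flat_of_isLocalized_maximal (R := A) (S := B ⊗[A] FractionRing A) (B ⊗[A] FractionRing A)
      (fun P _ => Localization.AtPrime P) (fun P _ => Algebra.linearMap _ _) fun P hP => ?_
    let q : Ideal B := P.comap (algebraMap B (B ⊗[A] FractionRing A))
    haveI : q.IsPrime := Ideal.comap_isPrime _ _
    have hd := ((IsLocalization.isPrime_iff_isPrime_disjoint (Algebra.algebraMapSubmonoid B (nonZeroDivisors A))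
      (B ⊗[A] FractionRing A) P).1 hP.isPrime).2
    have hsub : ((q.comap (algebraMap A B) : Ideal A) : Set A) ⊆
        ⋃ p ∈ associatedPrimes A A, (p : Set A) := by
      intro a ha
      rw [biUnion_associatedPrimes_eq_compl_nonZeroDivisors]
      exact fun hna => Set.disjoint_left.1 hd ⟨a, hna, rfl⟩ ha
    obtain ⟨p, hp, hle⟩ : ∃ p ∈ associatedPrimes A A, q.comap (algebraMap A B) ≤ p := by
      classical
      have hfin := associatedPrimes.finite A A
      have h := (Ideal.subset_union_prime (s := hfin.toFinset) (f := fun p : Ideal A => p) ⊥ ⊥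
        (fun i hi _ _ => (hfin.mem_toFinset.1 hi).isPrime)).1
        (show ((q.comap (algebraMap A B) : Ideal A) : Set A) ⊆ ⋃ i ∈ (↑hfin.toFinset : Set (Ideal A)), (i : Set A) by
          rwa [hfin.coe_toFinset])
      obtain ⟨p, hp, hle⟩ := h
      exact ⟨p, hfin.mem_toFinset.1 hp, hle⟩
    haveI : p.IsPrime := hp.isPrime
    haveI : q.LiesOver (q.comap (algebraMap A B)) := ⟨rfl⟩
    obtain ⟨Q, hqQ, hQ, hQp⟩ := Ideal.exists_ideal_ge_liesOver_of_le (P := q) hle
    have hQd : Disjoint (Algebra.algebraMapSubmonoid B (nonZeroDivisors A) : Set B) (Q : Set B) := by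
      refine Set.disjoint_left.2 ?_
      rintro _ ⟨a, ha, rfl⟩ haQ
      have hz : a ∈ ⋃ p ∈ associatedPrimes A A, (p : Set A) :=
        Set.mem_iUnion₂.2 ⟨p, hp, by rw [hQp.over]; exact haQ⟩
      rw [biUnion_associatedPrimes_eq_compl_nonZeroDivisors] at hz
      exact hz ha
    have hQeq : Q = q := by
      have hc := IsLocalization.comap_map_of_isPrime_disjoint (Algebra.algebraMapSubmonoid B (nonZeroDivisors A))
        (B ⊗[A] FractionRing A) hQ hQd
      have hP' : P = Ideal.map (algebraMap B (B ⊗[A] FractionRing A)) Q := by
        refine hP.eq_of_le (Ideal.IsPrime.ne_top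
          (IsLocalization.isPrime_of_isPrime_disjoint _ _ Q hQ hQd)) ?_
        rw [← IsLocalization.map_comap (Algebra.algebraMapSubmonoid B (nonZeroDivisors A)) _ P]
        exact Ideal.map_mono hqQ
      exact (hc.symm.trans (congrArg _ hP'.symm))
    have hass : IsAssociatedPrime (q.comap (algebraMap A B)) A := by
      have e : q.comap (algebraMap A B) = p := by rw [← hQeq, hQp.over]
      rw [e]; exact hp
    haveI := h4 q hass
    haveI : IsLocalization.AtPrime (Localization.AtPrime P) q :=
      IsLocalization.isLocalization_isLocalization_atPrime_isLocalization (Algebra.algebraMapSubmonoid B (nonZeroDivisors A))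
        (Localization.AtPrime P) P
    exact Module.Flat.of_linearEquiv
      (((IsLocalization.algEquiv q.primeCompl (Localization.AtPrime q) (Localization.AtPrime P)).restrictScalars A).symm.toLinearEquiv)
  haveI : Module.Flat A (FractionRing A ⊗[A] B) :=
    Module.Flat.of_linearEquiv (TensorProduct.comm A (FractionRing A) B)
  exact (Module.flat_iff_of_isLocalization (R := A) (FractionRing A) (nonZeroDivisors A) (FractionRing A ⊗[A] B)).2 inferInstance

end Groth.Agent.S8929
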