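import Groth.Statements.S8930
import Mathlib

set_option autoImplicit false
universe u
open AlgebraicGeometry
open Disc

namespace Groth.Agent.S8930

/-- Given two factorizations A → B' → B and A → B'' → B of a ring map with A → B' and A → B'' finite and
Spec(B) → Spec(B'), Spec(B) → Spec(B'') open immersions, there is an A-subalgebra C of B which is
finite over A, contains the images of B' and B'', and is such that Spec(B) → Spec(C) is an open
immersion. (Such an A → B is quasi-finite; that hypothesis of the published statement is implied by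
the factorizations and is not repeated.) -/
theorem result (A B B' B'' : Type u) [CommRing A] [CommRing B] [CommRing B'] [CommRing B''] [Algebra A B] [Algebra A B'] [Algebra A B''] [Algebra B' B] [Algebra B'' B] [IsScalarTower A B' B] [IsScalarTower A B'' B] [Module.Finite A B'] [Module.Finite A B''] (h' : IsOpenImmersion (Spec.map (CommRingCat.ofHom (algebraMap B' B)))) (h'' : IsOpenImmersion (Spec.map (CommRingCat.ofHom (algebraMap B'' B)))) : ∃ C : Subalgebra A B, Module.Finite A C ∧ Set.range (algebraMap B' B) ⊆ (C : Set B) ∧ Set.range (algebraMap B'' B) ⊆ (C : Set B) ∧ IsOpenImmersion (Spec.map (CommRingCat.ofHom C.val.toRingHom)) := by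
  open CategoryTheory TensorProduct in
  classical
  let Φ : B' →ₐ[A] B := IsScalarTower.toAlgHom A B' B
  let Ψ : B'' →ₐ[A] B := IsScalarTower.toAlgHom A B'' B
  let Θ := Algebra.TensorProduct.lift Φ Ψ (fun _ _ => Commute.all _ _)
  let C : Subalgebra A B := Θ.range
  have hB' : Set.range (algebraMap B' B) ⊆ (C : Set B) := by
    rintro _ ⟨b, rfl⟩
    exact ⟨b ⊗ₜ 1, by simp [Θ, Φ, Algebra.TensorProduct.lift_tmul]⟩
  have hB'' : Set.range (algebraMap B'' B) ⊆ (C : Set B) := by
    rintro _ ⟨b, rfl⟩
    exact ⟨1 ⊗ₜ b, by simp [Θ, Ψ, Algebra.TensorProduct.lift_tmul]⟩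
  refine ⟨C, Module.Finite.of_surjective Θ.rangeRestrict.toLinearMap Θ.rangeRestrict_surjective, hB', hB'', ?_⟩
  let q : B' →+* C := (algebraMap B' B).codRestrict C fun b => hB' ⟨b, rfl⟩
  have hq : C.val.toRingHom.comp q = algebraMap B' B := RingHom.ext fun b => rfl
  set j := Spec.map (CommRingCat.ofHom C.val.toRingHom) with hj
  set u := Spec.map (CommRingCat.ofHom (algebraMap B' B)) with hu
  have hju : j ≫ Spec.map (CommRingCat.ofHom q) = u := by
    rw [hj, hu, ← Spec.map_comp, ← CommRingCat.ofHom_comp, hq]
  refine IsOpenImmersion.of_forall_source_exists j (fun a b h => ?_) fun x => ?_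
  · refine u.isOpenEmbedding.injective ?_
    rw [← hju]
    exact congrArg (Spec.map (CommRingCat.ofHom q)).base h
  obtain ⟨_, ⟨e, rfl⟩, hxe, hsub⟩ := PrimeSpectrum.isTopologicalBasis_basic_opens.exists_subset_of_mem_open
    (show u.base x ∈ Set.range u.base from ⟨x, rfl⟩) u.isOpenEmbedding.isOpen_range
  set eB : B := algebraMap B' B e with heB
  set eC : C := q e with heC
  let i := Spec.map (CommRingCat.ofHom (algebraMap B (Localization.Away eB)))
  let i' := Spec.map (CommRingCat.ofHom (algebraMap B' (Localization.Away e)))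
  haveI hi : IsOpenImmersion i := IsOpenImmersion.of_isLocalization eB
  haveI hi' : IsOpenImmersion i' := IsOpenImmersion.of_isLocalization e
  have hrange : Set.range i.base = {p : PrimeSpectrum B | eB ∉ p.asIdeal} :=
    PrimeSpectrum.localization_away_comap_range (Localization.Away eB) eB
  have hrange' : Set.range i'.base = {p : PrimeSpectrum B' | e ∉ p.asIdeal} :=
    PrimeSpectrum.localization_away_comap_range (Localization.Away e) e
  refine ⟨_, i, hi, ?_, ?_⟩
  · show x ∈ Set.range i.base
    rw [hrange]
    exact hxe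
  -- `B'_e → B_e` is bijective
  let m : Localization.Away e →+* Localization.Away eB :=
    IsLocalization.map (M := Submonoid.powers e) (T := Submonoid.powers eB) (Localization.Away eB)
      (algebraMap B' B) (by rintro y ⟨n, rfl⟩; exact ⟨n, (map_pow _ _ _).symm⟩)
  have hm : Spec.map (CommRingCat.ofHom m) ≫ i' = i ≫ u := by
    rw [← Spec.map_comp, ← Spec.map_comp, ← CommRingCat.ofHom_comp, ← CommRingCat.ofHom_comp,
      IsLocalization.map_comp]
  haveI : IsOpenImmersion (Spec.map (CommRingCat.ofHom m) ≫ i') := by rw [hm]; infer_instance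
  haveI : IsOpenImmersion (Spec.map (CommRingCat.ofHom m)) := IsOpenImmersion.of_comp _ i'
  haveI : Surjective (Spec.map (CommRingCat.ofHom m)) := ⟨fun y => by
    obtain ⟨z, hz⟩ := hsub (show i'.base y ∈ (PrimeSpectrum.basicOpen e : Set (PrimeSpectrum B')) from
      hrange'.le ⟨y, rfl⟩)
    obtain ⟨w, hw⟩ : z ∈ Set.range i.base := by
      rw [hrange]
      intro hmem
      have h1 : e ∉ (u.base z).asIdeal := hz ▸ hrange'.le ⟨y, rfl⟩
      exact h1 hmem
    refine ⟨w, i'.isOpenEmbedding.injective ?_⟩
    show (Spec.map (CommRingCat.ofHom m) ≫ i').base w = i'.base y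
    rw [hm, ← hz, ← hw]
    rfl⟩
  haveI : IsIso (Spec.map (CommRingCat.ofHom m)) := (isIso_iff_isOpenImmersion_and_epi_base _).2
    ⟨inferInstance, (TopCat.epi_iff_surjective _).2 (Spec.map (CommRingCat.ofHom m)).surjective⟩
  haveI : CategoryTheory.IsIso (Scheme.Spec.map (CommRingCat.ofHom m).op) := this
  haveI := CategoryTheory.isIso_of_reflects_iso (CommRingCat.ofHom m).op Scheme.Spec
  haveI : CategoryTheory.IsIso (CommRingCat.ofHom m) := CategoryTheory.isIso_of_op _
  have hmsurj : Function.Surjective m :=
    ((CategoryTheory.ConcreteCategory.isIso_iff_bijective (CommRingCat.ofHom m)).1 inferInstance).2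
  -- `C_e → B_e` is bijective
  let mC : Localization.Away eC →+* Localization.Away eB :=
    IsLocalization.map (M := Submonoid.powers eC) (T := Submonoid.powers eB) (Localization.Away eB)
      C.val.toRingHom (by rintro y ⟨n, rfl⟩; exact ⟨n, rfl⟩)
  have hmC : Function.Bijective mC := by
    haveI : IsLocalization ((Submonoid.powers eC).map C.val.toRingHom) (Localization.Away eB) := by
      rw [Submonoid.map_powers]
      exact inferInstanceAs (IsLocalization (Submonoid.powers eB) (Localization.Away eB))
    refine ⟨IsLocalization.map_injective_of_injective (M := Submonoid.powers eC) (S := Localization.Away eC)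
      (Q := Localization.Away eB) (g := C.val.toRingHom) Subtype.val_injective, fun y => ?_⟩
    obtain ⟨z, rfl⟩ := hmsurj y
    let qe : Localization.Away e →+* Localization.Away eC :=
      IsLocalization.map (M := Submonoid.powers e) (T := Submonoid.powers eC) (Localization.Away eC) q
        (by rintro y ⟨n, rfl⟩; exact ⟨n, (map_pow _ _ _).symm⟩)
    refine ⟨qe z, ?_⟩
    show (mC.comp qe) z = m z
    congr 1
    refine IsLocalization.ringHom_ext (Submonoid.powers e) (RingHom.ext fun b => ?_)
    simp only [mC, qe, m, RingHom.comp_apply, IsLocalization.map_eq]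
    rfl
  haveI : CategoryTheory.IsIso (CommRingCat.ofHom mC) :=
    (CategoryTheory.ConcreteCategory.isIso_iff_bijective _).2 hmC
  let iC := Spec.map (CommRingCat.ofHom (algebraMap C (Localization.Away eC)))
  haveI hiC : IsOpenImmersion iC := IsOpenImmersion.of_isLocalization eC
  have : i ≫ j = Spec.map (CommRingCat.ofHom mC) ≫ iC := by
    rw [hj, ← Spec.map_comp, ← Spec.map_comp, ← CommRingCat.ofHom_comp, ← CommRingCat.ofHom_comp,
      IsLocalization.map_comp]
  rw [this]
  infer_instance

end Groth.Agent.S8930
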