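import Groth.Statements.S8931
import Groth.Agent.FittLib.Matrix

set_option autoImplicit false
universe u
open Disc

namespace Groth.Agent.S8931

/-- For a ring A, n ≥ 1 and f_1, …, f_n in A[x_1, …, x_n], with B = A[x_1, …, x_n]/(f_1, …, f_n), the
zeroth Fitting ideal of Ω_{B/A} (the Kähler different of B over A) is generated by the image in B of
the Jacobian determinant det(∂f_i/∂x_j). -/
theorem result (A : Type u) [CommRing A] (n : ℕ) (hn : 1 ≤ n) (f : Fin n → MvPolynomial (Fin n) A) : Fitt.ideal (MvPolynomial (Fin n) A ⧸ Ideal.span (Set.range f)) (KaehlerDifferential A (MvPolynomial (Fin n) A ⧸ Ideal.span (Set.range f))) 0 = Ideal.span {Ideal.Quotient.mk (Ideal.span (Set.range f)) (Matrix.det (Matrix.of fun i j : Fin n => MvPolynomial.pderiv j (f i)))} := by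
  classical
  have hsurj : Function.Surjective (algebraMap (MvPolynomial (Fin n) A) (MvPolynomial (Fin n) A ⧸ Ideal.span (Set.range f))) := Ideal.Quotient.mk_surjective
  let b := (KaehlerDifferential.mvPolynomialBasis A (Fin n)).baseChange (MvPolynomial (Fin n) A ⧸ Ideal.span (Set.range f))
  let π := KaehlerDifferential.mapBaseChange A (MvPolynomial (Fin n) A) (MvPolynomial (Fin n) A ⧸ Ideal.span (Set.range f))
  have hπ : Function.Surjective π := KaehlerDifferential.mapBaseChange_surjective A (MvPolynomial (Fin n) A) (MvPolynomial (Fin n) A ⧸ Ideal.span (Set.range f)) hsurj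
  let x : Fin n → KaehlerDifferential A (MvPolynomial (Fin n) A ⧸ Ideal.span (Set.range f)) := fun i => π (b i)
  have hxb : x = π ∘ b := rfl
  have hx : Submodule.span (MvPolynomial (Fin n) A ⧸ Ideal.span (Set.range f)) (Set.range x) = ⊤ := by
    rw [hxb, Set.range_comp, Submodule.span_image, b.span_eq, Submodule.map_top,
      LinearMap.range_eq_top.mpr hπ]
  let V : Fin n → Fin n → (MvPolynomial (Fin n) A ⧸ Ideal.span (Set.range f)) := fun j i => algebraMap (MvPolynomial (Fin n) A) (MvPolynomial (Fin n) A ⧸ Ideal.span (Set.range f)) (MvPolynomial.pderiv i (f j))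
  have hrepr : ∀ (r : (MvPolynomial (Fin n) A)) (i : Fin n), b.repr ((1 : (MvPolynomial (Fin n) A ⧸ Ideal.span (Set.range f))) ⊗ₜ[(MvPolynomial (Fin n) A)] KaehlerDifferential.D A (MvPolynomial (Fin n) A) r) i =
      algebraMap (MvPolynomial (Fin n) A) (MvPolynomial (Fin n) A ⧸ Ideal.span (Set.range f)) (MvPolynomial.pderiv i r) := fun r i => by
    rw [Module.Basis.baseChange_repr_tmul, KaehlerDifferential.mvPolynomialBasis_repr_apply, Algebra.smul_def, mul_one]
  have hD : ∀ r ∈ (Ideal.span (Set.range f)), (fun i => algebraMap (MvPolynomial (Fin n) A) (MvPolynomial (Fin n) A ⧸ Ideal.span (Set.range f)) (MvPolynomial.pderiv i r)) ∈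
      Submodule.span (MvPolynomial (Fin n) A ⧸ Ideal.span (Set.range f)) (Set.range V) := by
    intro r hr
    induction hr using Submodule.span_induction with
    | mem r hr => obtain ⟨j, rfl⟩ := hr; exact Submodule.subset_span ⟨j, rfl⟩
    | zero => simp only [map_zero]; exact zero_mem _
    | add p q _ _ hp hq => simp only [map_add]; exact add_mem hp hq
    | smul c p hp' hp =>
      have h0 : algebraMap (MvPolynomial (Fin n) A) (MvPolynomial (Fin n) A ⧸ Ideal.span (Set.range f)) p = 0 := Ideal.Quotient.eq_zero_iff_mem.mpr hp'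
      convert Submodule.smul_mem _ (algebraMap (MvPolynomial (Fin n) A) (MvPolynomial (Fin n) A ⧸ Ideal.span (Set.range f)) c) hp using 1
      funext i
      have h0' : Ideal.Quotient.mk (Ideal.span (Set.range f)) p = 0 := h0
      simp [h0', mul_comm]
  have hV : FittLib.rel (MvPolynomial (Fin n) A ⧸ Ideal.span (Set.range f)) x = Submodule.span (MvPolynomial (Fin n) A ⧸ Ideal.span (Set.range f)) (Set.range V) := by
    apply le_antisymm
    · intro v hv
      have h0 : π (∑ i, v i • b i) = 0 := by
        simpa [map_sum, x] using FittLib.mem_rel.mp hv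
      obtain ⟨q, hq⟩ := (KaehlerDifferential.exact_kerCotangentToTensor_mapBaseChange A (MvPolynomial (Fin n) A) (MvPolynomial (Fin n) A ⧸ Ideal.span (Set.range f)) hsurj _).mp h0
      obtain ⟨⟨r, hr⟩, rfl⟩ := Ideal.toCotangent_surjective _ q
      rw [KaehlerDifferential.kerCotangentToTensor_toCotangent] at hq
      have hrI : r ∈ (Ideal.span (Set.range f)) := Ideal.Quotient.eq_zero_iff_mem.mp (RingHom.mem_ker.mp hr)
      have : v = fun i => algebraMap (MvPolynomial (Fin n) A) (MvPolynomial (Fin n) A ⧸ Ideal.span (Set.range f)) (MvPolynomial.pderiv i r) := funext fun i => by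
        rw [← hrepr r i, hq, b.repr_sum_self]
      exact this ▸ hD r hrI
    · rw [Submodule.span_le]
      rintro _ ⟨j, rfl⟩
      rw [SetLike.mem_coe, FittLib.mem_rel]
      have h1 : ∑ i, V j i • b i = (1 : (MvPolynomial (Fin n) A ⧸ Ideal.span (Set.range f))) ⊗ₜ[(MvPolynomial (Fin n) A)] KaehlerDifferential.D A (MvPolynomial (Fin n) A) (f j) := by
        conv_rhs => rw [← b.sum_repr ((1 : (MvPolynomial (Fin n) A ⧸ Ideal.span (Set.range f))) ⊗ₜ[(MvPolynomial (Fin n) A)] KaehlerDifferential.D A (MvPolynomial (Fin n) A) (f j))]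
        simp [hrepr, V]
      have h2 := congrArg π h1
      simp only [map_sum, map_smul] at h2
      refine h2.trans ?_
      have : algebraMap (MvPolynomial (Fin n) A) (MvPolynomial (Fin n) A ⧸ Ideal.span (Set.range f)) (f j) = 0 := Ideal.Quotient.eq_zero_iff_mem.mpr (Ideal.subset_span ⟨j, rfl⟩)
      simp [π, this]
  rw [FittLib.ideal_eq_minors_fin x hx, Nat.sub_zero, FittLib.minors_eq_span_det x V hV]
  set J : Matrix (Fin n) (Fin n) (MvPolynomial (Fin n) A) := Matrix.of fun i j => MvPolynomial.pderiv j (f i)
  have hdet : ∀ s e : Fin n → Fin n, (Matrix.of fun a c => V (s c) (e a)).det =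
      (((J.map (algebraMap (MvPolynomial (Fin n) A) (MvPolynomial (Fin n) A ⧸ Ideal.span (Set.range f)))).submatrix s e)).det := fun s e => by
    rw [← Matrix.det_transpose]
    rfl
  have hJ : Ideal.Quotient.mk (Ideal.span (Set.range f)) J.det = (J.map (algebraMap (MvPolynomial (Fin n) A) (MvPolynomial (Fin n) A ⧸ Ideal.span (Set.range f)))).det := RingHom.map_det _ _
  apply le_antisymm
  · rw [Ideal.span_le]
    rintro _ ⟨s, e, rfl⟩
    rw [SetLike.mem_coe, hdet, hJ]
    by_cases hs : Function.Injective s
    swap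
    · simp only [Function.Injective, not_forall] at hs
      obtain ⟨a, c, hac, hne⟩ := hs
      rw [Matrix.det_zero_of_row_eq (M := ((J.map (algebraMap (MvPolynomial (Fin n) A) (MvPolynomial (Fin n) A ⧸ Ideal.span (Set.range f)))).submatrix s e)) hne (by funext k; simp [hac])]
      exact zero_mem _
    by_cases he : Function.Injective e
    swap
    · simp only [Function.Injective, not_forall] at he
      obtain ⟨a, c, hac, hne⟩ := he
      rw [Matrix.det_zero_of_column_eq (M := ((J.map (algebraMap (MvPolynomial (Fin n) A) (MvPolynomial (Fin n) A ⧸ Ideal.span (Set.range f)))).submatrix s e)) hne fun k => by simp [hac]]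
      exact zero_mem _
    let σ := Equiv.ofBijective s (Finite.injective_iff_bijective.mp hs)
    let τ := Equiv.ofBijective e (Finite.injective_iff_bijective.mp he)
    have : (J.map (algebraMap (MvPolynomial (Fin n) A) (MvPolynomial (Fin n) A ⧸ Ideal.span (Set.range f)))).submatrix s e =
        (((J.map (algebraMap (MvPolynomial (Fin n) A) (MvPolynomial (Fin n) A ⧸ Ideal.span (Set.range f)))).submatrix σ id).submatrix id τ) := rfl
    rw [this, Matrix.det_permute', Matrix.det_permute]
    exact Ideal.mul_mem_left _ _ (Ideal.mul_mem_left _ _ (Ideal.mem_span_singleton_self _))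
  · rw [Ideal.span_le, Set.singleton_subset_iff]
    exact Ideal.subset_span ⟨id, id, by rw [hdet, hJ]; rfl⟩

end Groth.Agent.S8931
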