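import Groth.Statements.S8932
import Groth.Agent.DualFlat.Apps

set_option autoImplicit false
universe u
open CategoryTheory
open scoped TensorProduct
attribute [local instance] HasDerivedCategory.standard
open Dual

namespace Groth.Agent.S8932

/-- For a field extension K/k, a finite type k-algebra A and a dualizing complex ω for A, the derived
base change of ω along A → K ⊗_k A is a dualizing complex for K ⊗_k A (the derived base change
functor being assumed to exist). -/
theorem result (k K : Type u) [Field k] [Field K] [Algebra k K] (A : Type u) [CommRing A] [Algebra k A] [Algebra.FiniteType k A] [DRing.HasLBaseChange (Algebra.TensorProduct.includeRight : A →ₐ[k] K ⊗[k] A).toRingHom] (ω : Dual.D A) (hω : Dual.IsDualizing A ω) : Dual.IsDualizing (K ⊗[k] A) ((DRing.LBaseChange (Algebra.TensorProduct.includeRight : A →ₐ[k] K ⊗[k] A).toRingHom).obj ω) := by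
  letI : Algebra A (K ⊗[k] A) := (Algebra.TensorProduct.includeRight : A →ₐ[k] K ⊗[k] A).toRingHom.toAlgebra
  haveI : DRing.HasLBaseChange (algebraMap A (K ⊗[k] A)) := ‹_›
  haveI : IsNoetherianRing A := Algebra.FiniteType.isNoetherianRing k A
  haveI : IsNoetherianRing (K ⊗[k] A) := Algebra.FiniteType.isNoetherianRing K _
  let e : A ⊗[k] K ≃ₐ[A] K ⊗[k] A := { Algebra.TensorProduct.comm k A K with commutes' := fun _ => rfl }
  haveI : Module.Flat A (A ⊗[k] K) := inferInstance
  haveI : Module.Flat A (K ⊗[k] A) := Module.Flat.of_linearEquiv e.symm.toLinearEquiv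
  refine DualFlat.isDualizing_lBaseChange (K ⊗[k] A) ω (DualFlat.dim_lt_top_finiteType (A := K) _ ?_)
    (DualFlat.gorFibres_of_fibres _ fun P _ => ?_) hω
  · rw [ringKrullDim_eq_zero_of_field]; exact WithBot.coe_lt_coe.2 (ENat.natCast_lt_top 0)
  · let κ := P.ResidueField
    haveI : Algebra.EssFiniteType k κ := Algebra.EssFiniteType.comp k A κ
    haveI := FlatDepth.isNoetherianRing_tensor_essFinite k K κ
    haveI : IsNoetherianRing (K ⊗[k] κ) :=
      isNoetherianRing_of_ringEquiv (κ ⊗[k] K) (Algebra.TensorProduct.comm k κ K).toRingEquiv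
    exact Goren.isGorensteinRing_of_equiv (K ⊗[k] κ) _
      ((Algebra.TensorProduct.comm k K κ).toRingEquiv.trans
        ((Algebra.TensorProduct.cancelBaseChange k A κ κ K).symm.toRingEquiv.trans
          (Algebra.TensorProduct.congr (AlgEquiv.refl : κ ≃ₐ[A] κ) e).toRingEquiv))
      (Goren.isGorensteinRing_fieldExt k K κ
        (Goren.isGorensteinRing_of_regular κ (GeomProp.isRegularRing_of_reduced_artinian κ)))

end Groth.Agent.S8932
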