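import Groth.Statements.S8934
import Groth.Agent.RGCompl.BaseChange

set_option autoImplicit false
universe u
open CategoryTheory CategoryTheory.Limits
attribute [local instance] HasDerivedCategory.standard
open LocCoh

namespace Groth.Agent.S8934

/-- Let p be a prime, A a Noetherian ring of characteristic p with Frobenius endomorphism F, and I an
ideal of A. Then the derived base change of RΓ_I(A) along F is isomorphic to RΓ_I(A) in D(A)
(existence of an isomorphism only; RΓ_I, the derived I-power torsion functor, and the derived base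
change along F are assumed to exist). (The published statement is for any ring and a finitely
generated ideal, with local cohomology RΓ_Z; this row takes A Noetherian, where RΓ_Z is the derived
functor of I-power torsion.) -/
theorem result (p : ℕ) [Fact p.Prime] (A : Type u) [CommRing A] [IsNoetherianRing A] [CharP A p] (I : Ideal A) [DRing.HasRgammaI I] [DRing.HasLBaseChange (frobenius A p)] : Nonempty ((DRing.LBaseChange (frobenius A p)).obj ((DRing.RgammaI I).obj (Dual.inD A A)) ≅ (DRing.RgammaI I).obj (Dual.inD A A)) := by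
  classical
  obtain ⟨s, hs⟩ : ∃ fs : List A, Ideal.span {a | a ∈ fs} = I := by
    obtain ⟨t, ht⟩ := IsNoetherian.noetherian I
    exact ⟨t.toList, by simpa using ht⟩
  subst hs
  haveI := Groth.Agent.RGammaI.hasRgammaI (Ideal.span {a | a ∈ s.map (frobenius A p)})
  have key := @Groth.Agent.RGCompl.nonempty_LBaseChange_RΓ A _ A _ (frobenius A p).toAlgebra _ _ ‹_› s ‹_› ‹_›
  obtain ⟨e⟩ := key
  refine ⟨e ≪≫ (Groth.Agent.RGCompl.nonempty_RΓ_congr (fun M => ?_) _).some⟩
  have hle : Ideal.span {a | a ∈ s.map (frobenius A p)} ≤ Ideal.span {a | a ∈ s} := Ideal.span_le.2 fun a ha => by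
    obtain ⟨b, hb, rfl⟩ := List.mem_map.1 ha
    exact Ideal.pow_mem_of_mem (Ideal.span {a | a ∈ s}) (Ideal.subset_span hb) p (Fact.out : p.Prime).pos
  have hrad : Ideal.span {a | a ∈ s} ≤ (Ideal.span {a | a ∈ s.map (frobenius A p)}).radical :=
    Ideal.span_le.2 fun b hb => ⟨p, Ideal.subset_span (List.mem_map.2 ⟨b, hb, rfl⟩)⟩
  obtain ⟨N, hN⟩ := Ideal.exists_pow_le_of_le_radical_of_fg hrad (IsNoetherian.noetherian _)
  refine le_antisymm (fun m ⟨n, hn⟩ => ⟨N * n, fun a ha => hn a ?_⟩) (Groth.Agent.LocH.torsionSub_anti hle M)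
  rw [pow_mul] at ha
  exact Ideal.pow_right_mono hN n ha

end Groth.Agent.S8934
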