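import Groth.Statements.S8935
import Groth.Agent.TateDual.Basic
import Mathlib.RingTheory.NoetherNormalization

set_option autoImplicit false
universe u
open Disc

namespace Groth.Agent.S8935

/-- Let k be a field and B = k[x_1, …, x_n]/(f_1, …, f_n), a global complete intersection with as many
equations as variables, of Krull dimension 0. Then ω_{B/k} = Hom_k(B, k), with B acting through the
argument, is an invertible B-module; since B is Artinian this means it is free of rank one, which is
the form stated. -/
theorem result (k : Type u) [Field k] (n : ℕ) (f : Fin n → MvPolynomial (Fin n) k) (h0 : ringKrullDim (MvPolynomial (Fin n) k ⧸ Ideal.span (Set.range f)) = 0) : Nonempty (Disc.Omega k (MvPolynomial (Fin n) k ⧸ Ideal.span (Set.range f)) ≃ₗ[MvPolynomial (Fin n) k ⧸ Ideal.span (Set.range f)] (MvPolynomial (Fin n) k ⧸ Ideal.span (Set.range f))) := by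
  rcases subsingleton_or_nontrivial (MvPolynomial (Fin n) k ⧸ Ideal.span (Set.range f)) with h | h
  · rw [ringKrullDim_eq_bot_of_subsingleton] at h0
    exact absurd h0.symm WithBot.zero_ne_bot
  haveI : Module.Finite k (MvPolynomial (Fin n) k ⧸ Ideal.span (Set.range f)) := by
    obtain ⟨s, g, hgi, hgf⟩ := exists_finite_inj_algHom_of_fg k (MvPolynomial (Fin n) k ⧸ Ideal.span (Set.range f))
    have hs : s = 0 := by
      have h1 := Groth.Agent.Unibranch.ringKrullDim_eq_of_finite_inj g hgi hgf
      rw [h0] at h1
      exact_mod_cast h1.symm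
    subst hs
    haveI : Module.Finite k (MvPolynomial (Fin 0) k) :=
      Module.Finite.equiv (MvPolynomial.isEmptyAlgEquiv k (Fin 0)).symm.toLinearEquiv
    letI := g.toRingHom.toAlgebra
    haveI : Module.Finite (MvPolynomial (Fin 0) k) (MvPolynomial (Fin n) k ⧸ Ideal.span (Set.range f)) := hgf
    haveI : IsScalarTower k (MvPolynomial (Fin 0) k) (MvPolynomial (Fin n) k ⧸ Ideal.span (Set.range f)) :=
      IsScalarTower.of_algebraMap_eq fun a => (g.commutes a).symm
    exact Module.Finite.trans (MvPolynomial (Fin 0) k) _
  obtain ⟨e, -⟩ := Groth.Agent.TateDual.exists_omega_equiv (Ideal.Quotient.mkₐ k (Ideal.span (Set.range f))) f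
    (Ideal.Quotient.mkₐ_surjective k _) (Ideal.Quotient.mkₐ_ker k _)
  exact ⟨e.symm⟩

end Groth.Agent.S8935
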