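import Groth.Statements.S8936
import Mathlib
import Groth.Agent.InjHull.Noetherian
-- import your own Groth.Agent.* helpers here

set_option autoImplicit false
universe u v
open InjHull

namespace Groth.Agent.S8936

/-- For a directed system (E_i) of R-modules over a nonempty directed preorder and a compatible family
of essential injections M → E_i, the induced map from M to the direct limit of the E_i is an
essential injection. -/
theorem result (R : Type u) [CommRing R] (ι : Type v) [Preorder ι] [IsDirectedOrder ι] [DecidableEq ι] (i₀ : ι) (E : ι → Type v) [∀ i, AddCommGroup (E i)] [∀ i, Module R (E i)] (f : ∀ i j, i ≤ j → E i →ₗ[R] E j) [DirectedSystem E fun i j h => f i j h] (M : Type v) [AddCommGroup M] [Module R M] (g : ∀ i, M →ₗ[R] E i) (hg : ∀ i j (h : i ≤ j), f i j h ∘ₗ g i = g j) (he : ∀ i, InjHull.IsEssentialInj (g i)) : InjHull.IsEssentialInj (Module.DirectLimit.of R ι E f i₀ ∘ₗ g i₀) := by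
  have : Nonempty ι := ⟨i₀⟩
  have key : ∀ i, i₀ ≤ i → ∀ m, Module.DirectLimit.of R ι E f i (g i m)
      = Module.DirectLimit.of R ι E f i₀ (g i₀ m) := fun i hi m => by
    rw [← hg i₀ i hi, LinearMap.comp_apply, Module.DirectLimit.of_f]
  have hinj : Function.Injective (Module.DirectLimit.of R ι E f i₀ ∘ₗ g i₀) := by
    refine (injective_iff_map_eq_zero (Module.DirectLimit.of R ι E f i₀ ∘ₗ g i₀)).2 fun m hm => ?_
    obtain ⟨j, hij, hj⟩ := Module.DirectLimit.of.zero_exact hm
    refine (he j).injective ?_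
    rw [map_zero, ← hg i₀ j hij]
    exact hj
  refine Groth.Agent.InjHull.isEssentialInj_iff.2 ⟨hinj, fun x hx => ?_⟩
  obtain ⟨i, y, rfl⟩ := Module.DirectLimit.exists_of x
  obtain ⟨k, hik, h0k⟩ := exists_ge_ge i i₀
  rw [← Module.DirectLimit.of_f (hij := hik)] at hx ⊢
  obtain ⟨r, m, hm, hm0⟩ := Groth.Agent.InjHull.exists_smul_eq_of_isEssentialInj (he k)
    (x := f i k hik y) (fun h => hx (by rw [h, map_zero]))
  have e : Module.DirectLimit.of R ι E f i₀ (g i₀ m)
      = r • Module.DirectLimit.of R ι E f k (f i k hik y) := by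
    rw [← key k h0k, hm, map_smul]
  refine ⟨r, ⟨m, e⟩, ?_⟩
  rw [← e]
  exact fun h => hm0 (hinj (h.trans (map_zero (Module.DirectLimit.of R ι E f i₀ ∘ₗ g i₀)).symm))

end Groth.Agent.S8936
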