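import Groth.Statements.S8937
import Groth.Agent.S0356
import Groth.Agent.S0378
import Groth.Agent.FibVan.Top
import Groth.Agent.FibVan.Main
import Groth.Agent.BlowUpLib.Basic
import Groth.Agent.BlowUpExist.Proper
import Groth.Agent.ExtLocus.Gen
import Groth.Agent.QC.Localisation
-- import your own Groth.Agent.* helpers here

set_option autoImplicit false
universe u
open CategoryTheory AlgebraicGeometry
attribute [local instance] HasDerivedCategory.standard
open LocCoh

set_option linter.style.haveILetI false
set_option backward.isDefEq.respectTransparency false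
set_option backward.isDefEq.respectTransparency.types false
open AlgebraicGeometry CategoryTheory TopologicalSpace

namespace Groth.Agent.S8937

/-- Let A be a Noetherian ring, I an ideal and b : X → Spec A a blowing up of Spec A in I. If the fibres
of b have dimension at most d, then cd(A, I) ≤ d + 1, i.e. H^i_I(M) = 0 for all A-modules M and all
i > d + 1. -/
theorem result (A : Type u) [CommRing A] [IsNoetherianRing A] (I : Ideal A) (X : Scheme.{u}) (b : X ⟶ Spec (CommRingCat.of A)) (hb : BlowUp.IsBlowUp b (Curv2.idealSheaf A I)) (d : ℕ) (hd : Dual3.FibreDimLE b d) : LocCoh.CdLE A I (d + 1) := by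
  refine (Groth.Agent.S0378.result A I (d + 1)).1 fun i hi => ?_
  obtain ⟨p, rfl⟩ : ∃ p, i = p + 1 := ⟨i - 1, by omega⟩
  let U := LocCoh.puncturedOpen A I
  obtain ⟨e⟩ := Groth.Agent.S0356.result A I A p (by omega)
  refine @Function.Surjective.subsingleton _ _ _ ?_ e.surjective
  let J := Curv2.idealSheaf A I
  have hU : J.support.compl = U := by
    refine Opens.ext (congrArg (fun s : Set (Spec (CommRingCat.of A)) => sᶜ) ?_)
    simp only [J, Curv2.idealSheaf, Scheme.IdealSheafData.coe_support_ofIdealTop, Spec_zeroLocus]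
    exact congrArg (fun K : Ideal A => PrimeSpectrum.zeroLocus (K : Set A)) (Ideal.comap_map_of_bijective _
      (ConcreteCategory.bijective_of_isIso (Scheme.ΓSpecIso (CommRingCat.of A)).inv))
  haveI hiso : IsIso (b ∣_ U) := hU ▸ Groth.Agent.BlowUpLib.isIso_restrict hb
  haveI : IsProper b := Groth.Agent.BlowUpExist.isProper_of_isFiniteType hb fun V => by
    haveI : IsNoetherianRing Γ(Spec (CommRingCat.of A), V.1) := IsLocallyNoetherian.component_noetherian V
    exact IsNoetherian.noetherian _
  have hE : BlowUp.IsEffCartierIdeal (J.comap b) := hb.1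
  have hQ : b ⁻¹ᵁ U = (J.comap b).support.compl := by
    rw [← hU, Scheme.IdealSheafData.support_comap]
    rfl
  haveI : IsAffineHom (b ⁻¹ᵁ U).ι := Groth.Agent.ExtLocus.isAffineHom_ι hQ hE
  let j : (U : Scheme.{u}) ⟶ X := inv (b ∣_ U) ≫ (b ⁻¹ᵁ U).ι
  haveI : Coh.IsQCoh ((tilde (R := CommRingCat.of A) (ModuleCat.of A A)).restrict U.ι) := inferInstance
  refine Groth.Agent.FibVan.subsingleton_hh_push j _ p ?_
  exact Groth.Agent.FibVan.subsingleton_hh_affine b d hd _ (Groth.Agent.QC.isQCoh_pushforward j) p (by omega)

end Groth.Agent.S8937
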