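import Groth.Statements.S8941
import Groth.Agent.DualCx.FiniteMap
import Groth.Agent.DualCx.Rep
-- import your own Groth.Agent.* helpers here

set_option autoImplicit false
universe u
open CategoryTheory CategoryTheory.Pretriangulated
attribute [local instance] HasDerivedCategory.standard
open Dual


namespace Groth.Agent.S8941Aux

open CategoryTheory Limits DerivedCategory Pretriangulated Groth.Agent.DualCx

attribute [local instance] HasDerivedCategory.standard

noncomputable section

variable {A : Type u} [CommRing A] (f : A)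

/-- The quotient `A ⧸ (f)`. -/
abbrev B (f : A) : Type u := A ⧸ Ideal.span {f}

variable (J : CochainComplex (ModuleCat.{u} A) ℤ)

/-- The inclusion `Hom(A/f, J) → J`. -/
abbrev incl : ((res A (B f)).mapHomologicalComplex (ComplexShape.up ℤ)).obj (coJ (B := B f) J) ⟶ J :=
  (KInj.mapHomologicalComplexAdj (rcAdj A (B f)) (ComplexShape.up ℤ)).counit.app J

theorem incl_apply (n : ℤ) (φ : ((coext A (B f)).obj (J.X n))) :
    ((incl f J).f n).hom φ = φ (1 : B f) := rfl

/-- The short complex `Hom(A/f, J) → J → J`. -/
def seq : ShortComplex (CochainComplex (ModuleCat.{u} A) ℤ) :=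
  ShortComplex.mk (incl f J) (f • 𝟙 J) (HomologicalComplex.hom_ext _ _ fun n =>
    ModuleCat.hom_ext (LinearMap.ext fun φ => by
      let ψ := ModuleCat.CoextendScalars.equiv (algebraMap A (B f)) (J.X n) φ
      change f • ψ (1 : B f) = 0
      refine (ψ.map_smul f (1 : B f)).symm.trans ?_
      have h0 : (algebraMap A (B f) f) • (1 : B f) = 0 := by
        simp [Ideal.Quotient.eq_zero_iff_mem, Ideal.mem_span_singleton_self]
      exact (congrArg ψ h0).trans (map_zero ψ)))

theorem seq_shortExact (hf : f ∈ nonZeroDivisors A) (hJ : ∀ i, Injective (J.X i)) :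
    (seq f J).ShortExact := by
  refine HomologicalComplex.shortExact_of_degreewise_shortExact _ fun n => ?_
  haveI : Module.Injective A (J.X n) := (Module.injective_iff_injective_object A _).2 (hJ n)
  exact
    { exact := (ShortComplex.moduleCat_exact_iff _).2 fun (x : J.X n) hx => by
        have hx' : f • x = 0 := hx
        let T : (ModuleCat.of A A) →ₗ[A] J.X n := LinearMap.toSpanSingleton A (J.X n) x
        have hle : Ideal.span {f} ≤ LinearMap.ker (LinearMap.toSpanSingleton A (J.X n) x) := by
          rw [Ideal.span_le, Set.singleton_subset_iff]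
          exact hx'
        let L : B f →ₗ[A] J.X n := (Ideal.span {f}).liftQ (LinearMap.toSpanSingleton A (J.X n) x) hle
        refine ⟨(ModuleCat.CoextendScalars.equiv (algebraMap A (B f)) (J.X n)).symm
          { toFun := L
            map_add' := L.map_add
            map_smul' := fun a y => ?_ }, ?_⟩
        · change L ((algebraMap A (B f) a * (show B f from y) : B f)) = a • L (show B f from y)
          rw [← Algebra.smul_def]; exact L.map_smul a y
        · change L (Ideal.Quotient.mk _ 1) = x
          exact one_smul A x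
      mono_f := (ModuleCat.mono_iff_injective _).2 fun φ ψ h => by
        apply (ModuleCat.CoextendScalars.equiv (algebraMap A (B f)) (J.X n)).injective
        refine LinearMap.ext fun y => ?_
        obtain ⟨a, rfl⟩ := Ideal.Quotient.mk_surjective y
        have h1 : (ModuleCat.CoextendScalars.equiv (algebraMap A (B f)) (J.X n) φ) (1 : B f) =
          (ModuleCat.CoextendScalars.equiv (algebraMap A (B f)) (J.X n) ψ) (1 : B f) := h
        have h2 : (Ideal.Quotient.mk (Ideal.span {f}) a) = (algebraMap A (B f) a) • (1 : B f) := by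
          simp
        rw [h2]
        exact (map_smul _ a (1 : B f)).trans ((congrArg (a • ·) h1).trans (map_smul _ a (1 : B f)).symm)
      epi_g := (ModuleCat.epi_iff_surjective _).2 fun (x : J.X n) => by
        obtain ⟨h, hh⟩ := Module.Injective.out (LinearMap.toSpanSingleton A A f)
          (fun a b hab => by
            have : (a - b) * f = 0 := by
              simp only [LinearMap.toSpanSingleton_apply, smul_eq_mul] at hab
              rw [sub_mul, hab, sub_self]
            exact sub_eq_zero.1 ((mem_nonZeroDivisors_iff_right.mp hf) _ this))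
          (LinearMap.toSpanSingleton A (J.X n) x)
        refine ⟨h 1, ?_⟩
        change f • h 1 = x
        have h3 := hh 1
        simp only [LinearMap.toSpanSingleton_apply, one_smul, smul_eq_mul, one_mul] at h3
        rw [← map_smul, smul_eq_mul, mul_one]
        exact h3 }

theorem exists_triangle (hf : f ∈ nonZeroDivisors A) {ω : Dual.D A} (hω : Dual.IsDualizing A ω)
    (R : Dual.D A ⥤ Dual.D (B f)) (adj : DRing.restrictD (algebraMap A (B f)) ⊣ R) :
    ∃ (u : (resD A (B f)).obj (R.obj ω) ⟶ ω) (w : ω ⟶ ((resD A (B f)).obj (R.obj ω))⟦(1 : ℤ)⟧),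
      Triangle.mk u (f • 𝟙 ω) w ∈ distinguishedTriangles := by
  obtain ⟨P⟩ := nonempty_rep hω
  haveI := P.isKInjective
  obtain ⟨θ⟩ := (isRA_coJ (B := B f) P.J P.iso).nonempty_iso adj
  have hS := seq_shortExact f P.J hf P.inj
  let α : Q.obj (seq f P.J).X₁ ≅ (resD A (B f)).obj (R.obj ω) :=
    ((res A (B f)).mapDerivedCategoryFactors.app (coJ (B := B f) P.J)).symm ≪≫ (resD A (B f)).mapIso θ
  refine ⟨α.inv ≫ Q.map (incl f P.J) ≫ P.iso.hom,
    P.iso.inv ≫ triangleOfSESδ hS ≫ α.hom⟦(1 : ℤ)⟧', ?_⟩
  refine isomorphic_distinguished _ (triangleOfSES_distinguished hS) _ ?_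
  refine Triangle.isoMk _ _ α.symm P.iso.symm P.iso.symm ?_ ?_ ?_
  · change (α.inv ≫ Q.map (incl f P.J) ≫ P.iso.hom) ≫ P.iso.inv = α.inv ≫ Q.map (incl f P.J)
    simp
  · change (f • 𝟙 ω) ≫ P.iso.inv = P.iso.inv ≫ Q.map (f • 𝟙 P.J)
    rw [Functor.map_smul, CategoryTheory.Functor.map_id, Linear.smul_comp, Linear.comp_smul,
      Category.id_comp]
    erw [Category.comp_id]
  · change (P.iso.inv ≫ triangleOfSESδ hS ≫ α.hom⟦(1 : ℤ)⟧') ≫ α.inv⟦(1 : ℤ)⟧' =
      P.iso.inv ≫ triangleOfSESδ hS
    have h : α.hom⟦(1 : ℤ)⟧' ≫ α.inv⟦(1 : ℤ)⟧' = 𝟙 _ := by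
      rw [← Functor.map_comp, α.hom_inv_id, CategoryTheory.Functor.map_id]
    refine (Category.assoc _ _ _).trans ?_
    exact congrArg (fun z => P.iso.inv ≫ z) ((Category.assoc _ _ _).trans
      ((congrArg (fun z => triangleOfSESδ hS ≫ z) h).trans (Category.comp_id _)))

end

end Groth.Agent.S8941Aux

namespace Groth.Agent.S8941

/-- Let A be a Noetherian local ring with normalized dualizing complex ω, f a nonzerodivisor in the
maximal ideal and B = A/(f); with R right adjoint to restriction of scalars D(B) → D(A) (so that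
R(ω) is RHom_A(B, ω), a normalized dualizing complex for B), there is a distinguished triangle in
D(A) with vertices R(ω) viewed over A, ω, ω, whose middle morphism ω → ω is multiplication by f. -/
theorem result (A : Type u) [CommRing A] [IsLocalRing A] [IsNoetherianRing A] (ω : Dual.D A) (hω : Dual.IsDualizing A ω) (hn : Dual.IsNormalized A ω) (f : A) (hf : f ∈ IsLocalRing.maximalIdeal A) (hf' : f ∈ nonZeroDivisors A) (R : Dual.D A ⥤ Dual.D (A ⧸ Ideal.span {f})) (adj : DRing.restrictD (Ideal.Quotient.mk (Ideal.span {f})) ⊣ R) : ∃ (u : (DRing.restrictD (Ideal.Quotient.mk (Ideal.span {f}))).obj (R.obj ω) ⟶ ω) (w : ω ⟶ ((DRing.restrictD (Ideal.Quotient.mk (Ideal.span {f}))).obj (R.obj ω))⟦(1 : ℤ)⟧), Triangle.mk u (f • 𝟙 ω) w ∈ distinguishedTriangles := by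
  exact Groth.Agent.S8941Aux.exists_triangle f hf' hω R adj

end Groth.Agent.S8941
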