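import Groth.Statements.S8944
import Groth.Agent.QFDualLib.Open
import Groth.Agent.QFDualLib.Fibre

set_option autoImplicit false
universe u
open AlgebraicGeometry
open scoped TensorProduct
open Disc TensorProduct

namespace Groth.Agent.S8944

set_option linter.style.haveILetI false
set_option synthInstance.maxHeartbeats 200000

/-- Let A → B be a flat homomorphism of Noetherian rings, and suppose it factors through a ring B′ as A
→ B′ → B, where B′ is finite over A and the induced map of spectra Spec(B) → Spec(B′) is an open
immersion, so that the relative dualizing module is ω_{B/A} = Hom_A(B′, A) ⊗_{B′} B (B′ acting on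
Hom_A(B′, A) through the argument). Then ω_{B/A} is a flat A-module. -/
theorem result (A B B' : Type u) [CommRing A] [CommRing B] [CommRing B'] [IsNoetherianRing A] [IsNoetherianRing B] [Algebra A B] [Module.Flat A B] [Algebra A B'] [Algebra B' B] [IsScalarTower A B' B] [Module.Finite A B'] (hopen : IsOpenImmersion (Spec.map (CommRingCat.ofHom (algebraMap B' B)))) : Module.Flat A (B ⊗[B'] Disc.Omega A B') := by
  haveI : Module.FinitePresentation A B' := Module.finitePresentation_of_finite A B'
  let N := B ⊗[B'] Disc.Omega A B'
  refine Module.flat_of_isLocalized_maximal (R := A) B N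
    (fun q _ => LocalizedModule q.primeCompl N) (fun q _ => LocalizedModule.mkLinearMap q.primeCompl N) fun q hq => ?_
  let T := Localization.AtPrime q
  let q' := q.comap (algebraMap B' B)
  let ρ : Localization.AtPrime q' →ₐ[B'] T :=
    { Localization.localRingHom q' q (algebraMap B' B) rfl with
      commutes' := fun b => by
        show Localization.localRingHom q' q (algebraMap B' B) rfl (algebraMap B' (Localization.AtPrime q') b) = _
        rw [Localization.localRingHom_to_map, IsScalarTower.algebraMap_apply B' B T] }
  haveI : IsLocalization q'.primeCompl T := IsLocalization.isLocalization_of_algEquiv _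
    (AlgEquiv.ofBijective ρ (QFDualLib.localRingHom_bijective hopen q))
  haveI : Module.Flat A (Localization.AtPrime q') := QFDualLib.flat_localization hopen q
  obtain ⟨g, hg, hgF⟩ := QFDualLib.exists_isFactor (A := A) q'
  haveI : IsLocalizedModule q'.primeCompl (TensorProduct.mk B' T (Disc.Omega A B') 1) :=
    (isLocalizedModule_iff_isBaseChange q'.primeCompl T _).2 (TensorProduct.isBaseChange _ _ _)
  haveI : Module.Flat A (T ⊗[B'] Disc.Omega A B') :=
    QFDualLib.flat_localized q'.primeCompl (TensorProduct.mk B' T (Disc.Omega A B') 1) g hg hgF
  exact Module.Flat.of_linearEquiv (((LocalizedModule.equivTensorProduct q.primeCompl N).trans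
    (AlgebraTensorModule.cancelBaseChange B' B T T (Disc.Omega A B'))).restrictScalars A)

end Groth.Agent.S8944
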