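import Groth.Statements.S8945
import Groth.Agent.DualCx.FiniteMap
import Groth.Agent.DualCx.Coherent
import Groth.Agent.DualCx.Matlis
-- import your own Groth.Agent.* helpers here

set_option autoImplicit false
universe u
open CategoryTheory CategoryTheory.Pretriangulated
attribute [local instance] HasDerivedCategory.standard
open Dual


namespace Groth.Agent.S8945Aux

open CategoryTheory Limits DerivedCategory Pretriangulated Groth.Agent.DualCx IsLocalRing

attribute [local instance] HasDerivedCategory.standard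

noncomputable section

variable {A : Type u} [CommRing A] {ω : Dual.D A} (P : DualCx.Rep ω)

/-- A boundary gives the zero class. -/
theorem toT_boundary (M : Type u) [AddCommGroup M] [Module A M] (i : ℤ) (z : P.Z M i)
    (w : ModuleCat.of A M ⟶ P.J.X (i - 1)) (hw : w ≫ P.J.d (i - 1) i = z.1) : P.toT M i z = 0 := by
  haveI := P.isKInjective
  have h0 : DerivedCategory.Q.map (P.ofCycle M i z) = 0 := by
    let φ := P.ofCycle M i z
    let ho : Homotopy φ 0 :=
      { hom := fun a b => if h : a = i ∧ b = i - 1 then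
          ((sgl M i).XIsoOfEq h.1).hom ≫ (HomologicalComplex.singleObjXSelf (ComplexShape.up ℤ) i _).hom ≫ w ≫
            (P.J.XIsoOfEq h.2.symm).hom else 0
        zero := fun a b hab => by
          rw [dif_neg]
          rintro ⟨rfl, rfl⟩
          exact hab (by simp)
        comm := fun a => by
          by_cases hi : a = i
          · subst hi
            rw [dNext_eq _ (show (ComplexShape.up ℤ).Rel a (a + 1) from rfl),
              prevD_eq _ (show (ComplexShape.up ℤ).Rel (a - 1) a by simp),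
              dif_pos (show a = a ∧ a - 1 = a - 1 from ⟨rfl, rfl⟩),
              (HomologicalComplex.isZero_single_obj_X (ComplexShape.up ℤ) a (ModuleCat.of A M) (a + 1) (by lia)).eq_of_tgt
                ((sgl M a).d a (a + 1)) 0]
            simp only [φ, Rep.ofCycle, HomologicalComplex.mkHomFromSingle_f, zero_comp, zero_add,
              HomologicalComplex.XIsoOfEq_rfl, Iso.refl_hom, Category.id_comp, Category.comp_id,
              HomologicalComplex.zero_f, add_zero, Category.assoc]
            exact congrArg (fun t => (HomologicalComplex.singleObjXSelf (ComplexShape.up ℤ) a (ModuleCat.of A M)).hom ≫ t) hw.symm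
          · exact (HomologicalComplex.isZero_single_obj_X (ComplexShape.up ℤ) i (ModuleCat.of A M) a hi).eq_of_src _ _ }
    rw [DerivedCategory.Q_map_eq_of_homotopy _ ho, Functor.map_zero]
  show (LinearEquiv.ofBijective (P.theta M i) (P.theta_bijective M i)).symm
    (DerivedCategory.Q.map (P.ofCycle M i z)) = 0
  rw [h0, map_zero]

theorem toT_surjective (M : Type u) [AddCommGroup M] [Module A M] (i : ℤ) : Function.Surjective (P.toT M i) := by
  intro x
  haveI := P.isKInjective
  obtain ⟨φ, hφ⟩ := DRingKP.exists_lift_inj (P.theta M i x)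
  let z : ModuleCat.of A M ⟶ P.J.X i :=
    (HomologicalComplex.singleObjXSelf (ComplexShape.up ℤ) i _).inv ≫ φ.f i
  have hz : z ≫ P.J.d i (i + 1) = 0 := by
    show (_ ≫ _) ≫ _ = _
    rw [Category.assoc, φ.comm, (HomologicalComplex.isZero_single_obj_X (ComplexShape.up ℤ) i (ModuleCat.of A M) (i + 1)
      (by lia)).eq_of_tgt ((sgl M i).d i (i + 1)) 0, zero_comp, comp_zero]
  refine ⟨⟨z, hz⟩, ?_⟩
  show (LinearEquiv.ofBijective (P.theta M i) (P.theta_bijective M i)).symm
    (DerivedCategory.Q.map (P.ofCycle M i ⟨z, hz⟩)) = x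
  rw [LinearEquiv.symm_apply_eq]
  show _ = P.theta M i x
  rw [← hφ]
  congr 1
  refine HomologicalComplex.from_single_hom_ext ?_
  simp [Rep.ofCycle, z]

theorem nonempty_homology_equiv (M : Type u) [AddCommGroup M] [Module A M] (i : ℤ) :
    Nonempty ((P.D M).homology i ≃ₗ[A] T ω M i) := by
  let S' := (P.D M).sc' (i - 1) i (i + 1)
  let e : (P.D M).homology i ≅ S'.moduleCatLeftHomologyData.H :=
    (P.D M).homologyIsoSc' (i - 1) i (i + 1) (by simp) (by simp) ≪≫ S'.moduleCatHomologyIso
  have hker : LinearMap.ker (P.toT M i) = LinearMap.range S'.moduleCatToCycles := by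
    ext z
    constructor
    · intro hz
      obtain ⟨w, hw⟩ := P.exists_boundary M i z hz
      exact ⟨w, Subtype.ext hw⟩
    · rintro ⟨w, hw⟩
      exact toT_boundary P M i z w (congrArg Subtype.val hw)
  exact ⟨e.toLinearEquiv.trans ((Submodule.quotEquivOfEq (R := A) (M := ↥(P.Z M i))
    (LinearMap.range S'.moduleCatToCycles : Submodule A ↥(P.Z M i)) (LinearMap.ker (P.toT M i)) hker.symm).trans
    ((P.toT M i).quotKerEquivOfSurjective (toT_surjective P M i)))⟩

variable (I : Ideal A)

/-- The inclusion `Hom(A/I, J) → J`. -/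
abbrev incl : ((res A (A ⧸ I)).mapHomologicalComplex (ComplexShape.up ℤ)).obj (coJ (B := A ⧸ I) P.J) ⟶ P.J :=
  (KInj.mapHomologicalComplexAdj (rcAdj A (A ⧸ I)) (ComplexShape.up ℤ)).counit.app P.J

/-- The evaluation `J → Hom(I, J)`. -/
def toD : P.J ⟶ P.D I :=
  haveI := P.isIso_ev_one
  inv (P.ev (1 : A)) ≫ P.dmap I.subtype

theorem toD_apply (n : ℤ) (x : P.J.X n) :
    (((toD P I).f n).hom x : ModuleCat.of A I ⟶ P.J.X n) =
      ModuleCat.ofHom ((LinearMap.toSpanSingleton A (P.J.X n) x).comp I.subtype) := by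
  haveI := P.isIso_ev_one
  let φ : ModuleCat.of A A ⟶ P.J.X n := ModuleCat.ofHom (LinearMap.toSpanSingleton A (P.J.X n) x)
  have h1 : ((P.ev (1 : A)).f n).hom φ = x := one_smul A x
  have h2 : ((inv (P.ev (1 : A))).f n).hom x = φ := by
    refine (congrArg ((inv (P.ev (1 : A))).f n).hom h1).symm.trans ?_
    exact LinearMap.congr_fun (congrArg ModuleCat.Hom.hom
      ((HomologicalComplex.comp_f (P.ev (1 : A)) (inv (P.ev (1 : A))) n).symm.trans
        (congrArg (fun z => z.f n) (IsIso.hom_inv_id (P.ev (1 : A)))))) φ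
  show ((P.dmap I.subtype).f n).hom (((inv (P.ev (1 : A))).f n).hom x) = _
  rw [h2]
  rfl

/-- The short complex `Hom(A/I, J) → J → Hom(I, J)`. -/
def seq : ShortComplex (CochainComplex (ModuleCat.{u} A) ℤ) :=
  ShortComplex.mk (incl P I) (toD P I) (HomologicalComplex.hom_ext _ _ fun n =>
    ModuleCat.hom_ext (LinearMap.ext fun φ => by
      show ((toD P I).f n).hom (((incl P I).f n).hom φ) = 0
      rw [toD_apply]
      refine ModuleCat.hom_ext (LinearMap.ext fun (a : I) => ?_)
      let ψ := ModuleCat.CoextendScalars.equiv (algebraMap A (A ⧸ I)) (P.J.X n) φ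
      change (a : A) • ψ (1 : A ⧸ I) = 0
      refine (ψ.map_smul (a : A) (1 : A ⧸ I)).symm.trans ?_
      have h0 : (algebraMap A (A ⧸ I) a) • (1 : A ⧸ I) = 0 := by
        simp [Ideal.Quotient.eq_zero_iff_mem, a.2]
      exact (congrArg ψ h0).trans (map_zero ψ)))

theorem seq_shortExact : (seq P I).ShortExact := by
  refine HomologicalComplex.shortExact_of_degreewise_shortExact _ fun n => ?_
  haveI : Module.Injective A (P.J.X n) := (Module.injective_iff_injective_object A _).2 (P.inj n)
  exact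
    { exact := (ShortComplex.moduleCat_exact_iff _).2 fun (x : P.J.X n) hx => by
        have hx' : ∀ a ∈ I, a • x = 0 := fun a ha => by
          have h1 : ((toD P I).f n).hom x = 0 := hx
          rw [toD_apply] at h1
          exact LinearMap.congr_fun (congrArg ModuleCat.Hom.hom h1) ⟨a, ha⟩
        let L : (A ⧸ I) →ₗ[A] P.J.X n := I.liftQ (LinearMap.toSpanSingleton A (P.J.X n) x) hx'
        refine ⟨(ModuleCat.CoextendScalars.equiv (algebraMap A (A ⧸ I)) (P.J.X n)).symm
          { toFun := L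
            map_add' := L.map_add
            map_smul' := fun a y => ?_ }, ?_⟩
        · change L ((algebraMap A (A ⧸ I) a * (show A ⧸ I from y) : A ⧸ I)) = a • L (show A ⧸ I from y)
          rw [← Algebra.smul_def]; exact L.map_smul a y
        · change L (Ideal.Quotient.mk _ 1) = x
          exact one_smul A x
      mono_f := (ModuleCat.mono_iff_injective _).2 fun φ ψ h => by
        apply (ModuleCat.CoextendScalars.equiv (algebraMap A (A ⧸ I)) (P.J.X n)).injective
        refine LinearMap.ext fun y => ?_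
        obtain ⟨a, rfl⟩ := Ideal.Quotient.mk_surjective y
        have h1 : (ModuleCat.CoextendScalars.equiv (algebraMap A (A ⧸ I)) (P.J.X n) φ) (1 : A ⧸ I) =
          (ModuleCat.CoextendScalars.equiv (algebraMap A (A ⧸ I)) (P.J.X n) ψ) (1 : A ⧸ I) := h
        have h2 : (Ideal.Quotient.mk I a) = (algebraMap A (A ⧸ I) a) • (1 : A ⧸ I) := by
          simp
        rw [h2]
        exact (map_smul _ a (1 : A ⧸ I)).trans ((congrArg (a • ·) h1).trans (map_smul _ a (1 : A ⧸ I)).symm)
      epi_g := (ModuleCat.epi_iff_surjective _).2 fun (g : ModuleCat.of A I ⟶ P.J.X n) => by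
        obtain ⟨h, hh⟩ := Module.Injective.out I.subtype I.injective_subtype g.hom
        refine ⟨h 1, ?_⟩
        show ((toD P I).f n).hom (h 1) = g
        rw [toD_apply]
        refine ModuleCat.hom_ext (LinearMap.ext fun (a : I) => ?_)
        show (a : A) • h 1 = g.hom a
        rw [← map_smul, smul_eq_mul, mul_one]
        exact hh a }

theorem exists_triangle [IsLocalRing A] [IsNoetherianRing A] (hω : Dual.IsDualizing A ω)
    (hn : Dual.IsNormalized A ω) (hIl : IsFiniteLength A I) (E : Type u) [AddCommGroup E] [Module A E]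
    {e : (A ⧸ maximalIdeal A) →ₗ[A] E} (he : InjHull.IsInjectiveHull e)
    (R : Dual.D A ⥤ Dual.D (A ⧸ I)) (adj : DRing.restrictD (algebraMap A (A ⧸ I)) ⊣ R) :
    ∃ (u : (resD A (A ⧸ I)).obj (R.obj ω) ⟶ ω) (v : ω ⟶ Dual.inD A (I →ₗ[A] E))
      (w : Dual.inD A (I →ₗ[A] E) ⟶ ((resD A (A ⧸ I)).obj (R.obj ω))⟦(1 : ℤ)⟧),
      Triangle.mk u v w ∈ distinguishedTriangles := by
  obtain ⟨P⟩ := nonempty_rep hω
  haveI := P.isKInjective
  obtain ⟨θ⟩ := (isRA_coJ (B := A ⧸ I) P.J P.iso).nonempty_iso adj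
  have hS := seq_shortExact P I
  let H := DerivedCategory.homologyFunctor (ModuleCat.{u} A)
  let X := DerivedCategory.Q.obj (P.D I)
  have hz : ∀ i : ℤ, i ≠ 0 → IsZero ((H i).obj X) := fun i hi => by
    haveI := subsingleton_T_finiteLength hω hn hIl hi
    haveI := P.subsingleton_homology I i inferInstance
    exact (ModuleCat.isZero_of_subsingleton _).of_iso (P.homologyIso I i)
  haveI : X.IsGE 0 := (DerivedCategory.isGE_iff X 0).2 fun i hi => hz i (by lia)
  haveI : X.IsLE 0 := (DerivedCategory.isLE_iff X 0).2 fun i hi => hz i (by lia)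
  obtain ⟨Y, ⟨eY⟩⟩ := exists_iso_singleFunctor_obj_of_isGE_of_isLE X 0
  obtain ⟨e1⟩ := exists_iso hω hn he hIl
  obtain ⟨e2⟩ := nonempty_homology_equiv P I 0
  let eY' : Y ≅ ModuleCat.of A (I →ₗ[A] E) :=
    ((DerivedCategory.singleFunctorCompHomologyFunctorIso (ModuleCat.{u} A) 0).app Y).symm ≪≫
      (H 0).mapIso eY.symm ≪≫ P.homologyIso I 0 ≪≫ (e2.trans e1).toModuleIso
  let γ : Q.obj (seq P I).X₃ ≅ Dual.inD A (I →ₗ[A] E) :=
    eY ≪≫ (DerivedCategory.singleFunctor (ModuleCat.{u} A) 0).mapIso eY'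
  let α : Q.obj (seq P I).X₁ ≅ (resD A (A ⧸ I)).obj (R.obj ω) :=
    ((res A (A ⧸ I)).mapDerivedCategoryFactors.app (coJ (B := A ⧸ I) P.J)).symm ≪≫ (resD A (A ⧸ I)).mapIso θ
  refine ⟨α.inv ≫ Q.map (incl P I) ≫ P.iso.hom, P.iso.inv ≫ Q.map (toD P I) ≫ γ.hom,
    γ.inv ≫ triangleOfSESδ hS ≫ α.hom⟦(1 : ℤ)⟧', ?_⟩
  refine isomorphic_distinguished _ (triangleOfSES_distinguished hS) _ ?_
  refine Triangle.isoMk _ _ α.symm P.iso.symm γ.symm ?_ ?_ ?_
  · change (α.inv ≫ Q.map (incl P I) ≫ P.iso.hom) ≫ P.iso.inv = α.inv ≫ Q.map (incl P I)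
    simp
  · change (P.iso.inv ≫ Q.map (toD P I) ≫ γ.hom) ≫ γ.inv = P.iso.inv ≫ Q.map (toD P I)
    refine (Category.assoc _ _ _).trans ?_
    exact congrArg (fun z => P.iso.inv ≫ z) ((Category.assoc _ _ _).trans
      ((congrArg (fun z => Q.map (toD P I) ≫ z) γ.hom_inv_id).trans (Category.comp_id _)))
  · change (γ.inv ≫ triangleOfSESδ hS ≫ α.hom⟦(1 : ℤ)⟧') ≫ α.inv⟦(1 : ℤ)⟧' =
      γ.inv ≫ triangleOfSESδ hS
    have h : α.hom⟦(1 : ℤ)⟧' ≫ α.inv⟦(1 : ℤ)⟧' = 𝟙 _ := by
      rw [← Functor.map_comp, α.hom_inv_id, CategoryTheory.Functor.map_id]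
    refine (Category.assoc _ _ _).trans ?_
    exact congrArg (fun z => γ.inv ≫ z) ((Category.assoc _ _ _).trans
      ((congrArg (fun z => triangleOfSESδ hS ≫ z) h).trans (Category.comp_id _)))

end

end Groth.Agent.S8945Aux

namespace Groth.Agent.S8945

/-- Suppose A is a Noetherian local ring with maximal ideal m and residue field κ, and that ω is a
normalized dualizing complex on A; take an ideal I ⊆ m of finite length, set B = A/I, and let E be
an injective hull of κ; with R right adjoint to restriction of scalars D(B) → D(A) (so that R(ω) =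
RHom_A(B, ω) is a normalized dualizing complex for B), there is a distinguished triangle in D(A)
with vertices R(ω) viewed over A, ω, and the module Hom_A(I, E) placed in degree 0. -/
theorem result (A : Type u) [CommRing A] [IsLocalRing A] [IsNoetherianRing A] (ω : Dual.D A) (hω : Dual.IsDualizing A ω) (hn : Dual.IsNormalized A ω) (I : Ideal A) (hI : I ≤ IsLocalRing.maximalIdeal A) (hIl : IsFiniteLength A I) (E : Type u) [AddCommGroup E] [Module A E] (e : IsLocalRing.ResidueField A →ₗ[A] E) (he : InjHull.IsInjectiveHull e) (R : Dual.D A ⥤ Dual.D (A ⧸ I)) (adj : DRing.restrictD (Ideal.Quotient.mk I) ⊣ R) : ∃ (u : (DRing.restrictD (Ideal.Quotient.mk I)).obj (R.obj ω) ⟶ ω) (v : ω ⟶ Dual.inD A (I →ₗ[A] E)) (w : Dual.inD A (I →ₗ[A] E) ⟶ ((DRing.restrictD (Ideal.Quotient.mk I)).obj (R.obj ω))⟦(1 : ℤ)⟧), Triangle.mk u v w ∈ distinguishedTriangles := by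
  exact Groth.Agent.S8945Aux.exists_triangle I hω hn hIl E he R adj

end Groth.Agent.S8945
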