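import Groth.Statements.S8947
import Groth.Agent.Shriek.GradeS2

set_option autoImplicit false
universe u
open CategoryTheory AlgebraicGeometry
attribute [local instance] HasDerivedCategory.standard
open Dual2

namespace Groth.Agent.S8947

/-- Let R → A be a finite type map of Noetherian rings with relative dualizing complex ω_{A/R} =
φ^!(R[0]) (computed through a presentation ψ : R[x_1, …, x_n] → A as RHom_P(A, R ⊗^L_R P)[n], the
derived base change being assumed to exist and RHom_P(A, −) being a right adjoint of restriction of
scalars). Let p be a prime of R such that R_p is Cohen–Macaulay, and r a natural number bounding the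
transcendence degree of κ(q) over κ(R ∩ q) for every minimal prime q of A. Then, S denoting the
image of R ∖ p in A, the localization S⁻¹H^i(ω_{A/R}) is nonzero only if −r ≤ i, and
S⁻¹H^{−r}(ω_{A/R}) satisfies Serre's condition (S_2) as an S⁻¹A-module. -/
theorem result (R A : Type u) [CommRing R] [CommRing A] [IsNoetherianRing R] [IsNoetherianRing A] [Algebra R A] (n : ℕ) (ψ : MvPolynomial (Fin n) R →ₐ[R] A) (hψ : Function.Surjective ψ) [DRing.HasLBaseChange (algebraMap R (MvPolynomial (Fin n) R))] (Rψ : Dual.D (MvPolynomial (Fin n) R) ⥤ Dual.D A) (adj : DRing.restrictD ψ.toRingHom ⊣ Rψ) (p : Ideal R) [p.IsPrime] [LocCoh.IsCohenMacaulayLocalRing (Localization.AtPrime p)] (r : ℕ) (hr : ∀ q : PrimeSpectrum A, q.asIdeal ∈ minimalPrimes A → Dual3.resTrdeg (Spec.map (CommRingCat.ofHom (algebraMap R A))) q ≤ (r : Cardinal.{u})) : (∀ i : ℤ, Nontrivial (LocalizedModule (Algebra.algebraMapSubmonoid A p.primeCompl) (Dual.HD A (Dual2.shriekVia n Rψ (Dual.inD R R)) i)) → -(r : ℤ) ≤ i) ∧ LocCoh.HasSk 2 (Localization (Algebra.algebraMapSubmonoid A p.primeCompl)) (LocalizedModule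 (Algebra.algebraMapSubmonoid A p.primeCompl) (Dual.HD A (Dual2.shriekVia n Rψ (Dual.inD R R)) (-(r : ℤ)))) := by
  let W := Dual2.shriekVia n Rψ (Dual.inD R R)
  have hW := Groth.Agent.Shriek.shr_shriekVia ψ Rψ adj (Dual.inD R R)
  let S : Submonoid A := Algebra.algebraMapSubmonoid A p.primeCompl
  have hover : ∀ (q : Ideal A) [q.IsPrime], Disjoint (S : Set A) (q : Set A) → Groth.Agent.Shriek.Over ψ p r q :=
    fun q _ hq => ⟨hψ, fun a ha => by
      by_contra h
      exact Set.disjoint_left.1 hq ⟨a, h, rfl⟩ ha, hr⟩
  refine ⟨fun i hne => ?_, fun P _ => ?_⟩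
  · by_contra hi
    haveI : Subsingleton (LocalizedModule S (Dual.HD A W i)) := LocalizedModule.subsingleton_iff.2 fun x => by
      let J : Ideal A := LinearMap.ker (LinearMap.toSpanSingleton A (Dual.HD A W i) x)
      by_contra hx
      have hdis : Disjoint (J : Set A) (S : Set A) := Set.disjoint_left.2 fun a ha haS =>
        hx ⟨a, haS, (LinearMap.mem_ker.1 ha : _)⟩
      obtain ⟨q, hq, hJq, hqS⟩ := Ideal.exists_le_prime_disjoint J S hdis
      haveI := hq
      obtain ⟨s, hs, hsx⟩ := (hover q hqS.symm).exists_kill hW (i := i) (by omega) x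
      exact hs (hJq (LinearMap.mem_ker.2 hsx))
    exact not_nontrivial _ hne
  · let q : Ideal A := P.comap (algebraMap A (Localization S))
    have hq : Disjoint (S : Set A) (q : Set A) := Set.disjoint_left.2 fun a haS ha =>
      (inferInstance : P.IsPrime).ne_top (Ideal.eq_top_of_isUnit_mem _ ha
        (IsLocalization.map_units (Localization S) (⟨a, haS⟩ : S)))
    haveI : IsLocalization.AtPrime (Localization.AtPrime P) q :=
      IsLocalization.isLocalization_isLocalization_atPrime_isLocalization S _ P
    let M := Dual.HD A W (-(r : ℤ))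
    let f := ((LocalizedModule.mkLinearMap P.primeCompl (LocalizedModule S M)).restrictScalars A).comp
      (LocalizedModule.mkLinearMap S M)
    haveI : IsLocalizedModule q.primeCompl f := by
      rw [isLocalizedModule_iff_isBaseChange q.primeCompl (Localization.AtPrime P)]
      refine IsBaseChange.comp (S := Localization S) ?_ ?_
      · rw [← isLocalizedModule_iff_isBaseChange S]
        infer_instance
      · rw [← isLocalizedModule_iff_isBaseChange P.primeCompl]
        infer_instance
    exact (hover q hq).min_two_le_depth hW (Localization.AtPrime P) _ f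

end Groth.Agent.S8947
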