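import Groth.Statements.S8951
import Groth.Agent.TorCI.CIRing
import Groth.Agent.FlatDepth.Comp

set_option autoImplicit false
set_option linter.style.haveILetI false
set_option backward.isDefEq.respectTransparency false
open Groth.Agent TensorProduct
universe u
open scoped TensorProduct
open CInt

namespace Groth.Agent.S8951

/-- Complete intersection fibres are preserved by composing with a regular map. For flat maps A → B → C
of Noetherian rings, if all local rings of the fibres of A → B are complete intersections and B → C
is regular, then all local rings of the fibres of A → C are complete intersections. -/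
theorem result (A B C : Type u) [CommRing A] [CommRing B] [CommRing C] [IsNoetherianRing A] [IsNoetherianRing B] [IsNoetherianRing C] [Algebra A B] [Algebra B C] [Algebra A C] [IsScalarTower A B C] [Module.Flat A B] [Module.Flat B C] (hAB : ∀ (q : Ideal A) [q.IsPrime] (P : Ideal (q.Fiber B)) [P.IsPrime], Pi1.IsCompleteIntersection (Localization.AtPrime P)) (hBC : CAlg.IsRegularHom B C) : ∀ (q : Ideal A) [q.IsPrime] (P : Ideal (q.Fiber C)) [P.IsPrime], Pi1.IsCompleteIntersection (Localization.AtPrime P) := by
  intro q _ P _
  have hAB' : TorCI.IsLCIRing (q.ResidueField ⊗[A] B) :=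
    ⟨FlatDepth.isNoetherianRing_tensor_essFinite A B q.ResidueField, fun P _ => hAB q P⟩
  exact (FlatDepth.comp_ascent (A := A) (B := B) (C := C) q q.ResidueField
    (fun R _ => TorCI.IsLCIRing R) TorCI.isLCIRing_of_ringEquiv
    (fun R S _ _ _ _ _ _ => TorCI.isLCIRing_ascent R S) hAB'
    fun q' _ κ _ _ hκ => TorCI.isLCIRing_of_isRegularRing _ ((hBC.2 q').2 κ hκ)).2 P

end Groth.Agent.S8951
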