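import Groth.Statements.S8953
import Groth.Agent.Shriek.OpenImm
import Groth.Agent.Shriek.Comp
import Groth.Agent.Shriek.HDOmega
import Groth.Agent.DualCx.LocalizeAway
import Groth.Agent.DualCx.Apps

set_option autoImplicit false
universe u
open CategoryTheory AlgebraicGeometry
open scoped TensorProduct
attribute [local instance] HasDerivedCategory.standard
open Disc

namespace Groth.Agent.S8953

/-- Let A → B be a quasi-finite map of Noetherian rings, written as a composite A → B′ → B in which the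
first map A → B′ is finite and the induced morphism Spec(B) → Spec(B′) is an open immersion, so that
ω_{B/A} = Hom_A(B′, A) ⊗_{B′} B; and let ω^•_{B/A} = φ^!(A[0]) be the algebraic relative dualizing
complex computed through a presentation ψ : A[x_1, …, x_n] → B (derived base change assumed to
exist, RHom_P(B, −) given as a right adjoint of restriction of scalars). Then there is a
(non-unique) B-linear isomorphism H^0(ω^•_{B/A}) ≅ ω_{B/A}. -/
theorem result (A B B' : Type u) [CommRing A] [CommRing B] [CommRing B'] [IsNoetherianRing A] [IsNoetherianRing B] [Algebra A B] [Algebra A B'] [Algebra B' B] [IsScalarTower A B' B] [Module.Finite A B'] (hopen : IsOpenImmersion (Spec.map (CommRingCat.ofHom (algebraMap B' B)))) (n : ℕ) (ψ : MvPolynomial (Fin n) A →ₐ[A] B) (hψ : Function.Surjective ψ) [DRing.HasLBaseChange (algebraMap A (MvPolynomial (Fin n) A))] (Rψ : Dual.D (MvPolynomial (Fin n) A) ⥤ Dual.D B) (adj : DRing.restrictD ψ.toRingHom ⊣ Rψ) : Nonempty (Dual.HD B (Dual2.shriekVia n Rψ (Dual.inD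 A A)) 0 ≃ₗ[B] (B ⊗[B'] Disc.Omega A B')) := by
  haveI : IsNoetherianRing B' := IsNoetherianRing.of_finite A B'
  haveI : Algebra.FiniteType A B := Algebra.FiniteType.of_surjective ψ hψ
  haveI : Algebra.FiniteType B' B := Algebra.FiniteType.of_restrictScalars_finiteType A B' B
  haveI : Algebra.FinitePresentation B' B := Algebra.FinitePresentation.of_finiteType.1 inferInstance
  haveI : Module.Flat B' B := RingHom.flat_algebraMap_iff.1
    ((HasRingHomProperty.Spec_iff (P := @Flat) (φ := CommRingCat.ofHom (algebraMap B' B))).1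
      (haveI := hopen; inferInstance))
  haveI : DRing.HasLBaseChange (algebraMap B' B) := Groth.Agent.DRingKP.hasLBaseChange _
  obtain ⟨W, hW⟩ := Groth.Agent.Shriek.RA.exists_of (algebraMap A B') (Dual.inD A A)
  obtain ⟨m, χ₁, hχ₁, h₁⟩ := Groth.Agent.Shriek.Shr.of_finite hW
  obtain ⟨k, χ, hχ⟩ := Algebra.FiniteType.iff_quotient_mvPolynomial''.1 (inferInstance : Algebra.FiniteType B' B)
  obtain ⟨V, hV⟩ := Groth.Agent.Shriek.RA.exists_of χ.toRingHom (((Groth.Agent.Shriek.polyD B' k).obj W)⟦(k : ℤ)⟧)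
  obtain ⟨l, θ, hθ, hθV⟩ := Groth.Agent.Shriek.Shr.comp hχ₁ h₁ (a := 0)
    (fun i hi => Groth.Agent.DualCx.subsingleton_hd_inD A (ne_of_lt hi)) hχ (V := V) hV
  obtain ⟨e1⟩ := Groth.Agent.Shriek.Shr.unique hψ hθ
    (Groth.Agent.Shriek.shr_shriekVia ψ Rψ adj (Dual.inD A A)) hθV
  obtain ⟨e2⟩ := Groth.Agent.Shriek.Shr.of_epi (Groth.Agent.Shriek.epi_of_isOpenImmersion hopen) hχ hV
  obtain ⟨e3⟩ := Groth.Agent.DualCx.Loc.nonempty_hd_lBaseChange (B := B) W 0
  obtain ⟨e4⟩ := Groth.Agent.Shriek.RA.nonempty_hd_omega hW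
  exact ⟨((((DerivedCategory.homologyFunctor (ModuleCat.{u} B) 0).mapIso (e1 ≪≫ e2)).toLinearEquiv).trans e3).trans
    (e4.baseChange B' B _ _)⟩

end Groth.Agent.S8953
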