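import Groth.Statements.S8954
import Groth.Agent.SyntLib.Square
import Groth.Agent.SyntLib.Regular

set_option autoImplicit false
universe u
open Synt TensorProduct

namespace Groth.Agent.S8954

/-- The equivalence of being finite syntomic with having a square presentation, stated over a local
base. For a local ring A and a finite A-algebra B, the map A → B is syntomic if and only if B ≅
A[x_1, …, x_n]/(f_1, …, f_n) as A-algebras for some n and f_1, …, f_n ∈ A[x_1, …, x_n]. (The
published statement is for a finite morphism of schemes and asserts such a presentation over some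
affine open neighbourhood of each point of the base; over a local base that neighbourhood is the
whole spectrum.) -/
theorem result (A B : Type u) [CommRing A] [IsLocalRing A] [CommRing B] [Algebra A B] [Module.Finite A B] : Synt.IsSyntomic A B ↔ ∃ (n : ℕ) (F : Fin n → MvPolynomial (Fin n) A), Nonempty (B ≃ₐ[A] Synt.RelGCIRing A n n F) := by
  classical
  constructor
  · intro h
    obtain ⟨n, φ, hφ, hfg⟩ := Algebra.FinitePresentation.out (R := A) (A := B) (self := h.2.1)
    let I := RingHom.ker φ.toRingHom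
    let P := MvPolynomial (Fin n) A
    haveI : Algebra.IsIntegral A B := Algebra.IsIntegral.of_finite A B
    haveI : Finite (MaximalSpectrum B) := by
      let J := (IsLocalRing.maximalIdeal A).map (algebraMap A B)
      letI : Field (A ⧸ IsLocalRing.maximalIdeal A) := Ideal.Quotient.field _
      haveI : Module.Finite A (B ⧸ J) := Module.Finite.of_surjective (Ideal.Quotient.mkₐ A J).toLinearMap Ideal.Quotient.mk_surjective
      haveI : Module.Finite (A ⧸ IsLocalRing.maximalIdeal A) (B ⧸ J) :=
        Module.Finite.of_restrictScalars_finite A _ _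
      haveI : IsArtinianRing (B ⧸ J) := IsArtinianRing.of_finite (A ⧸ IsLocalRing.maximalIdeal A) (B ⧸ J)
      have hJ : ∀ M : MaximalSpectrum B, J ≤ M.asIdeal := fun M => by
        haveI := M.isMaximal
        rw [Ideal.map_le_iff_le_comap, IsLocalRing.eq_maximalIdeal (Ideal.isMaximal_comap_of_isIntegral_of_isMaximal M.asIdeal)]
      let f : MaximalSpectrum B → MaximalSpectrum (B ⧸ J) := fun M =>
        haveI := M.isMaximal
        ⟨M.asIdeal.map (Ideal.Quotient.mk J), Ideal.IsMaximal.map_of_surjective_of_ker_le Ideal.Quotient.mk_surjective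
          (Ideal.mk_ker.trans_le (hJ M))⟩
      refine Finite.of_injective f fun M M' hMM => MaximalSpectrum.ext ?_
      have := congrArg (fun N => Ideal.comap (Ideal.Quotient.mk J) N.asIdeal) hMM
      simpa [f, Ideal.comap_map_of_surjective _ Ideal.Quotient.mk_surjective, ← RingHom.ker_eq_comap_bot,
        sup_eq_left.2 (hJ M), sup_eq_left.2 (hJ M')] using this
    have hloc : ∀ M : MaximalSpectrum B, ∃ (F : Fin n → P) (a : P), φ a ∉ M.asIdeal ∧
        Ideal.span (Set.range F) ≤ I ∧ ∀ i ∈ I, a * i ∈ Ideal.span (Set.range F) := by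
      intro M
      haveI := M.isMaximal
      obtain ⟨c, F, a, hcn, haq, -, -, hrel, hFI, hkill⟩ := SyntLib.exists_regular_away φ hφ h M.asIdeal
      obtain ⟨e⟩ := SyntLib.exists_pres_away φ hφ F a hFI hkill
      let p := M.asIdeal.comap (algebraMap A B)
      let T := Synt.RelGCIRing A (n + 1) (c + 1) (SyntLib.snocPres F a)
      let κ := p.ResidueField
      haveI : IsArtinianRing (κ ⊗[A] B) := IsArtinianRing.of_finite κ (κ ⊗[A] B)
      let ψ : B →ₐ[A] T := e.toAlgHom.comp (IsScalarTower.toAlgHom A B (Localization.Away (φ a)))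
      let Ψ : κ ⊗[A] B →ₐ[κ] κ ⊗[A] T := Algebra.TensorProduct.map (AlgHom.id κ κ) ψ
      have key : ∀ (F G : Type u) [CommRing F] [CommRing G] [IsArtinianRing F] (Ψ : F →+* G) (α : F),
          IsUnit (Ψ α) → ∀ w : G, (∃ (x : F) (j : ℕ), Ψ α ^ j * w = Ψ x) → ∃ v, Ψ v = w := by
        rintro F G _ _ _ Ψ α hu w ⟨x, j, hx⟩
        obtain ⟨k, y, hy⟩ := IsArtinian.exists_pow_succ_smul_dvd α (1 : F)
        have h1 := congrArg Ψ hy
        simp only [smul_eq_mul, mul_one, Nat.succ_eq_add_one, map_mul, map_pow, pow_succ, mul_assoc] at h1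
        have hy' : Ψ α * Ψ y = 1 := (hu.pow k).mul_left_cancel (h1.trans (mul_one _).symm)
        refine ⟨x * y ^ j, (hu.pow j).mul_left_cancel ?_⟩
        rw [map_mul, map_pow, mul_left_comm, ← mul_pow, hy', one_pow, mul_one, hx]
      have hΨ : Function.Surjective Ψ := by
        let α : κ ⊗[A] B := (1 : κ) ⊗ₜ[A] φ a
        have hu : IsUnit (Ψ.toRingHom α) := by
          show IsUnit ((1 : κ) ⊗ₜ[A] ψ (φ a))
          exact ((IsLocalization.Away.algebraMap_isUnit (S := Localization.Away (φ a)) (φ a)).map e.toAlgHom).map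
            (Algebra.TensorProduct.includeRight : T →ₐ[A] κ ⊗[A] T)
        intro w
        induction w using TensorProduct.induction_on with
        | zero => exact ⟨0, map_zero Ψ.toRingHom⟩
        | add w w' hw hw' =>
          obtain ⟨v, rfl⟩ := hw
          obtain ⟨v', rfl⟩ := hw'
          exact ⟨v + v', map_add Ψ.toRingHom _ _⟩
        | tmul r t =>
          obtain ⟨z, rfl⟩ := e.surjective t
          obtain ⟨⟨b, ⟨s, j, hj⟩⟩, hs⟩ := IsLocalization.surj (Submonoid.powers (φ a)) z
          refine key (κ ⊗[A] B) (κ ⊗[A] T) Ψ.toRingHom α hu _ ⟨r ⊗ₜ[A] b, j, ?_⟩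
          show ((1 : κ) ⊗ₜ[A] ψ (φ a)) ^ j * r ⊗ₜ[A] e z = r ⊗ₜ[A] ψ b
          rw [Algebra.TensorProduct.tmul_pow, one_pow, Algebra.TensorProduct.tmul_mul_tmul, one_mul]
          congr 1
          show e (algebraMap B _ (φ a)) ^ j * e z = e (algebraMap B _ b)
          rw [← map_pow, ← map_mul]
          congr 1
          rw [← hs, ← map_pow, show φ a ^ j = s from hj, mul_comm]
      haveI : Module.Finite κ (p.Fiber T) := Module.Finite.of_surjective (R := κ) (M := κ ⊗[A] B) (P := κ ⊗[A] T) Ψ.toLinearMap hΨ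
      haveI : IsArtinianRing (p.Fiber T) := IsArtinianRing.of_finite κ (p.Fiber T)
      obtain ⟨q', hq', -, hq'p, -⟩ := SyntLib.exists_away_prime (R := A) (φ a) M.asIdeal haq
      let q'' := q'.comap e.symm.toRingEquiv.toRingHom
      have hq''p : q''.comap (algebraMap A T) = p := by
        show (q'.comap e.symm.toRingEquiv.toRingHom).comap (algebraMap A T) = p
        rw [Ideal.comap_comap]
        exact (congrArg (Ideal.comap · q') e.symm.toAlgHom.comp_algebraMap).trans hq'p
      obtain ⟨Q, hQ, -⟩ := SyntLib.exists_fiber_prime p q'' hq''p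
      haveI : Nontrivial (p.Fiber T) :=
        nontrivial_of_ne (0 : p.Fiber T) 1 fun h => hQ.ne_top ((Ideal.eq_top_iff_one _).mpr (h ▸ Q.zero_mem))
      obtain ⟨-, hdim⟩ := hrel ⟨p, inferInstance⟩ inferInstance
      haveI : Ring.KrullDimLE 0 (p.Fiber T) :=
        ((isArtinianRing_iff_isNoetherianRing_krullDimLE_zero (R := p.Fiber T)).mp inferInstance).2
      have h0 : ringKrullDim (p.Fiber T) = 0 := ringKrullDimZero_iff_ringKrullDim_eq_zero.mp inferInstance
      rw [h0] at hdim
      obtain rfl : c = n := by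
        have : n + 1 - (c + 1) = 0 := by exact_mod_cast hdim.symm
        omega
      exact ⟨F, a, haq, hFI, hkill⟩
    choose F a ha hFI hkill using hloc
    have hcop : Pairwise fun M M' : MaximalSpectrum B => IsCoprime (M.asIdeal.comap φ.toRingHom) (M'.asIdeal.comap φ.toRingHom) := by
      intro M M' hne
      haveI := M.isMaximal
      haveI := M'.isMaximal
      haveI := Ideal.comap_isMaximal_of_surjective φ.toRingHom hφ (K := M.asIdeal)
      haveI := Ideal.comap_isMaximal_of_surjective φ.toRingHom hφ (K := M'.asIdeal)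
      exact Ideal.isCoprime_iff_sup_eq.2 (Ideal.IsMaximal.coprime_of_ne ‹_› ‹_› fun he =>
        hne (MaximalSpectrum.ext (Ideal.comap_injective_of_surjective _ hφ he)))
    choose f₁ hf₁ using fun M : MaximalSpectrum B =>
      Ideal.exists_forall_sub_mem_ideal hcop fun M' => if M' = M then (1 : P) else 0
    haveI := Fintype.ofFinite (MaximalSpectrum B)
    let f : Fin n → P := fun j => ∑ M, f₁ M * F M j
    have hFI' : ∀ M j, F M j ∈ I := fun M j => hFI M (Ideal.subset_span (Set.mem_range_self j))
    have hfI : Ideal.span (Set.range f) ≤ I := Ideal.span_le.2 (by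
      rintro _ ⟨j, rfl⟩
      exact I.sum_mem fun M _ => I.mul_mem_left _ (hFI' M j))
    let N := Ideal.span (Set.range f)
    let U : Submodule P (P ⧸ N) := Submodule.map N.mkQ I
    have hUfg : U.FG := Submodule.FG.map _ hfg
    have hann : ∀ M : MaximalSpectrum B, ∃ r : P, φ r ∉ M.asIdeal ∧ ∀ i ∈ I, r * i ∈ N := by
      intro M
      haveI := M.isMaximal
      let m := M.asIdeal.comap φ.toRingHom
      haveI : m.IsMaximal := Ideal.comap_isMaximal_of_surjective φ.toRingHom hφ
      have hFN : ∀ j, F M j ∈ N ⊔ m * I := fun j => by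
        rw [← sub_sub_cancel (f j) (F M j)]
        refine sub_mem (Ideal.mem_sup_left (Ideal.subset_span (Set.mem_range_self j))) (Ideal.mem_sup_right ?_)
        have : f j - F M j = ∑ M', (f₁ M' - if M = M' then 1 else 0) * F M' j := by
          simp only [f, sub_mul, Finset.sum_sub_distrib, ite_mul, one_mul, zero_mul, Finset.sum_ite_eq,
            Finset.mem_univ, if_true]
        rw [this]
        exact Ideal.sum_mem _ fun M' _ => Ideal.mul_mem_mul (hf₁ M' M) (hFI' M' j)
      obtain ⟨b, μ, hμ, hbμ⟩ := Ideal.IsMaximal.exists_inv ‹m.IsMaximal› (ha M)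
      have hle : ∀ x ∈ I, x ∈ N ⊔ m * I := fun x hx => by
        rw [show x = b * (a M * x) + μ * x by rw [← mul_assoc, ← add_mul, hbμ, one_mul]]
        refine add_mem (Ideal.mul_mem_left _ b ?_) (Ideal.mem_sup_right (Ideal.mul_mem_mul hμ hx))
        exact (Ideal.span_le.2 (by rintro _ ⟨j, rfl⟩; exact hFN j) : Ideal.span (Set.range (F M)) ≤ N ⊔ m * I) (hkill M x hx)
      have hUm : U ≤ m • U := by
        rintro _ ⟨x, hx, rfl⟩
        obtain ⟨u, hu, w, hw, rfl⟩ := Submodule.mem_sup.1 (hle x hx)
        rw [map_add, Submodule.mkQ_apply, (Submodule.Quotient.mk_eq_zero N).2 hu, zero_add]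
        rw [← Submodule.map_smul'']
        exact Submodule.mem_map_of_mem hw
      obtain ⟨r, hr1, hr0⟩ := Submodule.exists_sub_one_mem_and_smul_eq_zero_of_fg_of_le_smul m U hUfg hUm
      refine ⟨r, fun hr => ?_, fun i hi => ?_⟩
      · have h1 : (1 : B) ∈ M.asIdeal := by
          have h2 := M.asIdeal.sub_mem hr (show φ (r - 1) ∈ M.asIdeal from hr1)
          rwa [map_sub, map_one, sub_sub_cancel] at h2
        exact M.isMaximal.ne_top ((Ideal.eq_top_iff_one _).2 h1)
      · rw [← Submodule.Quotient.mk_eq_zero N, ← smul_eq_mul, Submodule.Quotient.mk_smul]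
        exact hr0 _ (Submodule.mem_map_of_mem hi)
    choose r hr hrN using hann
    have htop : Ideal.span (Set.range fun M => φ (r M)) = ⊤ := by
      by_contra hne
      obtain ⟨M, hM, hle⟩ := Ideal.exists_le_maximal _ hne
      exact hr ⟨M, hM⟩ (hle (Ideal.subset_span ⟨⟨M, hM⟩, rfl⟩))
    obtain ⟨c, hc⟩ := Ideal.mem_span_range_iff_exists_fun.1 ((Ideal.eq_top_iff_one _).1 htop)
    choose c' hc' using fun M => hφ (c M)
    have hg1 : φ (∑ M, c' M * r M) = 1 := by simp only [map_sum, map_mul, hc']; exact hc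
    obtain ⟨e⟩ := SyntLib.exists_pres_away φ hφ f (∑ M, c' M * r M) hfI fun i hi => by
      rw [Finset.sum_mul]
      exact Ideal.sum_mem _ fun M _ => by rw [mul_assoc]; exact Ideal.mul_mem_left _ _ (hrN M i hi)
    refine ⟨n + 1, SyntLib.snocPres f (∑ M, c' M * r M), ⟨AlgEquiv.trans ?_ e⟩⟩
    exact (IsLocalization.atUnits B (Submonoid.powers (φ (∑ M, c' M * r M))) (by
      rintro _ ⟨k, rfl⟩; show IsUnit _; rw [hg1]; simp)).restrictScalars A
  · rintro ⟨n, F, ⟨e⟩⟩
    exact SyntLib.isSyntomic_of_hasSquarePres ⟨n, F, ⟨e⟩⟩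

end Groth.Agent.S8954
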