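import Groth.Statements.S8964
import Groth.Agent.QFDualLib.Synt
import Groth.Agent.S8963

set_option autoImplicit false
universe u
open TensorProduct
open QFDual

namespace Groth.Agent.S8964

set_option linter.style.haveILetI false
set_option synthInstance.maxHeartbeats 200000

/-- A quasi-finite syntomic map has an invertible relative dualizing module. Let A be a Noetherian ring
and A → B a syntomic ring map (flat, of finite presentation, with fibres local complete
intersections), and suppose it factors through an intermediate ring B', with A → B' a finite map and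
the induced morphism Spec B → Spec B' an open immersion, so that A → B is quasi-finite and ω_{B/A} =
B ⊗_{B'} Hom_A(B', A). Then ω_{B/A} is an invertible B-module. (The published statement is for a
locally quasi-finite syntomic morphism of locally Noetherian schemes and the sheaf ω_{Y/X}; this row
is its form over a pair of affine opens.) -/
theorem result (A B' B : Type u) [CommRing A] [CommRing B'] [CommRing B] [IsNoetherianRing A] [Algebra A B'] [Algebra B' B] [Algebra A B] [IsScalarTower A B' B] (hf : QFDual.IsQFFactor A B' B) (hs : Synt.IsSyntomic A B) : Module.Invertible B (QFDual.omega A B' B) := by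
  obtain ⟨hflat, hfp, hlci⟩ := hs
  haveI : Module.Flat A B := hflat
  haveI : Algebra.FinitePresentation A B := hfp
  haveI : IsNoetherianRing B := Algebra.FiniteType.isNoetherianRing A B
  refine (S8963.result A B' B hf).2 fun p _ B'₁ B₁ _ _ _ _ _ _ _ _ _ _ _ _ _ _ _ _ _ h hB => ?_
  haveI : Module.Finite A B' := hf.finite
  haveI := h
  haveI := hB
  haveI : Module.Finite p.ResidueField B'₁ :=
    Module.Finite.equiv (Algebra.IsPushout.equiv A p.ResidueField B' B'₁).toLinearEquiv
  haveI : IsScalarTower A B' B₁ := IsScalarTower.of_algebraMap_eq fun a => by
    rw [IsScalarTower.algebraMap_apply B' B B₁, ← IsScalarTower.algebraMap_apply A B' B,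
      ← IsScalarTower.algebraMap_apply A B B₁]
  haveI : IsScalarTower A B'₁ B₁ := IsScalarTower.of_algebraMap_eq fun a => by
    rw [IsScalarTower.algebraMap_apply A B' B'₁, ← IsScalarTower.algebraMap_apply B' B'₁ B₁,
      ← IsScalarTower.algebraMap_apply A B' B₁]
  haveI : Algebra.IsPushout A B' p.ResidueField B'₁ := h.symm
  have hpush : Algebra.IsPushout B' B B'₁ B₁ := (Algebra.IsPushout.comp_iff A B' p.ResidueField B'₁).1 hB.symm
  exact QFDualLib.invertible_omega_field
    (QFDualLib.isOpenImmersion_baseChange hpush.symm hf.isOpenImmersion)
    (SyntLib.isLCIOver_of_algEquiv (Algebra.IsPushout.equiv A p.ResidueField B B₁) (hlci ⟨p, inferInstance⟩))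

end Groth.Agent.S8964
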