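import Groth.Statements.S8971
import Groth.Agent.QFDualLib.Open
import Groth.Agent.S2218
import Groth.Agent.S6283

set_option autoImplicit false
universe u
open TensorProduct
set_option linter.style.haveILetI false
open QFDual
open scoped TensorProduct

namespace Groth.Agent.S8971

/-- Let A → B be a quasi-finite homomorphism of Noetherian rings, presented by writing it as a composite
A → B' → B, where the map A → B' is finite and the induced morphism Spec B → Spec B' is an open
immersion, so that ω_{B/A} = B ⊗_{B'} Hom_A(B', A) (B' acting on Hom_A(B', A) through the argument).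
Then Ass_B(ω_{B/A}) is the set of primes of B whose preimage in A is an associated prime of A. -/
theorem result (A B' B : Type u) [CommRing A] [CommRing B'] [CommRing B] [IsNoetherianRing A] [IsNoetherianRing B] [Algebra A B'] [Algebra B' B] [Algebra A B] [IsScalarTower A B' B] (hf : QFDual.IsQFFactor A B' B) : associatedPrimes B (QFDual.omega A B' B) = {q : Ideal B | q.IsPrime ∧ q.comap (algebraMap A B) ∈ associatedPrimes A A} := by
  haveI : Module.Finite A B' := hf.finite
  haveI : IsNoetherianRing B' := IsNoetherianRing.of_finite A B'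
  haveI : Module.Flat B' B := QFDualLib.flat_of_isOpenImmersion hf.isOpenImmersion
  have hinj := QFDualLib.comap_injective hf.isOpenImmersion
  have hAss := S2218.result (A := A) (B := B')
  have hcomap : ∀ q : Ideal B, (q.comap (algebraMap B' B)).comap (algebraMap A B') = q.comap (algebraMap A B) := by
    intro q
    rw [Ideal.comap_comap, ← IsScalarTower.algebraMap_eq]
  ext q
  constructor
  · intro hq
    obtain ⟨hqp, x, hx⟩ := isAssociatedPrime_iff.1 (AssociatedPrimes.mem_iff.1 hq)
    refine ⟨hqp, ?_⟩
    have hkey : q.comap (algebraMap B' B) ∈ associatedPrimes B' (Disc.Omega A B') := by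
      let q' := q.comap (algebraMap B' B)
      by_contra hne
      obtain ⟨n, g, hg⟩ := Submodule.fg_iff_exists_fin_generating_family.1 (IsNoetherian.noetherian q')
      let Φ : Disc.Omega A B' →ₗ[B'] (Fin n → Disc.Omega A B') := LinearMap.pi fun i => LinearMap.lsmul B' _ (g i)
      have hK : ∀ k ∈ LinearMap.ker Φ, ∃ s : B', s ∉ q' ∧ s • k = 0 := by
        intro k hk
        by_contra hs
        push Not at hs
        refine hne (AssociatedPrimes.mem_iff.2 (isAssociatedPrime_iff.2 ⟨inferInstance, k, le_antisymm ?_ fun s hs' => ?_⟩))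
        · show q' ≤ _
          rw [← hg, Submodule.span_le]
          rintro _ ⟨i, rfl⟩
          rw [SetLike.mem_coe, Submodule.mem_colon_singleton, Submodule.mem_bot]
          exact congrFun (LinearMap.mem_ker.1 hk) i
        · rw [Submodule.mem_colon_singleton, Submodule.mem_bot] at hs'
          by_contra hns
          exact hs s hns hs'
      have hx0 : Φ.lTensor B x = 0 := by
        apply (TensorProduct.piRight B' B' B (fun _ : Fin n => Disc.Omega A B')).injective
        rw [map_zero]
        ext i
        have h1 : ∀ y : QFDual.omega A B' B,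
            TensorProduct.piRight B' B' B (fun _ : Fin n => Disc.Omega A B') (Φ.lTensor B y) i =
              algebraMap B' B (g i) • y := by
          intro y
          induction y using TensorProduct.induction_on with
          | zero => simp
          | tmul b φ => simp [Φ, TensorProduct.smul_tmul']
          | add a b ha hb => simp only [map_add, Pi.add_apply, ha, hb, smul_add]
        rw [h1]
        have h2 : algebraMap B' B (g i) ∈ q := (show g i ∈ q' by rw [← hg]; exact Ideal.subset_span ⟨i, rfl⟩)
        rw [hx, Submodule.mem_colon_singleton, Submodule.mem_bot] at h2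
        exact h2
      obtain ⟨z, hz⟩ := (Module.Flat.lTensor_exact B (LinearMap.exact_subtype_ker_map Φ) x).1 hx0
      have hall : ∀ w : B ⊗[B'] LinearMap.ker Φ, ∃ s : B', s ∉ q' ∧ s • w = 0 := by
        intro w
        induction w using TensorProduct.induction_on with
        | zero => exact ⟨1, fun h1 => (inferInstance : q'.IsPrime).ne_top (Ideal.eq_top_of_isUnit_mem _ h1 isUnit_one), smul_zero _⟩
        | tmul b k =>
          obtain ⟨s, hs, hsk⟩ := hK k k.2
          refine ⟨s, hs, ?_⟩
          rw [← TensorProduct.tmul_smul, show s • k = 0 from Subtype.ext hsk, TensorProduct.tmul_zero]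
        | add a b ha hb =>
          obtain ⟨s, hs, hsa⟩ := ha
          obtain ⟨t, ht, htb⟩ := hb
          refine ⟨s * t, fun hst => ((inferInstance : q'.IsPrime).mem_or_mem hst).elim hs ht, ?_⟩
          rw [smul_add, mul_smul s t b, htb, smul_zero, add_zero, mul_comm, mul_smul, hsa, smul_zero]
      obtain ⟨s, hs, hsz⟩ := hall z
      apply hs
      show algebraMap B' B s ∈ q
      rw [hx, Submodule.mem_colon_singleton, Submodule.mem_bot, algebraMap_smul, ← hz, ← map_smul, hsz, map_zero]
    rw [hAss] at hkey
    rw [← hcomap]
    exact hkey.2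
  · rintro ⟨hqp, hq⟩
    have hq' : q.comap (algebraMap B' B) ∈ associatedPrimes B' (Disc.Omega A B') := by
      rw [hAss]
      exact ⟨inferInstance, by rw [hcomap]; exact hq⟩
    obtain ⟨-, φ, hφ⟩ := isAssociatedPrime_iff.1 (AssociatedPrimes.mem_iff.1 hq')
    rw [Submodule.bot_colon'] at hφ
    have hJ : (q.comap (algebraMap B' B)).map (algebraMap B' B) =
        (⊥ : Submodule B (QFDual.omega A B' B)).colon {(1 : B) ⊗ₜ[B'] φ} := by
      rw [Submodule.bot_colon', hφ]
      exact (S6283.result (S := B) (Disc.Omega A B')).1 φ
    have hmin : q ∈ ((⊥ : Submodule B (QFDual.omega A B' B)).colon {(1 : B) ⊗ₜ[B'] φ}).minimalPrimes := by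
      rw [← hJ]
      refine ⟨⟨hqp, Ideal.map_comap_le⟩, fun P hP hPq => ?_⟩
      haveI := hP.1
      have h1 : P.comap (algebraMap B' B) = q.comap (algebraMap B' B) :=
        le_antisymm (Ideal.comap_mono hPq) (Ideal.map_le_iff_le_comap.1 hP.2)
      exact (congrArg PrimeSpectrum.asIdeal (hinj (a₁ := ⟨P, hP.1⟩) (a₂ := ⟨q, hqp⟩) (PrimeSpectrum.ext h1))).ge
    obtain ⟨y, hy⟩ := Submodule.exists_eq_colon_of_mem_minimalPrimes hmin
    exact AssociatedPrimes.mem_iff.2 (isAssociatedPrime_iff.2 ⟨hqp, y, hy⟩)

end Groth.Agent.S8971
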