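import Groth.Statements.S8972
import Mathlib
-- import your own Groth.Agent.* helpers here

set_option autoImplicit false
open Synt

namespace Groth.Agent.S8972

open MvPolynomial

section
variable {n d : ℕ}

/-- The exponent vector zero. -/
def zeroIdx (n d : ℕ) : Synt.UnivIdx n d := ⟨fun _ => 0, by simp⟩

theorem exponent_zeroIdx : (zeroIdx n d).exponent = 0 := by
  ext i; simp [Synt.UnivIdx.exponent, zeroIdx]

/-- Variables after eliminating the constant coefficients. -/
abbrev Vars (n d : ℕ) := Fin n ⊕ (Fin n × {E : Synt.UnivIdx n d // E ≠ zeroIdx n d})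

theorem nonempty_equiv (n d : ℕ) : Nonempty (Synt.UnivAlg n d ≃+* MvPolynomial (Vars n d) ℤ) := by
  classical
  let mon : Synt.UnivIdx n d → MvPolynomial (Vars n d) ℤ := fun E =>
    ∏ j, X (Sum.inl j) ^ (E.exponent j)
  let a : Fin n × Synt.UnivIdx n d → MvPolynomial (Vars n d) ℤ := fun p =>
    if h : p.2 = zeroIdx n d then
      - ∑ E : {E : Synt.UnivIdx n d // E ≠ zeroIdx n d}, X (Sum.inr (p.1, E)) * mon E
    else X (Sum.inr (p.1, ⟨p.2, h⟩))
  let α : Synt.UnivBase n d →+* MvPolynomial (Vars n d) ℤ := (aeval a).toRingHom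
  let Φ : MvPolynomial (Fin n) (Synt.UnivBase n d) →+* MvPolynomial (Vars n d) ℤ :=
    eval₂Hom α fun j => X (Sum.inl j)
  have hsplit : ∀ {β : Type} [AddCommMonoid β] (F : Synt.UnivIdx n d → β),
      ∑ E, F E = F (zeroIdx n d) + ∑ E : {E : Synt.UnivIdx n d // E ≠ zeroIdx n d}, F E := by
    intro β _ F
    rw [← Finset.add_sum_erase _ F (Finset.mem_univ (zeroIdx n d))]
    congr 1
    exact (Finset.sum_subtype _ (fun E => by simp) F)
  have hmon0 : mon (zeroIdx n d) = 1 := by simp [mon, exponent_zeroIdx]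
  have hΦmon : ∀ (i : Fin n) (E : Synt.UnivIdx n d),
      Φ (monomial E.exponent (X (i, E))) = a (i, E) * mon E := fun i E => by
    simp [Φ, α, mon, Finsupp.prod_fintype]
  have hΦf : ∀ i, Φ (Synt.univPoly n d i) = 0 := fun i => by
    rw [Synt.univPoly, map_sum, hsplit]
    simp only [hΦmon, hmon0, mul_one]
    have h0 : a (i, zeroIdx n d) = - ∑ E : {E : Synt.UnivIdx n d // E ≠ zeroIdx n d}, X (Sum.inr (i, E)) * mon E := by
      simp [a]
    rw [h0, neg_add_eq_zero]
    exact Finset.sum_congr rfl fun E _ => by simp [a, E.2]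
  have hker : Synt.univIdeal n d ≤ RingHom.ker Φ := by
    rw [Ideal.span_le]; rintro _ ⟨i, rfl⟩; exact hΦf i
  let φ : (MvPolynomial (Fin n) (Synt.UnivBase n d) ⧸ Synt.univIdeal n d) →+* MvPolynomial (Vars n d) ℤ :=
    Ideal.Quotient.lift _ Φ hker
  let mkq : MvPolynomial (Fin n) (Synt.UnivBase n d) →+*
      MvPolynomial (Fin n) (Synt.UnivBase n d) ⧸ Synt.univIdeal n d := Ideal.Quotient.mk _
  let ψ : MvPolynomial (Vars n d) ℤ →+*
      MvPolynomial (Fin n) (Synt.UnivBase n d) ⧸ Synt.univIdeal n d :=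
    eval₂Hom (Int.castRingHom _) (Sum.elim (fun j => mkq (X j)) (fun p => mkq (C (X (p.1, p.2.1)))))
  have hψmon : ∀ E, ψ (mon E) = mkq (monomial E.exponent 1) := fun E => by
    simp [ψ, mon, map_prod, monomial_eq, Finsupp.prod_fintype]
  have h1 : φ.comp ψ = RingHom.id _ := by
    refine MvPolynomial.ringHom_ext (fun z => by simp) (fun v => ?_)
    rcases v with j | ⟨i, E, hE⟩
    · simp [φ, ψ, mkq, Φ]
    · simp [φ, ψ, mkq, Φ, α, a, hE]
  have hrel : ∀ i, ψ (a (i, zeroIdx n d)) = mkq (C (X (i, zeroIdx n d))) := fun i => by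
    have h : mkq (Synt.univPoly n d i) = 0 :=
      Ideal.Quotient.eq_zero_iff_mem.mpr (Ideal.subset_span ⟨i, rfl⟩)
    rw [Synt.univPoly, map_sum, hsplit] at h
    have h0 : monomial (zeroIdx n d).exponent (X (i, zeroIdx n d) : Synt.UnivBase n d) =
        C (X (i, zeroIdx n d)) := by rw [exponent_zeroIdx]; rfl
    rw [h0, add_eq_zero_iff_eq_neg] at h
    rw [h]
    simp only [a, dite_true, map_neg, map_sum, map_mul, hψmon]
    refine congrArg _ (Finset.sum_congr rfl fun E _ => ?_)
    simp only [ψ, eval₂Hom_X', Sum.elim_inr]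
    rw [← map_mul, C_mul_monomial, mul_one]
  have h2 : (ψ.comp φ).comp mkq = mkq := by
    refine MvPolynomial.ringHom_ext (fun z => ?_) (fun j => by simp [φ, ψ, mkq, Φ])
    have : ((ψ.comp φ).comp mkq).comp C = mkq.comp C := by
      refine MvPolynomial.ringHom_ext (fun z => by simp [φ, mkq, Φ, α, ψ]) (fun p => ?_)
      obtain ⟨i, E⟩ := p
      by_cases hE : E = zeroIdx n d
      · subst hE
        change ψ (Φ (C (X (i, zeroIdx n d)))) = _
        simp only [Φ, eval₂Hom_C, α, AlgHom.toRingHom_eq_coe, RingHom.coe_coe, aeval_X]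
        exact hrel i
      · change ψ (Φ (C (X (i, E)))) = _
        simp [Φ, α, a, hE, ψ]
    exact congrArg (fun f : Synt.UnivBase n d →+* _ => f z) this
  exact ⟨RingEquiv.ofRingHom φ ψ h1 (Ideal.Quotient.ringHom_ext h2)⟩

end


/-- Let n, d ≥ 1 and let B = A[x_1, …, x_n]/(f_1, …, f_n) be the universal algebra over A = ℤ[a_{i,E}],
f_i = Σ_E a_{i,E} x^E summed over exponent vectors E with |E| ≤ d. Then B is an integral domain and
every localization of B at a prime ideal is a regular local ring. (The published statement says that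
X_{n,d} = Spec A and the quasi-finite locus Y_{n,d} ⊆ Spec B are regular and irreducible; for A, a
polynomial ring over ℤ, this is standard, and for the open Y_{n,d} it follows from the assertion
about all of Spec B made here, which is what the printed argument shows. The published statement
also asserts that Y_{n,d} → X_{n,d} is locally quasi-finite and syntomic, an instance of the general
characterisation of quasi-finite syntomic maps; that clause is not part of this row.) -/
theorem result (n d : ℕ) (hn : 1 ≤ n) (hd : 1 ≤ d) : IsDomain (Synt.UnivAlg n d) ∧ ∀ q : PrimeSpectrum (Synt.UnivAlg n d), IsRegularLocalRing (Localization.AtPrime q.asIdeal) := by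
  obtain ⟨e⟩ := nonempty_equiv n d
  haveI : IsRegularRing (MvPolynomial (Vars n d) ℤ) := inferInstance
  haveI : IsRegularRing (Synt.UnivAlg n d) := IsRegularRing.of_ringEquiv e.symm
  exact ⟨e.toMulEquiv.isDomain (B := MvPolynomial (Vars n d) ℤ),
    fun q => IsRegularRing.isRegularLocalRing_localization (R := Synt.UnivAlg n d) q.asIdeal⟩

end Groth.Agent.S8972
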