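import Groth.Statements.S8973
import Mathlib.RingTheory.Smooth.StandardSmoothCotangent
import Mathlib.RingTheory.Etale.Locus
import Mathlib.RingTheory.QuasiFinite.Basic
import Mathlib.RingTheory.Unramified.LocalStructure

set_option autoImplicit false
open Synt

namespace Groth.Agent.S8973

/-- Let n, d ≥ 1 and let B = A[x_1, …, x_n]/(f_1, …, f_n) be the universal algebra over A = ℤ[a_{i,E}],
f_i = Σ_E a_{i,E} x^E summed over exponent vectors E with |E| ≤ d. Then there is a prime q of B at
which B is quasi-finite over A and étale over A (that is, B_q is quasi-finite and formally étale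
over A). (The published statement asserts a dense open V of the quasi-finite locus Y_{n,d} ⊆ Spec B
that is étale over Spec A; as Spec B is irreducible and the étale locus is open, that amounts to the
existence of one such point, which is what is stated here and what the printed argument exhibits.) -/
theorem result (n d : ℕ) (hn : 1 ≤ n) (hd : 1 ≤ d) : ∃ q : PrimeSpectrum (Synt.UnivAlg n d), Algebra.QuasiFiniteAt (Synt.UnivBase n d) q.asIdeal ∧ Algebra.IsEtaleAt (Synt.UnivBase n d) q.asIdeal := by
  classical
  let A := Synt.UnivBase n d
  let v := Synt.univPoly n d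
  let B := Synt.UnivAlg n d
  let pre : Algebra.PreSubmersivePresentation A B (Fin n) (Fin n) :=
    Algebra.PreSubmersivePresentation.naive (v := v) id Function.injective_id
  let J : B := pre.jacobian
  let T := Localization.Away J
  haveI : Algebra.IsStandardSmoothOfRelativeDimension 0 A T := by
    let Q := Algebra.PreSubmersivePresentation.localizationAway (R := B) T J
    let P : Algebra.SubmersivePresentation A T (Unit ⊕ Fin n) (Unit ⊕ Fin n) :=
      { toPreSubmersivePresentation := Q.comp pre
        jacobian_isUnit := by
          rw [Algebra.PreSubmersivePresentation.comp_jacobian_eq_jacobian_smul_jacobian,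
            Algebra.PreSubmersivePresentation.localizationAway_jacobian, Algebra.smul_def]
          exact ((IsLocalization.Away.algebraMap_isUnit J).mul (IsLocalization.Away.algebraMap_isUnit J)) }
    exact P.isStandardSmoothOfRelativeDimension (by simp [Algebra.Presentation.dimension])
  haveI : Algebra.Etale A T := inferInstance
  -- the point
  let φ : A →+* ℚ := MvPolynomial.eval₂Hom (Int.castRingHom ℚ) fun iE =>
    if iE.2.exponent = Finsupp.single iE.1 1 then 1 else 0
  let ev : MvPolynomial (Fin n) A →+* ℚ := MvPolynomial.eval₂Hom φ fun _ => 0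
  have hzero : ∀ E : Synt.UnivIdx n d, ∀ i, E.exponent = Finsupp.single i 1 → E.exponent ≠ 0 := fun E i h => by
    rw [h]; simp
  have hv : ∀ i, ev (v i) = 0 := by
    intro i
    show ev (∑ E, MvPolynomial.monomial E.exponent (MvPolynomial.X (i, E))) = 0
    rw [map_sum]
    refine Finset.sum_eq_zero fun E _ => ?_
    simp only [ev, MvPolynomial.coe_eval₂Hom, MvPolynomial.eval₂_monomial, φ, MvPolynomial.eval₂_X]
    rw [MvPolynomial.eval₂Hom_X']
    by_cases h : E.exponent = Finsupp.single i 1
    · rw [if_pos h, h, Finsupp.prod_single_index] <;> simp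
    · rw [if_neg h, zero_mul]
  let evB : B →+* ℚ := Ideal.Quotient.lift _ ev fun z hz => by
    refine (Ideal.span_le (I := RingHom.ker ev)).2 ?_ hz
    rintro _ ⟨i, rfl⟩
    exact hv i
  have hdiag : ∀ i j, ev (MvPolynomial.pderiv i (v j)) = if i = j then 1 else 0 := by
    intro i j
    show ev (MvPolynomial.pderiv i (∑ E, MvPolynomial.monomial E.exponent (MvPolynomial.X (j, E)))) = _
    let E₀ : Synt.UnivIdx n d := ⟨fun k => if k = i then ⟨1, by omega⟩ else 0, by
      rw [Finset.sum_eq_single i (fun k _ hk => by simp [hk]) (by simp)]; simpa using hd⟩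
    have hE₀ : E₀.exponent = Finsupp.single i 1 := by
      ext k
      by_cases hk : k = i
      · subst hk; simp [E₀, Synt.UnivIdx.exponent]
      · simp [E₀, Synt.UnivIdx.exponent, hk]
    rw [map_sum, map_sum, Finset.sum_eq_single E₀]
    · simp only [MvPolynomial.pderiv_monomial, hE₀, ev, MvPolynomial.coe_eval₂Hom, Finsupp.single_eq_same, tsub_self,
        MvPolynomial.eval₂_monomial, Finsupp.prod_zero_index, mul_one, Nat.cast_one, φ, MvPolynomial.eval₂_X]
      rw [MvPolynomial.eval₂Hom_X']
      by_cases h : i = j
      · subst h; simp [hE₀]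
      · rw [if_neg h, if_neg]
        exact fun he => h (Finsupp.single_left_injective one_ne_zero (hE₀.symm.trans he))
    · intro E _ hE
      have hne : E.exponent ≠ Finsupp.single i 1 := fun h => hE (Subtype.ext (funext fun k => Fin.ext (by
        have := DFunLike.congr_fun (h.trans hE₀.symm) k
        simpa [Synt.UnivIdx.exponent] using this)))
      rw [MvPolynomial.pderiv_monomial]
      simp only [ev, MvPolynomial.coe_eval₂Hom, MvPolynomial.eval₂_monomial]
      by_cases h0 : E.exponent i = 0
      · simp [h0]
      · have hsub : E.exponent - Finsupp.single i 1 ≠ 0 := fun h => hne <| by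
          ext k
          have := DFunLike.congr_fun h k
          by_cases hk : i = k
          · subst hk; simp at this; simp; omega
          · simpa [hk] using this
        obtain ⟨k, hk⟩ := Finsupp.ne_iff.1 hsub
        have hkmem : k ∈ (E.exponent - Finsupp.single i 1).support := Finsupp.mem_support_iff.2 hk
        rw [Finsupp.prod, Finset.prod_eq_zero hkmem (zero_pow hk), mul_zero]
    · simp
  have hJ : evB J = 1 := by
    show evB pre.jacobian = 1
    rw [Algebra.PreSubmersivePresentation.jacobian_eq_jacobiMatrix_det, RingHom.map_det]
    refine (RingHom.map_det evB _).trans ?_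
    refine (congrArg Matrix.det ?_).trans Matrix.det_one
    ext i j
    simp only [RingHom.mapMatrix_apply, Matrix.map_apply]
    show evB (algebraMap pre.Ring B (pre.jacobiMatrix i j)) = _
    have hcomp : evB.comp (algebraMap pre.Ring B) = ev := by
      apply MvPolynomial.ringHom_ext
      · intro a
        show evB (algebraMap pre.Ring B (MvPolynomial.C a)) = _
        erw [Algebra.Generators.algebraMap_apply, MvPolynomial.aeval_C]
        rfl
      · intro k
        show evB (algebraMap pre.Ring B (MvPolynomial.X k)) = _
        erw [Algebra.Generators.algebraMap_apply, MvPolynomial.aeval_X]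
        rfl
    erw [Algebra.PreSubmersivePresentation.jacobiMatrix_apply]
    rw [Matrix.one_apply]
    exact (RingHom.congr_fun hcomp _).trans (hdiag i j)
  let q : Ideal B := RingHom.ker evB
  haveI : q.IsPrime := RingHom.ker_isPrime _
  have hJq : J ∉ q := fun h => one_ne_zero (hJ.symm.trans ((RingHom.mem_ker).1 h))
  haveI hE : Algebra.IsEtaleAt A q := by
    have hF : Algebra.FormallyEtale A T := inferInstance
    have hsub := (Algebra.basicOpen_subset_etaleLocus_iff (R := A) (A := B) (f := J)).2 hF
    exact hsub (show (⟨q, inferInstance⟩ : PrimeSpectrum B) ∈ (PrimeSpectrum.basicOpen J : Set (PrimeSpectrum B)) from hJq)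
  haveI : Algebra.QuasiFinite A T := inferInstance
  let Tq := Localization.AtPrime q
  have hle : Submonoid.powers J ≤ q.primeCompl := Submonoid.powers_le.2 hJq
  letI : Algebra T Tq := (IsLocalization.Away.lift J (g := algebraMap B Tq)
    (IsLocalization.map_units Tq (⟨J, hJq⟩ : q.primeCompl))).toAlgebra
  haveI : IsScalarTower B T Tq := IsScalarTower.of_algebraMap_eq fun b =>
    (IsLocalization.Away.lift_eq J (IsLocalization.map_units Tq (⟨J, hJq⟩ : q.primeCompl)) b).symm
  haveI : IsScalarTower A T Tq := IsScalarTower.of_algebraMap_eq fun a => by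
    rw [IsScalarTower.algebraMap_apply A B T, ← IsScalarTower.algebraMap_apply B T Tq,
      ← IsScalarTower.algebraMap_apply A B Tq]
  haveI := IsLocalization.isLocalization_of_submonoid_le T Tq (Submonoid.powers J) q.primeCompl hle
  have hQ : Algebra.QuasiFiniteAt A q := Algebra.QuasiFinite.of_isLocalization (S := T) (T := Tq)
    (q.primeCompl.map (algebraMap B T))
  exact ⟨⟨q, inferInstance⟩, hQ, hE⟩

end Groth.Agent.S8973
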