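import Groth.Statements.S8974
import Groth.Agent.SyntLib.AwayPres

set_option autoImplicit false
universe u
open Synt

namespace Groth.Agent.S8974

/-- Let R be a ring, n, d ≥ 1 and g_1, …, g_n ∈ R[y_1, …, y_n] of total degree at most d. Then there is
a ring map φ : A = ℤ[a_{i,E}] → R (E running over exponent vectors with |E| ≤ d) such that applying
φ to the coefficients of the universal polynomial f_i = Σ_E a_{i,E} x^E gives g_i for each i. (The
published statement is for a locally quasi-finite syntomic morphism of schemes and asserts, locally,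
a cartesian square with the universal family; this row is its affine core: the coefficient map.) -/
theorem result (R : Type u) [CommRing R] (n d : ℕ) (hn : 1 ≤ n) (hd : 1 ≤ d) (g : Fin n → MvPolynomial (Fin n) R) (hg : ∀ i, (g i).totalDegree ≤ d) : ∃ φ : Synt.UnivBase n d →+* R, ∀ i, MvPolynomial.map φ (Synt.univPoly n d i) = g i := by
  classical
  refine ⟨(MvPolynomial.aeval (R := ℤ) fun iE : Fin n × Synt.UnivIdx n d => (g iE.1).coeff iE.2.exponent).toRingHom, fun i => ?_⟩
  ext m
  rw [Synt.univPoly, map_sum, MvPolynomial.coeff_sum]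
  simp only [MvPolynomial.map_monomial, MvPolynomial.coeff_monomial, AlgHom.toRingHom_eq_coe, RingHom.coe_coe,
    MvPolynomial.aeval_X]
  by_cases hm : m.sum (fun _ e => e) ≤ d
  · have hle : ∀ j, m j < d + 1 := fun j => by
      rw [Finsupp.sum_fintype _ _ (fun _ => rfl)] at hm
      exact Nat.lt_succ_of_le ((Finset.single_le_sum (fun j _ => Nat.zero_le (m j)) (Finset.mem_univ j)).trans hm)
    let E0 : Synt.UnivIdx n d := ⟨fun j => ⟨m j, hle j⟩, by rwa [Finsupp.sum_fintype _ _ (fun _ => rfl)] at hm⟩
    have hE0 : E0.exponent = m := by ext j; simp [Synt.UnivIdx.exponent, E0]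
    rw [Finset.sum_eq_single E0 (fun E _ hE => if_neg fun h => hE ?_) (fun h => absurd (Finset.mem_univ _) h), if_pos hE0, hE0]
    exact Subtype.ext (funext fun j => Fin.ext (by rw [← hE0] at h; simpa [Synt.UnivIdx.exponent] using DFunLike.congr_fun h j))
  · rw [Finset.sum_eq_zero fun E _ => if_neg fun h => hm ?_]
    · refine (MvPolynomial.notMem_support_iff.mp fun hs => hm ?_).symm
      exact (MvPolynomial.le_totalDegree hs).trans (hg i)
    · rw [← h, Finsupp.sum_fintype _ _ (fun _ => rfl)]
      simpa [Synt.UnivIdx.exponent] using E.2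

end Groth.Agent.S8974
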