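import Groth.Statements.S8975
import Mathlib

set_option autoImplicit false
universe u
open TensorProduct
open QFDual

namespace Groth.Agent.S8975

/-- The relative dualizing module of a product. Suppose A, B, C are Noetherian rings and the ring maps A
→ B, A → C are quasi-finite, presented by factorizations A → B' → B and A → C' → C with A → B', A →
C' finite and Spec B → Spec B', Spec C → Spec C' open immersions, and let B × C carry the product
algebra structure over B' × C' (so that A → B' × C' → B × C is a factorization of the same kind).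
Then ω_{(B × C)/A} = (B × C) ⊗_{B' × C'} Hom_A(B' × C', A) is identified with ω_{B/A} × ω_{C/A}:
there is an A-linear isomorphism sending (b, c) ⊗ φ to (b ⊗ φ∘ι_{B'}, c ⊗ φ∘ι_{C'}), where ι_{B'},
ι_{C'} are the inclusions of the factors; this formula determines the isomorphism and makes it (B ×
C)-linear. -/
theorem result (A B' B C' C : Type u) [CommRing A] [CommRing B'] [CommRing B] [CommRing C'] [CommRing C] [IsNoetherianRing A] [IsNoetherianRing B] [IsNoetherianRing C] [Algebra A B'] [Algebra B' B] [Algebra A B] [IsScalarTower A B' B] [Algebra A C'] [Algebra C' C] [Algebra A C] [IsScalarTower A C' C] (hB : QFDual.IsQFFactor A B' B) (hC : QFDual.IsQFFactor A C' C) [Algebra (B' × C') (B × C)] [IsScalarTower A (B' × C') (B × C)] (halg : algebraMap (B' × C') (B × C) = (algebraMap B' B).prodMap (algebraMap C' C)) : ∃ e : QFDual.omega A (B' × C') (B × C) ≃ₗ[A] QFDual.omega A B' B × QFDual.omega A C' C, ∀ (b : B) (c : C) (φ : Disc.Omega A (B' × C')), e ((b, c) ⊗ₜ[B' × C'] φ) = (b ⊗ₜ[B'] Disc.Omega.mk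 (φ.toLinearMap ∘ₗ LinearMap.inl A B' C'), c ⊗ₜ[C'] Disc.Omega.mk (φ.toLinearMap ∘ₗ LinearMap.inr A B' C')) := by
  classical
  let p1 : Disc.Omega A (B' × C') → Disc.Omega A B' := fun φ => ⟨φ.toLinearMap ∘ₗ LinearMap.inl A B' C'⟩
  let p2 : Disc.Omega A (B' × C') → Disc.Omega A C' := fun φ => ⟨φ.toLinearMap ∘ₗ LinearMap.inr A B' C'⟩
  have hs : ∀ (r : B' × C') (x : B × C), r • x = (r.1 • x.1, r.2 • x.2) := by
    intro r x
    rw [Algebra.smul_def, halg, Algebra.smul_def, Algebra.smul_def]
    rfl
  have hp1 : ∀ (r : B' × C') φ, p1 (r • φ) = r.1 • p1 φ := by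
    intro r φ
    ext z
    show φ.toLinearMap (r * (z, 0)) = φ.toLinearMap (r.1 * z, 0)
    rw [Prod.mul_def, mul_zero]
  have hp2 : ∀ (r : B' × C') φ, p2 (r • φ) = r.2 • p2 φ := by
    intro r φ
    ext z
    show φ.toLinearMap (r * (0, z)) = φ.toLinearMap (0, r.2 * z)
    rw [Prod.mul_def, mul_zero]
  let F : QFDual.omega A (B' × C') (B × C) →+ QFDual.omega A B' B × QFDual.omega A C' C :=
    TensorProduct.liftAddHom (AddMonoidHom.mk' (fun (x : B × C) => AddMonoidHom.mk'
        (fun (φ : Disc.Omega A (B' × C')) => (x.1 ⊗ₜ[B'] p1 φ, x.2 ⊗ₜ[C'] p2 φ))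
        (fun φ ψ => Prod.ext
          (by rw [show p1 (φ + ψ) = p1 φ + p1 ψ from rfl, TensorProduct.tmul_add]; rfl)
          (by rw [show p2 (φ + ψ) = p2 φ + p2 ψ from rfl, TensorProduct.tmul_add]; rfl)))
      (fun x y => AddMonoidHom.ext fun φ => Prod.ext (TensorProduct.add_tmul _ _ _) (TensorProduct.add_tmul _ _ _)))
      (fun r x φ => by
        show (_, _) = ((_ : QFDual.omega A B' B), (_ : QFDual.omega A C' C))
        rw [hp1, hp2, hs, TensorProduct.smul_tmul, TensorProduct.smul_tmul])
  have hF : ∀ x φ, F (x ⊗ₜ φ) = (x.1 ⊗ₜ[B'] p1 φ, x.2 ⊗ₜ[C'] p2 φ) := fun x φ => rfl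
  let j1 : Disc.Omega A B' → Disc.Omega A (B' × C') := fun φ => ⟨φ.toLinearMap ∘ₗ LinearMap.fst A B' C'⟩
  let j2 : Disc.Omega A C' → Disc.Omega A (B' × C') := fun φ => ⟨φ.toLinearMap ∘ₗ LinearMap.snd A B' C'⟩
  let G1 : QFDual.omega A B' B →+ QFDual.omega A (B' × C') (B × C) :=
    TensorProduct.liftAddHom (AddMonoidHom.mk' (fun b => AddMonoidHom.mk'
        (fun φ => ((b, 0) : B × C) ⊗ₜ[B' × C'] j1 φ)
        (fun φ ψ => by rw [← TensorProduct.tmul_add]; rfl))
      (fun b c => AddMonoidHom.ext fun φ => by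
        show _ = _ ⊗ₜ[B' × C'] _ + _ ⊗ₜ[B' × C'] _
        rw [← TensorProduct.add_tmul, Prod.mk_add_mk, add_zero]
        rfl))
      (fun r b φ => by
        show ((r • b, 0) : B × C) ⊗ₜ[B' × C'] j1 φ = ((b, 0) : B × C) ⊗ₜ[B' × C'] j1 (r • φ)
        have h1 : ((r • b, 0) : B × C) = ((r, 0) : B' × C') • ((b, 0) : B × C) := by rw [hs, zero_smul]
        rw [h1, TensorProduct.smul_tmul]
        rfl)
  let G2 : QFDual.omega A C' C →+ QFDual.omega A (B' × C') (B × C) :=
    TensorProduct.liftAddHom (AddMonoidHom.mk' (fun c => AddMonoidHom.mk'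
        (fun φ => ((0, c) : B × C) ⊗ₜ[B' × C'] j2 φ)
        (fun φ ψ => by rw [← TensorProduct.tmul_add]; rfl))
      (fun b c => AddMonoidHom.ext fun φ => by
        show _ = _ ⊗ₜ[B' × C'] _ + _ ⊗ₜ[B' × C'] _
        rw [← TensorProduct.add_tmul, Prod.mk_add_mk, add_zero]
        rfl))
      (fun r c φ => by
        show ((0, r • c) : B × C) ⊗ₜ[B' × C'] j2 φ = ((0, c) : B × C) ⊗ₜ[B' × C'] j2 (r • φ)
        have h1 : ((0, r • c) : B × C) = ((0, r) : B' × C') • ((0, c) : B × C) := by rw [hs, zero_smul]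
        rw [h1, TensorProduct.smul_tmul]
        rfl)
  let G : QFDual.omega A B' B × QFDual.omega A C' C →+ QFDual.omega A (B' × C') (B × C) := G1.coprod G2
  have hGF : ∀ u, G (F u) = u := by
    intro u
    induction u using TensorProduct.induction_on with
    | zero => simp only [map_zero, smul_zero]; try rfl
    | add x y hx hy => rw [map_add, map_add, hx, hy]
    | tmul x φ =>
      rw [hF]
      show ((x.1, 0) : B × C) ⊗ₜ[B' × C'] j1 (p1 φ) + ((0, x.2) : B × C) ⊗ₜ[B' × C'] j2 (p2 φ) = _
      have h1 : j1 (p1 φ) = ((1, 0) : B' × C') • φ := by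
        ext z <;> simp [j1, p1]
      have h2 : j2 (p2 φ) = ((0, 1) : B' × C') • φ := by
        ext z <;> simp [j2, p2]
      rw [h1, h2, ← TensorProduct.smul_tmul, ← TensorProduct.smul_tmul, ← TensorProduct.add_tmul, hs, hs,
        one_smul, one_smul, smul_zero, smul_zero, Prod.mk_add_mk, add_zero, zero_add]
  have hFG1 : ∀ u, F (G1 u) = (u, 0) := by
    intro u
    induction u using TensorProduct.induction_on with
    | zero => simp only [map_zero, smul_zero]; try rfl
    | add x y hx hy => rw [map_add, map_add, hx, hy, Prod.mk_add_mk, add_zero]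
    | tmul b φ =>
      show F (((b, 0) : B × C) ⊗ₜ[B' × C'] j1 φ) = _
      rw [hF, show p1 (j1 φ) = φ from rfl, TensorProduct.zero_tmul]
  have hFG2 : ∀ u, F (G2 u) = (0, u) := by
    intro u
    induction u using TensorProduct.induction_on with
    | zero => simp only [map_zero, smul_zero]; try rfl
    | add x y hx hy => rw [map_add, map_add, hx, hy, Prod.mk_add_mk, add_zero]
    | tmul b φ =>
      show F (((0, b) : B × C) ⊗ₜ[B' × C'] j2 φ) = _
      rw [hF, show p2 (j2 φ) = φ from rfl, TensorProduct.zero_tmul]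
  have hAs : ∀ (a : A) (x : B × C), a • x = (a • x.1, a • x.2) := by
    intro a x
    have e1 := IsScalarTower.algebraMap_apply A B' B a
    have e2 := IsScalarTower.algebraMap_apply A C' C a
    rw [Algebra.smul_def, IsScalarTower.algebraMap_apply A (B' × C') (B × C), halg, Algebra.smul_def,
      Algebra.smul_def, e1, e2]
    rfl
  have hlin : ∀ (a : A) u, F (a • u) = a • F u := by
    intro a u
    induction u using TensorProduct.induction_on with
    | zero => simp only [map_zero, smul_zero]; try rfl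
    | add x y hx hy => rw [smul_add, map_add, map_add, hx, hy, smul_add]
    | tmul x φ =>
      rw [TensorProduct.smul_tmul', hF, hF, hAs]
      exact Prod.ext (TensorProduct.smul_tmul' _ _ _).symm (TensorProduct.smul_tmul' _ _ _).symm
  refine ⟨{ toFun := F, invFun := G, map_add' := map_add F, map_smul' := hlin, left_inv := hGF,
            right_inv := fun u => by
              show F (G1 u.1 + G2 u.2) = u
              rw [map_add, hFG1, hFG2, Prod.mk_add_mk, add_zero, zero_add] }, fun b c φ => rfl⟩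

end Groth.Agent.S8975
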