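import Groth.Statements.S8984
import Groth.Agent.AlmostBlowExist.Basic

set_option autoImplicit false
set_option backward.isDefEq.respectTransparency false
set_option backward.isDefEq.respectTransparency.types false
universe u
open HTop

namespace Groth.Agent.S8984

open CategoryTheory CategoryTheory.Limits AlgebraicGeometry in
/-- Over a quasi-compact quasi-separated scheme, every closed subscheme cut out by a finite type
quasi-coherent ideal is the centre of some almost blow up square. -/
theorem result {Z X : Scheme.{u}} [CompactSpace X] [QuasiSeparatedSpace X] (i : Z ⟶ X) [IsClosedImmersion i] [LocallyOfFinitePresentation i] : ∃ (E X' : Scheme.{u}) (e : E ⟶ X') (π : E ⟶ Z) (b : X' ⟶ X), HTop.IsAlmostBlowUpSquare e π b i := by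
  obtain ⟨Z₀, X₀, i₀, g, gZ, h0, h1, h2, hsq⟩ := Groth.Agent.AlmostBlowExist.exists_noetherian_model i
  haveI := h0
  haveI := h1
  haveI := h2
  obtain ⟨E₀, X₀', e₀, π₀, b₀, h⟩ := Groth.Agent.AlmostBlowExist.exists_square_of_noetherian i₀
  have hw : (pullback.fst e₀ (pullback.fst b₀ g) ≫ π₀) ≫ i₀ =
      (pullback.snd e₀ (pullback.fst b₀ g) ≫ pullback.snd b₀ g) ≫ g := by
    rw [Category.assoc, Category.assoc, ← h.isPullback.w, pullback.condition_assoc, pullback.condition]
  exact ⟨_, _, _, hsq.lift _ _ hw, _, Groth.Agent.AlmostBlow.main h g (IsPullback.of_hasPullback b₀ g) hsq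
    (IsPullback.of_hasPullback e₀ (pullback.fst b₀ g)) (hsq.lift_snd _ _ hw)⟩

end Groth.Agent.S8984
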