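import Groth.Statements.S8985
import Groth.Agent.LimClosed.FTIdeals
import Groth.Agent.S0594
import Groth.Agent.HTopV.AlmostSub

set_option autoImplicit false
set_option backward.isDefEq.respectTransparency false
set_option backward.isDefEq.respectTransparency.types false
universe u
open HTop

namespace Groth.Agent.S8985

open CategoryTheory CategoryTheory.Limits AlgebraicGeometry in
/-- Two almost blow up squares with the same centre Z → X (X quasi-compact and quasi-separated, Z of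
finite presentation) are dominated by a third one whose top right corner embeds as a closed
subscheme, over X, into each of theirs. -/
theorem result {Z X E₁ X₁ E₂ X₂ : Scheme.{u}} [CompactSpace X] [QuasiSeparatedSpace X] (i : Z ⟶ X) [IsClosedImmersion i] [LocallyOfFinitePresentation i] {e₁ : E₁ ⟶ X₁} {π₁ : E₁ ⟶ Z} {b₁ : X₁ ⟶ X} (h₁ : HTop.IsAlmostBlowUpSquare e₁ π₁ b₁ i) {e₂ : E₂ ⟶ X₂} {π₂ : E₂ ⟶ Z} {b₂ : X₂ ⟶ X} (h₂ : HTop.IsAlmostBlowUpSquare e₂ π₂ b₂ i) : ∃ (E X' : Scheme.{u}) (e : E ⟶ X') (π : E ⟶ Z) (b : X' ⟶ X) (j₁ : X' ⟶ X₁) (j₂ : X' ⟶ X₂), HTop.IsAlmostBlowUpSquare e π b i ∧ IsClosedImmersion j₁ ∧ IsClosedImmersion j₂ ∧ j₁ ≫ b₁ = b ∧ j₂ ≫ b₂ = b := by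
  haveI := h₁.isProper
  haveI := h₂.isProper
  haveI := h₁.finitePresentation
  haveI := h₂.finitePresentation
  let ι₁ := (HTop.supportedOn (i.ker.comap b₁)).subschemeι
  let ι₂ := (HTop.supportedOn (i.ker.comap b₂)).subschemeι
  obtain ⟨l, hl : l ≫ ι₂ ≫ b₂ = ι₁ ≫ b₁, -⟩ := h₂.isBlowUp.2 _ (ι₁ ≫ b₁) h₁.isBlowUp.1
  obtain ⟨m, hm : m ≫ ι₁ ≫ b₁ = ι₂ ≫ b₂, -⟩ := h₁.isBlowUp.2 _ (ι₂ ≫ b₂) h₂.isBlowUp.1
  obtain ⟨o₁, -, ho₁⟩ := h₁.isBlowUp.2 _ (ι₁ ≫ b₁) h₁.isBlowUp.1
  obtain ⟨o₂, -, ho₂⟩ := h₂.isBlowUp.2 _ (ι₂ ≫ b₂) h₂.isBlowUp.1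
  have hlm : l ≫ m = 𝟙 _ := (ho₁ _ (by
    show (l ≫ m) ≫ ι₁ ≫ b₁ = ι₁ ≫ b₁
    rw [Category.assoc, hm, hl])).trans (ho₁ _ (Category.id_comp _)).symm
  have hml : m ≫ l = 𝟙 _ := (ho₂ _ (by
    show (m ≫ l) ≫ ι₂ ≫ b₂ = ι₂ ≫ b₂
    rw [Category.assoc, hl, hm])).trans (ho₂ _ (Category.id_comp _)).symm
  haveI : IsIso l := ⟨m, hlm, hml⟩
  let β := pullback.lift ι₁ (l ≫ ι₂) (show ι₁ ≫ b₁ = (l ≫ ι₂) ≫ b₂ by rw [Category.assoc, hl])
  haveI hc1 : IsClosedImmersion (β ≫ pullback.fst b₁ b₂) := by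
    rw [pullback.lift_fst]; infer_instance
  haveI hc2 : IsClosedImmersion (β ≫ pullback.snd b₁ b₂) := by
    rw [pullback.lift_snd]; infer_instance
  haveI : IsClosedImmersion β := IsClosedImmersion.of_comp β (pullback.fst b₁ b₂)
  haveI : CompactSpace X₁ := QuasiCompact.compactSpace_of_compactSpace b₁
  haveI : QuasiSeparatedSpace X₁ := quasiSeparatedSpace_of_quasiSeparated b₁
  haveI : CompactSpace X₂ := QuasiCompact.compactSpace_of_compactSpace b₂
  haveI : QuasiSeparatedSpace X₂ := quasiSeparatedSpace_of_quasiSeparated b₂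
  let P := pullback b₁ b₂
  haveI : CompactSpace P := QuasiCompact.compactSpace_of_compactSpace (pullback.fst b₁ b₂)
  haveI : QuasiSeparatedSpace P := quasiSeparatedSpace_of_quasiSeparated (pullback.fst b₁ b₂)
  let K := β.ker
  let G := LimClosed.diagram K
  let I₀ := (LimClosed.FTBelow K)ᵒᵖ
  haveI : IsFiltered (LimClosed.FTBelow K) := by
    haveI : IsDirectedOrder (LimClosed.FTBelow K) := inferInstanceAs (IsDirected (LimClosed.FTBelow K) fun a b => a ≤ b)
    infer_instance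
  haveI : IsConnected I₀ := IsCofiltered.isConnected I₀
  have hlim : IsLimit ((Over.forget P).mapCone (LimClosed.cone K β rfl)) :=
    isLimitOfPreserves _ (LimClosed.isLimitCone K β rfl)
  haveI : ∀ (a b : I₀) (f : a ⟶ b), IsClosedImmersion ((G ⋙ Over.forget P).map f) :=
    fun a b f => LimClosed.isClosedImmersion_map K f
  have hG : ∀ L : I₀, LocallyOfFinitePresentation (G.obj L).hom := LimClosed.lfp_diagram K
  haveI : ∀ L : I₀, CompactSpace ((G ⋙ Over.forget P).obj L) := fun L =>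
    QuasiCompact.compactSpace_of_compactSpace (G.obj L).hom
  haveI : ∀ L : I₀, QuasiSeparatedSpace ((G ⋙ Over.forget P).obj L) := fun L =>
    quasiSeparatedSpace_of_quasiSeparated (G.obj L).hom
  have key : ∀ {Q : Scheme.{u}} [CompactSpace Q] [QuasiSeparatedSpace Q] (p : P ⟶ Q)
      [LocallyOfFiniteType p] [IsClosedImmersion (β ≫ p)], ∃ L : I₀, IsClosedImmersion ((G.obj L).hom ≫ p) := by
    intro Q _ _ p _ hβp
    let t : G ⋙ Over.forget P ⟶ (Functor.const I₀).obj Q :=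
      { app := fun L => (G.obj L).hom ≫ p
        naturality := fun A B a => by
          show (G.map a).left ≫ (G.obj B).hom ≫ p = ((G.obj A).hom ≫ p) ≫ 𝟙 Q
          rw [Category.comp_id, ← Category.assoc, Over.w] }
    haveI : ∀ L, LocallyOfFiniteType (t.app L) := fun L => by
      haveI := hG L
      exact inferInstanceAs (LocallyOfFiniteType ((G.obj L).hom ≫ p))
    haveI : ∀ L, IsClosedImmersion (((Over.forget P).mapCone (LimClosed.cone K β rfl)).π.app L ≫ t.app L) :=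
      fun L => by
        show IsClosedImmersion (((LimClosed.cone K β rfl).π.app L).left ≫ (G.obj L).hom ≫ p)
        rw [← Category.assoc, Over.w]
        exact hβp
    exact Groth.Agent.S0594.result Q (G ⋙ Over.forget P) t _ hlim (Classical.arbitrary I₀)
  obtain ⟨L₁, hL₁⟩ := key (pullback.fst b₁ b₂)
  obtain ⟨L₂, hL₂⟩ := key (pullback.snd b₁ b₂)
  let L := IsCofiltered.min L₁ L₂
  haveI := hG L
  haveI : IsClosedImmersion (((G.obj L).hom ≫ pullback.fst b₁ b₂)) := by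
    haveI := LimClosed.isClosedImmersion_map K (IsCofiltered.minToLeft L₁ L₂)
    rw [← Over.w (G.map (IsCofiltered.minToLeft L₁ L₂)), Category.assoc]
    exact inferInstanceAs (IsClosedImmersion (_ ≫ _))
  haveI : IsClosedImmersion (((G.obj L).hom ≫ pullback.snd b₁ b₂)) := by
    haveI := LimClosed.isClosedImmersion_map K (IsCofiltered.minToRight L₁ L₂)
    rw [← Over.w (G.map (IsCofiltered.minToRight L₁ L₂)), Category.assoc]
    exact inferInstanceAs (IsClosedImmersion (_ ≫ _))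
  let w₁ := (G.obj L).hom ≫ pullback.fst b₁ b₂
  have hle : w₁.ker ≤ HTop.supportedOn (i.ker.comap b₁) := by
    have hfac : ((LimClosed.cone K β rfl).π.app L).left ≫ w₁ = ι₁ := by
      rw [← Category.assoc, Over.w]
      exact pullback.lift_fst _ _ _
    calc w₁.ker ≤ (((LimClosed.cone K β rfl).π.app L).left ≫ w₁).ker := Scheme.Hom.le_ker_comp _ _
      _ = ι₁.ker := by rw [hfac]
      _ = _ := Scheme.IdealSheafData.ker_subschemeι _
  haveI : LocallyOfFinitePresentation w₁ := inferInstance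
  have hres := (Groth.Agent.HTopV.ker_le_iff_isAlmostBlowUpSquare h₁ w₁
    (IsPullback.of_hasPullback e₁ w₁)).mp hle
  refine ⟨_, _, pullback.snd e₁ w₁, pullback.fst e₁ w₁ ≫ π₁, w₁ ≫ b₁, w₁,
    (G.obj L).hom ≫ pullback.snd b₁ b₂, hres, inferInstance, inferInstance, rfl, ?_⟩
  rw [Category.assoc, ← pullback.condition, ← Category.assoc]

end Groth.Agent.S8985
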