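import Groth.Statements.S8997
import Groth.Agent.RG.Eft

set_option autoImplicit false
open Groth.Agent
universe u
open FlatMor

namespace Groth.Agent.S8997

open IsLocalRing TensorProduct in
/-- For a local homomorphism A → B of local rings essentially of finite type, a B-linear map from a
finite B-module N to an A-flat B-module M which is injective modulo the maximal ideal of A is
A-universally injective, and N is then finitely presented over B and flat over A. -/
theorem result {A B : Type u} [CommRing A] [IsLocalRing A] [CommRing B] [IsLocalRing B] [Algebra A B] [IsLocalHom (algebraMap A B)] [Algebra.EssFiniteType A B] {N M : Type u} [AddCommGroup N] [Module B N] [Module A N] [IsScalarTower A B N] [Module.Finite B N] [AddCommGroup M] [Module B M] [Module A M] [IsScalarTower A B M] [Module.Flat A M] (u : N →ₗ[B] M) (hu : Function.Injective ((u.restrictScalars A).lTensor (ResidueField A))) : FlatCA.UnivInj A (u.restrictScalars A) ∧ Module.FinitePresentation B N ∧ Module.Flat A N := by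
  have key : ∀ x, u x ∈ maximalIdeal A • (⊤ : Submodule A M) → x ∈ maximalIdeal A • (⊤ : Submodule A N) := by
    intro x hx
    have h0 : (u.restrictScalars A).lTensor (ResidueField A) ((1 : A ⧸ maximalIdeal A) ⊗ₜ[A] x) = 0 := by
      change (1 : A ⧸ maximalIdeal A) ⊗ₜ[A] u x = 0
      apply (TensorProduct.quotTensorEquivQuotSMul M (maximalIdeal A)).injective
      rw [map_zero, ← map_one (Ideal.Quotient.mk (maximalIdeal A)), TensorProduct.quotTensorEquivQuotSMul_mk_tmul,
        one_smul, Submodule.Quotient.mk_eq_zero]
      exact hx
    have h1 : (1 : A ⧸ maximalIdeal A) ⊗ₜ[A] x = 0 := hu (h0.trans (map_zero _).symm)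
    have h2 := congrArg (TensorProduct.quotTensorEquivQuotSMul N (maximalIdeal A)) h1
    rw [map_zero, ← map_one (Ideal.Quotient.mk (maximalIdeal A)), TensorProduct.quotTensorEquivQuotSMul_mk_tmul,
      one_smul, Submodule.Quotient.mk_eq_zero] at h2
    exact h2
  obtain ⟨h1, h2, h3⟩ := RG.eft_main (A := A) (B := B) N (u.restrictScalars A) key
  exact ⟨fun Q _ _ => ((u.restrictScalars A).lTensor_inj_iff_rTensor_inj Q).2 (h3 Q), h2, h1⟩

end Groth.Agent.S8997
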