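import Groth.Statements.S8998
import Groth.Agent.RG.Pure.LocImpurity
import Groth.Agent.S1246

set_option autoImplicit false
universe u
open FlatMor

namespace Groth.Agent.S8998

attribute [local instance] Algebra.TensorProduct.rightAlgebra

/-- For an affine finite type morphism Spec B → Spec A: if the local ring of A at the prime p is
Noetherian, then a finite B-module is pure along the fibre over p if and only if it is universally
pure along it. -/
theorem result {A B : Type u} [CommRing A] [CommRing B] [Algebra A B] [Algebra.FiniteType A B] (N : Type u) [AddCommGroup N] [Module B N] [Module.Finite B N] (p : Ideal A) [p.IsPrime] [IsNoetherianRing (Localization.AtPrime p)] : FlatCA.IsPureAlong A B N p ↔ FlatCA.IsUnivPureAlong A B N p := by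
  refine ⟨fun hpure => ?_, fun h A' B' N' _ _ _ _ _ _ _ _ _ _ _ _ _ _ f t' t _ _ P _ _ => h A' B' N' f t' t P⟩
  intro A' B' N' _ _ _ _ _ _ _ _ _ _ _ _ _ _ f t' t _ _ P _ hI
  letI : Module A N := Module.compHom N (algebraMap A B)
  haveI : IsScalarTower A B N := IsScalarTower.of_algebraMap_smul fun _ _ => rfl
  obtain ⟨hpush, hbc, hle, htp, -, -, -⟩ := id hI
  obtain ⟨Φ, e, hΦ, he⟩ := RG.Pure.exists_model_map (A := A) (B := B) (C := B) (C' := TensorProduct A A' B)
    (fun x => ⟨x, rfl⟩) hpush inferInstance hbc (TensorProduct.isBaseChange B N (TensorProduct A A' B))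
  have hcan := (RG.Pure.exists_imp_iff Φ hΦ e he t' t).1 ⟨P, RG.Pure.imp_of_isImpurity hI⟩
  obtain ⟨E, _, _, u', m, _, _, σ, _, hfp, hmax, hle', hover, himp⟩ :=
    RG.Pure.exists_fp_impurity t' t hle htp.over.symm hcan
  haveI := hfp
  haveI : Algebra.FiniteType A E := inferInstance
  have hqf := RG.Pure.exists_qf_imp_of_local (N := N) hle' hover.over.symm
    (RG.Pure.top_of_isMaximal hover.over.symm hmax) himp
  obtain ⟨A₁, B₁, N₁, _, _, _, _, _, _, _, _, _, _, _, _, _, _, f₁, s', s, _, _, P₁, _, hI₁, _, het⟩ :=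
    S1246.result N p hqf
  exact hpure A₁ B₁ N₁ f₁ s' s P₁ het hI₁

end Groth.Agent.S8998
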