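import Groth.Statements.S9000
import Groth.Agent.RG.Pure.LocImpurity
import Groth.Agent.RG.Pure.Descent
import Groth.Agent.UnramLib.FlatUnram

set_option autoImplicit false
universe u
open FlatMor

namespace Groth.Agent.S9000

attribute [local instance] Algebra.TensorProduct.rightAlgebra

open IsLocalRing in
open TensorProduct in
theorem aux {A B : Type u} [CommRing A] [CommRing B] [Algebra A B] [Algebra.FiniteType A B] (N : Type u) [AddCommGroup N]
    [Module B N] [Module A N] [IsScalarTower A B N] [Module.Finite B N] (p : Ideal A) [p.IsPrime] (H : Type u) [CommRing H]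
    [IsLocalRing H] [Algebra (Localization.AtPrime p) H] [IsLocalHom (algebraMap (Localization.AtPrime p) H)]
    [Hensel.IsHenselization (Localization.AtPrime p) H] {A' : Type u} [CommRing A'] [Algebra A A'] {t' t : Ideal A'}
    [t'.IsPrime] [t.IsPrime] (het : FlatCA.IsEtaleNhd A A' p t) (hle : t' ≤ t)
    (hcan : ∃ P, RG.Pure.Imp A' (A' ⊗[A] B) ((A' ⊗[A] B) ⊗[B] N) t' t P) :
    FlatCA.HasImpurity A B N p (fun A' _ _ t => ∃ (_ : IsLocalRing A') (_ : Algebra (Localization.AtPrime p) A')
    (_ : IsScalarTower A (Localization.AtPrime p) A') (_ : IsLocalHom (algebraMap (Localization.AtPrime p) A')),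
    Hensel.IsHenselization (Localization.AtPrime p) A' ∧ t = maximalIdeal A') := by
  let Ap := Localization.AtPrime p
  letI : Algebra A H := ((algebraMap Ap H).comp (algebraMap A Ap)).toAlgebra
  haveI : IsScalarTower A Ap H := IsScalarTower.of_algebraMap_eq fun _ => rfl
  obtain ⟨hE, hlo, hbij⟩ := het
  obtain ⟨φ, hφ, -⟩ := (Groth.Agent.S9470.result A p H).1 A' t hlo.over hbij
  letI : Algebra A' H := φ.toRingHom.toAlgebra
  haveI : IsScalarTower A A' H := IsScalarTower.of_algebraMap_eq fun a => (φ.commutes a).symm
  haveI : Module.Flat Ap H := Groth.Agent.Hensel.henselization_flat Ap H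
  haveI : Module.Flat A Ap := IsLocalization.flat _ p.primeCompl
  haveI : Module.Flat A H := Module.Flat.trans A Ap H
  haveI := hE
  haveI : Module.Flat A' H := UnramLib.flat_of_formallyUnramified A A' H
  haveI : Module.Flat H (Localization.AtPrime (maximalIdeal H)) := IsLocalization.flat _ (maximalIdeal H).primeCompl
  haveI : Module.Flat A' (Localization.AtPrime (maximalIdeal H)) := Module.Flat.trans A' H _
  haveI : (maximalIdeal H).LiesOver t := ⟨hφ.symm⟩
  obtain ⟨s', _, hs', Q, hQ⟩ := RG.Pure.exists_imp_lift (B := B) (N := N) (A₂ := H) t' t hle (maximalIdeal H) hcan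
  exact RG.Pure.hasImpurity_of_imp (Q := fun A' _ _ t => ∃ (_ : IsLocalRing A') (_ : Algebra (Localization.AtPrime p) A')
    (_ : IsScalarTower A (Localization.AtPrime p) A') (_ : IsLocalHom (algebraMap (Localization.AtPrime p) A')),
    Hensel.IsHenselization (Localization.AtPrime p) A' ∧ t = maximalIdeal A')
    s' (maximalIdeal H) hs' ⟨(Groth.Agent.Hensel.comap_point (p := p) H).symm⟩ hQ
    ⟨inferInstance, inferInstance, inferInstance, inferInstance, inferInstance, rfl⟩


open IsLocalRing in
/-- For Spec B → Spec A of finite type, a finite B-module N and a prime p of A, an impurity of N above p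
over an elementary etale neighbourhood of (A, p) yields an impurity of N above p over the
henselization of the local ring of A at p, based at its closed point. (The other implications of the
published equivalence are separate results: from the henselization to an elementary etale
neighbourhood, and between elementary etale neighbourhoods and base rings quasi-finite at the
point.) -/
theorem result {A B : Type u} [CommRing A] [CommRing B] [Algebra A B] [Algebra.FiniteType A B] (N : Type u) [AddCommGroup N] [Module B N] [Module.Finite B N] (p : Ideal A) [p.IsPrime] (h : FlatCA.HasImpurity A B N p (fun A' _ _ t => ∃ _ : t.IsPrime, FlatCA.IsEtaleNhd A A' p t)) : FlatCA.HasImpurity A B N p (fun A' _ _ t => ∃ (_ : IsLocalRing A') (_ : Algebra (Localization.AtPrime p) A') (_ : IsScalarTower A (Localization.AtPrime p) A') (_ : IsLocalHom (algebraMap (Localization.AtPrime p) A')), Hensel.IsHenselization (Localization.AtPrime p) A' ∧ t = maximalIdeal A') := by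
  obtain ⟨A', B', N', _, _, _, _, _, _, _, _, _, _, _, _, _, _, f, t', t, _, _, P, _, hI, _, het⟩ := h
  letI : Module A N := Module.compHom N (algebraMap A B)
  haveI : IsScalarTower A B N := IsScalarTower.of_algebraMap_smul fun _ _ => rfl
  obtain ⟨hpush, hbc, hle, htp, -, -, -⟩ := id hI
  obtain ⟨Φ, e, hΦ, he⟩ := RG.Pure.exists_model_map (A := A) (B := B) (C := B) (C' := TensorProduct A A' B)
    (fun x => ⟨x, rfl⟩) hpush inferInstance hbc (TensorProduct.isBaseChange B N (TensorProduct A A' B))
  have hcan := (RG.Pure.exists_imp_iff Φ hΦ e he t' t).1 ⟨P, RG.Pure.imp_of_isImpurity hI⟩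
  obtain ⟨hloc, hhens⟩ := Groth.Agent.Hensel.exists_henselization (Localization.AtPrime p)
  haveI := hloc
  haveI := hhens
  exact aux N p (Groth.Agent.Hensel.Env (Localization.AtPrime p) (ResidueField (Localization.AtPrime p))) het hle hcan

end Groth.Agent.S9000
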