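import Groth.Statements.S9001
import Groth.Agent.MLMod.Henselian

set_option autoImplicit false
universe u
open FlatMor Groth.Agent

namespace Groth.Agent.S9001

open IsLocalRing TensorProduct in
/-- Over a henselian local ring R with maximal ideal m, for an R-algebra S and an S-module N which is
countably generated and Mittag-Leffler as an R-module, every associated prime q of the S-module N
⊗_R M (M any R-module) satisfies q + mS ≠ S. (Associated primes are taken here in the sense of
primes equal to the radical of the annihilator of some element, a larger set than the annihilators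
of elements used in the published statement; the published argument goes through once the chosen
element of q is replaced by a suitable power of it, so the row states this slightly stronger form.) -/
theorem result {R S : Type u} [CommRing R] [HenselianLocalRing R] [CommRing S] [Algebra R S] (N : Type u) [AddCommGroup N] [Module S N] [Module R N] [IsScalarTower R S N] (hcg : CAlg.IsCountablyGenerated R N) (hML : CAlg.IsMittagLeffler R N) (M : Type u) [AddCommGroup M] [Module R M] (q : Ideal S) [q.IsPrime] (hq : q ∈ associatedPrimes S (N ⊗[R] M)) : q ⊔ (maximalIdeal R).map (algebraMap R S) ≠ ⊤ := by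
  intro htop
  obtain ⟨-, y, hq'⟩ := hq
  obtain ⟨a, ha, b, hb, hab⟩ := Submodule.mem_sup.1 ((Ideal.eq_top_iff_one _).1 htop)
  rw [hq'] at ha
  obtain ⟨k, hk⟩ := ha
  rw [Submodule.mem_colon_singleton, Submodule.mem_bot] at hk
  obtain ⟨c, hc⟩ : ∃ c, a ^ k = 1 - b * c := by
    obtain ⟨c, hc⟩ := sub_dvd_pow_sub_pow (1 : S) a k
    refine ⟨c, ?_⟩
    rw [one_pow, show (1 : S) - a = b by rw [← hab, add_sub_cancel_left]] at hc
    rw [← hc]; ring
  have hb' : b * c ∈ (maximalIdeal R).map (algebraMap R S) := Ideal.mul_mem_right _ _ hb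
  let φ : Module.End R N := Algebra.lsmul R R N (a ^ k)
  have hmem : ∀ z : N, φ z - z ∈ maximalIdeal R • (⊤ : Submodule R N) := by
    intro z
    show a ^ k • z - z ∈ _
    rw [hc, sub_smul, one_smul, sub_sub_cancel_left]
    refine neg_mem ?_
    generalize b * c = d at hb'
    have hb2 : d ∈ maximalIdeal R • (⊤ : Submodule R S) := by rw [Ideal.smul_top_eq_map]; exact hb'
    clear hb'
    rename' hb2 => hb'
    induction hb' using Submodule.smul_induction_on' with
    | smul r hr n _ =>
      rw [smul_assoc]
      exact Submodule.smul_mem_smul hr trivial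
    | add p _ q _ hp hq => rw [add_smul]; exact add_mem hp hq
  have hφy : φ.rTensor M y = a ^ k • y := by
    clear hk hq'
    induction y using TensorProduct.induction_on with
    | zero => simp
    | tmul n m => rw [LinearMap.rTensor_tmul, smul_tmul']; rfl
    | add p q hp hq => rw [map_add, hp, hq, smul_add]
  obtain ⟨L, hind, hLtop, hfp⟩ := MLMod.exists_fp_decomposition hML hcg
  let A : ℕ → Submodule R N := fun n => ⨆ i ∈ Set.Iio n, L i
  have hA : Monotone A := fun i j hij => biSup_mono fun l hl => lt_of_lt_of_le hl hij
  have hy : ∃ n, y ∈ LinearMap.range ((A n).subtype.rTensor M) := by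
    have mono : ∀ i j, i ≤ j → ∀ z ∈ LinearMap.range ((A i).subtype.rTensor M),
        z ∈ LinearMap.range ((A j).subtype.rTensor M) := by
      rintro i j hij _ ⟨z, rfl⟩
      exact ⟨(Submodule.inclusion (hA hij)).rTensor M z, by rw [← LinearMap.rTensor_comp_apply, Submodule.subtype_comp_inclusion]⟩
    clear hk hq' hφy
    induction y using TensorProduct.induction_on with
    | zero => exact ⟨0, zero_mem _⟩
    | tmul n m =>
      have hn : n ∈ ⨆ i, A i := by
        have : (⊤ : Submodule R N) ≤ ⨆ i, A i := by
          rw [← hLtop]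
          exact iSup_le fun i => le_iSup_of_le (i + 1) (le_biSup L (Set.mem_Iio.2 (Nat.lt_succ_self i)))
        exact this trivial
      obtain ⟨i, hi⟩ := (Submodule.mem_iSup_of_directed _ hA.directed_le).1 hn
      exact ⟨i, ⟨⟨n, hi⟩ ⊗ₜ m, LinearMap.rTensor_tmul M (A i).subtype m ⟨n, hi⟩⟩⟩
    | add p q hp hq =>
      obtain ⟨i, hi⟩ := hp
      obtain ⟨j, hj⟩ := hq
      exact ⟨max i j, add_mem (mono i _ (le_max_left _ _) _ hi) (mono j _ (le_max_right _ _) _ hj)⟩
  obtain ⟨n, z, hz⟩ := hy
  have hcompl : IsCompl (A n) (⨆ i ∈ (Set.Iio n)ᶜ, L i) := IsCompl.of_eq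
    (hind.disjoint_biSup_biSup disjoint_compl_right).eq_bot
    (by
      rw [← hLtop]
      exact le_antisymm (sup_le (iSup₂_le fun i _ => le_iSup L i) (iSup₂_le fun i _ => le_iSup L i))
        (iSup_le fun i => (em (i ∈ Set.Iio n)).elim (fun h => le_sup_of_le_left (le_biSup L h))
          (fun h => le_sup_of_le_right (le_biSup L (Set.mem_compl h)))))
  haveI : Module.Finite R (A n) := Module.Finite.iff_fg.2 <| by
    have : A n = (Finset.range n).sup L := by
      rw [Finset.sup_eq_iSup]
      exact le_antisymm (iSup₂_le fun i hi => le_iSup₂_of_le i (Finset.mem_range.2 hi) le_rfl)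
        (iSup₂_le fun i hi => le_biSup L (Finset.mem_range.1 hi))
    rw [this]
    exact Submodule.fg_finset_sup (Finset.range n) L fun i _ => by
      haveI := hfp i
      exact Module.Finite.iff_fg.1 (inferInstance : Module.Finite R (L i))
  let p := Submodule.linearProjOfIsCompl _ _ hcompl
  let ψ : A n →ₗ[R] A n := p ∘ₗ φ ∘ₗ (A n).subtype
  have hψ : ∀ w, ψ w - w ∈ maximalIdeal R • (⊤ : Submodule R (A n)) := by
    intro w
    have h1 := Submodule.mem_map_of_mem (f := p) (hmem w.1)
    rw [Submodule.map_smul'', map_sub, show p w.1 = w from Submodule.linearProjOfIsCompl_apply_left hcompl w] at h1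
    exact Submodule.smul_mono le_rfl le_top h1
  have hsurj : Function.Surjective ψ := by
    refine LinearMap.range_eq_top.1 (top_le_iff.1 ?_)
    refine Submodule.le_of_le_smul_of_le_jacobson_bot Module.Finite.fg_top
      (IsLocalRing.maximalIdeal_le_jacobson _) fun w _ => ?_
    rw [← sub_sub_cancel (ψ w) w]
    exact sub_mem (Submodule.mem_sup_left ⟨w, rfl⟩) (Submodule.mem_sup_right (hψ w))
  let E := LinearEquiv.ofBijective ψ ⟨OrzechProperty.injective_of_surjective_endomorphism ψ hsurj, hsurj⟩
  have hz0 : z = 0 := by
    apply (LinearEquiv.rTensor M E).injective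
    rw [map_zero]
    show ψ.rTensor M z = 0
    rw [LinearMap.rTensor_comp_apply, LinearMap.rTensor_comp_apply, hz, hφy, hk, map_zero]
  have hy0 : y = 0 := by rw [← hz, hz0, map_zero]
  apply ‹q.IsPrime›.ne_top
  rw [hq', hy0, Ideal.radical_eq_top]
  exact (Submodule.colon_eq_top_iff_subset _).2 (Set.singleton_subset_iff.2 (zero_mem _))

end Groth.Agent.S9001
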