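import Groth.Statements.S9002
import Groth.Agent.RG.Pure.RelAssPts
import Groth.Agent.RG.AssPts
import Groth.Agent.QC.FiniteType

set_option autoImplicit false
universe u
open FlatMor

namespace Groth.Agent.S9002

open CategoryTheory CategoryTheory.Limits AlgebraicGeometry in
/-- Over the spectrum of a local ring, a finite type quasi-coherent module on a scheme locally of finite
type, all of whose relative associated points specialize into the closed fibre and which is flat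
over the base at every point of the closed fibre, is flat over the base. -/
theorem result {R : Type u} [CommRing R] [IsLocalRing R] {X : Scheme.{u}} (f : X ⟶ Spec (CommRingCat.of R)) [LocallyOfFiniteType f] (F : X.Modules) [Coh.IsQCoh F] (hF : CohB1.IsFT F) (h₁ : ∀ x ∈ MoreMor.relAss f F, ∃ x' : X, x ⤳ x' ∧ f.base x' = IsLocalRing.closedPoint R) (h₂ : ∀ x : X, f.base x = IsLocalRing.closedPoint R → FlatMod.IsFlatOverAt f F x) : FlatMod.IsFlatOver f F := by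
  intro x
  let Y := Spec (CommRingCat.of R)
  have hV : IsAffineOpen (⊤ : Y.Opens) := isAffineOpen_top Y
  obtain ⟨W, hW, hxW, -⟩ := exists_isAffineOpen_mem_and_subset (X := X) (x := x) (U := f ⁻¹ᵁ ⊤) trivial
  have hWV : W ≤ f ⁻¹ᵁ ⊤ := fun _ _ => trivial
  letI : Algebra Γ(Y, ⊤) Γ(X, W) := (f.appLE ⊤ W hWV).hom.toAlgebra
  letI : Module Γ(Y, ⊤) Γ(F, W) := Module.compHom Γ(F, W) (f.appLE ⊤ W hWV).hom
  haveI : IsScalarTower Γ(Y, ⊤) Γ(X, W) Γ(F, W) := IsScalarTower.of_algebraMap_smul fun _ _ => rfl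
  haveI : Algebra.FiniteType Γ(Y, ⊤) Γ(X, W) := f.finiteType_appLE hV hW hWV
  haveI : Module.Finite Γ(X, W) Γ(F, W) := QC.finite_sections hW (hM := ‹Coh.IsQCoh F›) hF
  rw [InjFibre.isFlatOverAt_iff f F ‹_› hV hW hWV x hxW]
  let q := (hW.primeIdealOf ⟨x, hxW⟩).asIdeal
  refine (RG.local_embedding Γ(Y, ⊤) Γ(X, W) (q.comap (algebraMap Γ(Y, ⊤) Γ(X, W))) q rfl fun σ _ hσ _ => ?_).1
  let y : X := hW.fromSpec ⟨σ, inferInstance⟩
  obtain ⟨hy, hy'⟩ := InjFibre.primeIdealOf_fromSpec hW ⟨σ, inferInstance⟩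
  have hσy : (hW.primeIdealOf ⟨y, hy⟩).asIdeal = σ := congrArg PrimeSpectrum.asIdeal hy'
  suffices hy2 : FlatMod.IsFlatOverAt f F y by
    have h := (InjFibre.isFlatOverAt_iff f F ‹_› hV hW hWV y hy).1 hy2
    have aux : ∀ (τ : Ideal Γ(X, W)) (_ : τ.IsPrime), τ = σ →
        Module.Flat Γ(Y, ⊤) (LocalizedModule τ.primeCompl Γ(F, W)) →
        Module.Flat Γ(Y, ⊤) (LocalizedModule σ.primeCompl Γ(F, W)) := by
      intro τ _ e hτ
      subst e
      exact hτ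
    exact aux _ inferInstance hσy h
  have hrel : y ∈ MoreMor.relAss f F := RG.Pure.mem_relAss_of_assPts f F ‹_› hV hW hWV y hy
    (q.comap (algebraMap Γ(Y, ⊤) Γ(X, W))) (by rw [hσy]; exact hσ)
  obtain ⟨x', hyx, hx'⟩ := h₁ y hrel
  obtain ⟨W', hW', hx'W, -⟩ := exists_isAffineOpen_mem_and_subset (X := X) (x := x') (U := f ⁻¹ᵁ ⊤) trivial
  have hW'V : W' ≤ f ⁻¹ᵁ ⊤ := fun _ _ => trivial
  have hyW : y ∈ W' := hyx.mem_open W'.2 hx'W
  letI : Algebra Γ(Y, ⊤) Γ(X, W') := (f.appLE ⊤ W' hW'V).hom.toAlgebra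
  letI : Module Γ(Y, ⊤) Γ(F, W') := Module.compHom Γ(F, W') (f.appLE ⊤ W' hW'V).hom
  haveI : IsScalarTower Γ(Y, ⊤) Γ(X, W') Γ(F, W') := IsScalarTower.of_algebraMap_smul fun _ _ => rfl
  haveI := (InjFibre.isFlatOverAt_iff f F ‹_› hV hW' hW'V x' hx'W).1 (h₂ x' hx')
  rw [InjFibre.isFlatOverAt_iff f F ‹_› hV hW' hW'V y hyW]
  have hle : (hW'.primeIdealOf ⟨y, hyW⟩).asIdeal ≤ (hW'.primeIdealOf ⟨x', hx'W⟩).asIdeal := by
    show hW'.primeIdealOf ⟨y, hyW⟩ ≤ hW'.primeIdealOf ⟨x', hx'W⟩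
    refine (PrimeSpectrum.le_iff_specializes _ _).2 (hW'.fromSpec.isOpenEmbedding.isInducing.specializes_iff.1 ?_)
    rw [hW'.fromSpec_primeIdealOf, hW'.fromSpec_primeIdealOf]
    exact hyx
  exact InjFibre.flat_localized (hW'.primeIdealOf ⟨y, hyW⟩).asIdeal.primeCompl
    (IsLocalizedModule.liftOfLE (hW'.primeIdealOf ⟨x', hx'W⟩).asIdeal.primeCompl
      (hW'.primeIdealOf ⟨y, hyW⟩).asIdeal.primeCompl (fun t ht h => ht (hle h))
      (LocalizedModule.mkLinearMap (hW'.primeIdealOf ⟨x', hx'W⟩).asIdeal.primeCompl Γ(F, W'))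
      (LocalizedModule.mkLinearMap (hW'.primeIdealOf ⟨y, hyW⟩).asIdeal.primeCompl Γ(F, W')))

end Groth.Agent.S9002
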