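import Groth.Statements.S9004
import Groth.Agent.FreeTrunc.Ranks
-- import your own Groth.Agent.* helpers here

set_option autoImplicit false
set_option backward.isDefEq.respectTransparency false
set_option linter.style.haveILetI false
universe u
open FlatMor

namespace Groth.Agent.S9004

open CategoryTheory CategoryTheory.Limits AlgebraicGeometry in
/-- For a proper morphism X → Spec R with geometrically connected fibres over a discrete valuation ring
R with uniformizer ϖ, there is an n such that a finite locally free module on X is free as soon as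
its restrictions to the generic fibre and to the closed subscheme cut out by ϖ^n are free.
(Geometrically connected is Mathlib's notion, which asks the geometric fibres to be nonempty and
connected.) -/
theorem result {R : Type u} [CommRing R] [IsDomain R] [IsDiscreteValuationRing R] (ϖ : R) (hϖ : Irreducible ϖ) {X : Scheme.{u}} (f : X ⟶ Spec (CommRingCat.of R)) [IsProper f] [GeometricallyConnected f] : ∃ n : ℕ, ∀ (E : X.Modules), FlatMod.IsFinLocFree E → (∃ r : ℕ, Nonempty ((Scheme.Modules.pullback (pullback.fst f (Spec.map (CommRingCat.ofHom (algebraMap R (FractionRing R)))))).obj E ≅ FlatMod.freeMod _ r)) → (∃ r : ℕ, Nonempty ((Scheme.Modules.pullback (pullback.fst f (Spec.map (CommRingCat.ofHom (Ideal.Quotient.mk (Ideal.span {ϖ ^ n})))))).obj E ≅ FlatMod.freeMod _ r)) → ∃ r : ℕ, Nonempty (E ≅ FlatMod.freeMod X r) := by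
  letI : X.Over (Spec (CommRingCat.of R)) := ⟨f⟩
  haveI : IsProper (X ↘ Spec (CommRingCat.of R)) := ‹IsProper f›
  haveI : IsLocallyNoetherian X := LocallyOfFiniteType.isLocallyNoetherian f
  haveI : CompactSpace X := QuasiCompact.compactSpace_of_compactSpace f
  haveI : IsNoetherian X := ⟨⟩
  obtain ⟨a, ha⟩ := Groth.Agent.FreeTrunc.exists_stable (A := R) (X := X) ϖ
  haveI : Module.Finite R (Coh.HH X (Groth.Agent.FreeTrunc.Red ϖ a (Coh.structureModule X)) 1) :=
    Groth.Agent.CohFinite.finite_proper R X _ (Groth.Agent.MLImage.isCoh_image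
      Groth.Agent.RefStalk.isCoh_structureModule Groth.Agent.RefStalk.isCoh_structureModule _) 1
  obtain ⟨c, hc⟩ := Groth.Agent.FormAlg.exists_pow_torsion_bound ϖ
    (Coh.HH X (Groth.Agent.FreeTrunc.Red ϖ a (Coh.structureModule X)) 1)
  refine ⟨a + (c + 1), fun E hE ⟨r, ⟨e₁⟩⟩ ⟨s, ⟨e₂⟩⟩ => ⟨s, ?_⟩⟩
  haveI : IsLocalization.Away ϖ (FractionRing R) :=
    Groth.Agent.EtPBC.isLocalization_away_uniformizer R (FractionRing R) hϖ
  let g₁ := Spec.map (CommRingCat.ofHom (algebraMap R (FractionRing R)))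
  haveI : IsOpenImmersion g₁ := IsOpenImmersion.of_isLocalization ϖ
  let j := pullback.fst f g₁
  let g₂ := Spec.map (CommRingCat.ofHom (Ideal.Quotient.mk (Ideal.span {ϖ ^ (a + (c + 1))})))
  haveI : IsClosedImmersion g₂ :=
    IsClosedImmersion.spec_of_surjective _ (by exact Ideal.Quotient.mk_surjective)
  let i := pullback.fst f g₂
  have hclosed : ∀ y : X, IsClosed ({y} : Set X) → y ∈ Set.range i := fun y hy => by
    rw [Scheme.Pullback.range_fst]
    show f.base y ∈ Set.range (PrimeSpectrum.comap (Ideal.Quotient.mk _))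
    have hfy : f.base y = IsLocalRing.closedPoint R := Groth.Agent.FreeTrunc.closed_point_over hϖ y hy
    rw [hfy]
    show IsLocalRing.closedPoint R ∈ Set.range (PrimeSpectrum.comap (Ideal.Quotient.mk _))
    rw [range_comap_of_surjective _ _ Ideal.Quotient.mk_surjective, Ideal.mk_ker, PrimeSpectrum.zeroLocus_span,
      PrimeSpectrum.mem_zeroLocus, Set.singleton_subset_iff]
    exact Ideal.pow_mem_of_mem _ hϖ.not_isUnit _ (by omega)
  have hrank : ∀ x : X, ∀ (U : X.Opens) (m : ℕ), x ∈ U → (E.restrict U.ι ≅ FlatMod.freeMod (↑U) m) →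
      ∃ y : X, y ∈ closure ({x} : Set X) ∧ (y ∈ U → m = s) ∧ y ∈ Set.range i := fun x U m _ eU => by
    obtain ⟨y, hy, hyc⟩ := IsClosed.exists_closed_singleton (isClosed_closure (s := ({x} : Set X)))
      (Set.singleton_nonempty x).closure
    obtain ⟨z, rfl⟩ := hclosed y hyc
    exact ⟨_, hy, fun hyU => Groth.Agent.FreeTrunc.rank_pull i e₂ eU z hyU, ⟨z, rfl⟩⟩
  have hnear : ∀ x : X, ∃ U : X.Opens, x ∈ U ∧ Nonempty (E.restrict U.ι ≅ FlatMod.freeMod (↑U) s) := fun x => by
    obtain ⟨y, hy, hyc⟩ := IsClosed.exists_closed_singleton (isClosed_closure (s := ({x} : Set X)))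
      (Set.singleton_nonempty x).closure
    obtain ⟨U, m, hyU, ⟨eU⟩⟩ := hE y
    obtain ⟨z, rfl⟩ := hclosed y hyc
    obtain rfl := Groth.Agent.FreeTrunc.rank_pull i e₂ eU z hyU
    exact ⟨U, (specializes_iff_mem_closure.2 hy).mem_open U.2 hyU, ⟨eU⟩⟩
  obtain ⟨w, hw⟩ : ∃ w, g₁.base w = g₁.base (IsLocalRing.closedPoint (FractionRing R)) := ⟨_, rfl⟩
  obtain ⟨y, hy⟩ := f.surjective (g₁.base (IsLocalRing.closedPoint (FractionRing R)))
  obtain ⟨v, hv, -⟩ := Scheme.Pullback.exists_preimage_pullback (f := f) (g := g₁) y w (hy.trans hw.symm)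
  obtain ⟨U, hyU, ⟨eU⟩⟩ := hnear y
  obtain rfl : s = r := Groth.Agent.FreeTrunc.rank_pull j e₁ eU v (hv.symm ▸ hyU)
  have hW : j ''ᵁ ⊤ = X.basicOpen (Groth.Agent.W7Cech.secRing R (⊤ : X.Opens) ϖ) := by
    have h1 : X.basicOpen (Groth.Agent.W7Cech.secRing R (⊤ : X.Opens) ϖ) =
        f ⁻¹ᵁ (Spec (CommRingCat.of R)).basicOpen ((Scheme.ΓSpecIso (CommRingCat.of R)).inv ϖ) := by
      rw [Scheme.preimage_basicOpen]
      exact congrArg X.basicOpen (Groth.Agent.QC.resO_self le_rfl _)
    rw [h1, basicOpen_eq_of_affine, Scheme.Hom.image_top_eq_opensRange]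
    refine TopologicalSpace.Opens.ext ?_
    show Set.range j = f.base ⁻¹' (PrimeSpectrum.basicOpen ϖ : Set (PrimeSpectrum R))
    rw [Scheme.Pullback.range_fst, ← PrimeSpectrum.localization_away_comap_range (FractionRing R) ϖ]
    rfl
  obtain ⟨ψ, hψ⟩ := Groth.Agent.FreeTrunc.exists_sect_equiv j (e₁ ≪≫ (Groth.Agent.DerPerf.pullFreeIso j s).symm)
  have hi := Groth.Agent.FreeTrunc.ker_thick hϖ (a + (c + 1)) i (pullback.snd f g₂)
    (IsPullback.of_hasPullback f g₂)
  haveI hd := fun M : X.Modules => Groth.Agent.TFOneLib.isIso_desc (A := R) i hi M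
  exact Groth.Agent.FreeTrunc.exists_iso_free a hϖ c ha hc hE s hnear _ hW ψ hψ
    (@asIso _ _ _ _ _ (hd E) ≪≫ (Scheme.Modules.pushforward i).mapIso (e₂ ≪≫
      (Groth.Agent.DerPerf.pullFreeIso i s).symm) ≪≫ (@asIso _ _ _ _ _ (hd (FlatMod.freeMod X s))).symm)

end Groth.Agent.S9004
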