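import Groth.Statements.S9008
import Groth.Agent.RG.Pure.Transfer

set_option autoImplicit false
open Groth.Agent
universe u
open FlatMor

namespace Groth.Agent.S9008

/-- For Spec B → Spec A affine of finite type: a finite B-module is universally pure along the fibre
over a prime p of A exactly when every base change of it along a ring map A → A' is pure along the
fibre over every prime of A' above p. -/
theorem result {A B : Type u} [CommRing A] [CommRing B] [Algebra A B] [Algebra.FiniteType A B] (N : Type u) [AddCommGroup N] [Module B N] [Module.Finite B N] (p : Ideal A) [p.IsPrime] : FlatCA.IsUnivPureAlong A B N p ↔ ∀ (A' B' N' : Type u) [CommRing A'] [CommRing B'] [Algebra A A'] [Algebra B B'] [Algebra A' B'] [Algebra A B'] [IsScalarTower A B B'] [IsScalarTower A A' B'] [Algebra.IsPushout A B A' B'] [AddCommGroup N'] [Module B' N'] [Module B N'] [IsScalarTower B B' N'] (g : N →ₗ[B] N'), IsBaseChange B' g → ∀ (p' : Ideal A') [p'.IsPrime], p'.LiesOver p → FlatCA.IsPureAlong A' B' N' p' := by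
  classical
  refine ⟨fun h A' B' N' _ _ _ _ _ _ _ _ _ _ _ _ _ g hg p' _ hp' => ?_, fun h A' B' N' _ _ _ _ _ _ _ _ _ _ _ _ _ _ f t' t _ _ P _ hI => ?_⟩
  · intro A'' B'' N'' _ _ _ _ _ _ _ _ _ _ _ _ _ _ f t' t _ _ P _ _ hI
    obtain ⟨hpush, hbc, hle, htp, hPt, hass, hno⟩ := hI
    letI : Algebra A A'' := ((algebraMap A' A'').comp (algebraMap A A')).toAlgebra
    haveI : IsScalarTower A A' A'' := IsScalarTower.of_algebraMap_eq' rfl
    letI : Algebra B B'' := ((algebraMap B' B'').comp (algebraMap B B')).toAlgebra
    haveI : IsScalarTower B B' B'' := IsScalarTower.of_algebraMap_eq' rfl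
    letI : Algebra A B'' := ((algebraMap B B'').comp (algebraMap A B)).toAlgebra
    haveI : IsScalarTower A B B'' := IsScalarTower.of_algebraMap_eq' rfl
    haveI : IsScalarTower A A' B'' := IsScalarTower.of_algebraMap_eq fun a => by
      change algebraMap B' B'' (algebraMap B B' (algebraMap A B a)) = _
      rw [← IsScalarTower.algebraMap_apply A B B', IsScalarTower.algebraMap_apply A A' B',
        ← IsScalarTower.algebraMap_apply A' B' B'']
    haveI : IsScalarTower A A'' B'' := IsScalarTower.of_algebraMap_eq fun a => by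
      rw [IsScalarTower.algebraMap_apply A A' A'', IsScalarTower.algebraMap_apply A A' B'',
        ← IsScalarTower.algebraMap_apply A' A'' B'']
    letI : Module B N'' := Module.compHom N'' (algebraMap B B'')
    haveI : IsScalarTower B B'' N'' := IsScalarTower.of_algebraMap_smul fun _ _ => rfl
    haveI : IsScalarTower B B' N'' := IsScalarTower.of_algebraMap_smul fun b x => by
      rw [← algebraMap_smul B'' (algebraMap B B' b) x, ← IsScalarTower.algebraMap_apply, algebraMap_smul]
    haveI : IsScalarTower A B' B'' := IsScalarTower.of_algebraMap_eq fun a => by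
      rw [IsScalarTower.algebraMap_apply A A' B'', IsScalarTower.algebraMap_apply A A' B',
        ← IsScalarTower.algebraMap_apply A' B' B'']
    haveI h12 : Algebra.IsPushout A A' B B' := Algebra.IsPushout.symm inferInstance
    haveI h23 : Algebra.IsPushout A' A'' B' B'' := hpush.symm
    have hpush' : Algebra.IsPushout A B A'' B'' := ((Algebra.IsPushout.comp_iff A A' B B' (T := A'') (T' := B'')).2 h23).symm
    exact h A'' B'' N'' ((f.restrictScalars B) ∘ₗ g) t' t P
      ⟨hpush', hg.comp hbc, hle, Ideal.LiesOver.trans t p' p, hPt, hass, hno⟩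
  · haveI := hI.1
    obtain ⟨hpush, hbc, hle, htp, hPt, hass, hno⟩ := hI
    have h0 : Algebra.IsPushout A' A' B' B' := ⟨IsBaseChange.ofEquiv (LinearEquiv.refl A' B')⟩
    exact h A' B' N' f hbc t htp A' B' N' LinearMap.id t' t P (RG.Pure.isEtaleNhd_self t)
      ⟨h0.symm, IsBaseChange.ofEquiv (LinearEquiv.refl B' N'), hle, ⟨(Ideal.comap_id t).symm⟩, hPt, hass, hno⟩

end Groth.Agent.S9008
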