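import Groth.Statements.S9011
import Groth.Agent.RG.Loc.PureCor
import Groth.Agent.RG.AssPts

set_option autoImplicit false
open Groth.Agent TensorProduct
universe u
open FlatMor

namespace Groth.Agent.S9011

open IsLocalRing in
/-- For a local ring R with maximal ideal m, an R-algebra S with S/mS Noetherian and an S-module N with
N/mN finite over S/mS which is projective as an R-module, every element of S that is a
nonzerodivisor on N/mN acts R-universally injectively on N, and the map from N to its localization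
at all such elements is R-universally injective. -/
theorem result {R S : Type u} [CommRing R] [IsLocalRing R] [CommRing S] [Algebra R S] (N : Type u) [AddCommGroup N] [Module S N] [Module R N] [IsScalarTower R S N] [IsNoetherianRing ((maximalIdeal R).Fiber S)] [Module.Finite ((maximalIdeal R).Fiber S) (FlatCA.fiberMod (maximalIdeal R) S N)] [Module.Projective R N] : (∀ s ∈ FlatCA.nzdFiber R S N, FlatCA.UnivInj R ((LinearMap.lsmul S N s).restrictScalars R)) ∧ FlatCA.UnivInj R ((LocalizedModule.mkLinearMap (FlatCA.nzdFiber R S N) N).restrictScalars R) := by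
  classical
  let κ := (maximalIdeal R).ResidueField
  let F := (maximalIdeal R).Fiber S
  letI : Algebra S F := Algebra.TensorProduct.rightAlgebra
  let eF : F ⊗[S] N ≃ₗ[κ] κ ⊗[R] N := Algebra.IsPushout.cancelBaseChange R κ S F N
  have hκ : ∀ n : N, (1 : κ) ⊗ₜ[R] n = 0 ↔ n ∈ maximalIdeal R • (⊤ : Submodule R N) := fun n => by
    rw [RG.one_tmul_eq_zero_iff]
    refine ⟨fun ⟨c, hc, h⟩ => ?_, fun h => ⟨1, (maximalIdeal.isMaximal R).ne_top ∘ (Ideal.eq_top_iff_one _).2,
      by rwa [one_smul]⟩⟩
    obtain ⟨u, rfl⟩ := IsLocalRing.notMem_maximalIdeal.1 hc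
    rwa [← Units.smul_def, Submodule.smul_mem_iff'] at h
  have hone : ∀ n : N, eF ((1 : F) ⊗ₜ[S] n) = (1 : κ) ⊗ₜ[R] n := fun n => by
    change Algebra.IsPushout.cancelBaseChange R κ S F N _ = _
    rw [Algebra.IsPushout.cancelBaseChange_tmul]
  have key : ∀ s ∈ FlatCA.nzdFiber R S N, ∀ n : N, s • n ∈ maximalIdeal R • (⊤ : Submodule R N) →
      n ∈ maximalIdeal R • (⊤ : Submodule R N) := by
    intro s hs n hn
    rw [← hκ, ← hone] at hn ⊢
    rw [tmul_smul, LinearEquiv.map_eq_zero_iff] at hn
    rw [LinearEquiv.map_eq_zero_iff]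
    exact hs _ hn
  have hres : ∀ {M : Type u} [AddCommGroup M] [Module R M] (v : N →ₗ[R] M),
      (∀ n, v n ∈ maximalIdeal R • (⊤ : Submodule R M) → n ∈ maximalIdeal R • (⊤ : Submodule R N)) →
      ∀ (m : Ideal R) [m.IsMaximal], Function.Injective (v.lTensor (R ⧸ m)) := fun v hv m hm => by
    rw [IsLocalRing.eq_maximalIdeal hm]
    exact (LocalCrit.quot_lTensor_injective_iff _ v).2 hv
  refine ⟨fun s hs => RG.Loc.univInj_of_residue _ (hres _ fun n hn => key s hs n hn), ?_⟩
  haveI : Module.Flat R (LocalizedModule (FlatCA.nzdFiber R S N) N) :=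
    InjFibre.flat_localized (FlatCA.nzdFiber R S N) (LocalizedModule.mkLinearMap (FlatCA.nzdFiber R S N) N)
  refine RG.Loc.univInj_of_residue _ (hres _ fun n hn => ?_)
  obtain ⟨t, ht, htn⟩ := RG.exists_smul_mem_of_mk (maximalIdeal R) (FlatCA.nzdFiber R S N) hn
  exact key t ht n htn

end Groth.Agent.S9011
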