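import Groth.Statements.S9017
import Groth.Agent.FlatFunLib.ModCond

set_option autoImplicit false
universe u
open FlatMor

namespace Groth.Agent.S9017

open CategoryTheory in
theorem of_ofArrows {C : Type*} [Category C] {X : C} {ι : Type*} {Y : ι → C} {f : ∀ i, Y i ⟶ X}
    (Q : ∀ Z, (Z ⟶ X) → Prop) (hQ : ∀ i, Q _ (f i)) {Z : C} {g : Z ⟶ X} (h : Presieve.ofArrows Y f g) : Q _ g := by
  cases h
  exact hQ _

open CategoryTheory CategoryTheory.Limits AlgebraicGeometry Opposite in
/-- For f : X → S, a homomorphism u : F → G of quasi-coherent O_X-modules, a scheme T over S and an fpqc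
covering family of S-morphisms T_i → T, the base change u_T on X_T = X ×_S T is injective (a
monomorphism in the abelian category of O-modules) if and only if u_{T_i} is injective for every i.
(Injectivity of u_T is not preserved by arbitrary base change, so this variant is a sheaf condition
on coverings rather than a subfunctor of the final functor.) -/
theorem result {X S : Scheme.{u}} (f : X ⟶ S) {F G : X.Modules} [Coh.IsQCoh F] [Coh.IsQCoh G] (u : F ⟶ G)
    (T : Over S) {ι : Type u} (Ti : ι → Over S) (g : ∀ i, Ti i ⟶ T)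
    (hcov : Presieve.ofArrows (fun i => (Ti i).left) (fun i => (g i).left) ∈ Scheme.fpqcPrecoverage T.left) :
    Mono ((Scheme.Modules.pullback (pullback.fst f T.hom)).map u) ↔
      ∀ i, Mono ((Scheme.Modules.pullback (pullback.fst f (Ti i).hom)).map u) := by
  obtain ⟨𝒰, -, e⟩ := Scheme.mem_propQCPrecoverage_iff_exists_quasiCompactCover.mp hcov
  have hflat : ∀ i, Flat (g i).left := fun i => by
    have h1 : 𝒰.presieve₀ (g i).left := e ▸ Presieve.ofArrows.mk i
    exact of_ofArrows (fun _ q => Flat q) (fun j => 𝒰.map_prop j) h1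
  constructor
  · intro h i
    haveI := hflat i
    haveI := FlatFunLib.flat_XTmap f (g i)
    have := (FlatFunLib.mono_trans u (PicF.XTmap f (g i)) (pullback.fst f T.hom)).2
      (FlatFunLib.mono_pullback_of_flat _ _)
    rwa [HilbOne.XTmap_fst] at this
  · intro h
    refine FlatFunLib.mono_of_cover u _ fun z => ?_
    obtain ⟨k, w, hw⟩ := 𝒰.exists_eq (PicF.XTproj f T z)
    have h1 : Presieve.ofArrows (fun i => (Ti i).left) (fun i => (g i).left) (𝒰.f k) := e.symm ▸ Presieve.ofArrows.mk k
    let Q : ∀ Z : Scheme.{u}, (Z ⟶ T.left) → Prop := fun Z q => ∀ w : Z, q w = PicF.XTproj f T z →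
      ∃ (Y' : Scheme.{u}) (q : Y' ⟶ PicF.XT f T), Flat q ∧
        Mono ((Scheme.Modules.pullback (q ≫ pullback.fst f T.hom)).map u) ∧ ∃ w, q w = z
    have h2 : Q _ (𝒰.f k) := of_ofArrows Q (fun i => ?_) h1
    · exact h2 w hw
    intro w hw
    haveI := hflat i
    refine ⟨_, PicF.XTmap f (g i), FlatFunLib.flat_XTmap f (g i), ?_,
      FlatFunLib.exists_preimage_XTmap f (g i) z w hw⟩
    rw [HilbOne.XTmap_fst]
    exact h i

end Groth.Agent.S9017
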