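import Groth.Statements.S9018
import Groth.Agent.FlatFunLib.Stage

set_option autoImplicit false
universe u
open FlatMor

namespace Groth.Agent.S9018

open CategoryTheory CategoryTheory.Limits AlgebraicGeometry Opposite in
/-- For f : X → S quasi-compact and a homomorphism u : F → G of quasi-coherent O_X-modules with G of
finite type, the functor F_surj (one point on T when the base change u_T on X ×_S T is an
epimorphism of O-modules, empty otherwise; the subfunctor of the final functor generated by that
condition) is limit preserving. -/
theorem result {X S : Scheme.{u}} (f : X ⟶ S) [QuasiCompact f] {F G : X.Modules} [Coh.IsQCoh F] [Coh.IsQCoh G]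
    (hG : CohB1.IsFT G) (u : F ⟶ G) :
    AlgSp.IsLimitPreserving (FlatFun.genPSp S (fun T => Epi ((Scheme.Modules.pullback (pullback.fst f T.hom)).map u))) := by
  exact FlatFunLib.isLimitPreserving_genPSp_pull f (fun _ r => Epi ((Scheme.Modules.pullback r).map u))
    (fun q r h => (FlatFunLib.epi_trans u q r).2 (haveI : Epi _ := h; inferInstance))
    fun J _ _ E _ e he j₀ _ r h => FlatFunLib.exists_stage_epi u E e he j₀ r hG h

end Groth.Agent.S9018
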