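import Groth.Statements.S9025
import Groth.Agent.ClosedRep.EssFreeQC
import Groth.Agent.ClosedRep.EssFreeAffine
import Groth.Agent.S1219
import Groth.Agent.LimDesc.FPCancel
-- import your own Groth.Agent.* helpers here

set_option autoImplicit false
universe u
open FlatMor

namespace Groth.Agent.S9025

open CategoryTheory CategoryTheory.Limits AlgebraicGeometry Opposite in
/-- For X = Spec B and S = Spec A affine (purity of a morphism is available here only in ring form), let
A → B be a flat ring map of finite presentation such that the structure sheaf of X = Spec B is pure
relative to S = Spec A, and let i : Y → Spec B be a closed immersion (a closed subscheme Y of X).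
Then the Weil restriction functor of Y along X → S, the functor on schemes over S with one point on
T when the base change Y_T → X_T of i is an isomorphism and empty otherwise (the subfunctor of the
final functor generated by that condition), is representable by a scheme Z over S whose structure
morphism Z → S is a closed immersion. If moreover Y → S is locally of finite presentation (hence of
finite presentation) then Z → S is locally of finite presentation. -/
theorem result {A B : Type u} [CommRing A] [CommRing B] [Algebra A B] [Algebra.FinitePresentation A B] [Module.Flat A B]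
    (hpure : FlatCA.IsPure A B B) {Y : Scheme.{u}} (i : Y ⟶ Spec (CommRingCat.of B)) [IsClosedImmersion i] :
    ∃ Z : Over (Spec (CommRingCat.of A)), IsClosedImmersion Z.hom ∧
      Nonempty ((FlatFun.genPSp (Spec (CommRingCat.of A)) (fun T =>
        IsIso (pullback.snd i (pullback.fst (Spec.map (CommRingCat.ofHom (algebraMap A B))) T.hom)))).RepresentableBy Z) ∧
      (LocallyOfFinitePresentation (i ≫ Spec.map (CommRingCat.ofHom (algebraMap A B))) →
        LocallyOfFinitePresentation Z.hom) := by
  letI f := Spec.map (CommRingCat.ofHom (algebraMap A B))
  have hproj : Module.Projective A B :=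
    (Groth.Agent.S1219.result (A := A) (B := B) B).mpr hpure
  have : Module.Projective A (TensorProduct A A B) :=
    Module.Projective.of_equiv (TensorProduct.lid A B).symm
  have hf : SGA3x.IsEssentiallyFree f :=
    Groth.Agent.ClosedRep.isEssentiallyFree_of_projective f B (Iso.refl _) (Category.id_comp _) A
  obtain ⟨T, t, ht, hT, hfp⟩ := Groth.Agent.ClosedRep.exists_weilRestriction_closed f hf i
  have key : ∀ X : Over (Spec (CommRingCat.of A)),
      (∃ (T₀ : Over (Spec (CommRingCat.of A))) (_ : X ⟶ T₀),
        IsIso (pullback.snd i (pullback.fst f T₀.hom))) → ∃ g' : X.left ⟶ T, g' ≫ t = X.hom := by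
    rintro X ⟨T₀, k, hk⟩
    obtain ⟨g', hg'⟩ := (hT T₀.left T₀.hom).mpr hk
    exact ⟨k.left ≫ g', by rw [Category.assoc, hg', Over.w k]⟩
  refine ⟨Over.mk t, ht, ⟨{
    homEquiv := fun {X} =>
      { toFun := fun g => ⟨⟨X, 𝟙 X, (hT X.left X.hom).mp ⟨g.left, Over.w g⟩⟩⟩
        invFun := fun x => Over.homMk (key X x.down.down).choose (key X x.down.down).choose_spec
        left_inv := fun g => by
          ext
          refine (cancel_mono t).mp (Eq.trans ?_ (Over.w g).symm)
          exact Exists.choose_spec (p := fun g' => g' ≫ t = X.hom) _
        right_inv := fun x => Subsingleton.elim _ _ }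
    homEquiv_comp := fun _ _ => Subsingleton.elim _ _ }⟩, fun hY => ?_⟩
  have : LocallyOfFinitePresentation f := by
    rw [HasRingHomProperty.Spec_iff (P := @LocallyOfFinitePresentation), CommRingCat.hom_ofHom,
      RingHom.finitePresentation_algebraMap]
    infer_instance
  exact hfp inferInstance (Groth.Agent.LimDesc.lfp_of_comp i f)

end Groth.Agent.S9025
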