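import Groth.Statements.S9026
import Groth.Agent.FlatFunLib.GenRepLocal

set_option autoImplicit false
set_option backward.isDefEq.respectTransparency false
universe u
open FlatMor

namespace Groth.Agent.S9026

open CategoryTheory CategoryTheory.Limits AlgebraicGeometry Opposite

variable {X S : Scheme.{u}} (f : X ⟶ S) [Smooth f] [GeometricallyIrreducible f] (F : X.Modules) [Coh.IsQCoh F]

/-- Charts inside a given affine open. -/
theorem exists_basicOpen_image {W : S.Opens} (hW : IsAffineOpen W) {D : X.Opens} (hD : IsAffineOpen D) (hDW : D ≤ f ⁻¹ᵁ W)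
    (G : Set X) (hG : IsOpen G) {x : X} (hx : x ∈ D) (hxG : x ∈ G) :
    ∃ (V : S.Opens) (U : X.Opens) (e : U ≤ f ⁻¹ᵁ V), f x ∈ V ∧ IsAffineOpen V ∧ V ≤ W ∧ IsAffineOpen U ∧ U ≤ D ∧
      (∀ v ∈ V, v ∈ f '' G) ∧ ∀ v ∈ V, ∃ y ∈ U, f y = v := by
  have hO : IsOpen (f '' ((D : Set X) ∩ G)) := f.isOpenMap _ (D.2.inter hG)
  obtain ⟨r, hrle, hsr⟩ := hW.exists_basicOpen_le (V := ⟨f '' ((D : Set X) ∩ G), hO⟩)
    ⟨f x, x, ⟨hx, hxG⟩, rfl⟩ (hDW hx)
  refine ⟨S.basicOpen r, D ⊓ f ⁻¹ᵁ S.basicOpen r, inf_le_right, hsr, hW.basicOpen r, S.basicOpen_le r, ?_, inf_le_left,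
    fun v hv => ?_, fun v hv => ?_⟩
  · rw [← Scheme.basicOpen_appLE f D W hDW r]
    exact hD.basicOpen _
  · obtain ⟨w, hw, rfl⟩ := hrle hv
    exact ⟨w, hw.2, rfl⟩
  · obtain ⟨w, hw, rfl⟩ := hrle hv
    exact ⟨w, ⟨hw.1, hv⟩, rfl⟩

theorem exists_chart_gens (hF : CohB1.IsFT F) (p : ℕ) (v : S) (hv : v ∈ f '' FlatFunLib.rkLocus F p) :
    ∃ V : S.Opens, v ∈ V ∧ V ≤ (⟨f '' FlatFunLib.rkLocus F p, f.isOpenMap _ (FlatFunLib.isOpen_rkLocus F hF p)⟩ : S.Opens) ∧
      ∃ U : X.Opens, IsAffineOpen U ∧ ∃ (_ : U ≤ f ⁻¹ᵁ V) (_ : ∀ w ∈ V, ∃ y ∈ U, f y = w) (s : Fin p → Γ(F, U)),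
        Submodule.span Γ(X, U) (Set.range s) = ⊤ := by
  obtain ⟨x, hx, rfl⟩ := hv
  obtain ⟨W, hW, hxW, -⟩ := exists_isAffineOpen_mem_and_subset (X := S) (x := f x) (U := ⊤) trivial
  obtain ⟨W₀, hW₀, hxW₀, hle⟩ := exists_isAffineOpen_mem_and_subset (X := X) (x := x) (U := f ⁻¹ᵁ W) hxW
  haveI := QC.finite_sections hW₀ (M := F) hF
  obtain ⟨r, g, hxr, hg⟩ := LocFree.exists_spanning (M := F) hW₀ inferInstance hxW₀
  let g' : Fin p → Γ(F, X.basicOpen r) := fun i => if h : (i : ℕ) < LocFree.rk F x then g ⟨i, h⟩ else 0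
  have hg' : Submodule.span Γ(X, X.basicOpen r) (Set.range g') = ⊤ := by
    refine eq_top_iff.2 (hg ▸ Submodule.span_mono ?_)
    rintro _ ⟨i, rfl⟩
    exact ⟨⟨i, i.2.trans_le hx⟩, by simp [g']⟩
  obtain ⟨π, hπ⟩ := FittLib.exists_epi_of_span (M := F) inferInstance (hW₀.basicOpen r) g' hg'
  obtain ⟨V, U, e, hxV, -, -, hU, hUD, hVG, hsurj⟩ := exists_basicOpen_image f hW (hW₀.basicOpen r)
    ((X.basicOpen_le r).trans hle) _ (FlatFunLib.isOpen_rkLocus F hF p) hxr hx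
  obtain ⟨s, hs, -⟩ := FittLib.span_of_epi (M := F) inferInstance π hU hUD
  exact ⟨V, hxV, hVG, U, hU, e, hsurj, s, hs⟩

theorem mem_of_freeGen (hF : CohB1.IsFT F) (p : ℕ) {T : Over S}
    (h : FlatFun.FreeAtGenericPts (PicF.XTproj f T) (FGA.ET f F T) p) (t : T.left) :
    T.hom t ∈ f '' FlatFunLib.rkLocus F p := by
  obtain ⟨x, hxt, -, W, hxW, ⟨eW⟩⟩ := h t
  obtain ⟨b⟩ := LocFree.exists_basis_stalk eW (QC.isQCoh_pullback _ inferInstance) hxW
  refine ⟨pullback.fst f T.hom x, FlatFunLib.rk_le_of_basis_pullback F hF _ x p (b.reindex Equiv.ulift), ?_⟩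
  rw [← Scheme.Hom.comp_apply, pullback.condition, Scheme.Hom.comp_apply]
  exact congrArg _ hxt

theorem quasiCompact_locus (hft : CohB1.IsFT F) (hF : CohB1.IsFP F) (p : ℕ) (O : S.Opens) (hO : (O : Set S) = f '' FlatFunLib.rkLocus F p) :
    QuasiCompact O.ι := by
  refine quasiCompact_iff_forall_isAffineOpen.mpr fun W hW => ?_
  refine O.ι.isOpenEmbedding.isInducing.isCompact_iff.2 ?_
  have himg : O.ι '' (O.ι ⁻¹ᵁ W : Set O) = (O : Set S) ∩ W := by
    rw [show ((O.ι ⁻¹ᵁ W : Set O)) = O.ι ⁻¹' (W : Set S) from rfl, Set.image_preimage_eq_inter_range,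
      Scheme.Opens.range_ι, Set.inter_comm]
  rw [himg]
  have hch : ∀ v : W, ∃ (V : S.Opens) (U : X.Opens), v.1 ∈ V ∧ V ≤ W ∧ IsAffineOpen U ∧ U ≤ f ⁻¹ᵁ V ∧
      ∀ w ∈ V, ∃ y ∈ U, f y = w := by
    intro v
    obtain ⟨x, hxv, -⟩ := FlatFunLib.exists_genericPt f v.1
    obtain ⟨D, hD, hxD, hle⟩ := exists_isAffineOpen_mem_and_subset (X := X) (x := x) (U := f ⁻¹ᵁ W)
      (show f x ∈ W from hxv ▸ v.2)
    obtain ⟨V, U, e, hxV, -, hVW, hU, -, -, hsurj⟩ := exists_basicOpen_image f hW hD hle Set.univ isOpen_univ hxD trivial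
    exact ⟨V, U, hxv ▸ hxV, hVW, hU, e, hsurj⟩
  choose V U hvV hVW hU e hsurj using hch
  obtain ⟨t, ht⟩ := hW.isCompact.elim_finite_subcover (fun v => (V v : Set S)) (fun v => (V v).2)
    fun w hw => Set.mem_iUnion.2 ⟨⟨w, hw⟩, hvV ⟨w, hw⟩⟩
  have : (O : Set S) ∩ W = ⋃ v ∈ t, f '' (FlatFunLib.rkLocus F p ∩ U v) := by
    ext w
    simp only [Set.mem_iUnion, Set.mem_inter_iff]
    constructor
    · rintro ⟨hwO, hwW⟩
      obtain ⟨v, hvt, hwv⟩ := Set.mem_iUnion₂.1 (ht hwW)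
      rw [hO] at hwO
      obtain ⟨x, hx, rfl⟩ := hwO
      obtain ⟨η, hηt, hη⟩ := FlatFunLib.exists_genericPt f (f x)
      obtain ⟨y, hyU, hy⟩ := hsurj v _ hwv
      exact ⟨v, hvt, η, ⟨(hη x hηt.symm).mem_open (FlatFunLib.isOpen_rkLocus F
        hft p) hx, (hη y (hy.trans hηt.symm)).mem_open (U v).2 hyU⟩, hηt⟩
    · rintro ⟨v, -, y, ⟨hy, hyU⟩, rfl⟩
      exact ⟨hO.ge ⟨y, hy, rfl⟩, hVW v (e v hyU)⟩
  rw [this]
  exact t.finite_toSet.isCompact_biUnion fun v _ => (FlatFunLib.isCompact_rkLocus_inter F hF (hU v) p).image f.continuous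


open CategoryTheory CategoryTheory.Limits AlgebraicGeometry Opposite in
/-- For f : X → S smooth with geometrically irreducible fibres, F a quasi-coherent O_X-module of finite
type and p ≥ 0, the functor H_p on schemes over S (one point on T when the base change F_T is free
of rank p on a neighbourhood of the generic point of every fibre of X ×_S T → T, empty otherwise;
the subfunctor of the final functor generated by that condition) is representable by a scheme S_p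
over S whose structure morphism S_p → S is an immersion (a locally closed immersion). When the
module F is finitely presented, the morphism S_p → S is likewise finitely presented, i.e. locally of
finite presentation, quasi-compact and quasi-separated. -/
theorem result {X S : Scheme.{u}} (f : X ⟶ S) [Smooth f] [GeometricallyIrreducible f] (F : X.Modules) [Coh.IsQCoh F]
    (hF : CohB1.IsFT F) (p : ℕ) :
    ∃ Z : Over S, IsImmersion Z.hom ∧
      Nonempty ((FlatFun.genPSp S (fun T => FlatFun.FreeAtGenericPts (PicF.XTproj f T) (FGA.ET f F T) p)).RepresentableBy Z) ∧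
      (CohB1.IsFP F → LocallyOfFinitePresentation Z.hom ∧ QuasiCompact Z.hom ∧ QuasiSeparated Z.hom) := by
  let O : S.Opens := ⟨f '' FlatFunLib.rkLocus F p, f.isOpenMap _ (FlatFunLib.isOpen_rkLocus F hF p)⟩
  let P : ∀ ⦃T' : Scheme.{u}⦄, (T' ⟶ O.toScheme) → Prop := fun T' h =>
    FlatFun.FreeAtGenericPts (PicF.XTproj f (Over.mk (h ≫ O.ι))) (FGA.ET f F (Over.mk (h ≫ O.ι))) p
  have hst := FlatFunLib.stable_freeGen f F p
  have hiso : ∀ {T' : Scheme.{u}} (a b : T' ⟶ S), a = b →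
      FlatFun.FreeAtGenericPts (PicF.XTproj f (Over.mk a)) (FGA.ET f F (Over.mk a)) p →
      FlatFun.FreeAtGenericPts (PicF.XTproj f (Over.mk b)) (FGA.ET f F (Over.mk b)) p := by
    rintro T' a b rfl h
    exact h
  have hlocal : ClosedRep.IsLocal P := by
    intro T' h 𝒰
    refine ⟨fun hP i => hst (Over.homMk (U := Over.mk ((𝒰.f i ≫ h) ≫ O.ι)) (V := Over.mk (h ≫ O.ι)) (𝒰.f i)
      (Category.assoc _ _ _).symm) hP, fun hP => FlatFunLib.freeGen_descends f F p hF _ fun z => ?_⟩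
    exact ⟨Over.mk ((𝒰.f (𝒰.idx z) ≫ h) ≫ O.ι), Over.homMk (𝒰.f (𝒰.idx z)) (Category.assoc _ _ _).symm,
      (inferInstance : Flat (𝒰.f (𝒰.idx z))), hP _, 𝒰.covers z⟩
  choose V hxV hVO U hU e hsurj s hs using fun x : O => exists_chart_gens f F hF p x.1 x.2
  let 𝒱 : Scheme.OpenCover.{u} O.toScheme :=
    { I₀ := ↥O, X := fun x => (V x).toScheme, f := fun x => S.homOfLE (hVO x),
      mem₀ := by
        rw [Scheme.presieve₀_mem_precoverage_iff]
        exact ⟨fun x => ⟨x, ⟨x.1, hxV x⟩, Subtype.ext (Scheme.homOfLE_apply (hVO x) _)⟩, inferInstance⟩ }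
  choose J hJ hJfp using fun x : O => FlatFunLib.exists_reps_chart f F hF (hU x) (e x) (hsurj x) (s x) (hs x)
  have hJ' : ∀ x, ClosedRep.Reps (fun T' h => P (h ≫ 𝒱.f x)) (J x) := fun x T' h => by
    have hw : (h ≫ 𝒱.f x) ≫ O.ι = h ≫ (V x).ι := by
      show (h ≫ S.homOfLE (hVO x)) ≫ O.ι = _
      rw [Category.assoc, Scheme.homOfLE_ι]
    exact (⟨hiso _ _ hw, hiso _ _ hw.symm⟩ : P (h ≫ 𝒱.f x) ↔ _).trans (hJ x h)
  obtain ⟨J₀, hJ₀⟩ := ClosedRep.exists_reps_of_openCover (P := P) hlocal 𝒱 fun x => ⟨J x, hJ' x⟩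
  let Z : Over S := Over.mk (J₀.subschemeι ≫ O.ι)
  have : IsImmersion Z.hom := by dsimp [Z]; infer_instance
  have hfwd : ∀ {T : Over S}, (T ⟶ Z) → FlatFun.FreeAtGenericPts (PicF.XTproj f T) (FGA.ET f F T) p := by
    intro T g
    have h1 : P (g.left ≫ J₀.subschemeι) := (hJ₀.factors_iff _).1 ⟨g.left, rfl⟩
    exact hst (Over.homMk (V := Over.mk ((g.left ≫ J₀.subschemeι) ≫ O.ι)) (𝟙 _) (by
      simpa [Z] using (Over.w g))) h1
  have hbwd : ∀ T : Over S, (∃ (T₀ : Over S) (_ : T ⟶ T₀),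
      FlatFun.FreeAtGenericPts (PicF.XTproj f T₀) (FGA.ET f F T₀) p) → Nonempty (T ⟶ Z) := by
    rintro T ⟨T₀, k, hk⟩
    have hT := hst k hk
    have hr : Set.range T.hom ⊆ Set.range O.ι := by
      rw [Scheme.Opens.range_ι]
      rintro _ ⟨t, rfl⟩
      exact mem_of_freeGen f F hF p hT t
    let h := IsOpenImmersion.lift O.ι T.hom hr
    have hh : h ≫ O.ι = T.hom := IsOpenImmersion.lift_fac _ _ _
    obtain ⟨l, hl⟩ := (hJ₀.factors_iff h).2 (hiso T.hom _ hh.symm hT)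
    exact ⟨Over.homMk l (by simp [Z, reassoc_of% hl, hh])⟩
  refine ⟨Z, inferInstance, ⟨{
    homEquiv := fun {T} =>
      { toFun := fun g => ⟨⟨T, 𝟙 T, hfwd g⟩⟩
        invFun := fun x => (hbwd T x.down.down).some
        left_inv := fun g => by
          ext
          exact (cancel_mono Z.hom).mp ((Over.w _).trans (Over.w g).symm)
        right_inv := fun x => Subsingleton.elim _ _ }
    homEquiv_comp := fun _ _ => Subsingleton.elim _ _ }⟩, fun hFP => ?_⟩
  have hlfp : LocallyOfFinitePresentation J₀.subschemeι := by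
    refine IsZariskiLocalAtTarget.of_openCover (P := @LocallyOfFinitePresentation.{u}) 𝒱 fun x => ?_
    show LocallyOfFinitePresentation (pullback.snd J₀.subschemeι (𝒱.f x))
    have h1 := hJfp x hFP
    rw [← ClosedRep.Reps.eq (hJ₀.comap (𝒱.f x)) (hJ' x), ← Scheme.IdealSheafData.comapIso_hom_fst,
      MorphismProperty.cancel_left_of_respectsIso @LocallyOfFinitePresentation] at h1
    rw [← pullbackSymmetry_hom_comp_fst,
      MorphismProperty.cancel_left_of_respectsIso @LocallyOfFinitePresentation]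
    exact h1
  have hqc : QuasiCompact O.ι := quasiCompact_locus f F hF hFP p O rfl
  refine ⟨?_, ?_, ?_⟩
  · dsimp [Z]; infer_instance
  · dsimp [Z]; infer_instance
  · dsimp [Z]; infer_instance

end Groth.Agent.S9026
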