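import Groth.Statements.S9027
import Groth.Agent.FlatFunLib.Flat
import Groth.Agent.SpQS.TrdegQF
import Groth.Agent.UnivInjMor.MonoUnram
import Groth.Agent.FlatModBC.FlatAt

set_option autoImplicit false
universe u
open FlatMor

namespace Groth.Agent.S9027

open CategoryTheory CategoryTheory.Limits AlgebraicGeometry Opposite in
/-- For f : X → S locally of finite type, F a quasi-coherent O_X-module of finite type, an etale
morphism h : X' → X and n ≥ 0, the functor F_n of F over S is a subfunctor of the functor F_n of the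
pullback h^*F on X' over S: for every scheme T over S, if the base change F_T on X ×_S T is flat
over T in dimensions ≥ n (transcendence-degree form) then so is the base change of h^*F on X' ×_S T. -/
theorem result {X X' S : Scheme.{u}} (f : X ⟶ S) [LocallyOfFiniteType f] (F : X.Modules) [Coh.IsQCoh F] (hF : CohB1.IsFT F)
    (h : X' ⟶ X) [Etale h] (n : ℕ) (T : Over S)
    (hT : FlatFun.DimFibresLT n (PicF.XTproj f T)
        {x | ¬ FlatMod.IsFlatOverAt (PicF.XTproj f T) (FGA.ET f F T) x}) :
    FlatFun.DimFibresLT n (PicF.XTproj (h ≫ f) T)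
        {x | ¬ FlatMod.IsFlatOverAt (PicF.XTproj (h ≫ f) T) (FGA.ET (h ≫ f) ((Scheme.Modules.pullback h).obj F) T) x} := by
  intro z hz
  let m : PicF.XT (h ≫ f) T ⟶ PicF.XT f T := pullback.map (h ≫ f) T.hom f T.hom h (𝟙 _) (𝟙 _) (by simp) (by simp)
  have hm₁ : m ≫ pullback.fst f T.hom = pullback.fst (h ≫ f) T.hom ≫ h := pullback.lift_fst _ _ _
  have hm₂ : m ≫ PicF.XTproj f T = PicF.XTproj (h ≫ f) T := (pullback.lift_snd _ _ _).trans (Category.comp_id _)
  have hsq : IsPullback m (pullback.fst (h ≫ f) T.hom) (pullback.fst f T.hom) h := by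
    refine IsPullback.of_right (h₁₂ := pullback.snd f T.hom) (v₁₃ := T.hom) (h₂₂ := f) ?_ hm₁ (IsPullback.of_hasPullback f T.hom).flip
    rw [hm₂]
    exact (IsPullback.of_hasPullback (h ≫ f) T.hom).flip
  haveI : Etale m := MorphismProperty.of_isPullback (P := @Etale) hsq.flip inferInstance
  have hfl : ¬ FlatMod.IsFlatOverAt (PicF.XTproj f T) (FGA.ET f F T) (m z) := fun hfl => hz (by
    have h1 := (S9350.result m (PicF.XTproj f T) (FGA.ET f F T) (QC.isQCoh_pullback _ inferInstance) z (Flat.stalkMap m z)).1 hfl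
    have h2 := FlatLimMod.isFlatOverAt_of_iso _
      (((ModDesc.trIso m (pullback.fst f T.hom) hm₁).app F) ≪≫ ((ModDesc.trIso (pullback.fst (h ≫ f) T.hom) h rfl).app F).symm) h1
    show FlatMod.IsFlatOverAt (PicF.XTproj (h ≫ f) T) _ z
    rw [← hm₂]
    exact h2)
  haveI : LocallyQuasiFinite m := UnivInjMor.lqf_of_unramified _
  have h3 := SpQS.resTrdeg_precomp m (PicF.XTproj f T) (m.quasiFiniteAt z)
  show Dual3.resTrdeg (PicF.XTproj (h ≫ f) T) z < (n : Cardinal.{u})
  rw [← hm₂, h3]
  exact hT _ hfl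

end Groth.Agent.S9027
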