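import Groth.Statements.S9028
import Groth.Agent.FlatFunLib.AssPullback
import Groth.Agent.S9350
import Groth.Agent.AlgSpLib.TrdegComp

set_option autoImplicit false
set_option backward.isDefEq.respectTransparency false
universe u
open FlatMor

namespace Groth.Agent.S9028

open CategoryTheory CategoryTheory.Limits AlgebraicGeometry Opposite in
/-- For f : X → S locally of finite type, F a quasi-coherent O_X-module of finite type, an etale
morphism h : X' → X whose image contains every point of the relative assassin of F over S, and n ≥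
0, the functors F_n of F and of h^*F agree: for every scheme T over S, if the base change of h^*F on
X' ×_S T is flat over T in dimensions ≥ n then so is the base change F_T on X ×_S T (the other
implication holds without the hypothesis on the image). -/
theorem result {X X' S : Scheme.{u}} (f : X ⟶ S) [LocallyOfFiniteType f] (F : X.Modules) [Coh.IsQCoh F] (hF : CohB1.IsFT F)
    (h : X' ⟶ X) [Etale h] (hAss : MoreMor.relAss f F ⊆ Set.range h.base) (n : ℕ) (T : Over S)
    (hT : FlatFun.DimFibresLT n (PicF.XTproj (h ≫ f) T)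
        {x | ¬ FlatMod.IsFlatOverAt (PicF.XTproj (h ≫ f) T) (FGA.ET (h ≫ f) ((Scheme.Modules.pullback h).obj F) T) x}) :
    FlatFun.DimFibresLT n (PicF.XTproj f T)
        {x | ¬ FlatMod.IsFlatOverAt (PicF.XTproj f T) (FGA.ET f F T) x} := by
  intro z hz
  by_contra hlt
  let a := pullback.fst f T.hom
  let q := PicF.XTproj f T
  let a' := pullback.fst (h ≫ f) T.hom
  let q' := PicF.XTproj (h ≫ f) T
  have hc : IsPullback a q f T.hom := IsPullback.of_hasPullback _ _
  haveI : LocallyOfFiniteType q := MorphismProperty.of_isPullback hc ‹LocallyOfFiniteType f›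
  obtain ⟨z₁, hs, hqz, hbad, hrel⟩ := FlatFunLib.exists_nonflat_over_relAss hc F inferInstance hF z hz
  obtain ⟨x', hx'⟩ := hAss hrel
  let m : pullback (h ≫ f) T.hom ⟶ pullback f T.hom :=
    pullback.lift (a' ≫ h) q' (by rw [Category.assoc]; exact pullback.condition)
  have hmq : m ≫ q = q' := pullback.lift_snd _ _ _
  have hma : m ≫ a = a' ≫ h := pullback.lift_fst _ _ _
  have hsq : IsPullback a' m h a :=
    IsPullback.of_bot (by rw [hmq]; exact IsPullback.of_hasPullback _ _) hma.symm hc
  haveI : Etale m := MorphismProperty.of_isPullback hsq ‹Etale h›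
  obtain ⟨w, -, hw⟩ := Scheme.Pullback.exists_preimage_pullback (f := h) (g := a) x' z₁ hx'
  let z' := hsq.isoPullback.inv w
  have hz' : m z' = z₁ := by
    rw [← Scheme.Hom.comp_apply, IsPullback.isoPullback_inv_snd]; exact hw
  let G := (Scheme.Modules.pullback a).obj F
  have h1 : ¬ FlatMod.IsFlatOverAt q' ((Scheme.Modules.pullback a').obj ((Scheme.Modules.pullback h).obj F)) z' := by
    intro hfl
    have h2 : FlatMod.IsFlatOverAt q' ((Scheme.Modules.pullback m).obj G) z' :=
      FlatLimMod.isFlatOverAt_of_iso _ (((ModDesc.trIso a' h rfl).app F) ≪≫ ((ModDesc.trIso m a hma).app F).symm) hfl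
    rw [← hmq] at h2
    have h3 := (Groth.Agent.S9350.result m q G (QC.isQCoh_pullback _ inferInstance) z' (Flat.stalkMap m z')).2 h2
    exact hbad (hz' ▸ h3)
  have h4 : Dual3.resTrdeg q' z' < (n : Cardinal.{u}) := hT z' h1
  rw [← hmq, AlgSpLib.resTrdeg_comp] at h4
  refine hlt (lt_of_le_of_lt ?_ h4)
  refine le_trans (FlatFunLib.resTrdeg_le_of_specializes q hs hqz) (le_trans (le_of_eq ?_) le_self_add)
  rw [hz']

end Groth.Agent.S9028
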