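import Groth.Statements.S9029
import Groth.Agent.FlatFunLib.GenTrdeg
import Groth.Agent.FlatFunLib.GenRepBasic
import Groth.Agent.FlatFunLib.Flat
import Groth.Agent.S1393
import Groth.Agent.FibDepth.Global

set_option autoImplicit false
set_option backward.isDefEq.respectTransparency false
universe u
open FlatMor

namespace Groth.Agent.S9029

open CategoryTheory CategoryTheory.Limits AlgebraicGeometry Opposite TensorProduct

theorem isFlatOverAt_of_free {X T : Scheme.{u}} (q : X ⟶ T) [Flat q] (M : X.Modules) (hM : Coh.IsQCoh M) (x : X) (p : ℕ)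
    (h : FlatFun.IsFreeOfRankNear M p x) : FlatMod.IsFlatOverAt q M x := by
  obtain ⟨W, hxW, ⟨e⟩⟩ := h
  obtain ⟨b⟩ := LocFree.exists_basis_stalk e hM hxW
  letI : Algebra (T.presheaf.stalk (q x)) (X.presheaf.stalk x) := (q.stalkMap x).hom.toAlgebra
  letI := FlatMod.moduleStalkOver q M x
  haveI : IsScalarTower (T.presheaf.stalk (q x)) (X.presheaf.stalk x) (M.presheaf.stalk x) :=
    IsScalarTower.of_algebraMap_smul fun _ _ => rfl
  haveI : Module.Flat (T.presheaf.stalk (q x)) (X.presheaf.stalk x) := Flat.stalkMap q x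
  haveI : Module.Free (X.presheaf.stalk x) (M.presheaf.stalk x) := Module.Free.of_basis b
  exact Module.Flat.trans (T.presheaf.stalk (q x)) (X.presheaf.stalk x) (M.presheaf.stalk x)

theorem rank_le {X Y : Scheme.{u}} [IsAffine X] {F : X.Modules} [Coh.IsQCoh F] {c : ℕ} (σ : Fin c → Γ(F, ⊤))
    (hσ : Submodule.span Γ(X, ⊤) (Set.range σ) = ⊤) (a : Y ⟶ X) (y : Y) (n : ℕ) {W : Y.Opens}
    (e : ((Scheme.Modules.pullback a).obj F).restrict W.ι ≅ FlatMod.freeMod (↑W) n)
    (hq : Coh.IsQCoh ((Scheme.Modules.pullback a).obj F)) (hy : y ∈ W) : n ≤ c := by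
  obtain ⟨b⟩ := LocFree.exists_basis_stalk e hq hy
  let R := X.presheaf.stalk (a y)
  let L := Y.presheaf.stalk y
  letI : Algebra R L := (a.stalkMap y).hom.toAlgebra
  let eL : ((Scheme.Modules.pullback a).obj F).presheaf.stalk y ≃ₗ[L] L ⊗[R] F.presheaf.stalk (a y) :=
    ((KFlat.pullStalkIso a y).app F).toLinearEquiv
  let s : Fin c → L ⊗[R] F.presheaf.stalk (a y) := fun i => (1 : L) ⊗ₜ[R] WeakAssLib.mgerm F (Set.mem_univ _) (σ i)
  have hs : Submodule.span L (Set.range s) = ⊤ := by
    have hspan := LocFree.span_germ (isAffineOpen_top X) (M := F) inferInstance (x := a y) trivial σ hσ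
    have h := Submodule.baseChange_span (A := L) (R := R) (M := F.presheaf.stalk (a y))
      (Set.range fun i => WeakAssLib.mgerm F (Set.mem_univ (a y)) (σ i))
    rw [hspan, Submodule.baseChange_top, ← Set.range_comp] at h
    exact h.symm
  have h := finrank_range_le_card (R := L) s
  rw [Set.finrank, hs, finrank_top, Module.finrank_eq_card_basis (b.map eL)] at h
  simpa using h


open CategoryTheory CategoryTheory.Limits AlgebraicGeometry Opposite in
/-- Let X → S be a morphism of affine schemes which is smooth of relative dimension d with geometrically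
irreducible fibres, and F a quasi-coherent O_X-module of finite presentation. Then the functor F_d
(F_T flat over T in dimensions ≥ d) is the disjoint union, as a sheaf, of the functors H_p for p =
0, …, c for some c ≥ 0: there is c such that for every scheme T over S, the base change F_T on X ×_S
T is flat over T in dimensions ≥ d (every point where it is not flat over T has residue field of
transcendence degree less than d over that of its image) if and only if every point of T has an open
neighbourhood V in T and an integer p ≤ c such that F_V is free of rank p on a neighbourhood of the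
generic point of every fibre of X ×_S V → V. -/
theorem result {X S : Scheme.{u}} [IsAffine X] [IsAffine S] (f : X ⟶ S) (d : ℕ) [SmoothOfRelativeDimension d f]
    [GeometricallyIrreducible f] (F : X.Modules) [Coh.IsQCoh F] (hF : CohB1.IsFP F) :
    ∃ c : ℕ, ∀ T : Over S,
      (FlatFun.DimFibresLT d (PicF.XTproj f T)
        {x | ¬ FlatMod.IsFlatOverAt (PicF.XTproj f T) (FGA.ET f F T) x}) ↔
      ∀ t : T.left, ∃ (V : T.left.Opens) (p : ℕ), t ∈ V ∧ p ≤ c ∧
        FlatFun.FreeAtGenericPts (PicF.XTproj f (Over.mk (V.ι ≫ T.hom)))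
          (FGA.ET f F (Over.mk (V.ι ≫ T.hom))) p := by
  haveI : Smooth f := SmoothOfRelativeDimension.smooth d f
  haveI := LocFree.finitePresentation_sections_of_isFP (M := F) inferInstance hF (isAffineOpen_top X)
  obtain ⟨c, σ, hσ⟩ := Module.Finite.exists_fin (R := Γ(X, ⊤)) (M := Γ(F, ⊤))
  refine ⟨c, fun T => ?_⟩
  let q := PicF.XTproj f T
  haveI := smoothOfRelativeDimension_isStableUnderBaseChange d
  haveI : SmoothOfRelativeDimension d q := MorphismProperty.pullback_snd _ _ ‹_›
  haveI : Smooth q := SmoothOfRelativeDimension.smooth d q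
  haveI : GeometricallyIrreducible q := MorphismProperty.pullback_snd _ _ ‹_›
  haveI : IsAffineHom f := isAffineHom_of_isAffine f
  haveI : IsAffineHom q := MorphismProperty.pullback_snd _ _ ‹_›
  haveI : QuasiSeparated q := inferInstance
  have hq : Coh.IsQCoh (FGA.ET f F T) := QC.isQCoh_pullback _ inferInstance
  have hqfp : CohB1.IsFP (FGA.ET f F T) := ModDesc.isFP_pullback _ inferInstance hF
  constructor
  · intro h t
    obtain ⟨η, hηt, hη⟩ := FlatFunLib.exists_genericPt q t
    have hflat : FlatMod.IsFlatOverAt q (FGA.ET f F T) η := by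
      by_contra hn
      have h2 : Dual3.resTrdeg q η < (d : Cardinal.{u}) := h η hn
      rw [FlatFunLib.resTrdeg_genericPt d q hη] at h2
      exact lt_irrefl _ h2
    obtain ⟨W, n, hηW, ⟨e⟩⟩ := Groth.Agent.S1393.result q (FGA.ET f F T) hq hqfp η hflat (by
      letI := (FlatFunLib.isField_quotient_genericPt q hη).toField
      infer_instance)
    let V : T.left.Opens := ⟨q '' (W : Set _), q.isOpenMap _ W.2⟩
    refine ⟨V, n, ⟨η, hηW, hηt⟩, rank_le σ hσ _ η n e hq hηW, fun v => ?_⟩
    let T' : Over S := Over.mk (V.ι ≫ T.hom)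
    let g : T' ⟶ T := Over.homMk V.ι
    haveI : GeometricallyIrreducible (PicF.XTproj f T') := MorphismProperty.pullback_snd _ _ ‹_›
    obtain ⟨η', hη'v, hη'⟩ := FlatFunLib.exists_genericPt (PicF.XTproj f T') v
    obtain ⟨η₁, hη₁v, hη₁⟩ := FlatFunLib.exists_genericPt q (V.ι v)
    have hm : PicF.XTmap f g η' = η₁ := FlatFunLib.map_genericPt (HilbOne.isPullback_XTmap f g) hη' hη₁
      (by rw [hη'v]; exact hη₁v)
    obtain ⟨y, hyW, hy⟩ : V.ι v ∈ q '' (W : Set _) := v.2
    have hη₁W : η₁ ∈ W := (hη₁ y (hy.trans hη₁v.symm)).mem_open W.2 hyW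
    exact ⟨η', hη'v, hη', FlatFunLib.isFreeOfRankNear_of_iso (FGA.ETiso f F g)
      (FlatFunLib.isFreeOfRankNear_pullback _ _ n η' (by rw [hm]; exact ⟨W, hη₁W, ⟨e⟩⟩))⟩
  · intro h z hz
    by_contra hlt
    have hzgen : FlatFun.IsGenericPtOfFibre q z := FlatFunLib.isGenericPt_of_le_resTrdeg d q (not_lt.1 hlt)
    obtain ⟨V, p, htV, -, hV⟩ := h (q z)
    let T' : Over S := Over.mk (V.ι ≫ T.hom)
    let g : T' ⟶ T := Over.homMk V.ι
    haveI : Flat g.left := (inferInstance : Flat V.ι)
    haveI : Smooth (PicF.XTproj f T') := MorphismProperty.pullback_snd _ _ ‹_›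
    obtain ⟨x', hx't, hx', hfree⟩ := hV ⟨q z, htV⟩
    have hm : PicF.XTmap f g x' = z := FlatFunLib.map_genericPt (HilbOne.isPullback_XTmap f g) hx' hzgen
      (by rw [hx't]; rfl)
    refine hz ?_
    rw [← hm]
    exact FlatModBC.isFlatOverAt_of_baseChange (HilbOne.isPullback_XTmap f g) _ hq x' (Flat.stalkMap g.left _)
      (FlatLimMod.isFlatOverAt_of_iso _ (FGA.ETiso f F g).symm
        (isFlatOverAt_of_free (PicF.XTproj f T') _ (QC.isQCoh_pullback _ inferInstance) x' p hfree))

end Groth.Agent.S9029
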