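import Groth.Statements.S9032
import Groth.Agent.FlatDom.PointIdeal
import Groth.Agent.InjFibre.Stalk

set_option autoImplicit false
set_option backward.isDefEq.respectTransparency false
universe u
open FlatMor

namespace Groth.Agent.S9032

open CategoryTheory CategoryTheory.Limits AlgebraicGeometry Groth.Agent.FlatDom IsLocalRing

/-- Every module over a field is flat. -/
theorem flat_of_isField {R M : Type*} [CommRing R] [AddCommGroup M] [Module R M] (hR : IsField R) : Module.Flat R M :=
  letI := hR.toField
  inferInstance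

/-- Over the spectrum of a field everything is flat, so the ideal at a point lies in the maximal ideal. -/
theorem le_maximalIdeal {A : Type u} [CommRing A] [IsLocalRing A] {X : Scheme.{u}} (f : X ⟶ Spec (CommRingCat.of A))
    (F : X.Modules) (x : X) (I : Ideal A) (hI : IsPointIdeal f F x I) : I ≤ maximalIdeal A := by
  let R := CommRingCat.of (ResidueField A)
  let g : Spec R ⟶ Spec (CommRingCat.of A) := Spec.map (CommRingCat.ofHom (residue A))
  let t : Spec R := closedPoint (ResidueField A)
  have hgt : g t = closedPoint A := IsLocalRing.comap_closedPoint (residue A)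
  have hf : IsField ((Spec R).presheaf.stalk t) :=
    MulEquiv.isField (Field.toIsField (ResidueField A)) (stalkClosedPointIso R).commRingCatIsoToRingEquiv.toMulEquiv
  have key := (hI (Spec R) g t hgt).1 fun x' hx' _ => by
    have hf' : IsField ((Spec R).presheaf.stalk (pullback.snd f g x')) := by rw [hx']; exact hf
    letI := FlatMod.moduleStalkOver (pullback.snd f g) ((Scheme.Modules.pullback (pullback.fst f g)).obj F) x'
    show Module.Flat _ _
    exact flat_of_isField hf'
  intro a ha
  have h := congrArg (stalkClosedPointIso R).hom (key a ha)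
  rw [map_zero] at h
  have h2 : g.appTop.hom ((Scheme.ΓSpecIso (CommRingCat.of A)).inv.hom a) = (Scheme.ΓSpecIso R).inv.hom (residue A a) :=
    congr($(Scheme.ΓSpecIso_inv_naturality (CommRingCat.ofHom (residue A))).hom a).symm
  rw [h2] at h
  have h3 : (stalkClosedPointIso R).hom (((Spec R).presheaf.germ ⊤ t trivial) ((Scheme.ΓSpecIso R).inv (residue A a))) =
      residue A a :=
    (congr($(germ_stalkClosedPointIso_hom R).hom ((Scheme.ΓSpecIso R).inv (residue A a)))).trans
      ((Scheme.ΓSpecIso R).commRingCatIsoToRingEquiv.apply_symm_apply _)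
  exact (residue_eq_zero_iff a).1 (h3.symm.trans h)

/-- Near a point of the closed fibre, the ideals at points are contained in the ideal at the point. -/
theorem exists_nhd {A : Type u} [CommRing A] [IsLocalRing A] {X : Scheme.{u}} (f : X ⟶ Spec (CommRingCat.of A))
    [LocallyOfFinitePresentation f] (F : X.Modules) (hq : Coh.IsQCoh F) (hfp : CohB1.IsFP F)
    (x : X) (I : Ideal A) (hI : IsPointIdeal f F x I) (hx : f x = closedPoint A) :
    ∃ U : Set X, IsOpen U ∧ x ∈ U ∧ ∀ z ∈ U, ∀ J : Ideal A, IsPointIdeal f F z J → f z = closedPoint A → J ≤ I := by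
  have hle := le_maximalIdeal f F x I hI
  haveI : Nontrivial (A ⧸ I) := Ideal.Quotient.nontrivial_iff.2 (ne_top_of_le_ne_top (maximalIdeal.isMaximal A).ne_top hle)
  haveI : IsLocalRing (A ⧸ I) := IsLocalRing.of_surjective' _ Ideal.Quotient.mk_surjective
  haveI : IsLocalHom (Ideal.Quotient.mk I) := IsLocalHom.of_surjective _ Ideal.Quotient.mk_surjective
  let R := CommRingCat.of (A ⧸ I)
  let g : Spec R ⟶ Spec (CommRingCat.of A) := Spec.map (CommRingCat.ofHom (Ideal.Quotient.mk I))
  haveI : IsClosedImmersion g := IsClosedImmersion.spec_of_surjective _ Ideal.Quotient.mk_surjective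
  let t : Spec R := closedPoint (A ⧸ I)
  have hgt : g t = closedPoint A := IsLocalRing.comap_closedPoint (Ideal.Quotient.mk I)
  have hzero : ∀ a : A, (((Spec R).presheaf.germ ⊤ t trivial).hom
      (g.appTop.hom ((Scheme.ΓSpecIso (CommRingCat.of A)).inv.hom a)) = 0 ↔ a ∈ I) := by
    intro a
    have h2 : g.appTop.hom ((Scheme.ΓSpecIso (CommRingCat.of A)).inv.hom a) =
        (Scheme.ΓSpecIso R).inv.hom (Ideal.Quotient.mk I a) :=
      congr($(Scheme.ΓSpecIso_inv_naturality (CommRingCat.ofHom (Ideal.Quotient.mk I))).hom a).symm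
    rw [h2, ← Ideal.Quotient.eq_zero_iff_mem]
    refine ⟨fun h => ?_, fun h => by rw [h]; exact (congrArg _ (map_zero _)).trans (map_zero _)⟩
    have h := congrArg (stalkClosedPointIso R).hom h
    rw [map_zero] at h
    have h3 : (stalkClosedPointIso R).hom (((Spec R).presheaf.germ ⊤ t trivial) ((Scheme.ΓSpecIso R).inv (Ideal.Quotient.mk I a))) =
        Ideal.Quotient.mk I a :=
      (congr($(germ_stalkClosedPointIso_hom R).hom ((Scheme.ΓSpecIso R).inv (Ideal.Quotient.mk I a)))).trans
        ((Scheme.ΓSpecIso R).commRingCatIsoToRingEquiv.apply_symm_apply _)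
    exact h3.symm.trans h
  let p := pullback.fst f g
  let Lc : Set ↥(pullback f g) :=
    {x' | FlatMod.IsFlatOverAt (pullback.snd f g) ((Scheme.Modules.pullback p).obj F) x'}ᶜ
  have hL : IsClosed Lc := (InjFibre.isOpen_setOf_isFlatOverAt (pullback.snd f g) _ (QC.isQCoh_pullback p hq)
    (ModDesc.isFP_pullback p hq hfp)).isClosed_compl
  refine ⟨(p '' Lc)ᶜ, (p.isClosedEmbedding.isClosedMap _ hL).isOpen_compl, ?_, fun z hz J hJ _ a ha => ?_⟩
  · rintro ⟨x', hx', hxx⟩
    refine hx' ((hI (Spec R) g t hgt).2 (fun a ha => (hzero a).2 ha) x' ?_ hxx)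
    apply g.isClosedEmbedding.injective
    rw [hgt]
    refine Eq.trans ?_ ((congrArg f hxx).trans hx)
    rw [← Scheme.Hom.comp_apply, ← Scheme.Hom.comp_apply, pullback.condition]
  · refine (hzero a).1 ((hJ (Spec R) g t hgt).1 (fun x' _ hxz => ?_) a ha)
    by_contra hn
    exact hz ⟨x', hn, hxz⟩


open CategoryTheory CategoryTheory.Limits AlgebraicGeometry Opposite in
/-- Let A be a henselian local ring, s the closed point of S = Spec A, f : X → S a morphism locally of
finite type, F a quasi-coherent O_X-module of finite type and E a subset of the closed fibre X_s.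
Then there is a closed subscheme Z = V(I) of S with the following property: for every morphism of
pointed schemes (T, t) → (S, s), the base change F_T on X_T = X ×_S T is T-flat at each point over t
whose image in X lies in E if and only if Spec(O_{T,t}) → S factors through Z, that is, the map A →
O_{T,t} sends I to zero. Assume in addition that the morphism f is locally finitely presented, that
the module F is finitely presented, and that the subset E is both quasi-compact and closed; in that
case the closed immersion Z → S is finitely presented, meaning the ideal I is finitely generated. -/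
theorem result {A : Type u} [CommRing A] [HenselianLocalRing A] {X : Scheme.{u}} (f : X ⟶ Spec (CommRingCat.of A))
    [LocallyOfFiniteType f] (F : X.Modules) [Coh.IsQCoh F] (hF : CohB1.IsFT F)
    (E : Set X) (hE : ∀ x ∈ E, f.base x = IsLocalRing.closedPoint A) :
    ∃ I : Ideal A,
      (∀ (T : Scheme.{u}) (g : T ⟶ Spec (CommRingCat.of A)) (t : T), g.base t = IsLocalRing.closedPoint A →
        ((∀ x' : ↑(pullback f g), (pullback.snd f g).base x' = t → (pullback.fst f g).base x' ∈ E →
            FlatMod.IsFlatOverAt (pullback.snd f g) ((Scheme.Modules.pullback (pullback.fst f g)).obj F) x') ↔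
          ∀ a ∈ I, (T.presheaf.germ ⊤ t trivial).hom
            (g.appTop.hom ((Scheme.ΓSpecIso (CommRingCat.of A)).inv.hom a)) = 0)) ∧
      (LocallyOfFinitePresentation f → CohB1.IsFP F → IsClosed E → IsCompact E → I.FG) := by
  classical
  have hq : Coh.IsQCoh F := inferInstance
  choose! J hJ hJfg using fun x (hx : x ∈ E) => exists_pointIdeal f F hq hF x (hE x hx)
  refine ⟨⨆ x : E, J x, ?_, fun hlfp hfp _ hcpt => ?_⟩
  · intro T g t hgt
    let φ : A →+* T.presheaf.stalk t :=
      (T.presheaf.germ ⊤ t trivial).hom.comp (g.appTop.hom.comp (Scheme.ΓSpecIso (CommRingCat.of A)).inv.hom)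
    have h1 : (∀ a ∈ ⨆ x : E, J x, φ a = 0) ↔ ∀ x : E, ∀ a ∈ J x, φ a = 0 :=
      ⟨fun h x a ha => h a (le_iSup (fun x : E => J x) x ha), fun h a ha =>
        (iSup_le fun x => (fun b hb => RingHom.mem_ker.2 (h x b hb)) : (⨆ x : E, J x) ≤ RingHom.ker φ) ha⟩
    refine Iff.trans ?_ h1.symm
    exact ⟨fun h x => (hJ x.1 x.2 T g t hgt).1 fun x' h2 h3 => h x' h2 (by
        show pullback.fst f g x' ∈ E
        rw [h3]; exact x.2),
      fun h x' h2 h3 => (hJ _ h3 T g t hgt).2 (h ⟨_, h3⟩) x' h2 rfl⟩
  · haveI := hlfp
    choose! U hUo hxU hUJ using fun x (hx : x ∈ E) => exists_nhd f F hq hfp x (J x) (hJ x hx) (hE x hx)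
    obtain ⟨s, hs, hfin, hcov⟩ := hcpt.elim_finite_subcover_image (b := E) (c := U) hUo
      fun x hx => Set.mem_biUnion hx (hxU x hx)
    have hI : (⨆ x : E, J x) = ⨆ y ∈ hfin.toFinset, J y := by
      apply le_antisymm
      · refine iSup_le fun x => ?_
        obtain ⟨y, hy, hxy⟩ := Set.mem_iUnion₂.1 (hcov x.2)
        exact (hUJ y (hs hy) x.1 hxy (J x) (hJ x.1 x.2) (hE x.1 x.2)).trans
          (le_biSup J (hfin.mem_toFinset.2 hy))
      · exact iSup₂_le fun y hy => le_iSup (fun x : E => J x) ⟨y, hs (hfin.mem_toFinset.1 hy)⟩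
    rw [hI]
    exact Submodule.fg_biSup _ _ fun y hy => hJfg y (hs (hfin.mem_toFinset.1 hy)) hlfp hfp

end Groth.Agent.S9032
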