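import Groth.Statements.S9036
import Groth.Agent.CompactRetract.Finite
import Groth.Agent.ModSiteFree.Basic
import Groth.Agent.ModSiteGro.Basic
import Groth.Agent.S9103

set_option autoImplicit false
set_option backward.isDefEq.respectTransparency false
set_option backward.isDefEq.respectTransparency.types false
universe u
open CategoryTheory CategoryTheory.Limits Opposite
open ModSite

namespace Groth.Agent.S9036

/-- Let (C, O) be a ringed site in which every object has a covering by quasi-compact objects (an object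
U is called quasi-compact here when the sheaf h_U^# is a quasi-compact object of the topos, which is
equivalent to the site-level definition). Then every compact object of D(O) is a retract in D(O) of
the image of a bounded complex whose terms are finite direct sums of modules of the form j_{U!} O_U
with U quasi-compact. The derived category of O-modules, direct sums in it and finite biproducts of
O-modules (automatic) are instance hypotheses. -/
theorem result
    {C : Type u} [SmallCategory C] {J : GrothendieckTopology C} (O : Sheaf J CommRingCat.{u})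
    [HasFiniteBiproducts (ModSite.Mod O)]
    [HasDerivedCategory.{u} (ModSite.Mod O)] [HasCoproducts.{u} (DerivedCategory (ModSite.Mod O))]
    (hC : ∀ V : C, ∃ R ∈ J V, ∀ ⦃W : C⦄ (g : W ⟶ V), R g →
      ∃ (U : C) (a : W ⟶ U) (b : U ⟶ V), CohCx.IsQcObject ((presheafToSheaf J (Type u)).obj (yoneda.obj U)) ∧ a ≫ b = g)
    (K : DerivedCategory (ModSite.Mod O)) (hK : CohDer.IsCompactObject K) :
    ∃ (L : CochainComplex (ModSite.Mod O) ℤ) (a b : ℤ),
      (∀ i : ℤ, i < a ∨ b < i → IsZero (L.X i)) ∧
      (∀ i : ℤ, ∃ (n : ℕ) (U : Fin n → C),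
        (∀ j, CohCx.IsQcObject ((presheafToSheaf J (Type u)).obj (yoneda.obj (U j)))) ∧
        Nonempty (L.X i ≅ ⨁ fun j => ModSite.freeOn O (U j))) ∧
      Nonempty (Retract K (DerivedCategory.Q.obj L)) := by
  have := Groth.Agent.ModSiteGro.isGrothendieckAbelian (ModSite.ringSh O)
  let G : Set C := {U | CohCx.IsQcObject ((presheafToSheaf J (Type u)).obj (yoneda.obj U))}
  let S : Set (ModSite.Mod O) := {M | ∃ U ∈ G, ModSite.freeOn O U = M}
  have hsep := Groth.Agent.ModSiteFree.isSeparating_freeOn (O := O) G fun V => by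
    obtain ⟨R, hR, hR'⟩ := hC V
    refine ⟨Σ U : G, (U : C) ⟶ V, fun p => p.1, fun p => p.2, J.superset_covering ?_ hR, fun p => p.1.2⟩
    intro W g hg
    obtain ⟨U, a, b, hU, rfl⟩ := hR' g hg
    exact (Sieve.mem_ofArrows_iff ..).mpr ⟨⟨⟨U, hU⟩, b⟩, a, rfl⟩
  obtain ⟨L, a, b, h₁, h₂, h₃⟩ := Groth.Agent.CompactRetract.exists_finite_retract (S := S) (fun X => by
    refine ⟨Σ U : G, ModSite.freeOn O (U : C) ⟶ X, fun p => ModSite.freeOn O (p.1 : C),
      Sigma.desc fun p => p.2, fun p => ⟨p.1, p.1.2, rfl⟩, ⟨fun {Z} f g h => hsep f g fun Y hY k => ?_⟩⟩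
    obtain ⟨U⟩ := hY
    have h' := Sigma.ι (fun p : Σ U : G, ModSite.freeOn O (U : C) ⟶ X => ModSite.freeOn O (p.1 : C)) ⟨U, k⟩ ≫= h
    rwa [Sigma.ι_desc_assoc, Sigma.ι_desc_assoc] at h')
    (by rintro _ ⟨U, hU, rfl⟩ ι; exact Groth.Agent.S9103.result O U hU ι) K hK
  refine ⟨L, a, b, h₁, fun i => ?_, h₃⟩
  obtain ⟨n, E, hE, ⟨e⟩⟩ := h₂ i
  choose U hU hUE using hE
  exact ⟨n, U, hU, ⟨e ≪≫ biproduct.mapIso fun j => eqToIso (hUE j).symm⟩⟩

end Groth.Agent.S9036
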