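import Groth.Statements.S9037
import Groth.Agent.CompactProj.Basic
import Groth.Agent.ModSiteFree.Basic
import Groth.Agent.ModSiteGro.Basic
import Groth.Agent.SiteCoh.Weakly
import Groth.Agent.S9103

set_option autoImplicit false
set_option backward.isDefEq.respectTransparency false
set_option backward.isDefEq.respectTransparency.types false
universe u
open CategoryTheory CategoryTheory.Limits Opposite
open ModSite

namespace Groth.Agent.S9037

/-- On a ringed site (C, O), if U is a quasi-compact object (h_U^# is a quasi-compact object of the
topos, which is equivalent to the site-level notion) which is weakly contractible, then j_{U!} O_U,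
placed in degree zero, is a compact object of the derived category D(O). The derived category of
O-modules and direct sums in it are instance hypotheses. -/
theorem result
    {C : Type u} [SmallCategory C] {J : GrothendieckTopology C} (O : Sheaf J CommRingCat.{u})
    [HasDerivedCategory.{u} (ModSite.Mod O)] [HasCoproducts.{u} (DerivedCategory (ModSite.Mod O))]
    (U : C) (hqc : CohCx.IsQcObject ((presheafToSheaf J (Type u)).obj (yoneda.obj U)))
    (hwc : CohSite.IsWeaklyContractible J U) :
    CohDer.IsCompactObject ((DerivedCategory.singleFunctor (ModSite.Mod O) 0).obj (ModSite.freeOn O U)) := by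
  have := Groth.Agent.ModSiteGro.isGrothendieckAbelian (ModSite.ringSh O)
  let r := Groth.Agent.ModSiteFree.freeOnCorep O U
  have : Projective (ModSite.freeOn O U) := ⟨fun {E X} f e _ => by
    haveI : Epi ((SheafOfModules.toSheaf (ModSite.ringSh O)).map e) := inferInstance
    obtain ⟨s, hs⟩ := Groth.Agent.SiteCoh.surjective_of_weaklyContractible hwc
      ((SheafOfModules.toSheaf (ModSite.ringSh O)).map e) (r.homEquiv f)
    refine ⟨r.homEquiv.symm s, r.homEquiv.injective ?_⟩
    rw [r.homEquiv_comp, Equiv.apply_symm_apply]
    exact hs⟩
  exact Groth.Agent.CohDerTri.isCompactObject_of_iso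
    (((SingleFunctors.evaluation _ _ (0 : ℤ)).mapIso (DerivedCategory.singleFunctorsPostcompQIso (ModSite.Mod O))).app
      (ModSite.freeOn O U)).symm
    (Groth.Agent.CompactProj.isCompactObject_single (ModSite.freeOn O U) (fun ι => Groth.Agent.S9103.result O U hqc ι) 0)

end Groth.Agent.S9037
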