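import Groth.Statements.S9038


set_option autoImplicit false
universe u
open Topology
open CohTop

namespace Groth.Agent.S9038

/-- In the category of Hausdorff locally quasi-compact spaces, call a family of continuous maps f_i :
X_i → X a qc covering when every point of X has a neighbourhood of the form ⋃_{i ∈ t} f_i(E_i) with
t a finite set of indices and E_i ⊆ X_i quasi-compact. If (f_i : X_i → X) is a qc covering and for
each i the family (g_{ij} : X_{ij} → X_i)_j is a qc covering, then the family of composites X_{ij} →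
X, indexed by the pairs (i, j), is a qc covering. -/
theorem result
    {B : Type u} [TopologicalSpace B] [T2Space B] [LocallyCompactSpace B]
    {ι : Type u} {X : ι → Type u} [∀ i, TopologicalSpace (X i)] [∀ i, T2Space (X i)]
    [∀ i, LocallyCompactSpace (X i)]
    (f : ∀ i, X i → B) (hf : ∀ i, Continuous (f i))
    (hcov : ∀ x : B, ∃ (t : Finset ι) (E : ∀ i, Set (X i)),
      (∀ i ∈ t, IsCompact (E i)) ∧ (⋃ i ∈ t, f i '' E i) ∈ 𝓝 x)
    {κ : ι → Type u} {Y : ∀ i, κ i → Type u} [∀ i j, TopologicalSpace (Y i j)] [∀ i j, T2Space (Y i j)]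
    [∀ i j, LocallyCompactSpace (Y i j)]
    (g : ∀ i j, Y i j → X i) (hg : ∀ i j, Continuous (g i j))
    (hcov' : ∀ (i : ι) (x : X i), ∃ (t : Finset (κ i)) (E : ∀ j, Set (Y i j)),
      (∀ j ∈ t, IsCompact (E j)) ∧ (⋃ j ∈ t, g i j '' E j) ∈ 𝓝 x) :
    ∀ x : B, ∃ (t : Finset (Σ i, κ i)) (E : ∀ p : (Σ i, κ i), Set (Y p.1 p.2)),
      (∀ p ∈ t, IsCompact (E p)) ∧ (⋃ p ∈ t, f p.1 '' (g p.1 p.2 '' E p)) ∈ 𝓝 x := by
  classical
  have key : ∀ (i : ι) (K : Set (X i)), IsCompact K → ∃ (t : Finset (κ i)) (E : ∀ j, Set (Y i j)),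
      (∀ j, IsCompact (E j)) ∧ K ⊆ ⋃ j ∈ t, g i j '' E j := by
    intro i K hK
    refine hK.induction_on ?_ ?_ ?_ ?_
    · exact ⟨∅, fun _ => ∅, fun _ => isCompact_empty, Set.empty_subset _⟩
    · rintro s s' hss ⟨t, E, hE, h⟩
      exact ⟨t, E, hE, hss.trans h⟩
    · rintro s s' ⟨t, E, hE, h⟩ ⟨t', E', hE', h'⟩
      refine ⟨t ∪ t', fun j => E j ∪ E' j, fun j => (hE j).union (hE' j), ?_⟩
      rintro y (hy | hy)
      · obtain ⟨j, hj, w, hw, rfl⟩ := Set.mem_iUnion₂.1 (h hy)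
        exact Set.mem_iUnion₂.2 ⟨j, Finset.mem_union_left _ hj, w, Or.inl hw, rfl⟩
      · obtain ⟨j, hj, w, hw, rfl⟩ := Set.mem_iUnion₂.1 (h' hy)
        exact Set.mem_iUnion₂.2 ⟨j, Finset.mem_union_right _ hj, w, Or.inr hw, rfl⟩
    · intro y _
      obtain ⟨t, E, hE, h⟩ := hcov' i y
      refine ⟨_, mem_nhdsWithin_of_mem_nhds h, t, fun j => if j ∈ t then E j else ∅, fun j => ?_, ?_⟩
      · dsimp only; split_ifs with hj
        · exact hE j hj
        · exact isCompact_empty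
      · exact Set.iUnion₂_mono fun j hj => by simp only [if_pos hj]; exact Set.Subset.rfl
  intro x
  obtain ⟨t, E, hE, hx⟩ := hcov x
  choose s F hF hsub using fun i : t => key i.1 (E i.1) (hE i.1 i.2)
  refine ⟨t.sigma fun i => if h : i ∈ t then s ⟨i, h⟩ else ∅,
    fun p => if h : p.1 ∈ t then F ⟨p.1, h⟩ p.2 else ∅, fun p hp => ?_, Filter.mem_of_superset hx ?_⟩
  · beta_reduce
    rw [dif_pos (Finset.mem_sigma.1 hp).1]
    exact hF _ _
  · intro y hy
    obtain ⟨i, hi, w, hw, rfl⟩ := Set.mem_iUnion₂.1 hy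
    obtain ⟨j, hj, hwj⟩ := Set.mem_iUnion₂.1 (hsub ⟨i, hi⟩ hw)
    refine Set.mem_iUnion₂.2 ⟨⟨i, j⟩, Finset.mem_sigma.2 ⟨hi, by rw [dif_pos hi]; exact hj⟩, w, ?_, rfl⟩
    beta_reduce
    rw [dif_pos hi]
    exact hwj

end Groth.Agent.S9038
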