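import Groth.Statements.S9063
import Groth.Agent.TorsSh.Derived
import Groth.Agent.TorsSh.FullyFaithful

set_option autoImplicit false
universe u
open CategoryTheory CategoryTheory.Limits Opposite
attribute [local instance] HasDerivedCategory.standard
open SiteCmp

namespace Groth.Agent.S9063

/-- Let C be a site and A ⊂ Ab(C) the Serre subcategory of torsion abelian sheaves. Then the functor
from D(A) to D_A(C) gives an equivalence: the canonical functor D(A) → D(Ab(C)) induced by the exact
inclusion is fully faithful, and a complex lies in its essential image exactly when every cohomology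
sheaf of it is torsion. That torsion abelian sheaves form a Serre subcategory is carried as an
instance hypothesis. -/
theorem result
    {C : Type u} [SmallCategory C] (J : GrothendieckTopology C)
    [(SiteCmp.torsionSh J).IsSerreClass] :
    (WSerre.toDerived (SiteCmp.torsionSh J)).Full ∧ (WSerre.toDerived (SiteCmp.torsionSh J)).Faithful ∧
      ∀ K : DerivedCategory (Sheaf J AddCommGrpCat.{u}),
        WSerre.cohIn (SiteCmp.torsionSh J) K ↔ (WSerre.toDerived (SiteCmp.torsionSh J)).essImage K := by
  have h : Groth.Agent.TorsSh.CounitComputes (Groth.Agent.TorsSh.torsAdj J) :=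
    fun P => Groth.Agent.TorsSh.exists_rep J P
  refine ⟨Groth.Agent.TorsSh.full_mapDerived h, Groth.Agent.TorsSh.faithful_mapDerived h, fun K => ⟨fun hK => ?_, ?_⟩⟩
  · let e₀ : DerivedCategory.Q.obj _ ≅ K :=
      (DerivedCategory.Q : _ ⥤ DerivedCategory (Sheaf J AddCommGrpCat.{u})).objObjPreimageIso K
    obtain ⟨I, g, hI, hg, -, hinj⟩ := Groth.Agent.KInj.exists_kInjective
      ((DerivedCategory.Q : _ ⥤ DerivedCategory (Sheaf J AddCommGrpCat.{u})).objPreimage K)
    haveI : IsIso (DerivedCategory.Q.map g) := (DerivedCategory.isIso_Q_map_iff_quasiIso _ g).2 hg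
    let e : K ≅ DerivedCategory.Q.obj I := e₀.symm ≪≫ asIso (DerivedCategory.Q.map g)
    have hH : ∀ n, SiteCmp.IsTorsionSh J (I.homology n) := fun n =>
      (SiteCmp.torsionSh J).prop_of_iso ((DerivedCategory.homologyFunctor _ n).mapIso e ≪≫
        (DerivedCategory.homologyFunctorFactors _ n).app I) (hK n)
    have hq := Groth.Agent.TorsSh.quasiIso_torsCxι J I hinj hH
    haveI : IsIso (DerivedCategory.Q.map (Groth.Agent.TorsSh.torsCxι J I)) :=
      (DerivedCategory.isIso_Q_map_iff_quasiIso _ _).2 hq
    exact ⟨DerivedCategory.Q.obj (Groth.Agent.TorsSh.torsCx J I),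
      ⟨(SiteCmp.torsionSh J).ι.mapDerivedCategoryFactors.app _ ≪≫
        asIso (DerivedCategory.Q.map (Groth.Agent.TorsSh.torsCxι J I)) ≪≫ e.symm⟩⟩
  · rintro ⟨Y, ⟨e⟩⟩ n
    exact (SiteCmp.torsionSh J).prop_of_iso ((Groth.Agent.WayOut.mapDerivedHomologyIso _ Y n).symm ≪≫
      (DerivedCategory.homologyFunctor _ n).mapIso e) ((DerivedCategory.homologyFunctor _ n).obj Y).property

end Groth.Agent.S9063
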