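import Groth.Statements.S9071
import Groth.Agent.RPushSite.Eps

set_option autoImplicit false
universe u
open CategoryTheory CategoryTheory.Limits Opposite
attribute [local instance] HasDerivedCategory.standard
open SiteCmp

namespace Groth.Agent.S9071

/-- Let τ' be a coarser topology than τ on a category C, O a τ-sheaf of rings and ε the comparison
morphism from (C_τ, O) to (C_τ', O). Let B be a set of objects and A a full subcategory of
presheaves of O-modules such that (1) every object of A is a τ-sheaf, (2) A forms a weak Serre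
subcategory inside Mod(O_τ), (3) each object of C admits a τ'-covering by members of B, and (4)
H^p_τ(U, F) = 0 for U ∈ B, F ∈ A, p > 0. Then the essential image of A under ε_* forms a weak Serre
subcategory inside Mod(O_τ') and ε^*, Rε_* are quasi-inverse equivalences between D_A(O_τ') and
D_A(O_τ): on objects with cohomology sheaves in the respective subcategory, ε^* and Rε_* preserve
that condition and the unit and counit are isomorphisms. In the order of topologies used here the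
finer topology τ is the larger one, J, and τ' is J' ≤ J; A is given as a property of τ-sheaves of
modules (condition (1) built in); flatness of ε, existence of the unbounded Rε_* and an adjunction
ε^* ⊣ Rε_* are hypotheses. -/
theorem result
    {C : Type u} [SmallCategory C] {J J' : GrothendieckTopology C} (h : J' ≤ J) (O : Sheaf J CommRingCat.{u})
    [PreservesFiniteLimits (SiteCmp.eps h O).pull] [SiteCmp.HasRpushD (SiteCmp.eps h O)]
    (adj : SiteCmp.pullD (SiteCmp.eps h O) ⊣ SiteCmp.RpushD (SiteCmp.eps h O))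
    (A : ObjectProperty (ModSite.Mod O)) [WSerre.IsWeakSerre A] (B : Set C)
    (h3 : ∀ U : C, ∃ (ι : Type u) (Y : ι → C) (g : ∀ i, Y i ⟶ U), Sieve.ofArrows Y g ∈ J' U ∧ ∀ i, Y i ∈ B)
    (h4 : ∀ U ∈ B, ∀ F : ModSite.Mod O, A F → ∀ p : ℕ, 0 < p → Subsingleton (ModSite.HU O F p U)) :
    WSerre.IsWeakSerre (A.map (SiteCmp.eps h O).push) ∧
    (∀ Y : DerivedCategory (ModSite.Mod (SiteCmp.epsRing h O)), WSerre.cohIn (A.map (SiteCmp.eps h O).push) Y →
      WSerre.cohIn A ((SiteCmp.pullD (SiteCmp.eps h O)).obj Y) ∧ IsIso (adj.unit.app Y)) ∧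
    (∀ X : DerivedCategory (ModSite.Mod O), WSerre.cohIn A X →
      WSerre.cohIn (A.map (SiteCmp.eps h O).push) ((SiteCmp.RpushD (SiteCmp.eps h O)).obj X) ∧
      IsIso (adj.counit.app X)) := by
  haveI : IsGrothendieckAbelian.{u} (ModSite.Mod O) := Groth.Agent.KFlat.isGrothendieck O
  haveI hW := Groth.Agent.RPushSite.isWeakSerre_map_eps h O A B h3 h4
  refine ⟨hW, ?_⟩
  let f := SiteCmp.eps h O
  haveI : IsIso f.adj.counit := Adjunction.counit_isIso_of_R_fully_faithful f.adj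
  let A' := A.map f.push
  have k : ∀ F' : ModSite.Mod (SiteCmp.epsRing h O), A' F' → ∃ F, A F ∧ Nonempty (f.pull.obj F' ≅ F) :=
    fun F' ⟨F, hF, ⟨i⟩⟩ => ⟨F, hF, ⟨f.pull.mapIso i.symm ≪≫ asIso (f.adj.counit.app F)⟩⟩
  have h2a : ∀ F', A' F' → A (f.pull.obj F') := fun F' hF' => by
    obtain ⟨F, hF, ⟨i⟩⟩ := k F' hF'
    exact A.prop_of_iso i.symm hF
  have h2c : ∀ F, A F → ∃ F', A' F' ∧ Nonempty (f.pull.obj F' ≅ F) := fun F hF =>
    ⟨f.push.obj F, A.prop_map_obj _ hF, ⟨asIso (f.adj.counit.app F)⟩⟩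
  have h2b : ∀ F' G', A' F' → A' G' → Function.Bijective (fun φ : F' ⟶ G' => f.pull.map φ) := by
    rintro F' G' - ⟨G, -, ⟨j⟩⟩
    haveI : IsIso (f.adj.unit.app G') := by
      have h0 : IsIso (f.adj.unit.app (f.push.obj G)) :=
        IsIso.of_isIso_fac_right (f.adj.right_triangle_components G)
      exact (NatTrans.isIso_app_iff_of_iso f.adj.unit j).1 h0
    have e : (fun φ : F' ⟶ G' => f.pull.map φ) =
        (f.adj.homEquiv F' (f.pull.obj G')).symm ∘ (fun φ => φ ≫ f.adj.unit.app G') := by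
      funext φ
      simp [Adjunction.homEquiv_counit]
    rw [e]
    refine (Equiv.bijective _).comp ⟨fun a b hab => (cancel_mono _).1 hab, fun y =>
      ⟨y ≫ inv (f.adj.unit.app G'), by simp⟩⟩
  have hu := fun F' hF' => Groth.Agent.RPushSite.isIso_unit_eps h O A B h3 h4 adj F' hF'
  refine Groth.Agent.RPushSite.equivalence_cohIn f adj A A' h2a h2b h2c hu fun X hX => ?_
  have hR := fun F hF p => Groth.Agent.RPushSite.rpush_of_equivalence f adj A A' h2c hu F hF p
  have hB : ∀ U : C, ∃ (ι : Type u) (Y : ι → C) (g : ∀ i, Y i ⟶ U), Sieve.ofArrows Y g ∈ J U ∧ ∀ i, Y i ∈ B :=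
    fun U => by
      obtain ⟨ι, Y, g, h1, h2⟩ := h3 U
      exact ⟨ι, Y, g, h U h1, h2⟩
  have hA : ∀ V ∈ B, ∃ d : ℕ, ∀ T ∈ J V, ∃ (ι : Type u) (Y : ι → C) (g : ∀ i, Y i ⟶ V), (∀ i, T.arrows (g i)) ∧
      Sieve.ofArrows Y g ∈ J V ∧ ∀ (i : ι) (F : ModSite.Mod O), A F → ∀ k : ℕ, d < k →
        Subsingleton (ModSite.HU O F k (Y i)) := fun V _ => ⟨0, fun T hT => by
    obtain ⟨ι, Y, g, h1, h2, hY⟩ := Groth.Agent.HDU.exists_refinement_in B hB T hT
    exact ⟨ι, Y, g, h1, h2, fun i F hF k hk => h4 _ (hY i) F hF k hk⟩⟩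
  have hA' : ∀ V ∈ B, ∃ d : ℕ, ∀ T ∈ J' V, ∃ (ι : Type u) (Y : ι → C) (g : ∀ i, Y i ⟶ V), (∀ i, T.arrows (g i)) ∧
      Sieve.ofArrows Y g ∈ J' V ∧ ∀ (i : ι) (F : ModSite.Mod O), A F → ∀ k : ℕ, d < k →
        Subsingleton (ModSite.HU O F k (f.fn.obj (Y i))) := fun V _ => ⟨0, fun T hT => by
    obtain ⟨ι, Y, g, h1, h2, hY⟩ := Groth.Agent.HDU.exists_refinement_in B h3 T hT
    exact ⟨ι, Y, g, h1, h2, fun i F hF k hk => h4 _ (hY i) F hF k hk⟩⟩
  have hiso := fun (n : ℕ) (j : ℤ) (hj : -(n : ℤ) ≤ j) =>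
    Groth.Agent.RPushSite.isIso_homology_rpush_trunc f A B B hB hA X hX 0
      (fun F hF p hp => (hR F hF p).2 hp) h3 hA' n j (by omega)
  refine ⟨fun j => ?_, hiso⟩
  obtain ⟨n, hn⟩ : ∃ n : ℕ, -(n : ℤ) ≤ j := ⟨(-j).toNat, by omega⟩
  haveI := hiso n j hn
  refine A'.prop_of_iso (asIso ((DerivedCategory.homologyFunctor (ModSite.Mod (SiteCmp.epsRing h O)) j).map
    ((SiteCmp.RpushD f).map (CohCx.toTruncTower X n)))).symm ?_
  refine Groth.Agent.RPushSite.cohIn_rpush_boundedBelow f A A' (fun F hF p => (hR F hF p).1) _ (-(n : ℤ))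
    (Groth.Agent.HDU.isGE_truncGE X _) (fun i => ?_) j
  rcases le_or_gt (-(n : ℤ)) i with hi | hi
  · haveI := Groth.Agent.HDU.isIso_H_truncGEπ X _ i hi
    exact A.prop_of_iso (asIso ((DerivedCategory.homologyFunctor (ModSite.Mod O) i).map
      (CohCx.toTruncTower X n))) (hX i)
  · obtain ⟨Z, hZ, hPZ⟩ := A.exists_prop_of_containsZero
    haveI : (CohCx.truncTower X n).IsGE (-(n : ℤ)) := Groth.Agent.HDU.isGE_truncGE X _
    exact A.prop_of_iso (hZ.iso (DerivedCategory.isZero_of_isGE _ _ i hi)) hPZ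

end Groth.Agent.S9071
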