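import Groth.Statements.S9084
import Groth.Agent.KFlat.Site

set_option autoImplicit false
universe u
open CategoryTheory
open ModSite

namespace Groth.Agent.S9084

open CategoryTheory.Limits in
/-- Part (2): direct-sum clause, on a small ringed site (C, O) with O commutative: a direct sum of flat
O-modules is flat. Stated for any colimiting cofan of a family of O-modules indexed by a small type;
flat means that tensoring with the module is exact. -/
theorem result {C : Type u} [SmallCategory C] {J : GrothendieckTopology C}
    (O : Sheaf J CommRingCat.{u}) {ι : Type u} (F : ι → ModSite.Mod O)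
    (hF : ∀ i, ModSite.IsFlat (F i)) (c : Cofan F) (hc : IsColimit c) : ModSite.IsFlat c.pt := by
  have := Groth.Agent.KFlat.isGrothendieck O
  rw [← Groth.Agent.KFlat.flatObj_iff O]
  exact Groth.Agent.KFlat.flatObj_of_isColimit
    (fun X => (Groth.Agent.KFlat.preservesColimits_left O X).preservesColimitsOfShape) hc
    fun j => (Groth.Agent.KFlat.flatObj_iff O _).2 (hF j.as)

end Groth.Agent.S9084
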