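import Groth.Statements.S9096
import Groth.Agent.HomColim.Main

set_option autoImplicit false
universe u
open CategoryTheory
open ModSite

namespace Groth.Agent.S9096

open CategoryTheory.Limits in
/-- On a small ringed site (C, O) with O commutative: let F be an O-module of finite presentation, with
internal hom functor Hom_O(F, -) (the right adjoint of - ⊗_O F, available under the binder). Then
Hom_O(F, -) commutes with filtered colimits: for every small filtered diagram of O-modules the
canonical comparison map from the colimit of the internal homs to the internal hom into the colimit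
is an isomorphism. -/
theorem result {C : Type u} [SmallCategory C] {J : GrothendieckTopology C}
    (O : Sheaf J CommRingCat.{u}) (F : ModSite.Mod O) [ModSite.HasSheafHom F]
    [SheafOfModules.IsFinitePresentation (R := ModSite.ringSh O) F] {Λ : Type u} [SmallCategory Λ] [IsFiltered Λ] (D : Λ ⥤ ModSite.Mod O) :
    PreservesColimit D (ModSite.sheafHom F) := by
  obtain ⟨q, hq⟩ := SheafOfModules.IsFinitePresentation.exists_quasicoherentData F
  haveI : IsGrothendieckAbelian.{u} (ModSite.Mod O) := KFlat.isGrothendieck O
  refine HomColim.preservesColimit_of_coversTop (ModSite.sheafHom F) D q.X q.coversTop fun i => ?_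
  haveI : ∀ G : ModSite.Mod (O.over (q.X i)), ModSite.HasSheafHom G := fun G => ModSiteTensor.hasSheafHom G
  have hfin := hq.isFinite_presentation i
  haveI : IsGrothendieckAbelian.{u} (ModSite.Mod (O.over (q.X i))) := KFlat.isGrothendieck (O.over (q.X i))
  obtain ⟨e⟩ := ModSiteExt.nonempty_restrSheafHomIso O (q.X i) F
  haveI : PreservesColimitsOfSize.{u, u} (ModSite.restr O (q.X i)) :=
    ModSiteFlat.preservesColimits_pushforward (F := Over.forget (q.X i)) _
  haveI := @HomColim.preservesColimit_presentation _ _ _ _ inferInstance _ _ _ (D ⋙ ModSite.restr O (q.X i))
    ((ModSite.restr O (q.X i)).obj F) (q.presentation i) hfin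
  exact preservesColimit_of_natIso D e.symm

end Groth.Agent.S9096
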