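import Groth.Statements.S9097
import Mathlib.CategoryTheory.Sites.LocallyBijective
import Mathlib.CategoryTheory.Sites.LeftExact

set_option autoImplicit false
universe u
open CategoryTheory Opposite Limits
open CohSite

namespace Groth.Agent.S9097

/-- If 0 → A → B → C → 0 is short exact in the category of abelian groups then, for every object U, the
sequence 0 → A̲(U) → B̲(U) → C̲(U) → 0 of sections of the constant abelian sheaves is short exact;
in other words the sequence of constant sheaves is exact even as a sequence of abelian presheaves.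
The instance binder on the sections-of-constant-sheaf functor (it preserves zero morphisms) always
holds and is only needed to form the complex. -/
theorem result {C : Type u} [SmallCategory C] (J : GrothendieckTopology C)
    (S : ShortComplex AddCommGrpCat.{u}) (hS : S.ShortExact) (U : C)
    [(constantSheaf J AddCommGrpCat.{u} ⋙ (sheafSections J AddCommGrpCat.{u}).obj (op U)).PreservesZeroMorphisms] :
    (S.map (constantSheaf J AddCommGrpCat.{u} ⋙ (sheafSections J AddCommGrpCat.{u}).obj (op U))).ShortExact := by
  have := hS.mono_f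
  have := hS.epi_g
  let P := fun A : AddCommGrpCat.{u} => (Functor.const Cᵒᵖ).obj A
  let η := fun A : AddCommGrpCat.{u} => Functor.whiskerRight (toSheafify J (P A)) (forget AddCommGrpCat.{u})
  have hW : ∀ A (G : Sheaf J (Type u)), Function.Bijective
      fun t : sheafify J (P A) ⋙ forget AddCommGrpCat.{u} ⟶ G.obj => η A ≫ t :=
    fun A G => J.W_of_isLocallyBijective (η A) _ G.property
  obtain ⟨σ, hσ⟩ := ((AddCommGrpCat.epi_iff_surjective S.g).mp inferInstance).hasRightInverse
  let U' := (sheafCompose J (forget AddCommGrpCat.{u}))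
  let s₀ : P S.X₃ ⋙ forget AddCommGrpCat.{u} ⟶ sheafify J (P S.X₂) ⋙ forget AddCommGrpCat.{u} :=
    { app := fun V => ↾fun c => (toSheafify J (P S.X₂)).app V (σ c)
      naturality := fun V W a => by
        ext c
        exact NatTrans.naturality_apply (toSheafify J (P S.X₂)) a (σ c) }
  obtain ⟨s, hs⟩ := (hW S.X₃ (U'.obj ((presheafToSheaf J _).obj (P S.X₂)))).2 s₀
  let g := ((constantSheaf J AddCommGrpCat.{u}).map S.g).hom
  have hnat : ∀ V (b : S.X₂), g.app V ((toSheafify J (P S.X₂)).app V b) = (toSheafify J (P S.X₃)).app V (S.g b) :=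
    fun V b => (ConcreteCategory.congr_hom
      (NatTrans.congr_app (toSheafify_naturality J ((Functor.const Cᵒᵖ).map S.g)) V) b).symm
  have hsg : s ≫ Functor.whiskerRight g (forget AddCommGrpCat.{u}) = 𝟙 _ := by
    refine (hW S.X₃ (U'.obj ((presheafToSheaf J _).obj (P S.X₃)))).1 ?_
    ext V c
    refine (congr_arg (g.app V) (ConcreteCategory.congr_hom (NatTrans.congr_app hs V) c)).trans ?_
    exact (hnat V (σ c)).trans (congr_arg _ (hσ c))
  let G := constantSheaf J AddCommGrpCat.{u} ⋙ (sheafSections J AddCommGrpCat.{u}).obj (op U)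
  have : PreservesFiniteLimits (Functor.const Cᵒᵖ : AddCommGrpCat.{u} ⥤ _) := inferInstance
  have : PreservesFiniteLimits (constantSheaf J AddCommGrpCat.{u}) := comp_preservesFiniteLimits _ _
  have : PreservesFiniteLimits ((sheafSections J AddCommGrpCat.{u}).obj (op U)) :=
    inferInstanceAs (PreservesFiniteLimits (sheafToPresheaf J AddCommGrpCat.{u} ⋙
      (evaluation Cᵒᵖ AddCommGrpCat.{u}).obj (op U)))
  have : PreservesFiniteLimits G := comp_preservesFiniteLimits _ _
  exact { exact := ShortComplex.exact_of_f_is_kernel _ (KernelFork.mapIsLimit _ hS.fIsKernel G)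
          mono_f := inferInstanceAs (Mono (G.map S.f))
          epi_g := (AddCommGrpCat.epi_iff_surjective _).mpr fun x =>
            ⟨s.app (op U) x, ConcreteCategory.congr_hom (NatTrans.congr_app hsg (op U)) x⟩ }

end Groth.Agent.S9097
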