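import Groth.Statements.S9109
import Mathlib
open CategoryTheory.Limits

set_option autoImplicit false
universe u
open CategoryTheory CategoryTheory.Limits
open CohSite

namespace Groth.Agent.S9109

section
open CategoryTheory CategoryTheory.Limits

theorem epi_piMap (ι : Type u) {X Y : AddCommGrpCat.{u}} (f : X ⟶ Y) [Epi f] :
    Epi (Limits.Pi.map (fun _ : ι => f)) := by
  rw [AddCommGrpCat.epi_iff_surjective]
  intro y
  have hs := (AddCommGrpCat.epi_iff_surjective f).1 ‹_›
  choose g hg using hs
  let e := Concrete.productEquiv (fun _ : ι => X)
  let e' := Concrete.productEquiv (fun _ : ι => Y)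
  refine ⟨e.symm fun i => g (e' y i), e'.injective (funext fun i => ?_)⟩
  simp only [e, e', Concrete.productEquiv_apply_apply]
  rw [← ConcreteCategory.comp_apply, Limits.Pi.map_π, ConcreteCategory.comp_apply, Concrete.productEquiv_symm_apply_π, hg]

end


/-- Part (1): on a small site (C, J) with a point p: the skyscraper functor p_* from abelian groups to
abelian sheaves on C (right adjoint to the stalk functor at p; its value on A is the sheaf U ↦ ∏_{x
∈ p⁻¹U} A) is exact. As a right adjoint it preserves limits; the statement here is that it also
preserves finite colimits. -/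
theorem result {C : Type u} [SmallCategory C] {J : GrothendieckTopology C}
    (p : GrothendieckTopology.Point.{u} J) :
    PreservesFiniteColimits (p.skyscraperSheafFunctor (A := AddCommGrpCat.{u})) := by
  let S := p.skyscraperSheafFunctor (A := AddCommGrpCat.{u})
  haveI : PreservesFiniteLimits S := inferInstance
  haveI : S.Additive := by
    exact Functor.additive_of_preserves_binary_products S
  haveI : S.PreservesEpimorphisms := ⟨fun {X Y} f hf => by
    haveI : Epi ((p.skyscraperPresheafFunctor (A := AddCommGrpCat.{u})).map f) := by
      haveI : ∀ W, Epi (((p.skyscraperPresheafFunctor (A := AddCommGrpCat.{u})).map f).app W) := fun W =>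
        epi_piMap (p.fiber.obj W.unop) f
      exact NatTrans.epi_of_epi_app _
    exact @Sheaf.Hom.epi_of_presheaf_epi _ _ _ _ _ _ _ (S.map f) this⟩
  haveI : S.PreservesHomology := Functor.preservesHomology_of_preservesEpis_and_kernels S
  exact S.preservesFiniteColimits_of_preservesHomology

end Groth.Agent.S9109
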