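import Groth.Statements.S9112
import Mathlib
import Groth.Prelude.Def_ModSite2
import Groth.Agent.CohQC.ToSheafExact

set_option autoImplicit false
universe u
open CategoryTheory
open ModSite

namespace Groth.Agent.S9112

/-- Part (1): on a small ringed site (C, O) with O commutative, for a point p of the site: the stalk
functor F ↦ F_p from O-modules to O_p-modules is exact. Stated on a short exact sequence 0 → F₁ → F₂
→ F₃ → 0 of O-modules: the induced O_p-linear map F₁,p → F₂,p is injective, F₂,p → F₃,p is
surjective, and the range of the first is the kernel of the second. -/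
theorem result {C : Type u} [SmallCategory C] {J : GrothendieckTopology C}
    (O : Sheaf J CommRingCat.{u}) (S : ShortComplex (ModSite.Mod O)) (hS : S.ShortExact)
    (p : GrothendieckTopology.Point.{u} J) :
    Function.Injective (ModSite.stalkMap p S.f).hom ∧ Function.Surjective (ModSite.stalkMap p S.g).hom ∧
      LinearMap.range (ModSite.stalkMap p S.f).hom = LinearMap.ker (ModSite.stalkMap p S.g).hom := by
  let G := SheafOfModules.toSheaf (ModSite.ringSh O) ⋙ p.sheafFiber (A := AddCommGrpCat.{u})
  haveI : Limits.PreservesFiniteLimits (SheafOfModules.toSheaf (ModSite.ringSh O)) := inferInstance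
  haveI : Limits.PreservesFiniteColimits (SheafOfModules.toSheaf (ModSite.ringSh O)) := inferInstance
  haveI : Limits.PreservesFiniteLimits G := Limits.comp_preservesFiniteLimits _ _
  haveI : Limits.PreservesFiniteColimits G := Limits.comp_preservesFiniteColimits _ _
  haveI : G.Additive := Functor.additive_of_preserves_binary_products G
  have h : (S.map G).ShortExact := hS.map_of_exact G
  have h' := (S.map G).ab_exact_iff_range_eq_ker.1 h.exact
  haveI := h.mono_f
  haveI := h.epi_g
  refine ⟨(AddCommGrpCat.mono_iff_injective _).1 h.mono_f, (AddCommGrpCat.epi_iff_surjective _).1 h.epi_g,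
    Submodule.toAddSubgroup_injective ?_⟩
  exact h'

end Groth.Agent.S9112
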