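import Groth.Statements.S9121
import Groth.Agent.SiteCoh.PushAcyclic
import Mathlib.CategoryTheory.Sites.EpiMono

set_option autoImplicit false
universe u
open CategoryTheory CategoryTheory.Limits
open CohSite

namespace Groth.Agent.S9121

/-- Part (1): for the morphism of topoi f : Sh(C) → Sh(D) attached to a continuous functor u : D ⥤ C
between small sites whose induced pullback of sheaves of sets is exact (f_* is restriction along u):
if f_* transforms epimorphisms of sheaves of sets into epimorphisms, then f_* on abelian sheaves is
exact; being a right adjoint it preserves finite limits, and the statement is that it also preserves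
finite colimits. -/
theorem result {C D : Type u} [SmallCategory C] [SmallCategory D]
    (J : GrothendieckTopology C) (K : GrothendieckTopology D) (u : D ⥤ C) [u.IsContinuous K J]
    [PreservesFiniteLimits (u.sheafPullback (Type u) K J)]
    [(u.sheafPushforwardContinuous (Type u) K J).PreservesEpimorphisms] :
    PreservesFiniteColimits (u.sheafPushforwardContinuous AddCommGrpCat.{u} K J) := by
  let R := u.sheafPushforwardContinuous AddCommGrpCat.{u} K J
  have : R.Additive := inferInstanceAs ((CohSite.push J K u).Additive)
  have : PreservesLimitsOfSize.{0, 0} R := inferInstance
  have : R.PreservesEpimorphisms := by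
    refine ⟨fun {X Y} f _ => ?_⟩
    have h1 : Epi ((sheafCompose J (forget AddCommGrpCat.{u})).map f) := by
      rw [← Sheaf.isLocallySurjective_iff_epi']
      have : Sheaf.IsLocallySurjective f := (Sheaf.isLocallySurjective_iff_epi' _ _).mpr inferInstance
      exact (Presheaf.isLocallySurjective_iff_whisker_forget J f.hom).1 this
    have h2 : Epi ((u.sheafPushforwardContinuous (Type u) K J).map
        ((sheafCompose J (forget AddCommGrpCat.{u})).map f)) := Functor.map_epi _ _
    have h3 : Epi ((sheafCompose K (forget AddCommGrpCat.{u})).map (R.map f)) := h2
    rw [← Sheaf.isLocallySurjective_iff_epi'] at h3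
    have : Sheaf.IsLocallySurjective (R.map f) :=
      (Presheaf.isLocallySurjective_iff_whisker_forget K (R.map f).hom).2 h3
    exact (Sheaf.isLocallySurjective_iff_epi' _ _).mp this
  have : PreservesFiniteLimits R := inferInstance
  have := Functor.preservesHomology_of_preservesEpis_and_kernels R
  exact Functor.preservesFiniteColimits_of_preservesHomology R

end Groth.Agent.S9121
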