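import Groth.Statements.S9128
import Groth.Agent.Catenary.Ring
import Groth.Agent.DeltaZ.Scheme
import Groth.Agent.CMFlat.Quotient

set_option autoImplicit false
universe u
open CAlg

namespace Groth.Agent.S9128

/-- A Noetherian local ring A is catenary if and only if the assignment sending a prime p to the Krull
dimension of A/p is a dimension function on Spec A, i.e. it decreases strictly along strict
inclusions of primes and drops by exactly one along inclusions with no prime strictly in between. -/
theorem result (A : Type u) [CommRing A] [IsNoetherianRing A]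
    [IsLocalRing A] :
    CAlg.IsCatenary A ↔
      ∀ p q : PrimeSpectrum A, p < q →
        ringKrullDim (A ⧸ q.asIdeal) < ringKrullDim (A ⧸ p.asIdeal) ∧
          (p ⋖ q → ringKrullDim (A ⧸ p.asIdeal) = ringKrullDim (A ⧸ q.asIdeal) + 1) := by
  have hq : ∀ x : PrimeSpectrum A, ∃ n : ℕ, ringKrullDim (A ⧸ x.asIdeal) = (n : WithBot ℕ∞) ∧ Order.coheight x = n := fun x => by
    haveI : Nontrivial (A ⧸ x.asIdeal) := Ideal.Quotient.nontrivial_iff.mpr x.2.ne_top
    haveI : IsLocalRing (A ⧸ x.asIdeal) := IsLocalRing.of_surjective' _ Ideal.Quotient.mk_surjective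
    obtain ⟨n, hn⟩ := Groth.Agent.SerreReg.exists_dim_nat (A ⧸ x.asIdeal)
    refine ⟨n, hn, ?_⟩
    rw [Groth.Agent.DeltaZ.ringKrullDim_quotient_eq_coheight, ← WithBot.coe_natCast, WithBot.coe_inj] at hn
    exact hn
  choose n hn hn' using hq
  constructor
  · intro hA p q hlt
    obtain ⟨h1, h2⟩ := Groth.Agent.DeltaZ.dimFun_coheight hA p q ((PrimeSpectrum.le_iff_specializes _ _).mp hlt.le) hlt.ne
    rw [hn' p, hn' q, ENat.toNat_natCast, ENat.toNat_natCast] at h1 h2
    rw [hn p, hn q]
    refine ⟨by exact_mod_cast h1, fun hcov => ?_⟩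
    have h3 := h2 fun z hz1 hz2 => by
      rcases eq_or_lt_of_le ((PrimeSpectrum.le_iff_specializes _ _).mpr hz1) with h | h
      · exact Or.inl h.symm
      rcases eq_or_lt_of_le ((PrimeSpectrum.le_iff_specializes _ _).mpr hz2) with h' | h'
      · exact Or.inr h'
      exact (hcov.2 h h').elim
    exact_mod_cast h3
  · intro h
    haveI : FiniteRingKrullDim A := inferInstance
    obtain ⟨N, hN⟩ := Groth.Agent.SerreReg.exists_dim_nat A
    have hle : ∀ x, n x ≤ N := fun x => by
      have := ringKrullDim_le_of_surjective (Ideal.Quotient.mk x.asIdeal) Ideal.Quotient.mk_surjective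
      rw [hn x, hN] at this
      exact_mod_cast this
    have h' : ∀ a b, a < b → n b < n a ∧ (a ⋖ b → n a = n b + 1) := fun a b hab => by
      have h3 := h a b hab
      rw [hn a, hn b] at h3
      exact ⟨by exact_mod_cast h3.1, fun hc => by exact_mod_cast h3.2 hc⟩
    refine Groth.Agent.Catenary.isCat_of_grade fun _ => ⟨fun x => N - n x, fun a b hab _ => ?_, fun a b hab _ => ?_⟩
    · have h3 := h' a b hab
      have := hle a
      show N - n a < N - n b
      omega
    · have h3 := (h' a b hab.lt).2 hab
      have := hle a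
      show N - n b = N - n a + 1
      omega

end Groth.Agent.S9128
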