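import Groth.Statements.S9129
import Groth.Agent.CMFlat.Scheme

set_option autoImplicit false
universe u
open CAlg

namespace Groth.Agent.S9129

/-- Suppose R → S is a flat local homomorphism between Noetherian local rings, with R Cohen–Macaulay.
Assume either that S is finite over R or that the Krull dimension of S is at most that of R. Then
the two rings have equal dimension and S is itself Cohen–Macaulay. -/
theorem result (R S : Type u) [CommRing R] [CommRing S]
    [LocCoh.IsCohenMacaulayLocalRing R] [IsNoetherianRing S] [IsLocalRing S] [Algebra R S]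
    [IsLocalHom (algebraMap R S)] [Module.Flat R S]
    (h : Module.Finite R S ∨ ringKrullDim S ≤ ringKrullDim R) :
    LocCoh.IsCohenMacaulayLocalRing S ∧ ringKrullDim R = ringKrullDim S := by
  haveI : Nontrivial (S ⧸ (IsLocalRing.maximalIdeal R).map (algebraMap R S)) := Ideal.Quotient.nontrivial_iff.mpr
    fun h => (IsLocalRing.maximalIdeal.isMaximal S).ne_top (top_le_iff.mp (h.ge.trans CMFlat.map_le))
  obtain ⟨c, e, hc, he, hce⟩ := CMFlat.dims (R := R) (S := S)
  have he0 : e = 0 := by
    rcases h with h | h
    · haveI := h
      haveI : Module.Finite (R ⧸ IsLocalRing.maximalIdeal R) (S ⧸ (IsLocalRing.maximalIdeal R).map (algebraMap R S)) :=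
        Module.Finite.of_restrictScalars_finite R _ _
      letI : Field (R ⧸ IsLocalRing.maximalIdeal R) := Ideal.Quotient.field _
      haveI : IsArtinianRing (S ⧸ (IsLocalRing.maximalIdeal R).map (algebraMap R S)) :=
        IsArtinianRing.of_finite (R ⧸ IsLocalRing.maximalIdeal R) _
      have h0 : ringKrullDim (S ⧸ (IsLocalRing.maximalIdeal R).map (algebraMap R S)) = 0 :=
        ringKrullDimZero_iff_ringKrullDim_eq_zero.mp inferInstance
      exact_mod_cast he.symm.trans h0
    · rw [hc, hce] at h
      have : c + e ≤ c := by exact_mod_cast h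
      omega
  obtain ⟨h1, h2⟩ := CMFlat.isCohenMacaulayLocalRing_iff_of_dim_zero (R := R) (S := S) (by rw [he, he0]; rfl)
  exact ⟨h1.mpr inferInstance, h2.symm⟩

end Groth.Agent.S9129
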