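import Groth.Statements.S9130
import Groth.Agent.DimFormula.Rel
import Mathlib.RingTheory.AlgebraicIndependent.Transcendental
import Mathlib.RingTheory.Ideal.MinimalPrime.Noetherian

set_option autoImplicit false
universe u
open CAlg Groth.Agent

namespace Groth.Agent.S9130

/-- Let A ⊆ B be domains with B of finite type over A and A Noetherian, and assume every element of B is
algebraic over A. For a height-one prime p of A, only finitely many primes of B lie over p and each
of them has height one. (The published statement assumes that Frac(B) is finite over Frac(A); this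
row assumes B algebraic over A, which is equivalent for a finite type extension of domains.) -/
theorem result (A B : Type u) [CommRing A] [IsDomain A]
    [IsNoetherianRing A] [CommRing B] [IsDomain B] [Algebra A B] [FaithfulSMul A B]
    [Algebra.FiniteType A B] [Algebra.IsAlgebraic A B] (p : Ideal A) [p.IsPrime]
    (hp : p.height = 1) :
    (p.primesOver B).Finite ∧ ∀ q ∈ p.primesOver B, q.height = 1 := by
  classical
  haveI : IsNoetherianRing B := Algebra.FiniteType.isNoetherianRing A B
  have hu : (⊥ : Ideal B).under A = ⊥ :=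
    (RingHom.injective_iff_ker_eq_bot _).mp (FaithfulSMul.algebraMap_injective A B)
  have hr0 : Unibranch.rdim A (⊥ : Ideal B) = 0 := by
    have h := Unibranch.natCast_rdim (A := A) (⊥ : Ideal B)
    haveI : Algebra.IsAlgebraic (A ⧸ (⊥ : Ideal B).under A) (B ⧸ (⊥ : Ideal B)) := by
      refine ⟨fun z => ?_⟩
      obtain ⟨b, rfl⟩ := Ideal.Quotient.mk_surjective z
      obtain ⟨f, hf0, hf⟩ := Algebra.IsAlgebraic.isAlgebraic (R := A) b
      refine ⟨f.map (Ideal.Quotient.mk _), (Polynomial.map_ne_zero_iff ?_).mpr hf0, ?_⟩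
      · rw [RingHom.injective_iff_ker_eq_bot, Ideal.mk_ker, hu]
      · rw [Polynomial.aeval_def, Polynomial.eval₂_map]
        have e : (algebraMap (A ⧸ (⊥ : Ideal B).under A) (B ⧸ (⊥ : Ideal B))).comp (Ideal.Quotient.mk _) =
            (Ideal.Quotient.mk (⊥ : Ideal B)).comp (algebraMap A B) := RingHom.ext fun _ => rfl
        rw [e, ← Polynomial.hom_eval₂, ← Polynomial.aeval_def, hf, map_zero]
    rw [trdeg_eq_zero] at h
    exact_mod_cast h
  have hh : ∀ {C : Type u} [CommRing C] (J I : Ideal C), J = ⊥ → (I.map (Ideal.Quotient.mk J)).height = I.height := by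
    intro C _ J I hJ
    subst hJ
    exact RingEquiv.height_map (RingEquiv.quotientBot C).symm I
  have hne : ∀ q ∈ p.primesOver B, q ≠ ⊥ := by
    rintro q ⟨hq, hl⟩ rfl
    rw [hl.over, hu, Ideal.height_bot] at hp
    exact zero_ne_one hp
  have hone : ∀ q ∈ p.primesOver B, q.height = 1 := by
    intro q hq
    have hne' := hne q hq
    haveI := hq.1
    obtain ⟨a, c, ha, hc, hle⟩ :=
      DimFormula.exists_rel_dimension_inequality (A := A) (⊥ : Ideal B) q bot_le
    rw [hh _ q rfl] at ha
    rw [hh _ _ hu, ← hq.2.over, hp] at hc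
    have hc1 : c = 1 := by exact_mod_cast hc.symm
    have h1 : 1 ≤ a := by
      have := Ideal.height_strict_mono_of_isPrime_of_isPrime (bot_lt_iff_ne_bot.mpr hne')
      rw [Ideal.height_bot, ha] at this
      have : (0 : ℕ∞) < (a : ℕ∞) := this
      exact_mod_cast this
    rw [ha]
    norm_cast
    omega
  refine ⟨(Ideal.finite_minimalPrimes_of_isNoetherianRing B (p.map (algebraMap A B))).subset ?_, hone⟩
  intro q hq
  haveI := hq.1
  refine ⟨⟨hq.1, Ideal.map_le_iff_le_comap.mpr (le_of_eq hq.2.over)⟩, fun r hr hle => ?_⟩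
  haveI := hr.1
  by_contra hcon
  have hlt : r < q := lt_of_le_not_ge hle hcon
  have hrp : r ∈ p.primesOver B := ⟨hr.1, ⟨le_antisymm (Ideal.map_le_iff_le_comap.mp hr.2)
    (le_trans (Ideal.comap_mono hle) (le_of_eq hq.2.over.symm))⟩⟩
  have := Ideal.height_strict_mono_of_isPrime_of_isPrime hlt
  rw [hone q hq, hone r hrp] at this
  exact lt_irrefl _ this

end Groth.Agent.S9130
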