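import Groth.Statements.S9131
import Groth.Agent.MLMod.LiftFlat
import Groth.Agent.AdicBasics.Exact

set_option autoImplicit false
universe u
open CAlg Groth.Agent

namespace Groth.Agent.S9131

/-- Let R be a ring, I an ideal, and 0 → K → P → M → 0 a short exact sequence of R-modules with M flat
over R and M/IM projective over R/I. Then the induced sequence of I-adic completions is split short
exact: the map on completions of K → P is injective, the sequence is exact in the middle, and the
map on completions of P → M has a section linear over the completion of R (so it is surjective). -/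
theorem result (R : Type u) [CommRing R] (I : Ideal R)
    (K P M : Type u) [AddCommGroup K] [Module R K] [AddCommGroup P] [Module R P]
    [AddCommGroup M] [Module R M] (f : K →ₗ[R] P) (g : P →ₗ[R] M)
    (hf : Function.Injective f) (hg : Function.Surjective g) (hfg : Function.Exact f g)
    [Module.Flat R M] [Module.Projective (R ⧸ I) (M ⧸ (I • ⊤ : Submodule R M))] :
    Function.Injective (AdicCompletion.map I f) ∧
      Function.Exact (AdicCompletion.map I f) (AdicCompletion.map I g) ∧
      ∃ s : AdicCompletion I M →ₗ[AdicCompletion I R] AdicCompletion I P,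
        AdicCompletion.map I g ∘ₗ s = LinearMap.id := by
  obtain ⟨h1, h2, -⟩ := AdicBasics.map_shortExact_of_shift I f g hf hg hfg 0
    (fun n k hk => AdicBasics.mem_smul_of_flat_quotient f g hf hg hfg (I ^ n) k hk)
  refine ⟨h1, h2, ?_⟩
  obtain ⟨s, hs⟩ := MLMod.exists_completion_section' I g hg
  have hlin : ∀ (r : AdicCompletion I R) x, s (r • x) = r • s x := by
    intro r x
    refine AdicCompletion.ext fun k => ?_
    obtain ⟨r₀, hr₀⟩ := Submodule.Quotient.mk_surjective _ (r.val k)
    have hsc : ∀ (N : Type u) [AddCommGroup N] [Module R N] (y : AdicCompletion I N),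
        (r • y).val k = (r₀ • y).val k := by
      intro N _ _ y
      obtain ⟨y₀, hy₀⟩ := Submodule.Quotient.mk_surjective _ (y.val k)
      rw [AdicCompletion.smul_eval, AdicCompletion.val_smul_apply, ← hr₀, ← hy₀]
      rfl
    have h0 : (r • x - r₀ • x).val k = 0 := by
      rw [AdicCompletion.val_sub_apply, hsc M x, sub_self]
    have h3 := (hs _ k).2 h0
    rw [map_sub, AdicCompletion.val_sub_apply, sub_eq_zero] at h3
    rw [h3, hsc P (s x)]
    exact congrArg (fun z : AdicCompletion I P => z.val k) (map_smul s r₀ x)
  refine ⟨{ toFun := s, map_add' := map_add s, map_smul' := hlin }, LinearMap.ext fun x =>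
    AdicCompletion.ext fun k => ?_⟩
  show (AdicCompletion.map I g (s x)).val k = x.val k
  rw [AdicCompletion.map_val_apply]
  exact (hs x k).1

end Groth.Agent.S9131
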