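import Groth.Statements.S9132
import Mathlib.RingTheory.Valuation.LocalSubring
import Mathlib.RingTheory.Ideal.KrullsHeightTheorem
import Mathlib.RingTheory.Localization.AsSubring
import Mathlib.RingTheory.EssentialFiniteness
import Mathlib.RingTheory.Adjoin.FG

set_option autoImplicit false
universe u
open CAlg

namespace Groth.Agent.S9132

/-- A Noetherian local domain R that is not a field is dominated by a Noetherian local ring R' of
dimension one lying between R and its fraction field, with R' essentially of finite type over R. -/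
theorem result (R : Type u) [CommRing R] [IsDomain R]
    [IsNoetherianRing R] [IsLocalRing R] (hR : ¬ IsField R) :
    ∃ R' : Subalgebra R (FractionRing R), ∃ _ : IsLocalRing R',
      IsNoetherianRing R' ∧ ringKrullDim R' = 1 ∧ IsLocalHom (algebraMap R R') ∧
        Algebra.EssFiniteType R R' := by
  classical
  let K := FractionRing R
  obtain ⟨V₀, hV₀, hloc⟩ := IsLocalRing.exists_factor_valuationRing (algebraMap R K)
  have hlt₀ : ∀ a ∈ IsLocalRing.maximalIdeal R, V₀.valuation (algebraMap R K a) < 1 := by
    intro a ha
    refine (V₀.valuation_lt_one_iff ⟨_, hV₀ a⟩).mp ?_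
    exact fun hu ↦ (IsLocalRing.mem_maximalIdeal a).mp ha (hloc.map_nonunit a hu)
  obtain ⟨s, hs⟩ := (IsNoetherian.noetherian (IsLocalRing.maximalIdeal R) : (IsLocalRing.maximalIdeal R).FG)
  have hsne : s.Nonempty := by
    rw [Finset.nonempty_iff_ne_empty]
    rintro rfl
    simp at hs
    exact hR (IsLocalRing.isField_iff_maximalIdeal_eq.mpr hs.symm)
  obtain ⟨x, hxs, hxmax⟩ := s.exists_max_image (fun y ↦ V₀.valuation (algebraMap R K y)) hsne
  have hsm : ∀ y ∈ s, y ∈ IsLocalRing.maximalIdeal R := fun y hy ↦ hs ▸ Ideal.subset_span hy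
  have hinj := IsFractionRing.injective R K
  have hx0 : algebraMap R K x ≠ 0 := by
    intro h
    have h0 : IsLocalRing.maximalIdeal R = ⊥ := by
      rw [← hs, Submodule.span_eq_bot]
      intro y hy
      have := hxmax y hy
      rw [h, map_zero, le_zero_iff, Valuation.zero_iff, map_eq_zero_iff _ hinj] at this
      exact this
    exact hR (IsLocalRing.isField_iff_maximalIdeal_eq.mpr h0)
  let T : Set K := (fun y ↦ algebraMap R K y / algebraMap R K x) '' s
  let B : Subalgebra R K := Algebra.adjoin R T
  have hBV : ∀ b ∈ B, b ∈ V₀ := by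
    intro b hb
    induction hb using Algebra.adjoin_induction with
    | mem z hz =>
      obtain ⟨y, hy, rfl⟩ := hz
      rw [← V₀.valuation_le_one_iff, map_div₀]
      exact div_le_one_of_le₀ (hxmax y hy) zero_le
    | algebraMap r => exact hV₀ r
    | add z w _ _ hz hw => exact add_mem hz hw
    | mul z w _ _ hz hw => exact mul_mem hz hw
  have hfg : B.FG := Subalgebra.fg_def.mpr ⟨T, (s.finite_toSet.image _), rfl⟩
  haveI : IsNoetherianRing B := isNoetherianRing_of_fg hfg
  haveI : Algebra.FiniteType R B := (Subalgebra.fg_iff_finiteType B).1 hfg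
  let xB : B := algebraMap R B x
  have hxB : Ideal.span {xB} ≠ ⊤ := by
    rw [Ne, Ideal.span_singleton_eq_top]
    intro hu
    obtain ⟨w, hw⟩ := isUnit_iff_exists_inv.mp hu
    have h1 : V₀.valuation (algebraMap R K x * (w : K)) = 1 := by
      rw [show algebraMap R K x * (w : K) = 1 from congrArg Subtype.val hw, map_one]
    rw [map_mul] at h1
    exact (lt_of_le_of_lt (mul_le_of_le_one_right' ((V₀.valuation_le_one_iff _).mpr
      (hBV _ w.2))) (hlt₀ x (hsm x hxs))).ne h1
  obtain ⟨P, hP⟩ := Ideal.nonempty_minimalPrimes hxB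
  haveI : P.IsPrime := hP.1.1
  have hPh : P.height ≤ 1 := Ideal.height_le_one_of_isPrincipal_of_mem_minimalPrimes _ P hP
  have hxP : xB ∈ P := hP.1.2 (Ideal.mem_span_singleton_self _)
  have hPbot : P ≠ ⊥ := fun h => by
    have hx1 : xB ∈ (⊥ : Ideal B) := h ▸ hxP
    exact hx0 (congrArg (Subtype.val : B → K) (Ideal.mem_bot.mp hx1))
  haveI : IsFractionRing B K := by
    refine IsFractionRing.of_field _ K fun z ↦ ?_
    obtain ⟨p, q, _, rfl⟩ := IsFractionRing.div_surjective (A := R) z
    exact ⟨algebraMap R B p, algebraMap R B q, rfl⟩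
  let C : Subalgebra B K := Localization.subalgebra.ofField K P.primeCompl P.primeCompl_le_nonZeroDivisors
  haveI : IsLocalization.AtPrime C P := Localization.subalgebra.isLocalization_ofField K P.primeCompl P.primeCompl_le_nonZeroDivisors
  haveI : IsNoetherianRing C := IsLocalization.isNoetherianRing P.primeCompl C inferInstance
  haveI hCl : IsLocalRing C := IsLocalization.AtPrime.isLocalRing C P
  refine ⟨C.restrictScalars R, hCl, (inferInstanceAs (IsNoetherianRing C) : _), ?_, ?_, ?_⟩
  · show ringKrullDim C = 1
    refine (IsLocalization.AtPrime.ringKrullDim_eq_height P C).trans ?_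
    have h1 : P.height = 1 := by
      refine le_antisymm hPh (Order.one_le_iff_pos.mpr (pos_iff_ne_zero.mpr fun h => hPbot ?_))
      exact Ideal.height_eq_zero_iff_eq_bot.mp h

    rw [h1]; rfl
  · refine ⟨fun a ha => ?_⟩
    by_contra hna
    have ham : a ∈ IsLocalRing.maximalIdeal R := hna
    have haP : algebraMap R B a ∈ P := by
      rw [← hs] at ham
      clear ha hna
      induction ham using Submodule.span_induction with
      | mem y hy =>
        have hmem : algebraMap R K y / algebraMap R K x ∈ B := Algebra.subset_adjoin ⟨y, hy, rfl⟩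
        have e : algebraMap R B y = (⟨_, hmem⟩ : B) * xB := Subtype.ext (div_mul_cancel₀ _ hx0).symm
        exact e ▸ P.mul_mem_left _ hxP
      | zero => simp
      | add y z _ _ hy hz => rw [map_add]; exact add_mem hy hz
      | smul r y _ hy => rw [smul_eq_mul, map_mul]; exact P.mul_mem_left _ hy
    have := (IsLocalization.AtPrime.to_map_mem_maximal_iff C P (algebraMap R B a)).mpr haP
    exact (IsLocalRing.mem_maximalIdeal _).mp this ha
  · haveI : Algebra.EssFiniteType B C := Algebra.EssFiniteType.of_isLocalization C P.primeCompl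
    exact (Algebra.EssFiniteType.comp R B C : Algebra.EssFiniteType R C)

end Groth.Agent.S9132
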