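import Groth.Statements.S9133
import Groth.Agent.KALen.Basic
import Mathlib.RingTheory.Artinian.Ring
import Mathlib.LinearAlgebra.Dimension.Free
import Mathlib.RingTheory.Ideal.Over
import Mathlib.RingTheory.KrullDimension.Field

set_option autoImplicit false
universe u
open CAlg Groth.Agent

namespace Groth.Agent.S9133

/-- Let R → S be a homomorphism of domains compatible with field maps K → L of their fraction fields (so
R → S is injective), where R is Noetherian local of dimension one and L is finite over K. Then each
prime n of S whose contraction to R is the maximal ideal of R is a maximal ideal of S, only finitely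
many such n exist, and each quotient S/n is a finite R-module (its residue field is a finite
extension of that of R). -/
theorem result (R S K L : Type u)
    [CommRing R] [IsDomain R] [IsNoetherianRing R] [IsLocalRing R] (hdim : ringKrullDim R = 1)
    [CommRing S] [IsDomain S] [Algebra R S] [Field K] [Field L] [Algebra R K] [IsFractionRing R K]
    [Algebra S L] [IsFractionRing S L] [Algebra K L] [Algebra R L] [IsScalarTower R K L]
    [IsScalarTower R S L] [FiniteDimensional K L] :
    (∀ n ∈ (IsLocalRing.maximalIdeal R).primesOver S, n.IsMaximal) ∧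
      ((IsLocalRing.maximalIdeal R).primesOver S).Finite ∧
      ∀ n ∈ (IsLocalRing.maximalIdeal R).primesOver S, Module.Finite R (S ⧸ n) := by
  classical
  haveI : Ring.KrullDimLE 1 R := Ring.krullDimLE_iff.mpr (by rw [hdim]; rfl)
  obtain ⟨a, ham, ha⟩ : ∃ a ∈ IsLocalRing.maximalIdeal R, a ≠ 0 := by
    refine Submodule.exists_mem_ne_zero_of_ne_bot fun h => ?_
    have hF : IsField R := IsLocalRing.isField_iff_maximalIdeal_eq.mpr h
    letI := hF.toField
    rw [ringKrullDim_eq_zero_of_field] at hdim
    exact zero_ne_one hdim
  let r := Module.finrank K L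
  let ι : S →ₗ[R] (Fin r → K) := ((Module.finBasis K L).equivFun.restrictScalars R).toLinearMap ∘ₗ (IsScalarTower.toAlgHom R S L).toLinearMap
  have hι : Function.Injective ι := ((Module.finBasis K L).equivFun.injective).comp (IsFractionRing.injective S L)
  have hlen := KALen.length_le ι hι ha
  let I : Ideal S := Ideal.span {algebraMap R S a}
  have hrange : LinearMap.range (LinearMap.lsmul R S a) = I.restrictScalars R := by
    ext x
    rw [Submodule.restrictScalars_mem, Ideal.mem_span_singleton']
    constructor
    · rintro ⟨y, rfl⟩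
      exact ⟨y, by rw [LinearMap.lsmul_apply, Algebra.smul_def, mul_comm]⟩
    · rintro ⟨y, rfl⟩
      exact ⟨y, by rw [LinearMap.lsmul_apply, Algebra.smul_def, mul_comm]⟩
  have hfl : IsFiniteLength R (S ⧸ I) := by
    refine Module.length_ne_top_iff.mp ?_
    rw [← (Submodule.Quotient.restrictScalarsEquiv R I).length_eq, ← (Submodule.quotEquivOfEq _ _ hrange).length_eq]
    exact ne_top_of_le_ne_top (WithTop.mul_ne_top (ENat.natCast_ne_top r) (Ring.ord_ne_top (R := R) (mem_nonZeroDivisors_of_ne_zero ha))) hlen
  obtain ⟨hn1, hn2⟩ := isFiniteLength_iff_isNoetherian_isArtinian.mp hfl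
  haveI : IsArtinianRing (S ⧸ I) := isArtinian_of_tower R hn2
  have hle : ∀ n ∈ (IsLocalRing.maximalIdeal R).primesOver S, I ≤ n := by
    rintro n ⟨_, hn⟩
    rw [Ideal.span_singleton_le_iff_mem, ← Ideal.mem_comap]
    have h1 := ham
    rw [hn.over] at h1
    exact h1
  have hprime : ∀ n ∈ (IsLocalRing.maximalIdeal R).primesOver S, (n.map (Ideal.Quotient.mk I)).IsPrime := fun n hn => by
    haveI := hn.1
    exact Ideal.map_isPrime_of_surjective Ideal.Quotient.mk_surjective (by rw [Ideal.mk_ker]; exact hle n hn)
  have hback : ∀ n ∈ (IsLocalRing.maximalIdeal R).primesOver S, (n.map (Ideal.Quotient.mk I)).comap (Ideal.Quotient.mk I) = n := fun n hn => by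
    rw [Ideal.comap_map_of_surjective' _ Ideal.Quotient.mk_surjective, Ideal.mk_ker, sup_eq_left.mpr (hle n hn)]
  refine ⟨fun n hn => ?_, ?_, fun n hn => ?_⟩
  · haveI := hprime n hn
    haveI : (n.map (Ideal.Quotient.mk I)).IsMaximal := IsArtinianRing.isMaximal_of_isPrime _
    rw [← hback n hn]
    exact Ideal.comap_isMaximal_of_surjective _ Ideal.Quotient.mk_surjective
  · haveI : Finite (PrimeSpectrum (S ⧸ I)) := inferInstance
    refine Set.Finite.subset (Set.finite_range fun P : PrimeSpectrum (S ⧸ I) => P.asIdeal.comap (Ideal.Quotient.mk I)) fun n hn => ?_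
    exact ⟨⟨_, hprime n hn⟩, hback n hn⟩
  · haveI : Module.Finite R (S ⧸ I) := ⟨hn1.noetherian ⊤⟩
    exact Module.Finite.of_surjective ((Submodule.factor (hle n hn)).restrictScalars R) (Submodule.factor_surjective (hle n hn))

end Groth.Agent.S9133
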