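import Groth.Statements.S9134
import Groth.Agent.KALen.Basic
import Mathlib.RingTheory.KrullDimension.Basic

set_option autoImplicit false
universe u
open CAlg Groth.Agent
open scoped Pointwise

namespace Groth.Agent.S9134

/-- Let R be a Noetherian domain of dimension one with fraction field K, M an R-submodule of K^r, and x
a nonzero element of R. Then M/xM has finite length over R. -/
theorem result (R : Type u) [CommRing R] [IsDomain R]
    [IsNoetherianRing R] (hdim : ringKrullDim R = 1) (K : Type u) [Field K] [Algebra R K]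
    [IsFractionRing R K] (r : ℕ) (M : Submodule R (Fin r → K)) (x : R) (hx : x ≠ 0) :
    Module.length R (M ⧸ (Ideal.span ({x} : Set R) • (⊤ : Submodule R M))) ≠ ⊤ := by
  haveI : Ring.KrullDimLE 1 R := Ring.krullDimLE_iff.mpr (le_of_eq (by rw [hdim]; rfl))
  have e : (Ideal.span ({x} : Set R) • (⊤ : Submodule R M)) = LinearMap.range (LinearMap.lsmul R M x) := by
    ext y
    rw [Submodule.ideal_span_singleton_smul, Submodule.mem_smul_pointwise_iff_exists]
    exact ⟨fun ⟨z, _, h⟩ => ⟨z, h⟩, fun ⟨z, h⟩ => ⟨z, trivial, h⟩⟩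
  rw [e]
  exact ne_top_of_le_ne_top (WithTop.mul_ne_top (ENat.natCast_ne_top r) (Ring.ord_ne_top (mem_nonZeroDivisors_of_ne_zero hx)))
    (KALen.length_le M.subtype M.injective_subtype hx)

end Groth.Agent.S9134
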