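import Groth.Statements.S9135
import Mathlib.RingTheory.QuasiFinite.Basic
import Mathlib.RingTheory.Jacobson.Ring
import Mathlib.RingTheory.Spectrum.Prime.RingHom
import Mathlib.RingTheory.Localization.Away.Basic
import Mathlib.RingTheory.IntegralClosure.Algebra.Basic
import Mathlib.RingTheory.LocalRing.ResidueField.Ideal
import Mathlib.RingTheory.Ideal.MinimalPrime.Basic
import Mathlib.RingTheory.RingHom.Finite
import Mathlib.Tactic.Ring

set_option autoImplicit false
universe u
open CAlg

namespace Groth.Agent.S9135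

/-- Let R → S be of finite type and p a minimal prime of R over which only finitely many primes of S
lie. Then for some g ∈ R outside p the localized map R_g → S_g is finite. -/
theorem result (R S : Type u) [CommRing R] [CommRing S]
    [Algebra R S] [Algebra.FiniteType R S] (p : Ideal R) (hp : p ∈ minimalPrimes R)
    (hfin : (p.primesOver S).Finite) :
    ∃ g : R, g ∉ p ∧ (Localization.awayMap (algebraMap R S) g).Finite := by
  classical
  haveI hpp : p.IsPrime := hp.1.1
  let κ := p.ResidueField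
  haveI : Module.Finite κ (p.Fiber S) := by
    rw [Module.finite_iff_isArtinianRing, isArtinianRing_iff_isNoetherianRing_krullDimLE_zero]
    haveI : IsJacobsonRing (p.Fiber S) := isJacobsonRing_of_finiteType (A := κ)
    haveI : Finite (PrimeSpectrum (p.Fiber S)) := by
      haveI : Finite (p.primesOver S) := hfin.to_subtype
      exact Finite.of_equiv _ (PrimeSpectrum.primesOverOrderIsoFiber R S p).toEquiv
    exact ⟨Algebra.FiniteType.isNoetherianRing κ _, (PrimeSpectrum.discreteTopology_iff_finite_and_krullDimLE_zero.mp inferInstance).right⟩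
  -- each element is integral with leading coefficient outside `p`
  have key : ∀ x : S, ∃ Q : Polynomial R, Q.leadingCoeff ∉ p ∧ Polynomial.aeval x Q = 0 := by
    intro x
    let j : S →ₐ[R] p.Fiber S := Algebra.TensorProduct.includeRight
    obtain ⟨P, hPm, hP⟩ := Algebra.IsIntegral.isIntegral (R := κ) (j x)
    rw [← Polynomial.aeval_def] at hP
    obtain ⟨s, hs, Q, hQ⟩ : ∃ s : R, s ∉ p ∧ ∃ Q : Polynomial R, Q.map (algebraMap R κ) = Polynomial.C (algebraMap R κ s) * P := by
      have hco : ∀ c : κ, ∃ s : R, s ∉ p ∧ ∃ a : R, algebraMap R κ a = algebraMap R κ s * c := fun c => by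
        obtain ⟨a, b, hb, rfl⟩ := IsFractionRing.div_surjective (A := R ⧸ p) c
        obtain ⟨a, rfl⟩ := Ideal.Quotient.mk_surjective a
        obtain ⟨b, rfl⟩ := Ideal.Quotient.mk_surjective b
        have hb' : b ∉ p := fun h => nonZeroDivisors.ne_zero hb (Ideal.Quotient.eq_zero_iff_mem.mpr h)
        refine ⟨b, hb', a, ?_⟩
        rw [Ideal.algebraMap_quotient_residueField_mk, Ideal.algebraMap_quotient_residueField_mk, mul_div_cancel₀]
        exact fun h => hb' (Ideal.algebraMap_residueField_eq_zero.mp h)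
      clear hPm hP
      induction P using Polynomial.induction_on' with
      | add P₁ P₂ h₁ h₂ =>
        obtain ⟨s₁, hs₁, Q₁, hQ₁⟩ := h₁
        obtain ⟨s₂, hs₂, Q₂, hQ₂⟩ := h₂
        refine ⟨s₁ * s₂, fun h => (hpp.mem_or_mem h).elim hs₁ hs₂, Polynomial.C s₂ * Q₁ + Polynomial.C s₁ * Q₂, ?_⟩
        rw [Polynomial.map_add, Polynomial.map_mul, Polynomial.map_mul, hQ₁, hQ₂, Polynomial.map_C, Polynomial.map_C, map_mul, Polynomial.C_mul]
        ring
      | monomial i c =>
        obtain ⟨s, hs, a, ha⟩ := hco c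
        exact ⟨s, hs, Polynomial.monomial i a, by rw [Polynomial.map_monomial, ha, Polynomial.C_mul_monomial]⟩
    have hmonic : (Polynomial.C (algebraMap R κ s) * P).natDegree = P.natDegree ∧ (Polynomial.C (algebraMap R κ s) * P).leadingCoeff = algebraMap R κ s := by
      have hs0 : algebraMap R κ s ≠ 0 := fun h => hs (Ideal.algebraMap_residueField_eq_zero.mp h)
      exact ⟨Polynomial.natDegree_C_mul hs0, by rw [Polynomial.leadingCoeff_mul, Polynomial.leadingCoeff_C, hPm.leadingCoeff, mul_one]⟩
    let Q' : Polynomial R := Q.erase 0 + Polynomial.C (Q.coeff 0)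
    let N := P.natDegree
    let Q₀ : Polynomial R := ∑ i ∈ Finset.range (N + 1), Polynomial.monomial i (Q.coeff i)
    have hQ₀ : Q₀.map (algebraMap R κ) = Q.map (algebraMap R κ) := by
      conv_rhs => rw [(Q.map (algebraMap R κ)).as_sum_range' (N + 1) (by rw [hQ, hmonic.1]; omega)]
      simp [Q₀, Polynomial.map_sum, Polynomial.map_monomial, Polynomial.coeff_map]
    have hlead : algebraMap R κ (Q.coeff N) = algebraMap R κ s := by
      rw [← Polynomial.coeff_map, hQ, Polynomial.coeff_C_mul, show P.coeff N = 1 from hPm, mul_one]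
    have hcN : Q.coeff N ∉ p := fun h => hs (Ideal.algebraMap_residueField_eq_zero.mp (hlead ▸ Ideal.algebraMap_residueField_eq_zero.mpr h))
    have hdeg : Q₀.natDegree ≤ N := Polynomial.natDegree_sum_le_of_forall_le _ _ fun i hi =>
      (Polynomial.natDegree_monomial_le _).trans (Nat.lt_succ_iff.mp (Finset.mem_range.mp hi))
    have hcoeff : Q₀.coeff N = Q.coeff N := by simp [Q₀, Polynomial.finsetSum_coeff, Polynomial.coeff_monomial]
    have hdegN : Q₀.natDegree = N := le_antisymm hdeg (Polynomial.le_natDegree_of_ne_zero (hcoeff ▸ fun h => hcN (h ▸ p.zero_mem)))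
    have hlc : Q₀.leadingCoeff = Q.coeff N := by rw [Polynomial.leadingCoeff, hdegN, hcoeff]
    let y := Polynomial.aeval x Q₀
    have hy : ∀ q : Ideal S, q.IsPrime → q.comap (algebraMap R S) = p → y ∈ q := by
      intro q hq hqp
      let T := PrimeSpectrum.primesOverOrderIsoFiber R S p ⟨q, hq, ⟨hqp.symm⟩⟩
      have hT : T.asIdeal.comap j.toRingHom = q :=
        congr($((PrimeSpectrum.primesOverOrderIsoFiber R S p).symm_apply_apply ⟨q, hq, ⟨hqp.symm⟩⟩).1)
      rw [← hT]
      show j y ∈ T.asIdeal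
      have : j y = 0 := by
        show j (Polynomial.aeval x Q₀) = 0
        rw [← Polynomial.aeval_algHom_apply, ← Polynomial.aeval_map_algebraMap κ, hQ₀, hQ, map_mul, hP, mul_zero]
      rw [this]; exact Ideal.zero_mem _
    obtain ⟨t, ht, N', hN'⟩ : ∃ t : R, t ∉ p ∧ ∃ n : ℕ, algebraMap R S t * y ^ n = 0 := by
      by_contra! hne
      let M : Submonoid S :=
        { carrier := {z | ∃ t : R, t ∉ p ∧ ∃ n : ℕ, z = algebraMap R S t * y ^ n}
          one_mem' := ⟨1, fun h => hpp.ne_top ((Ideal.eq_top_iff_one _).mpr h), 0, by simp⟩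
          mul_mem' := by
            rintro _ _ ⟨t₁, h₁, n₁, rfl⟩ ⟨t₂, h₂, n₂, rfl⟩
            exact ⟨t₁ * t₂, fun h => (hpp.mem_or_mem h).elim h₁ h₂, n₁ + n₂, by rw [map_mul, pow_add]; ring⟩ }
      obtain ⟨q, hq, -, hdis⟩ := Ideal.exists_le_prime_disjoint (I := (⊥ : Ideal S)) M (Set.disjoint_left.mpr fun z hz hzM => by
        obtain ⟨t, ht, n, rfl⟩ := hzM
        exact hne t ht n (Ideal.mem_bot.mp hz))
      have hle : q.comap (algebraMap R S) ≤ p := fun r hr => by
        by_contra hrp
        exact Set.disjoint_left.mp hdis (show algebraMap R S r ∈ q from hr) ⟨r, hrp, 0, by simp⟩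
      have heq : q.comap (algebraMap R S) = p := le_antisymm hle (hp.2 ⟨Ideal.IsPrime.comap _, bot_le⟩ hle)
      exact Set.disjoint_left.mp hdis (hy q hq heq) ⟨1, fun h => hpp.ne_top ((Ideal.eq_top_iff_one _).mpr h), 1, by simp⟩
    refine ⟨Polynomial.C t * Q₀ ^ N', ?_, by rw [map_mul, map_pow, Polynomial.aeval_C]; exact hN'⟩
    have h1 : t * Q₀.leadingCoeff ^ N' ∉ p := fun h => (hpp.mem_or_mem h).elim ht fun h' => hcN (hlc ▸ hpp.mem_of_pow_mem _ h')
    have hne0 : t * Q₀.leadingCoeff ^ N' ≠ 0 := fun h => h1 (h ▸ p.zero_mem)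
    have hpow : (Q₀ ^ N').leadingCoeff = Q₀.leadingCoeff ^ N' :=
      Polynomial.leadingCoeff_pow' (fun h => hne0 (by rw [h, mul_zero]))
    rw [Polynomial.leadingCoeff_mul' (by rw [Polynomial.leadingCoeff_C, hpow]; exact hne0), Polynomial.leadingCoeff_C, hpow]
    exact h1
  obtain ⟨G, hG⟩ := (Algebra.FiniteType.out : (⊤ : Subalgebra R S).FG)
  choose Qx hQx1 hQx2 using key
  let g := ∏ z ∈ G, (Qx z).leadingCoeff
  have hg : g ∉ p := fun h => by
    obtain ⟨z, -, hz⟩ := (Ideal.IsPrime.prod_mem_iff (hp := hpp)).mp h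
    exact hQx1 z hz
  refine ⟨g, hg, ?_⟩
  let Rg := Localization.Away g
  let Sg := Localization.Away (algebraMap R S g)
  let φ : Rg →+* Sg := Localization.awayMap (algebraMap R S) g
  have hφ : ∀ r : R, φ (algebraMap R Rg r) = algebraMap S Sg (algebraMap R S r) := fun r => IsLocalization.map_eq _ r
  letI : Algebra Rg Sg := φ.toAlgebra
  haveI : IsScalarTower R Rg Sg := IsScalarTower.of_algebraMap_eq fun r => by
    rw [IsScalarTower.algebraMap_apply R S Sg]; exact (hφ r).symm
  have hint : ∀ z : S, IsIntegral Rg (algebraMap S Sg z) := by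
    have hle : Algebra.adjoin R (G : Set S) ≤ ((integralClosure Rg Sg).restrictScalars R).comap (IsScalarTower.toAlgHom R S Sg) := by
      refine Algebra.adjoin_le fun z hz => ?_
      show IsIntegral Rg (algebraMap S Sg z)
      have hu : IsUnit (algebraMap R Rg (Qx z).leadingCoeff) :=
        isUnit_of_dvd_unit (map_dvd (algebraMap R Rg) (Finset.dvd_prod_of_mem (fun z => (Qx z).leadingCoeff) hz)) (IsLocalization.Away.algebraMap_isUnit g)
      obtain ⟨u, hu⟩ := hu
      let P' := Polynomial.C (↑u⁻¹ : Rg) * (Qx z).map (algebraMap R Rg)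
      rcases subsingleton_or_nontrivial Rg with hsub | hnt
      · exact ⟨1, Polynomial.monic_one, by
          have : Subsingleton Sg := φ.codomain_trivial
          exact Subsingleton.elim _ _⟩
      refine ⟨P', ?_, ?_⟩
      · have hne : algebraMap R Rg (Qx z).leadingCoeff ≠ 0 := hu ▸ u.ne_zero
        show (Polynomial.C (↑u⁻¹ : Rg) * (Qx z).map (algebraMap R Rg)).Monic
        rw [Polynomial.Monic, Polynomial.leadingCoeff_mul', Polynomial.leadingCoeff_C, Polynomial.leadingCoeff_map_of_leadingCoeff_ne_zero _ hne, ← hu, Units.inv_mul]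
        rw [Polynomial.leadingCoeff_C, Polynomial.leadingCoeff_map_of_leadingCoeff_ne_zero _ hne, ← hu, Units.inv_mul]
        exact one_ne_zero
      · rw [← Polynomial.aeval_def, map_mul, Polynomial.aeval_map_algebraMap Rg (algebraMap S Sg z) (Qx z), Polynomial.aeval_algebraMap_apply (R := R) Sg z (Qx z), hQx2, map_zero, mul_zero]
    exact fun z => hle (hG ▸ Algebra.mem_top)
  have hfin' : Algebra.IsIntegral Rg Sg := ⟨fun w => by
    obtain ⟨⟨z, ⟨_, n, rfl⟩⟩, hz⟩ := IsLocalization.surj (Submonoid.powers (algebraMap R S g)) w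
    obtain ⟨u, hu⟩ := IsLocalization.Away.algebraMap_isUnit (S := Rg) g
    have hw : w = algebraMap Rg Sg (↑u⁻¹ ^ n) * algebraMap S Sg z := by
      simp only [map_pow] at hz
      have e1 : algebraMap Rg Sg (↑u⁻¹ ^ n) * algebraMap S Sg (algebraMap R S g) ^ n = 1 := by
        rw [← hφ g, ← hu, map_pow, ← mul_pow, show φ = algebraMap Rg Sg from rfl, ← map_mul, Units.inv_mul, map_one, one_pow]
      calc w = w * (algebraMap Rg Sg (↑u⁻¹ ^ n) * algebraMap S Sg (algebraMap R S g) ^ n) := by rw [e1, mul_one]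
        _ = _ := by rw [← hz]; ring
    rw [hw]
    exact isIntegral_algebraMap.mul (hint z)⟩
  haveI : Algebra.FiniteType S Sg := IsLocalization.finiteType_of_monoid_fg (Submonoid.powers (algebraMap R S g)) _
  haveI : Algebra.FiniteType R Sg := Algebra.FiniteType.trans (S := S) inferInstance ‹Algebra.FiniteType S Sg›
  haveI : Algebra.FiniteType Rg Sg := Algebra.FiniteType.of_restrictScalars_finiteType R Rg Sg
  exact Algebra.IsIntegral.finite

end Groth.Agent.S9135
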