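import Groth.Statements.S9136
import Groth.Agent.KADeg.Basic

set_option linter.style.haveILetI false
open nonZeroDivisors
open scoped Pointwise

set_option autoImplicit false
universe u
open CAlg

namespace Groth.Agent.S9136

/-- Let A ⊆ B be a finite type extension of domains, A Noetherian local of dimension one, with
compatible fraction fields K ⊆ L and L finite over K. Then B has finitely many maximal ideals, and
for a nonzero x in the maximal ideal of A the sum over the maximal ideals m of B of (length of B/m
over A, i.e. the residue degree) times (length of B_m / x B_m over B_m) is at most the degree of L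
over K times the length of A/xA; equality holds exactly when B is a finite A-module. -/
theorem result (A B K L : Type u)
    [CommRing A] [IsDomain A] [IsNoetherianRing A] [IsLocalRing A] (hdim : ringKrullDim A = 1)
    [CommRing B] [IsDomain B] [Algebra A B] [FaithfulSMul A B] [Algebra.FiniteType A B]
    [Field K] [Field L] [Algebra A K] [IsFractionRing A K] [Algebra B L] [IsFractionRing B L]
    [Algebra K L] [Algebra A L] [IsScalarTower A K L] [IsScalarTower A B L] [FiniteDimensional K L]
    (x : A) (hx : x ∈ IsLocalRing.maximalIdeal A) (hx0 : x ≠ 0) :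
    Finite (MaximalSpectrum B) ∧
      (∑ᶠ m : MaximalSpectrum B,
          Module.length A (B ⧸ m.asIdeal) *
            Module.length (Localization.AtPrime m.asIdeal)
              (Localization.AtPrime m.asIdeal ⧸
                Ideal.span ({algebraMap A (Localization.AtPrime m.asIdeal) x} : Set _)) ≤
        (Module.finrank K L : ℕ∞) * Module.length A (A ⧸ Ideal.span ({x} : Set A))) ∧
      ((∑ᶠ m : MaximalSpectrum B,
          Module.length A (B ⧸ m.asIdeal) *
            Module.length (Localization.AtPrime m.asIdeal)
              (Localization.AtPrime m.asIdeal ⧸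
                Ideal.span ({algebraMap A (Localization.AtPrime m.asIdeal) x} : Set _)) =
        (Module.finrank K L : ℕ∞) * Module.length A (A ⧸ Ideal.span ({x} : Set A))) ↔ Module.Finite A B) := by
  classical
  haveI : Ring.KrullDimLE 1 A := Ring.krullDimLE_iff.2 hdim.le
  haveI : Algebra.IsAlgebraic A L :=
    ⟨fun y => (IsFractionRing.isAlgebraic_iff A K L).2 (Algebra.IsAlgebraic.isAlgebraic y)⟩
  have hBL : Function.Injective (IsScalarTower.toAlgHom A B L) := IsFractionRing.injective B L
  haveI : Algebra.IsAlgebraic A B := Algebra.IsAlgebraic.of_injective _ hBL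
  set n := Module.finrank K L with hn
  let e : L ≃ₗ[A] (Fin n → K) := (Module.finBasis K L).equivFun.restrictScalars A
  let φ : B →ₗ[A] (Fin n → K) := e.toLinearMap ∘ₗ (IsScalarTower.toAlgHom A B L).toLinearMap
  have hφ : Function.Injective φ := e.injective.comp hBL
  let B' : Submodule A (Fin n → K) := LinearMap.range φ
  let eB : B ≃ₗ[A] B' := LinearEquiv.ofInjective φ hφ
  let I : Ideal A := Ideal.span ({x} : Set A)
  let xB : Ideal B := Ideal.span ({algebraMap A B x} : Set B)
  have hlenQ : Module.length A (B ⧸ xB) = Module.length A (B' ⧸ I • (⊤ : Submodule A B')) := by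
    refine LinearEquiv.length_eq ((Submodule.Quotient.restrictScalarsEquiv A xB).symm.trans
      (Submodule.Quotient.equiv _ _ eB ?_))
    rw [show xB.restrictScalars A = I • (⊤ : Submodule A B) by
      rw [Ideal.smul_top_eq_map]; simp [I, xB, Ideal.map_span], Submodule.map_smul'', Submodule.map_top,
      LinearEquiv.range]
  have hA : Module.length A (A ⧸ I) < ⊤ :=
    Pur21Len.length_quot_span hdim (mem_nonZeroDivisors_of_ne_zero hx0)
  have hle : Module.length A (B ⧸ xB) ≤ (n : ℕ∞) * Module.length A (A ⧸ I) :=
    hlenQ ▸ KAModule.length_quot_pi_le hx0 n B'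
  have htop : Module.length A (B ⧸ xB) ≠ ⊤ :=
    ne_top_of_le_ne_top (WithTop.mul_ne_top (ENat.natCast_ne_top _) hA.ne) hle
  obtain ⟨hNoeA, hArtA⟩ := isFiniteLength_iff_isNoetherian_isArtinian.1 (Module.length_ne_top_iff.1 htop)
  haveI := hNoeA
  haveI := hArtA
  haveI hArt : IsArtinian B (B ⧸ xB) := isArtinian_of_tower A hArtA
  haveI hNoe : IsNoetherian B (B ⧸ xB) := isNoetherian_of_tower A hNoeA
  haveI : IsArtinianRing (B ⧸ xB) := isArtinian_of_tower B hArt
  -- finitely many maximal ideals
  have hcases : ∀ m : MaximalSpectrum B, m.asIdeal = ⊥ ∨ xB ≤ m.asIdeal := fun m => by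
    haveI := m.isMaximal
    refine or_iff_not_imp_left.2 fun h => ?_
    rw [Ideal.span_singleton_le_iff_mem]
    exact KADeg.mem_of_prime_ne_bot hdim hx h
  have hfin : Finite (MaximalSpectrum B) := by
    have hs : (Set.range fun m : MaximalSpectrum B => m.asIdeal) ⊆
        insert ⊥ (Set.range fun P : PrimeSpectrum (B ⧸ xB) => P.asIdeal.comap (Ideal.Quotient.mk xB)) := by
      rintro _ ⟨m, rfl⟩
      rcases hcases m with h | h
      · exact Or.inl h
      · haveI := m.isMaximal
        haveI := Ideal.map_isPrime_of_surjective (f := Ideal.Quotient.mk xB) Ideal.Quotient.mk_surjective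
          (I := m.asIdeal) (by rwa [Ideal.mk_ker])
        exact Or.inr ⟨⟨m.asIdeal.map (Ideal.Quotient.mk xB), inferInstance⟩, by
          simp only
          rw [Ideal.comap_map_of_surjective _ Ideal.Quotient.mk_surjective, ← RingHom.ker_eq_comap_bot,
            Ideal.mk_ker, sup_eq_left.2 h]⟩
    haveI := (((Set.finite_range _).insert ⊥).subset hs).to_subtype
    exact Finite.of_injective (Set.rangeFactorization fun m : MaximalSpectrum B => m.asIdeal)
      fun a b h => MaximalSpectrum.ext (congrArg Subtype.val h)
  haveI := hfin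
  haveI := Fintype.ofFinite (MaximalSpectrum B)
  -- the sum is the length of `B/xB`
  have hsum : (∑ᶠ m : MaximalSpectrum B,
      Module.length A (B ⧸ m.asIdeal) *
        Module.length (Localization.AtPrime m.asIdeal)
          (Localization.AtPrime m.asIdeal ⧸
            Ideal.span ({algebraMap A (Localization.AtPrime m.asIdeal) x} : Set _))) =
      Module.length A (B ⧸ xB) := by
    let S : Finset (PrimeSpectrum B) := Finset.univ.image MaximalSpectrum.toPrimeSpectrum
    have hS : ∀ p : PrimeSpectrum B, p.asIdeal.IsMaximal ↔ p ∈ S := fun p => by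
      simp only [S, Finset.mem_image, Finset.mem_univ, true_and]
      exact ⟨fun h => ⟨⟨p.asIdeal, h⟩, rfl⟩, by rintro ⟨m, rfl⟩; exact m.isMaximal⟩
    rw [LenSum2.length_eq_sum_lenAt (A := A) S hS (B ⧸ xB)
      (isFiniteLength_iff_isNoetherian_isArtinian.2 ⟨hNoe, hArt⟩),
      Finset.sum_image (fun a _ b _ h => MaximalSpectrum.toPrimeSpectrum_injective h),
      finsum_eq_sum_of_fintype]
    refine Finset.sum_congr rfl fun m _ => ?_
    rw [KADeg.lenAt_quot, Ideal.map_span, Set.image_singleton, ← IsScalarTower.algebraMap_apply]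
    rfl
  rw [hsum]
  refine ⟨hfin, hle, ?_⟩
  -- fullness of lattices containing a multiple of every element of `B`
  have hBfull : ∀ v, ∃ c ∈ A⁰, c • v ∈ B' := fun v => by
    obtain ⟨a, s, hs, has⟩ := IsFractionRing.div_surjective (A := B) (e.symm v)
    obtain ⟨r, hr, t, ht⟩ := (Algebra.IsAlgebraic.isAlgebraic (R := A) s).exists_nonzero_dvd hs
    refine ⟨r, mem_nonZeroDivisors_of_ne_zero hr, t * a, e.symm.injective ?_⟩
    have hs0 : algebraMap B L s ≠ 0 := by
      rw [Ne, map_eq_zero_iff _ (IsFractionRing.injective B L)]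
      exact nonZeroDivisors.ne_zero hs
    show e.symm (e (algebraMap B L (t * a))) = _
    rw [e.symm_apply_apply, map_smul, ← has, Algebra.smul_def, IsScalarTower.algebraMap_apply A B L, ht,
      map_mul, map_mul]
    field_simp
  constructor
  · intro heq
    -- a finite lattice inside `B` surjecting onto `B/xB`
    obtain ⟨g, hg⟩ := (Module.Finite.fg_top : (⊤ : Submodule A (B ⧸ xB)).FG)
    choose l hl using fun q : B ⧸ xB => Ideal.Quotient.mk_surjective q
    choose c hc hcb using fun i : Fin n => hBfull (Pi.single i 1)
    let T : Set (Fin n → K) := (fun q => φ (l q)) '' (g : Set (B ⧸ xB)) ∪ Set.range fun i => c i • Pi.single i (1 : K)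
    let M : Submodule A (Fin n → K) := Submodule.span A T
    have hMfg : M.FG := Submodule.fg_span ((g.finite_toSet.image _).union (Set.finite_range _))
    have hMB : M ≤ B' := Submodule.span_le.2 (by
      rintro _ (⟨q, -, rfl⟩ | ⟨i, rfl⟩)
      · exact ⟨_, rfl⟩
      · exact hcb i)
    have hMfull : ∀ v, ∃ d ∈ A⁰, d • v ∈ M := fun v => by
      obtain ⟨⟨d, hd⟩, hdv⟩ := IsLocalization.exist_integer_multiples_of_finite A⁰ v
      refine ⟨(∏ i, c i) * d, mul_mem (prod_mem fun i _ => hc i) hd, ?_⟩
      choose a ha using hdv
      have hv : ((∏ i, c i) * d) • v = ∑ i, ((∏ j ∈ Finset.univ.erase i, c j) * a i) • (c i • Pi.single i (1 : K)) := by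
        funext j
        rw [Finset.sum_apply, Finset.sum_eq_single j (fun i _ hij => by simp [Pi.single_apply, hij.symm])
          (fun h => absurd (Finset.mem_univ j) h)]
        simp only [Pi.smul_apply, Pi.single_eq_same]
        rw [smul_smul, mul_smul, show d • v j = algebraMap A K (a j) from (ha j).symm,
          ← Finset.mul_prod_erase _ c (Finset.mem_univ j), Algebra.smul_def, Algebra.smul_def, mul_one,
          ← map_mul]
        ring_nf
      rw [hv]
      exact Submodule.sum_mem _ fun i _ => Submodule.smul_mem _ _ (Submodule.subset_span (Or.inr ⟨i, rfl⟩))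
    have hlenM := KADeg.length_lattice hdim M hMfg hMfull hx0
    let ι : M →ₗ[A] B' := Submodule.inclusion hMB
    have hι : (I • (⊤ : Submodule A M)) ≤ (I • (⊤ : Submodule A B')).comap ι := by
      rw [← Submodule.map_le_iff_le_comap, Submodule.map_smul'']
      exact Submodule.smul_mono le_rfl le_top
    let f := Submodule.mapQ _ _ ι hι
    have hf : Function.Surjective f := fun z => by
      obtain ⟨⟨_, b, rfl⟩, rfl⟩ := Submodule.Quotient.mk_surjective _ z
      have hb : (Ideal.Quotient.mk xB b) ∈ Submodule.span A (g : Set (B ⧸ xB)) := hg ▸ Submodule.mem_top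
      have key : ∀ q ∈ Submodule.span A (g : Set (B ⧸ xB)), ∃ m : M, ∃ b' : B, φ b' = m ∧ Ideal.Quotient.mk xB b' = q := by
        intro q hq
        induction hq using Submodule.span_induction with
        | mem q hq => exact ⟨⟨_, Submodule.subset_span (Or.inl ⟨q, hq, rfl⟩)⟩, l q, rfl, hl q⟩
        | zero => exact ⟨0, 0, map_zero _, map_zero _⟩
        | add p q _ _ hp hq =>
          obtain ⟨m₁, b₁, h₁, h₁'⟩ := hp
          obtain ⟨m₂, b₂, h₂, h₂'⟩ := hq
          exact ⟨m₁ + m₂, b₁ + b₂, by rw [map_add, h₁, h₂]; rfl, by rw [map_add, h₁', h₂']⟩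
        | smul r q _ hq =>
          obtain ⟨m, b₁, h₁, h₁'⟩ := hq
          exact ⟨r • m, r • b₁, by rw [map_smul, h₁]; rfl, by rw [← h₁']; rfl⟩
      obtain ⟨m, b', hb', hbb⟩ := key _ hb
      refine ⟨Submodule.Quotient.mk m, ?_⟩
      obtain ⟨t, ht⟩ := Ideal.mem_span_singleton.1 (Ideal.Quotient.eq.1 hbb)
      have hm : ι m = eB b' := Subtype.ext hb'.symm
      have hb'' : b' - b = x • t := by rw [ht, Algebra.smul_def]
      rw [Submodule.mapQ_apply, hm, Submodule.Quotient.eq]
      have : eB b' - ⟨φ b, ⟨b, rfl⟩⟩ = x • eB t := by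
        rw [← map_smul, ← hb'', map_sub]; rfl
      rw [this]
      exact Submodule.smul_mem_smul (Ideal.mem_span_singleton_self x) Submodule.mem_top
    have hfi : Function.Injective f := by
      have h1 : Module.length A (M ⧸ I • (⊤ : Submodule A M)) =
          Module.length A (LinearMap.ker f) + Module.length A (B' ⧸ I • (⊤ : Submodule A B')) :=
        Module.length_eq_add_of_exact _ f (Submodule.injective_subtype _) hf f.exact_subtype_ker_map
      rw [hlenM, ← hlenQ, ← heq] at h1
      have h2 : Module.length A (LinearMap.ker f) = 0 :=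
        (WithTop.add_right_cancel htop ((zero_add _).trans h1)).symm
      haveI := Module.length_eq_zero_iff.1 h2
      exact LinearMap.ker_eq_bot.1 (Submodule.eq_bot_of_subsingleton)
    have hdesc : ∀ (N : ℕ) (w : Fin n → K), w ∈ B' → x ^ N • w ∈ M → w ∈ M := by
      intro N
      induction N with
      | zero => intro w _ h; simpa using h
      | succ N ih =>
        intro w hw h
        refine ih w hw ?_
        rw [pow_succ', mul_smul] at h
        have hw' : x ^ N • w ∈ B' := B'.smul_mem _ hw
        have h0 : f (Submodule.Quotient.mk ⟨_, h⟩) = 0 := by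
          rw [Submodule.mapQ_apply, Submodule.Quotient.mk_eq_zero,
            show ι ⟨_, h⟩ = x • (⟨_, hw'⟩ : B') from rfl]
          exact Submodule.smul_mem_smul (Ideal.mem_span_singleton_self x) Submodule.mem_top
        have h3 := (Submodule.Quotient.mk_eq_zero _).1 (hfi (h0.trans (map_zero f).symm))
        rw [Submodule.ideal_span_singleton_smul, Submodule.mem_smul_pointwise_iff_exists] at h3
        obtain ⟨m, -, hm⟩ := h3
        have hxK : algebraMap A K x ≠ 0 := by
          rw [Ne, map_eq_zero_iff _ (IsFractionRing.injective A K)]; exact hx0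
        have hmw : (m : Fin n → K) = x ^ N • w := funext fun i => mul_left_cancel₀ hxK (by
          have := congrFun (congrArg Subtype.val hm) i
          simpa only [Submodule.coe_smul, Pi.smul_apply, ← Algebra.smul_def] using this)
        exact hmw ▸ m.2
    have heqM : B' = M := le_antisymm (fun w hw => by
      obtain ⟨d, hd, hdw⟩ := hMfull w
      obtain ⟨N, hN⟩ := KADeg.exists_algebraMap_mem hdim hx d (nonZeroDivisors.ne_zero hd)
      obtain ⟨s, hs⟩ := Ideal.mem_span_singleton'.1 hN
      exact hdesc N w hw (by rw [← hs, mul_smul]; exact M.smul_mem _ hdw)) hMB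
    haveI : Module.Finite A B' := Module.Finite.iff_fg.2 (heqM ▸ hMfg)
    exact Module.Finite.equiv eB.symm
  · intro hfB
    haveI := hfB
    haveI : Module.Finite A B' := Module.Finite.equiv eB
    rw [hlenQ]
    exact KADeg.length_lattice hdim B' (Module.Finite.iff_fg.1 inferInstance) hBfull hx0

end Groth.Agent.S9136
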