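import Groth.Statements.S9137
import Groth.Agent.FtPtsLib.Basic
import Mathlib.RingTheory.ZariskisMainTheorem
import Mathlib.RingTheory.Jacobson.Artinian
import Mathlib.RingTheory.EssentialFiniteness

set_option autoImplicit false
universe u
open CAlg

namespace Groth.Agent.S9137

/-- Let R → S be a local ring homomorphism between local rings, essentially of finite type, such that
the residue field of S is finite over that of R and S/m_R S has dimension zero. Then S is, as an
R-algebra, the localization of a finite R-algebra at a prime. -/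
theorem result (R S : Type u) [CommRing R] [CommRing S]
    [IsLocalRing R] [IsLocalRing S] [Algebra R S] [IsLocalHom (algebraMap R S)]
    [Algebra.EssFiniteType R S]
    (hres : Module.Finite (IsLocalRing.ResidueField R) (IsLocalRing.ResidueField S))
    (hdim : ringKrullDim (S ⧸ (IsLocalRing.maximalIdeal R).map (algebraMap R S)) = 0) :
    ∃ (S' : Type u) (_ : CommRing S') (_ : Algebra R S') (_ : Algebra S' S) (_ : IsScalarTower R S' S)
      (q : Ideal S') (_ : q.IsPrime), Module.Finite R S' ∧ IsLocalization.AtPrime S q := by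
  let m := IsLocalRing.maximalIdeal R
  let I : Ideal S := m.map (algebraMap R S)
  let A := S ⧸ I
  have hI : I ≤ IsLocalRing.maximalIdeal S :=
    ((IsLocalRing.local_hom_TFAE (algebraMap R S)).out 0 2).1 ‹IsLocalHom (algebraMap R S)›
  haveI : Nontrivial A := Ideal.Quotient.nontrivial_iff.2 fun h =>
    (IsLocalRing.maximalIdeal.isMaximal S).ne_top (top_le_iff.1 (h ▸ hI))
  haveI : IsLocalRing A := .of_surjective' (Ideal.Quotient.mk I) Ideal.Quotient.mk_surjective
  letI : Algebra (IsLocalRing.ResidueField R) A := Ideal.Quotient.algebraQuotientMapQuotient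
  haveI : IsScalarTower R (IsLocalRing.ResidueField R) A := .of_algebraMap_eq fun _ => rfl
  haveI : Algebra.EssFiniteType R A := Algebra.EssFiniteType.comp R S A
  haveI : Algebra.EssFiniteType (IsLocalRing.ResidueField R) A :=
    Algebra.EssFiniteType.of_comp R (IsLocalRing.ResidueField R) A
  haveI : IsNoetherianRing A := Algebra.EssFiniteType.isNoetherianRing (IsLocalRing.ResidueField R) A
  haveI : IsArtinianRing A := by
    rw [isArtinianRing_iff_krullDimLE_zero, Ring.KrullDimLE, Order.krullDimLE_iff]
    exact hdim.le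
  haveI : Module.Finite R (IsLocalRing.ResidueField S) :=
    haveI := hres
    Module.Finite.trans (IsLocalRing.ResidueField R) (IsLocalRing.ResidueField S)
  haveI : IsLocalHom (Ideal.Quotient.mk I) := IsLocalHom.of_surjective _ Ideal.Quotient.mk_surjective
  have hmap : Function.Surjective (IsLocalRing.ResidueField.map (Ideal.Quotient.mk I)) := fun z => by
    obtain ⟨a, rfl⟩ := IsLocalRing.residue_surjective z
    obtain ⟨s, rfl⟩ := Ideal.Quotient.mk_surjective a
    exact ⟨IsLocalRing.residue S s, rfl⟩
  have hft : ((IsLocalRing.residue A).comp (algebraMap R A)).FiniteType := by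
    have h2 : (IsLocalRing.residue A).comp (algebraMap R A) =
        (IsLocalRing.ResidueField.map (Ideal.Quotient.mk I)).comp
          (algebraMap R (IsLocalRing.ResidueField S)) := RingHom.ext fun _ => rfl
    rw [h2]
    exact RingHom.FiniteType.comp_surjective (RingHom.finiteType_algebraMap.2 inferInstance) hmap
  haveI : Algebra.FiniteType R A :=
    RingHom.finiteType_algebraMap.1 (Groth.Agent.FtPtsLib.finiteType_of_residue (algebraMap R A) hft)
  haveI : Algebra.FiniteType (IsLocalRing.ResidueField R) A :=
    Algebra.FiniteType.of_restrictScalars_finiteType R _ A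
  haveI : Module.Finite (IsLocalRing.ResidueField R) A := Module.finite_of_isArtinianRing _ A
  haveI : Module.Finite R A := Module.Finite.trans (IsLocalRing.ResidueField R) A
  let T := Algebra.EssFiniteType.subalgebra R S
  let M := Algebra.EssFiniteType.submonoid R S
  haveI : IsLocalization M S := Algebra.EssFiniteType.isLocalization R S
  let q : Ideal T := (IsLocalRing.maximalIdeal S).comap (algebraMap T S)
  haveI : q.IsPrime := Ideal.IsPrime.comap _
  haveI : IsLocalization.AtPrime S q := by
    refine IsLocalization.of_le M q.primeCompl (fun x hx h => ?_) (fun x hx => ?_)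
    · exact (IsLocalRing.maximalIdeal.isMaximal S).ne_top
        (Ideal.eq_top_of_isUnit_mem _ h (IsLocalization.map_units S (⟨x, hx⟩ : M)))
    · exact IsLocalRing.notMem_maximalIdeal.1 hx
  have hqu : q.under R = m := by
    ext r
    change algebraMap T S (algebraMap R T r) ∈ IsLocalRing.maximalIdeal S ↔ _
    rw [← IsScalarTower.algebraMap_apply, IsLocalRing.mem_maximalIdeal, mem_nonunits_iff,
      IsLocalRing.mem_maximalIdeal, mem_nonunits_iff, isUnit_map_iff]
  let e : Localization.AtPrime q ≃ₐ[R] S :=
    (IsLocalization.algEquiv q.primeCompl (Localization.AtPrime q) S).restrictScalars R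
  haveI : Algebra.WeaklyQuasiFiniteAt R q := by
    rw [Algebra.weaklyQuasiFiniteAt_iff]
    have he : I = ((q.under R).map (algebraMap R (Localization.AtPrime q))).map (e : _ →+* S) := by
      rw [Ideal.map_map, hqu]
      change m.map (algebraMap R S) = _
      congr 1
      refine RingHom.ext fun r => ?_
      exact (e.commutes r).symm
    haveI : Algebra.QuasiFinite R A := inferInstance
    exact (Algebra.QuasiFinite.iff_of_algEquiv (Ideal.quotientEquivAlg _ I e he)).2 inferInstance
  obtain ⟨S', hfg, r, hr, hbij⟩ :=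
    Algebra.QuasiFiniteAt.exists_fg_and_exists_notMem_and_awayMap_bijective (R := R) (S := T) q
  haveI : Module.Finite R S' := ⟨(Submodule.fg_top _).mpr hfg⟩
  letI algS' : Algebra S' S := ((algebraMap T S).comp S'.val.toRingHom).toAlgebra
  have towS' : @IsScalarTower R S' S _ algS'.toSMul _ :=
    @IsScalarTower.of_algebraMap_eq R S' S _ _ _ _ algS' _ fun x =>
      IsScalarTower.algebraMap_apply R T S x
  have key : ∀ t : T, ∃ (n : ℕ) (s' : S'), (r : T) ^ n * t = s' := by
    intro t
    obtain ⟨z, hz⟩ := hbij.2 (algebraMap T _ t)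
    obtain ⟨⟨s', ⟨_, k, rfl⟩⟩, hs'⟩ := IsLocalization.surj (Submonoid.powers r) z
    have h1 := congrArg (Localization.awayMap S'.val.toRingHom r) hs'
    have hmap : ∀ x : S', Localization.awayMap S'.val.toRingHom r (algebraMap S' _ x) =
        algebraMap T (Localization.Away (S'.val.toRingHom r)) (x : T) := fun x =>
      IsLocalization.map_eq _ x
    rw [map_mul, hz, hmap, hmap, ← map_mul] at h1
    obtain ⟨⟨_, j, rfl⟩, hj⟩ := (IsLocalization.eq_iff_exists (Submonoid.powers (S'.val.toRingHom r)) _).1 h1
    refine ⟨j + k, r ^ j * s', ?_⟩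
    have : (r : T) ^ j * (t * (r : T) ^ k) = (r : T) ^ j * (s' : T) := by simpa using hj
    push_cast
    rw [← this]; ring
  refine ⟨S', inferInstance, inferInstance, algS', towS',
    q.comap S'.val.toRingHom, Ideal.IsPrime.comap _, inferInstance, ?_⟩
  have hrn : ∀ n : ℕ, (r : T) ^ n ∉ q := fun n h => hr (Ideal.IsPrime.mem_of_pow_mem inferInstance n h)
  refine ⟨⟨fun x => IsLocalization.map_units (M := q.primeCompl) S ⟨_, x.2⟩, fun z => ?_, fun {x y} h => ?_⟩⟩
  · obtain ⟨⟨t, ⟨u, hu⟩⟩, htu⟩ := IsLocalization.surj q.primeCompl z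
    obtain ⟨a, s₁, h₁⟩ := key t
    obtain ⟨b, s₂, h₂⟩ := key u
    refine ⟨⟨s₁ * r ^ b, ⟨s₂ * r ^ a, ?_⟩⟩, ?_⟩
    · change ((s₂ * r ^ a : S') : T) ∉ q
      push_cast
      rw [← h₂]
      exact fun h => ((inferInstance : q.IsPrime).mem_or_mem h).elim
        (fun h => ((inferInstance : q.IsPrime).mem_or_mem h).elim (hrn b) hu) (hrn a)
    · change z * algebraMap T S ((s₂ * r ^ a : S') : T) = algebraMap T S ((s₁ * r ^ b : S') : T)
      push_cast
      rw [← h₁, ← h₂]
      simp only [map_mul, map_pow]
      linear_combination (algebraMap T S (r : T)) ^ b * (algebraMap T S (r : T)) ^ a * htu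
  · obtain ⟨⟨u, hu⟩, huxy⟩ := (IsLocalization.eq_iff_exists q.primeCompl S).1 h
    obtain ⟨b, s₃, h₃⟩ := key u
    refine ⟨⟨s₃, ?_⟩, Subtype.ext ?_⟩
    · change (s₃ : T) ∉ q
      rw [← h₃]
      exact fun h => ((inferInstance : q.IsPrime).mem_or_mem h).elim (hrn b) hu
    · push_cast
      rw [← h₃, mul_assoc, mul_assoc]
      exact congrArg ((r : T) ^ b * ·) huxy

end Groth.Agent.S9137
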