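import Groth.Statements.S9138
import Groth.Agent.S0544
import Groth.Agent.FormalStalk.Completion

set_option autoImplicit false
universe u
open CAlg

namespace Groth.Agent.S9138

theorem evalₐ_complMap {S T : Type u} [CommRing S] [CommRing T] (I : Ideal S) (K : Ideal T) (g : S →+* T)
    (h : I.map g ≤ K) (l : ℕ) (x : AdicCompletion I S) :
    AdicCompletion.evalₐ K l (FSch.complMap I K g h x) =
      Ideal.quotientMap (K ^ l) g (FSch.pow_le_comap_pow_of_map_le I K g h l) (AdicCompletion.evalₐ I l x) := by
  unfold FSch.complMap
  refine AdicCompletion.evalₐ_liftRingHom K _ (fun {a b} hle => RingHom.ext fun z => ?_) l x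
  obtain ⟨y, rfl⟩ := AdicCompletion.mk_surjective I S z
  simp only [RingHom.coe_comp, Function.comp_apply, AlgHom.toRingHom_eq_coe, AlgHom.coe_toRingHom,
    AdicCompletion.evalₐ_mk, Ideal.quotientMap_mk, Ideal.Quotient.factorPow, Ideal.Quotient.factor_mk]
  rw [Ideal.Quotient.eq, ← map_sub]
  have hy := y.2 hle
  rw [SModEq.sub_mem] at hy
  simp only [smul_eq_mul, Ideal.mul_top] at hy
  exact FSch.pow_le_comap_pow_of_map_le I K g h a (by rw [← neg_sub]; exact (I ^ a).neg_mem hy)

/-- Let R → S be a local ring homomorphism between local rings with finitely generated maximal ideals m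
and n, such that S/mS is a finite-dimensional κ(m)-vector space. Then (1) the canonical ring map
from the mS-adic completion of S to the n-adic completion of S is bijective, and (2) the induced
ring map from the m-adic completion of R to the n-adic completion of S is finite. (The hypotheses h
and h' record the inclusion mS ⊆ n, which holds for any local homomorphism; they are the arguments
the completion maps take.) -/
theorem result (R S : Type u) [CommRing R] [CommRing S]
    [IsLocalRing R] [IsLocalRing S] [Algebra R S] [IsLocalHom (algebraMap R S)]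
    (hm : (IsLocalRing.maximalIdeal R).FG) (hn : (IsLocalRing.maximalIdeal S).FG)
    (hfib : Module.Finite (IsLocalRing.maximalIdeal R).ResidueField ((IsLocalRing.maximalIdeal R).Fiber S))
    (h : (IsLocalRing.maximalIdeal R).map (algebraMap R S) ≤ IsLocalRing.maximalIdeal S)
    (h' : ((IsLocalRing.maximalIdeal R).map (algebraMap R S)).map (RingHom.id S) ≤ IsLocalRing.maximalIdeal S) :
    Function.Bijective (FSch.complMap ((IsLocalRing.maximalIdeal R).map (algebraMap R S))
        (IsLocalRing.maximalIdeal S) (RingHom.id S) h') ∧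
      (FSch.complMap (IsLocalRing.maximalIdeal R) (IsLocalRing.maximalIdeal S) (algebraMap R S) h).Finite := by
  classical
  set m := IsLocalRing.maximalIdeal R
  set n := IsLocalRing.maximalIdeal S
  set J := m.map (algebraMap R S) with hJdef
  have hJfg : J.FG := hm.map _
  -- `T = S/J` is finite over `R` and Artinian
  let T := S ⧸ J
  let e : m.Fiber S ≃ₐ[R] T :=
    (Algebra.TensorProduct.congr (.symm <| .ofBijective _
      (Ideal.bijective_algebraMap_quotient_residueField m)) .refl).trans <|
    (Algebra.TensorProduct.comm _ _ _).trans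
    ((Algebra.TensorProduct.quotIdealMapEquivTensorQuot S m).symm.restrictScalars _)
  haveI := hfib
  haveI : IsArtinianRing (m.Fiber S) := IsArtinianRing.of_finite m.ResidueField _
  haveI hArt : IsArtinianRing T := e.toRingEquiv.surjective.isArtinianRing (f := e.toRingEquiv.toRingHom)
  haveI : Nontrivial T := Ideal.Quotient.nontrivial_iff.2 fun e' =>
    (IsLocalRing.maximalIdeal.isMaximal S).ne_top (top_le_iff.1 (e'.ge.trans h))
  haveI : IsLocalRing T := IsLocalRing.of_surjective' (Ideal.Quotient.mk J) Ideal.Quotient.mk_surjective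
  obtain ⟨N, hN⟩ : ∃ N : ℕ, n ^ N ≤ J := by
    obtain ⟨N, hN⟩ := IsArtinianRing.isNilpotent_jacobson_bot (R := T)
    refine ⟨N, fun x hx => ?_⟩
    rw [← Ideal.Quotient.eq_zero_iff_mem, ← Ideal.mem_bot]
    have h1 := Ideal.mem_map_of_mem (Ideal.Quotient.mk J) hx
    rw [Ideal.map_pow] at h1
    have h2 : n.map (Ideal.Quotient.mk J) ≤ (⊥ : Ideal T).jacobson := by
      rw [IsLocalRing.jacobson_eq_maximalIdeal ⊥ bot_ne_top,
        IsLocalRing.map_maximalIdeal_of_surjective _ Ideal.Quotient.mk_surjective]
    have h3 := Ideal.pow_right_mono h2 N h1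
    rw [hN] at h3
    exact h3
  have hNl : ∀ l, n ^ (N * l) ≤ J ^ l := fun l => by rw [pow_mul]; exact Ideal.pow_right_mono hN l
  have hbij : Function.Bijective (FSch.complMap J n (RingHom.id S) h') := by
    let ψ : AdicCompletion n S →+* AdicCompletion J S := AdicCompletion.liftRingHom J
      (fun l => (Ideal.Quotient.factor (hNl l)).comp (AdicCompletion.evalₐ n (N * l)).toRingHom)
      (fun {a b} hle => by
        refine RingHom.ext fun x => ?_
        obtain ⟨y, rfl⟩ := AdicCompletion.mk_surjective n S x
        simp only [RingHom.coe_comp, Function.comp_apply, AlgHom.toRingHom_eq_coe, AlgHom.coe_toRingHom,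
          AdicCompletion.evalₐ_mk, Ideal.Quotient.factor_mk, Ideal.Quotient.factorPow]
        rw [Ideal.Quotient.eq]
        have hy := y.2 (Nat.mul_le_mul_left N hle)
        rw [SModEq.sub_mem] at hy
        simp only [smul_eq_mul, Ideal.mul_top] at hy
        exact hNl a (by rw [← neg_sub]; exact (n ^ (N * a)).neg_mem hy))
    have hψ : ∀ l x, AdicCompletion.evalₐ J l (ψ x) =
        Ideal.Quotient.factor (hNl l) (AdicCompletion.evalₐ n (N * l) x) := fun l x =>
      AdicCompletion.evalₐ_liftRingHom J _ _ l x
    have hφ : ∀ l x, AdicCompletion.evalₐ n l (FSch.complMap J n (RingHom.id S) h' x) =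
        Ideal.quotientMap (n ^ l) (RingHom.id S) (FSch.pow_le_comap_pow_of_map_le J n _ h' l)
          (AdicCompletion.evalₐ J l x) := fun l x => evalₐ_complMap J n (RingHom.id S) h' l x
    refine Function.bijective_iff_has_inverse.2 ⟨ψ, fun x => AdicCompletion.ext_evalₐ fun l => ?_,
      fun x => AdicCompletion.ext_evalₐ fun l => ?_⟩
    · rw [hψ, hφ]
      rcases Nat.eq_zero_or_pos N with hN0 | hN0
      · have : J = ⊤ := top_le_iff.1 (le_trans (by rw [hN0, pow_zero, Ideal.one_eq_top]) hN)
        exact absurd this fun e' => (IsLocalRing.maximalIdeal.isMaximal S).ne_top (top_le_iff.1 (e'.ge.trans h))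
      obtain ⟨y, rfl⟩ := AdicCompletion.mk_surjective J S x
      simp only [AdicCompletion.evalₐ_mk, Ideal.quotientMap_mk, RingHom.id_apply, Ideal.Quotient.factor_mk]
      rw [Ideal.Quotient.eq]
      have hy := y.2 (Nat.le_mul_of_pos_left l hN0)
      rw [SModEq.sub_mem] at hy
      simp only [smul_eq_mul, Ideal.mul_top] at hy
      rw [← neg_sub]; exact (J ^ l).neg_mem hy
    · rw [hφ, hψ]
      rcases Nat.eq_zero_or_pos N with hN0 | hN0
      · have : J = ⊤ := top_le_iff.1 (le_trans (by rw [hN0, pow_zero, Ideal.one_eq_top]) hN)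
        exact absurd this fun e' => (IsLocalRing.maximalIdeal.isMaximal S).ne_top (top_le_iff.1 (e'.ge.trans h))
      obtain ⟨y, rfl⟩ := AdicCompletion.mk_surjective n S x
      simp only [AdicCompletion.evalₐ_mk, Ideal.quotientMap_mk, RingHom.id_apply, Ideal.Quotient.factor_mk]
      rw [Ideal.Quotient.eq]
      have hy := y.2 (Nat.le_mul_of_pos_left l hN0)
      rw [SModEq.sub_mem] at hy
      simp only [smul_eq_mul, Ideal.mul_top] at hy
      rw [← neg_sub]; exact (n ^ l).neg_mem hy
  refine ⟨hbij, ?_⟩
  -- finiteness
  let Rc := AdicCompletion m R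
  let D := AdicCompletion J S
  let φD : Rc →+* D := FSch.complMap m J (algebraMap R S) le_rfl
  have hφD : ∀ r : R, φD (algebraMap R Rc r) = algebraMap S D (algebraMap R S r) := fun r =>
    AdicCompletion.ext_evalₐ fun l => by
      rw [evalₐ_complMap,
        Groth.Agent.FormalStalk.evalₐ_algebraMap, Groth.Agent.FormalStalk.evalₐ_algebraMap, Ideal.quotientMap_mk]
  have hfinD : φD.Finite := by
    letI := φD.toAlgebra
    let I := m.map (algebraMap R Rc)
    have hImap : I.map (algebraMap Rc D) = J.map (algebraMap S D) := by
      show _ = Ideal.map (algebraMap S D) (Ideal.map (algebraMap R S) m)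
      rw [Ideal.map_map, Ideal.map_map]
      exact congrArg (fun g => m.map g) (RingHom.ext hφD)
    haveI : IsAdicComplete I Rc := by
      haveI : IsAdicComplete m Rc := AdicCompletion.isAdicComplete hm
      exact (IsAdicComplete.map_algebraMap_iff _ _).2 inferInstance
    haveI : IsHausdorff I D := by
      haveI : IsAdicComplete J D := AdicCompletion.isAdicComplete hJfg
      rw [← IsHausdorff.map_algebraMap_iff (R := Rc) (S := D), hImap, IsHausdorff.map_algebraMap_iff]
      infer_instance
    haveI hTfin : Module.Finite R T :=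
      haveI : Module.Finite R m.ResidueField :=
        Module.Finite.of_surjective ((Algebra.linearMap (R ⧸ m) m.ResidueField).restrictScalars R)
          (Ideal.bijective_algebraMap_quotient_residueField m).2
      haveI : Module.Finite R (m.Fiber S) := Module.Finite.trans m.ResidueField _
      Module.Finite.of_surjective e.toLinearMap e.surjective
    obtain ⟨r, gen, hgen⟩ := Module.Finite.exists_fin (R := R) (M := T)
    choose s hs using fun i => Ideal.Quotient.mk_surjective (gen i)
    let Q := D ⧸ (I • ⊤ : Submodule Rc D)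
    have hQ : Module.Finite Rc Q := by
      let f : (Fin r → Rc) →ₗ[Rc] Q :=
        Fintype.linearCombination Rc fun i => (Submodule.mkQ _ (algebraMap S D (s i)) : Q)
      refine Module.Finite.of_surjective f fun z => ?_
      obtain ⟨d, rfl⟩ := Submodule.mkQ_surjective _ z
      obtain ⟨t, ht⟩ := Ideal.Quotient.mk_surjective (AdicCompletion.evalₐ J 1 d)
      obtain ⟨c, hc⟩ := (Submodule.mem_span_range_iff_exists_fun R).1
        (hgen.ge (Submodule.mem_top (x := (Ideal.Quotient.mk J t : T))))
      refine ⟨fun i => algebraMap R Rc (c i), ?_⟩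
      rw [Fintype.linearCombination_apply]
      simp only [← map_smul, ← map_sum]
      refine (Submodule.Quotient.eq _).2 ?_
      rw [Ideal.smul_top_eq_map, Submodule.restrictScalars_mem, hImap, ← neg_sub]
      refine Ideal.neg_mem_iff _ |>.2 ?_
      have hk := (Groth.Agent.FormalStalk.ker_evalₐ J hJfg 1).trans (pow_one _)
      refine (SetLike.ext_iff.1 hk _).1 ?_
      rw [RingHom.mem_ker, AlgHom.toRingHom_eq_coe, RingHom.coe_coe, map_sub, ← ht,
        show (∑ i, algebraMap R Rc (c i) • algebraMap S D (s i)) = algebraMap S D (∑ i, algebraMap R S (c i) * s i) by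
          rw [map_sum]
          exact Finset.sum_congr rfl fun i _ => by
            rw [Algebra.smul_def, map_mul]; exact congrArg (· * _) (hφD (c i)),
        Groth.Agent.FormalStalk.evalₐ_algebraMap, ← map_sub, Ideal.Quotient.eq_zero_iff_mem, pow_one,
        ← Ideal.Quotient.eq, ← hc, map_sum]
      refine Finset.sum_congr rfl fun i _ => ?_
      rw [map_mul, hs, Algebra.smul_def]
      rfl
    exact Groth.Agent.S0544.result Rc I D hQ
  have hcomp : FSch.complMap m n (algebraMap R S) h = (FSch.complMap J n (RingHom.id S) h').comp φD := by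
    refine RingHom.ext fun x => AdicCompletion.ext_evalₐ fun l => ?_
    simp only [RingHom.comp_apply, φD, evalₐ_complMap]
    obtain ⟨y, hy⟩ := Ideal.Quotient.mk_surjective (AdicCompletion.evalₐ m l x)
    rw [← hy]
    simp only [Ideal.quotientMap_mk, RingHom.id_apply]
  rw [hcomp]
  exact (RingHom.Finite.of_surjective _ hbij.2).comp hfinD

end Groth.Agent.S9138
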