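import Groth.Statements.S9139
import Mathlib.RingTheory.FiniteType
import Mathlib.RingTheory.Nilpotent.Lemmas
import Mathlib.RingTheory.Noetherian.Nilpotent
import Mathlib.RingTheory.Ideal.Quotient.Operations
import Mathlib.RingTheory.Finiteness.Ideal

set_option autoImplicit false
universe u
open CAlg

namespace Groth.Agent.S9139

/-- Let I be a locally nilpotent ideal of a ring R (every element of I is nilpotent) and S → S' a map of
R-algebras with S' of finite type over R. If S → S'/IS' is surjective then so is S → S'. -/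
theorem result (R S S' : Type u) [CommRing R] [CommRing S]
    [CommRing S'] [Algebra R S] [Algebra R S'] [Algebra.FiniteType R S'] (I : Ideal R)
    (hI : ∀ x ∈ I, IsNilpotent x) (f : S →ₐ[R] S')
    (hf : Function.Surjective ((Ideal.Quotient.mk (I.map (algebraMap R S'))).comp f.toRingHom)) :
    Function.Surjective f := by
  classical
  obtain ⟨G, hG⟩ := (inferInstance : Algebra.FiniteType R S').out
  have h1 : ∀ x : S', ∃ J : Ideal R, J.FG ∧ J ≤ I ∧ ∃ s : S, x - f s ∈ J.map (algebraMap R S') := by
    intro x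
    obtain ⟨s, hs⟩ := hf (Ideal.Quotient.mk _ x)
    have h2 : x - f s ∈ I.map (algebraMap R S') := Ideal.Quotient.eq.1 hs.symm
    obtain ⟨T, hT, hxT⟩ := Submodule.mem_span_finite_of_mem_span (h2 : x - f s ∈ Submodule.span S' (algebraMap R S' '' I))
    obtain ⟨T', hT', rfl⟩ := Finset.subset_set_image_iff.1 hT
    refine ⟨Ideal.span T', ⟨T', rfl⟩, Ideal.span_le.2 hT', s, ?_⟩
    rw [Ideal.map_span, ← Finset.coe_image]
    exact hxT
  choose J hJfg hJI s hs using h1
  let J₀ := G.sup J
  have hfg : J₀.FG := Finset.sup_induction (p := fun K : Ideal R => K.FG) Submodule.fg_bot (fun a ha b hb => Submodule.FG.sup ha hb) fun x _ => hJfg x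
  have hle : J₀ ≤ nilradical R := (Finset.sup_le fun x _ => hJI x).trans fun x hx => hI x hx
  obtain ⟨N, hN⟩ := (Ideal.FG.isNilpotent_iff_le_nilradical hfg).2 hle
  set K := J₀.map (algebraMap R S')
  have hbase : ∀ y : S', ∃ t : S, y - f t ∈ K := by
    intro y
    have hy : y ∈ Algebra.adjoin R (G : Set S') := hG ▸ trivial
    induction hy using Algebra.adjoin_induction with
    | mem x hx => exact ⟨s x, Ideal.map_mono (Finset.le_sup hx) (hs x)⟩
    | algebraMap r => exact ⟨algebraMap R S r, by rw [AlgHom.commutes, sub_self]; exact zero_mem _⟩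
    | add x y _ _ hx hy =>
      obtain ⟨a, ha⟩ := hx
      obtain ⟨b, hb⟩ := hy
      exact ⟨a + b, by rw [map_add, add_sub_add_comm]; exact add_mem ha hb⟩
    | mul x y _ _ hx hy =>
      obtain ⟨a, ha⟩ := hx
      obtain ⟨b, hb⟩ := hy
      refine ⟨a * b, ?_⟩
      rw [map_mul, show x * y - f a * f b = (x - f a) * y + f a * (y - f b) by ring]
      exact add_mem (Ideal.mul_mem_right _ _ ha) (Ideal.mul_mem_left _ _ hb)
  have hiter : ∀ n : ℕ, ∀ y : S', ∃ t : S, y - f t ∈ K ^ n := by
    intro n
    induction n with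
    | zero => exact fun y => ⟨0, by simp⟩
    | succ n ih =>
      intro y
      obtain ⟨t, ht⟩ := ih y
      have h3 : ∀ z ∈ K ^ n, ∃ t : S, z - f t ∈ K ^ (n + 1) := by
        intro z hz
        rw [← Ideal.map_pow] at hz
        induction hz using Submodule.span_induction with
        | mem z hz =>
          obtain ⟨r, hr, rfl⟩ := hz
          exact ⟨algebraMap R S r, by rw [AlgHom.commutes, sub_self]; exact zero_mem _⟩
        | zero => exact ⟨0, by simp⟩
        | add a b _ _ ha hb =>
          obtain ⟨p, hp⟩ := ha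
          obtain ⟨q, hq⟩ := hb
          exact ⟨p + q, by rw [map_add, add_sub_add_comm]; exact add_mem hp hq⟩
        | smul c a hmem ha =>
          obtain ⟨p, hp⟩ := ha
          obtain ⟨q, hq⟩ := hbase c
          refine ⟨q * p, ?_⟩
          rw [map_mul, smul_eq_mul, show c * a - f q * f p = (c - f q) * a + f q * (a - f p) by ring]
          refine add_mem ?_ (Ideal.mul_mem_left _ _ hp)
          rw [pow_succ']
          refine Ideal.mul_mem_mul hq ?_
          rw [← Ideal.map_pow]
          exact hmem
      obtain ⟨t', ht'⟩ := h3 _ ht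
      exact ⟨t + t', by rw [map_add, ← sub_sub]; exact ht'⟩
  intro y
  obtain ⟨t, ht⟩ := hiter N y
  rw [← Ideal.map_pow, hN, Ideal.zero_eq_bot, Ideal.map_bot, Ideal.mem_bot, sub_eq_zero] at ht
  exact ⟨t, ht.symm⟩

end Groth.Agent.S9139
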