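import Groth.Statements.S9140
import Groth.Agent.S9139
import Groth.Agent.FlatSES.Basic
import Mathlib.RingTheory.FinitePresentation
import Mathlib.LinearAlgebra.TensorProduct.Quotient
import Mathlib.RingTheory.Nakayama

set_option autoImplicit false
universe u
open CAlg Groth.Agent
open scoped TensorProduct

namespace Groth.Agent.S9140

/-- Let I be a locally nilpotent ideal of a ring R and S → S' a map of R-algebras with S of finite type
over R and S' of finite presentation and flat over R. If the induced map S/IS → S'/IS' is bijective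
(stated as: S → S'/IS' is surjective with kernel IS), then S → S' is bijective. -/
theorem result (R S S' : Type u)
    [CommRing R] [CommRing S] [CommRing S'] [Algebra R S] [Algebra R S'] [Algebra.FiniteType R S]
    [Algebra.FinitePresentation R S'] [Module.Flat R S'] (I : Ideal R) (hI : ∀ x ∈ I, IsNilpotent x)
    (f : S →ₐ[R] S')
    (hsurj : Function.Surjective ((Ideal.Quotient.mk (I.map (algebraMap R S'))).comp f.toRingHom))
    (hker : ∀ s : S, f s ∈ I.map (algebraMap R S') → s ∈ I.map (algebraMap R S)) :
    Function.Bijective f := by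
  have hsur : Function.Surjective f := S9139.result R S S' I hI f hsurj
  refine ⟨(injective_iff_map_eq_zero f).2 fun x hx => ?_, hsur⟩
  let K : Ideal S := RingHom.ker f
  have hKfg : K.FG := by
    obtain ⟨n, g, hg⟩ := Algebra.FiniteType.iff_quotient_mvPolynomial''.1 (inferInstance : Algebra.FiniteType R S)
    have h1 := Algebra.FinitePresentation.ker_fG_of_surjective (f.comp g) (hsur.comp hg)
    have h2 : K = (RingHom.ker (f.comp g)).map g.toRingHom := (Ideal.map_comap_of_surjective g.toRingHom hg K).symm
    rw [h2]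
    exact h1.map _
  let Kr : Submodule R S := K.restrictScalars R
  have hu : CAlgX.UniversallyInjective R Kr.subtype :=
    FlatSES.univInj_of_flat (g := f.toLinearMap) Subtype.val_injective (by
      intro y
      exact ⟨fun h => ⟨⟨y, h⟩, rfl⟩, fun ⟨z, hz⟩ => hz ▸ z.2⟩) hsur
  have hIS : ∀ z : S, z ∈ I.map (algebraMap R S) ↔ z ∈ (I • ⊤ : Submodule R S) := fun z => by
    rw [Ideal.smul_top_eq_map]; rfl
  have hKI : K ≤ I.map (algebraMap R S) * K := by
    intro y hy
    have h1 : y ∈ I.map (algebraMap R S) := hker y (by rw [show f y = 0 from hy]; exact zero_mem _)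
    have h2 : (⟨y, hy⟩ : Kr) ⊗ₜ[R] Ideal.Quotient.mk I 1 = 0 := by
      apply hu (R ⧸ I)
      apply (TensorProduct.tensorQuotEquivQuotSMul S I).injective
      rw [map_zero, map_zero, LinearMap.rTensor_tmul, TensorProduct.tensorQuotEquivQuotSMul_tmul_mk, one_smul, Submodule.Quotient.mk_eq_zero]
      exact (hIS y).1 h1
    have h3 := congrArg (TensorProduct.tensorQuotEquivQuotSMul Kr I) h2
    rw [map_zero, TensorProduct.tensorQuotEquivQuotSMul_tmul_mk, one_smul, Submodule.Quotient.mk_eq_zero] at h3
    have h4 : ∀ w : Kr, w ∈ (I • ⊤ : Submodule R Kr) → (w : S) ∈ I.map (algebraMap R S) * K := by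
      intro w hw
      refine Submodule.smul_induction_on hw (fun r hr u _ => ?_) (fun a b ha hb => add_mem ha hb)
      show r • (u : S) ∈ _
      rw [Algebra.smul_def]
      exact Ideal.mul_mem_mul (Ideal.mem_map_of_mem (algebraMap R S) hr) u.2
    exact h4 ⟨y, hy⟩ h3
  have hjac : I.map (algebraMap R S) ≤ Ring.jacobson S := by
    refine le_trans ?_ (Ring.jacobson_eq_sInf_isMaximal S ▸ le_sInf fun m hm => ?_ : nilradical S ≤ Ring.jacobson S)
    · exact Ideal.map_le_iff_le_comap.2 fun r hr => (hI r hr).map _
    · exact (have := Ideal.IsMaximal.isPrime hm; nilradical_le_prime m)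
  have hbot : K = ⊥ := Submodule.eq_bot_of_le_smul_of_le_jacobson_bot _ K hKfg (hKI.trans_eq (smul_eq_mul _ _).symm) (hjac.trans (by rw [Ring.jacobson_eq_sInf_isMaximal]; exact le_sInf fun m hm => sInf_le hm.2))
  have : x ∈ K := hx
  rwa [hbot, Ideal.mem_bot] at this

end Groth.Agent.S9140
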