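import Groth.Statements.S9141
import Groth.Agent.SyntLib.Field

set_option autoImplicit false
universe u
open Synt

namespace Groth.Agent.S9141

/-- For a finite type algebra S over a field k and g ∈ S, the localization S_g is a global (resp. local)
complete intersection over k whenever S is. -/
theorem result (k S : Type u) [Field k] [CommRing S] [Algebra k S]
    [Algebra.FiniteType k S] (g : S) :
    (Synt.IsGlobalCI k S → Synt.IsGlobalCI k (Localization.Away g)) ∧
      (Synt.IsLCIOver k S → Synt.IsLCIOver k (Localization.Away g)) := by
  refine ⟨SyntLib.isGlobalCI_localization_away g, fun h => ?_⟩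
  haveI : Algebra.FiniteType k (Localization.Away g) :=
    Algebra.FiniteType.trans (S := S) inferInstance (IsLocalization.finiteType_of_monoid_fg (Submonoid.powers g) _)
  refine SyntLib.isLCIOver_iff.mpr fun p => ?_
  haveI := IsLocalization.isLocalization_isLocalization_atPrime_isLocalization (Submonoid.powers g)
    (Localization.AtPrime p.asIdeal) p.asIdeal
  exact SyntLib.isCIOver_of_algEquiv ((IsLocalization.algEquiv (p.asIdeal.comap (algebraMap S (Localization.Away g))).primeCompl
    (Localization.AtPrime (p.asIdeal.comap (algebraMap S (Localization.Away g)))) (Localization.AtPrime p.asIdeal)).restrictScalars k)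
    (SyntLib.isCIOver_of_isLCIOver h _)

end Groth.Agent.S9141
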