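import Groth.Statements.S9143
import Groth.Agent.SyntLib.FieldMore

set_option autoImplicit false
universe u
open Synt

namespace Groth.Agent.S9143

/-- For a local k-algebra S which is essentially of finite type over a field k, being a complete
intersection over k is equivalent to each of: (2) whenever a regular local ring R, essentially of
finite type over k, maps onto S by a surjective k-algebra map, the kernel is generated by a regular
sequence; (3) some regular local ring R, essentially of finite type over k, maps onto S by a
surjective k-algebra map whose kernel is generated by a list of dim R − dim S elements (stated as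
dim R = dim S + the length of the list); (4) S is isomorphic over k to a localization at a prime of
a global complete intersection over k; (5) the same with a local complete intersection over k. -/
theorem result (k S : Type u) [Field k] [CommRing S]
    [IsLocalRing S] [Algebra k S] [Algebra.EssFiniteType k S] :
    (Synt.IsCIOver k S ↔
        ∀ (R : Type u) [CommRing R] [IsRegularLocalRing R] [Algebra k R], Algebra.EssFiniteType k R →
          ∀ π : R →ₐ[k] S, Function.Surjective π →
            ∃ rs : List R, RingTheory.Sequence.IsRegular R rs ∧ RingHom.ker π.toRingHom = Ideal.ofList rs) ∧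
      (Synt.IsCIOver k S ↔
        ∃ (R : Type u) (_ : CommRing R) (_ : IsRegularLocalRing R) (_ : Algebra k R),
          Algebra.EssFiniteType k R ∧ ∃ π : R →ₐ[k] S, Function.Surjective π ∧
            ∃ rs : List R, RingHom.ker π.toRingHom = Ideal.ofList rs ∧
              ringKrullDim R = ringKrullDim S + (rs.length : WithBot ℕ∞)) ∧
      (Synt.IsCIOver k S ↔
        ∃ (A : Type u) (_ : CommRing A) (_ : Algebra k A) (a : Ideal A) (_ : a.IsPrime),
          Algebra.FiniteType k A ∧ Synt.IsGlobalCI k A ∧ Nonempty (S ≃ₐ[k] Localization.AtPrime a)) ∧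
      (Synt.IsCIOver k S ↔
        ∃ (A : Type u) (_ : CommRing A) (_ : Algebra k A) (a : Ideal A) (_ : a.IsPrime),
          Synt.IsLCIOver k A ∧ Nonempty (S ≃ₐ[k] Localization.AtPrime a)) := by
  refine ⟨SyntLib.isCIOver_iff_forall S, SyntLib.isCIOver_iff_exists_numCI S, ⟨fun h => ?_, ?_⟩, ⟨fun h => ?_, ?_⟩⟩
  · obtain ⟨A, i1, i2, a, i3, hft, hG, -, he⟩ := SyntLib.exists_gci_localization S h
    exact ⟨A, i1, i2, a, i3, hft, hG, he⟩
  · rintro ⟨A, i1, i2, a, i3, -, hG, ⟨e⟩⟩
    exact SyntLib.isCIOver_of_algEquiv e.symm (SyntLib.isCIOver_of_isGlobalCI hG a)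
  · obtain ⟨A, i1, i2, a, i3, -, -, hL, he⟩ := SyntLib.exists_gci_localization S h
    exact ⟨A, i1, i2, a, i3, hL, he⟩
  · rintro ⟨A, i1, i2, a, i3, hL, ⟨e⟩⟩
    exact SyntLib.isCIOver_of_algEquiv e.symm (SyntLib.isCIOver_of_isLCIOver hL a)

end Groth.Agent.S9143
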