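import Groth.Statements.S9148
import Groth.Agent.SyntLib.Descend

set_option autoImplicit false
universe u
open Synt

namespace Groth.Agent.S9148

/-- A relative global complete intersection over a ring R descends to a relative global complete
intersection over a finite type ℤ-subalgebra of R containing the coefficients. -/
theorem result (R : Type u) [CommRing R] (n c : ℕ)
    (F : Fin c → MvPolynomial (Fin n) R) (h : Synt.IsRelGCI R n c F) :
    ∃ (R₀ : Subalgebra ℤ R) (F₀ : Fin c → MvPolynomial (Fin n) R₀), Algebra.FiniteType ℤ R₀ ∧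
      (∀ i, MvPolynomial.map (algebraMap R₀ R) (F₀ i) = F i) ∧ Synt.IsRelGCI R₀ n c F₀ := by
  classical
  -- subalgebras containing given coefficients
  have key : ∀ (s : Finset R), ∃ (R₁ : Subalgebra ℤ R), Algebra.FiniteType ℤ R₁ ∧ ∀ x ∈ s, x ∈ R₁ := fun s =>
    ⟨Algebra.adjoin ℤ (s : Set R), (Subalgebra.fg_iff_finiteType _).1 (Subalgebra.fg_adjoin_finset s),
      fun x hx => Algebra.subset_adjoin hx⟩
  have hrange : ∀ (R₁ : Subalgebra ℤ R) (σ : Type) (p : MvPolynomial σ R), (∀ x ∈ p.coeffs, x ∈ R₁) →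
      ∃ p₁ : MvPolynomial σ R₁, MvPolynomial.map (algebraMap R₁ R) p₁ = p := fun R₁ σ p hp =>
    MvPolynomial.mem_range_map_iff_coeffs_subset.2 fun x hx => ⟨⟨x, hp x hx⟩, rfl⟩
  let SR := Synt.RelGCIRing R n c F
  by_cases hS : Subsingleton SR
  · have h1 : (1 : MvPolynomial (Fin n) R) ∈ Ideal.span (Set.range F) := by
      rw [← Ideal.Quotient.eq_zero_iff_mem]
      exact @Subsingleton.elim SR hS _ _
    obtain ⟨a, ha⟩ := Ideal.mem_span_range_iff_exists_fun.1 h1
    obtain ⟨R₁, hft, hR₁⟩ := key (Finset.univ.biUnion fun i => (F i).coeffs ∪ (a i).coeffs)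
    have hmem : ∀ i, ∀ x ∈ (F i).coeffs ∪ (a i).coeffs, x ∈ R₁ := fun i x hx =>
      hR₁ x (Finset.mem_biUnion.2 ⟨i, Finset.mem_univ i, hx⟩)
    choose F₁ hF₁ using fun i => hrange R₁ (Fin n) (F i) fun x hx => hmem i x (Finset.mem_union_left _ hx)
    choose a₁ ha₁ using fun i => hrange R₁ (Fin n) (a i) fun x hx => hmem i x (Finset.mem_union_right _ hx)
    refine ⟨R₁, F₁, hft, hF₁, ?_⟩
    have h2 : ∑ i, a₁ i * F₁ i = 1 := MvPolynomial.map_injective (algebraMap R₁ R) Subtype.val_injective (by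
      simp only [map_sum, map_mul, ha₁, hF₁, map_one]; exact ha)
    haveI : Subsingleton (Synt.RelGCIRing R₁ n c F₁) := Ideal.Quotient.subsingleton_iff.2
      ((Ideal.eq_top_iff_one _).2 (h2 ▸ Ideal.sum_mem _ fun i _ => Ideal.mul_mem_left _ _ (Ideal.subset_span ⟨i, rfl⟩)))
    exact SyntLib.isRelGCI_of_subsingleton F₁
  · obtain ⟨R₀, hft₀, hR₀⟩ := key (Finset.univ.biUnion fun i => (F i).coeffs)
    choose F₀ hF₀ using fun i => hrange R₀ (Fin n) (F i) fun x hx => hR₀ x (Finset.mem_biUnion.2 ⟨i, Finset.mem_univ i, hx⟩)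
    obtain rfl : (fun i => MvPolynomial.map (algebraMap R₀ R) (F₀ i)) = F := funext hF₀
    haveI : Algebra.FiniteType R SR := Algebra.FiniteType.of_surjective (Ideal.Quotient.mkₐ R _) Ideal.Quotient.mk_surjective
    let S₀ := Synt.RelGCIRing R₀ n c F₀
    haveI : Algebra.FiniteType R₀ S₀ := Algebra.FiniteType.of_surjective (Ideal.Quotient.mkₐ R₀ _) Ideal.Quotient.mk_surjective
    haveI := not_subsingleton_iff_nontrivial.1 hS
    obtain ⟨m, hm⟩ := Ideal.exists_maximal SR
    have hdim : ∀ z : PrimeSpectrum SR, ∀ (p : Ideal R) [p.IsPrime], z.asIdeal.comap (algebraMap R SR) = p →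
        c ≤ n ∧ ringKrullDim (p.Fiber SR) ≤ ((n - c : ℕ) : WithBot ℕ∞) := by
      intro z p _ hp
      obtain ⟨Q, hQ, -⟩ := SyntLib.exists_fiber_prime p z.asIdeal hp
      obtain ⟨hcn, hd⟩ := h ⟨p, inferInstance⟩
        (nontrivial_of_ne (0 : p.Fiber SR) 1 fun h0 => hQ.ne_top ((Ideal.eq_top_iff_one _).mpr (h0 ▸ Q.zero_mem)))
      exact ⟨hcn, hd.le⟩
    have hcn : c ≤ n := (hdim ⟨m, hm.isPrime⟩ _ rfl).1
    obtain ⟨K', hK'⟩ := (PrimeSpectrum.isClosed_iff_zeroLocus_ideal _).mp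
      (SyntLib.isOpen_fibreDimLE R₀ S₀ (n - c)).isClosed_compl
    let q₀ := Ideal.Quotient.mk (Ideal.span (Set.range F₀))
    have hKmap : (K'.comap q₀).map q₀ = K' := Ideal.map_comap_of_surjective _ Ideal.Quotient.mk_surjective K'
    have hKW : ∀ z : PrimeSpectrum S₀, ¬ (K'.comap q₀).map q₀ ≤ z.asIdeal → z ∈ SyntLib.fibreDimLE R₀ S₀ (n - c) := by
      intro z hz
      rw [hKmap] at hz
      by_contra hzW
      have : z ∈ PrimeSpectrum.zeroLocus (K' : Set S₀) := hK' ▸ hzW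
      exact hz this
    let J := Ideal.span (Set.range fun i => MvPolynomial.map (algebraMap R₀ R) (F₀ i))
    have hone : (1 : MvPolynomial (Fin n) R) ∈ J ⊔ (K'.comap q₀).map (MvPolynomial.map (algebraMap R₀ R)) := by
      by_contra hne
      obtain ⟨M, hM, hle⟩ := Ideal.exists_le_maximal _ (fun h1 => hne ((Ideal.eq_top_iff_one _).1 h1))
      haveI := hM.isPrime
      have hJM : J ≤ M := le_sup_left.trans hle
      haveI : (M.map (Ideal.Quotient.mk J)).IsPrime :=
        Ideal.map_isPrime_of_surjective Ideal.Quotient.mk_surjective (Ideal.mk_ker.trans_le hJM)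
      let z : PrimeSpectrum SR := ⟨M.map (Ideal.Quotient.mk J), inferInstance⟩
      have hz := (SyntLib.mem_fibreDimLE_map (R' := R) F₀ (n - c) z).1
        (SyntLib.mem_fibreDimLE_of_dim (n - c) z fun p _ hp => (hdim z p hp).2)
      have hzK : PrimeSpectrum.comap (Ideal.quotientMap _ (MvPolynomial.map (algebraMap R₀ R)) (SyntLib.hle_map F₀)) z ∈
          PrimeSpectrum.zeroLocus (K' : Set S₀) := by
        intro k hk
        obtain ⟨k, rfl⟩ := Ideal.Quotient.mk_surjective k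
        show Ideal.Quotient.mk J (MvPolynomial.map (algebraMap R₀ R) k) ∈ M.map (Ideal.Quotient.mk J)
        exact Ideal.mem_map_of_mem _ (hle (Ideal.mem_sup_right (Ideal.mem_map_of_mem _ (show k ∈ K'.comap q₀ from hk))))
      rw [← hK'] at hzK
      exact hzK hz
    obtain ⟨u, hu, v, hv, huv⟩ := Submodule.mem_sup.1 hone
    obtain ⟨a, rfl⟩ := Ideal.mem_span_range_iff_exists_fun.1 hu
    obtain ⟨l, b, k, hbk⟩ := Submodule.mem_span_set'.1 hv
    obtain ⟨R₁', hft₁, hR₁'⟩ := key ((Finset.univ.biUnion fun i => (MvPolynomial.map (algebraMap R₀ R) (F₀ i)).coeffs) ∪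
      (Finset.univ.biUnion fun i => (a i).coeffs) ∪ (Finset.univ.biUnion fun j => (b j).coeffs))
    let R₁ := R₀ ⊔ R₁'
    have hfg : R₁.FG := ((Subalgebra.fg_iff_finiteType _).2 hft₀).sup ((Subalgebra.fg_iff_finiteType _).2 hft₁)
    letI : Algebra R₀ R₁ := (Subalgebra.inclusion (le_sup_left : R₀ ≤ R₁)).toRingHom.toAlgebra
    have hcomp : (algebraMap R₁ R).comp (algebraMap R₀ R₁) = algebraMap R₀ R := RingHom.ext fun x => rfl
    choose a₁ ha₁ using fun i => hrange R₁ (Fin n) (a i) fun x hx => le_sup_right (α := Subalgebra ℤ R)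
      (hR₁' x (Finset.mem_union_left _ (Finset.mem_union_right _ (Finset.mem_biUnion.2 ⟨i, Finset.mem_univ i, hx⟩))))
    choose b₁ hb₁ using fun j => hrange R₁ (Fin n) (b j) fun x hx => le_sup_right (α := Subalgebra ℤ R)
      (hR₁' x (Finset.mem_union_right _ (Finset.mem_biUnion.2 ⟨j, Finset.mem_univ j, hx⟩)))
    choose k₀ hk₀ hk₀e using fun j => (k j).2
    refine ⟨R₁, fun i => MvPolynomial.map (algebraMap R₀ R₁) (F₀ i), (Subalgebra.fg_iff_finiteType _).1 hfg,
      fun i => by rw [MvPolynomial.map_map, hcomp],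
      SyntLib.isRelGCI_of_cofinal hcn F₀ (K'.comap q₀) hKW ?_⟩
    have h2 : ∑ i, a₁ i * MvPolynomial.map (algebraMap R₀ R₁) (F₀ i) +
        ∑ j, b₁ j * MvPolynomial.map (algebraMap R₀ R₁) (k₀ j) = 1 := by
      refine MvPolynomial.map_injective (algebraMap R₁ R) Subtype.val_injective ?_
      simp only [map_add, map_sum, map_mul, MvPolynomial.map_map, hcomp, ha₁, hb₁, hk₀e, map_one]
      rw [← huv, ← hbk]
      rfl
    rw [← h2]
    exact Submodule.add_mem_sup (Ideal.sum_mem _ fun i _ => Ideal.mul_mem_left _ _ (Ideal.subset_span ⟨i, rfl⟩))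
      (Ideal.sum_mem _ fun j _ => Ideal.mul_mem_left _ _ (Ideal.mem_map_of_mem _ (hk₀ j)))

end Groth.Agent.S9148
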