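import Groth.Statements.S9149
import Groth.Agent.SyntLib.Square

set_option autoImplicit false
universe u
open Synt

namespace Groth.Agent.S9149

open Polynomial in
/-- A monic polynomial over a ring A splits into linear factors over some A-algebra A' that is syntomic,
finite free and faithfully flat over A. -/
theorem result (A : Type u) [CommRing A] (P : A[X]) (hP : P.Monic) :
    ∃ (A' : Type u) (_ : CommRing A') (_ : Algebra A A'),
      Synt.IsSyntomic A A' ∧ Module.Finite A A' ∧ Module.Free A A' ∧ Module.FaithfullyFlat A A' ∧
        ∃ s : Multiset A', P.map (algebraMap A A') = (s.map fun b => X - C b).prod := by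
  obtain ⟨A', i1, i2, ι, hf, hfr, hinj, hsq, s, hs⟩ := SyntLib.exists_splitting_square P.natDegree A
    (SyntLib.hasSquarePres_self A) Function.injective_id P hP rfl
  haveI := hf
  haveI := hfr
  refine ⟨A', i1, i2, SyntLib.isSyntomic_of_hasSquarePres hsq, hf, hfr, ?_, s, ?_⟩
  · by_cases hA : Subsingleton A
    · exact { submodule_ne_top := fun m hm => absurd (Subsingleton.elim m ⊤) hm.ne_top }
    · haveI := not_subsingleton_iff_nontrivial.mp hA
      haveI : Nontrivial A' := hinj.nontrivial
      infer_instance
  · rw [← hs]
    congr 1
    exact RingHom.ext fun x => (ι.commutes x).symm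

end Groth.Agent.S9149
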