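import Groth.Statements.S9150
import Groth.Agent.SyntLib.Hom

set_option autoImplicit false
universe u
open Synt

namespace Groth.Agent.S9150

/-- Let I be an ideal of a ring R and S̄ an R-algebra killed by I which is syntomic over R/I. Then S̄ is
covered by finitely many basic opens S̄_g each isomorphic, as an R-algebra, to S/IS for some
relative global complete intersection S over R. -/
theorem result (R : Type u) [CommRing R] (I : Ideal R) (Sb : Type u) [CommRing Sb]
    [Algebra R Sb] [Algebra (R ⧸ I) Sb] [IsScalarTower R (R ⧸ I) Sb] (h : Synt.IsSyntomic (R ⧸ I) Sb) :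
    ∃ s : Finset Sb, Ideal.span (s : Set Sb) = ⊤ ∧ ∀ g ∈ s,
      ∃ (n c : ℕ) (F : Fin c → MvPolynomial (Fin n) R), Synt.IsRelGCI R n c F ∧
        Nonempty (Localization.Away g ≃ₐ[R]
          (Synt.RelGCIRing R n c F ⧸ I.map (algebraMap R (Synt.RelGCIRing R n c F)))) := by
  classical
  have hloc : ∀ q : PrimeSpectrum Sb, ∃ g : Sb, g ∉ q.asIdeal ∧
      ∃ (n c : ℕ) (F : Fin c → MvPolynomial (Fin n) R), Synt.IsRelGCI R n c F ∧
        Nonempty (Localization.Away g ≃ₐ[R]
          (Synt.RelGCIRing R n c F ⧸ I.map (algebraMap R (Synt.RelGCIRing R n c F)))) := by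
    intro q
    obtain ⟨g, hg, n, c, Fb, hFb, ⟨e⟩⟩ := SyntLib.exists_relGCI_of_isSyntomic h q.asIdeal
    have hred : Function.Surjective (MvPolynomial.map (σ := Fin n) (Ideal.Quotient.mk I)) :=
      MvPolynomial.map_surjective _ Ideal.Quotient.mk_surjective
    choose F hF using fun i => hred (Fb i)
    obtain rfl : (fun i => MvPolynomial.map (Ideal.Quotient.mk I) (F i)) = Fb := funext hF
    obtain ⟨a, ha, hrel⟩ := SyntLib.exists_relGCI_of_quot F I hFb
    refine ⟨g, hg, n + 1, c + 1, SyntLib.snocPres F a, hrel, ?_⟩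
    let C := Synt.RelGCIRing R n c F
    let Cb := Synt.RelGCIRing (R ⧸ I) n c fun i => MvPolynomial.map (Ideal.Quotient.mk I) (F i)
    let J := I.map (algebraMap R C)
    let u : C := Ideal.Quotient.mk (Ideal.span (Set.range F)) a
    let T := Localization.Away u
    let θ₀ : MvPolynomial (Fin n) R →ₐ[R] Cb :=
      { (Ideal.Quotient.mk (Ideal.span (Set.range fun i => MvPolynomial.map (Ideal.Quotient.mk I) (F i)))).comp
          (MvPolynomial.map (Ideal.Quotient.mk I)) with
        commutes' := fun r => by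
          show Ideal.Quotient.mk _ (MvPolynomial.map (Ideal.Quotient.mk I) (MvPolynomial.C r)) = _
          rw [MvPolynomial.map_C]
          rfl }
    have hkred : RingHom.ker (MvPolynomial.map (σ := Fin n) (Ideal.Quotient.mk I)) =
        I.map (algebraMap R (MvPolynomial (Fin n) R)) := by
      rw [MvPolynomial.ker_map, Ideal.mk_ker]
      rfl
    have hθ₀ : RingHom.ker θ₀.toRingHom = Ideal.span (Set.range F) ⊔ I.map (algebraMap R (MvPolynomial (Fin n) R)) := by
      rw [← hkred, RingHom.ker_eq_comap_bot (MvPolynomial.map (Ideal.Quotient.mk I)),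
        ← Ideal.comap_map_of_surjective _ hred, Ideal.map_span, ← Set.range_comp]
      show RingHom.ker ((Ideal.Quotient.mk _).comp (MvPolynomial.map (Ideal.Quotient.mk I))) = _
      rw [← RingHom.comap_ker, Ideal.mk_ker]
      rfl
    let θ : C →ₐ[R] Cb := Ideal.Quotient.liftₐ _ θ₀ fun x hx => by
      have : x ∈ RingHom.ker θ₀.toRingHom := by rw [hθ₀]; exact Ideal.mem_sup_left hx
      exact this
    have hθs : Function.Surjective θ := fun y => by
      obtain ⟨y, rfl⟩ := Ideal.Quotient.mk_surjective y
      obtain ⟨x, rfl⟩ := hred y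
      exact ⟨Ideal.Quotient.mk _ x, rfl⟩
    have hθk : RingHom.ker θ.toRingHom = J := by
      refine le_antisymm (fun x hx => ?_) (Ideal.map_le_iff_le_comap.2 fun r hr => ?_)
      · obtain ⟨x, rfl⟩ := Ideal.Quotient.mk_surjective x
        have hx' : x ∈ RingHom.ker θ₀.toRingHom := hx
        rw [hθ₀] at hx'
        have h1 := Ideal.mem_map_of_mem (Ideal.Quotient.mk (Ideal.span (Set.range F))) hx'
        rwa [Ideal.map_sup, Ideal.map_quotient_self, bot_sup_eq, Ideal.map_map] at h1
      · show θ (algebraMap R C r) = 0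
        rw [AlgHom.commutes, IsScalarTower.algebraMap_apply R (R ⧸ I) Cb, Ideal.Quotient.algebraMap_eq,
          Ideal.Quotient.eq_zero_iff_mem.2 hr, map_zero]
    have hθu : IsUnit (θ u) := by
      have h1 : u - 1 ∈ J := by rw [← Ideal.Quotient.eq_zero_iff_mem, map_sub, map_one, sub_eq_zero]; exact ha
      rw [← hθk, RingHom.mem_ker, map_sub, map_one, sub_eq_zero] at h1
      exact (show θ u = 1 from h1) ▸ isUnit_one
    let θT : T →ₐ[R] Cb := IsLocalization.liftAlgHom (M := Submonoid.powers u) (f := θ) fun y => by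
      obtain ⟨_, k, rfl⟩ := y
      rw [map_pow]
      exact hθu.pow k
    have hθT : ∀ x, θT (algebraMap C T x) = θ x := fun x => IsLocalization.lift_eq _ x
    let ψ : Synt.RelGCIRing R (n + 1) (c + 1) (SyntLib.snocPres F a) →ₐ[R] Localization.Away g :=
      (((e.symm.restrictScalars R).toAlgHom.comp θT)).comp (SyntLib.snocEquiv F a).symm.toAlgHom
    have hs : Function.Surjective ψ := by
      intro y
      obtain ⟨x, hx⟩ := hθs (e y)
      refine ⟨SyntLib.snocEquiv F a (algebraMap C T x), ?_⟩
      show e.symm (θT ((SyntLib.snocEquiv F a).symm (SyntLib.snocEquiv F a (algebraMap C T x)))) = y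
      rw [AlgEquiv.symm_apply_apply, hθT, hx, AlgEquiv.symm_apply_apply]
    have hk : RingHom.ker ψ.toRingHom = I.map (algebraMap R (Synt.RelGCIRing R (n + 1) (c + 1) (SyntLib.snocPres F a))) := by
      refine le_antisymm (fun x hx => ?_) (Ideal.map_le_iff_le_comap.2 fun r hr => ?_)
      · obtain ⟨x, rfl⟩ := (SyntLib.snocEquiv F a).surjective x
        have hx' : θT x = 0 := by
          have h1 : e.symm (θT ((SyntLib.snocEquiv F a).symm (SyntLib.snocEquiv F a x))) = 0 := hx
          rwa [AlgEquiv.symm_apply_apply, map_eq_zero_iff _ e.symm.injective] at h1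
        have hxT : x ∈ J.map (algebraMap C T) := by
          obtain ⟨p, s, rfl⟩ := IsLocalization.exists_mk'_eq (Submonoid.powers u) x
          have hu := IsLocalization.map_units T s
          rw [← Ideal.mul_unit_mem_iff_mem _ hu, IsLocalization.mk'_spec]
          refine Ideal.mem_map_of_mem _ ?_
          rw [← hθk, RingHom.mem_ker]
          show θ p = 0
          rw [← hθT, ← IsLocalization.mk'_spec T p s, map_mul, hx', zero_mul]
        rw [Ideal.map_map, ← IsScalarTower.algebraMap_eq] at hxT
        have h2 := Ideal.mem_map_of_mem (SyntLib.snocEquiv F a).toAlgHom.toRingHom hxT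
        rw [Ideal.map_map] at h2
        convert h2 using 2
        · exact (AlgHom.comp_algebraMap (SyntLib.snocEquiv F a).toAlgHom).symm
        · rfl
      · show ψ (algebraMap R _ r) = 0
        rw [AlgHom.commutes, IsScalarTower.algebraMap_apply R (R ⧸ I) (Localization.Away g), Ideal.Quotient.algebraMap_eq,
          Ideal.Quotient.eq_zero_iff_mem.2 hr, map_zero]
    exact ⟨((Ideal.quotientEquivAlgOfEq R hk.symm).trans (Ideal.quotientKerAlgEquivOfSurjective hs)).symm⟩
  choose g hg hrest using hloc
  have htop : Ideal.span (Set.range g) = ⊤ := by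
    by_contra hne
    obtain ⟨m, hm, hle⟩ := Ideal.exists_le_maximal _ hne
    exact hg ⟨m, hm.isPrime⟩ (hle (Ideal.subset_span ⟨_, rfl⟩))
  obtain ⟨t, ht, htt⟩ := (Ideal.span_eq_top_iff_finite _).1 htop
  exact ⟨t, htt, fun x hx => by obtain ⟨q, rfl⟩ := ht hx; exact hrest q⟩

end Groth.Agent.S9150
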