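import Groth.Statements.S9152
import Groth.Agent.CMChart.OverField

set_option autoImplicit false
universe u
open CAlg

namespace Groth.Agent.S9152
open CategoryTheory AlgebraicGeometry in

/-- The Cohen–Macaulay locus of a finite type algebra over a field is open. -/
theorem result (k S : Type u) [Field k] [CommRing S] [Algebra k S]
    [Algebra.FiniteType k S] :
    IsOpen {q : PrimeSpectrum S | LocCoh.IsCohenMacaulayLocalRing (Localization.AtPrime q.asIdeal)} := by
  let f := Spec.map (CommRingCat.ofHom (algebraMap k S))
  haveI : LocallyOfFiniteType f :=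
    (HasRingHomProperty.Spec_iff (P := @LocallyOfFiniteType)).mpr (RingHom.finiteType_algebraMap.mpr inferInstance)
  haveI : LocallyOfFinitePresentation f := LocallyOfFinitePresentation.iff_locallyOfFiniteType.mpr inferInstance
  have e : ∀ q : PrimeSpectrum S, LocCoh.IsCohenMacaulayLocalRing (Localization.AtPrime q.asIdeal) ↔
      MoreMor.IsCMAt f q := fun q => by
    rw [CMChart.isCMAt_iff_stalk]
    exact ⟨CMChart.isCohenMacaulayLocalRing_of_ringEquiv (StructureSheaf.stalkIso _ q).toRingEquiv,
      CMChart.isCohenMacaulayLocalRing_of_ringEquiv (StructureSheaf.stalkIso _ q).symm.toRingEquiv⟩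
  have h : IsOpen {q : PrimeSpectrum S | MoreMor.IsCMAt f q} := CMChart.isOpen_isCMAt f
  simpa only [e] using h

end Groth.Agent.S9152
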