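import Groth.Statements.S9153
import Groth.Agent.Catenary.CM
import Groth.Agent.FibDepth.Field

set_option autoImplicit false
universe u
open CAlg Groth.Agent

namespace Groth.Agent.S9153

/-- In a polynomial ring in finitely many variables over a field, every saturated chain of primes
between two primes p ⊆ q has length equal to the difference of their heights (stated additively:
length + height p = height q). -/
theorem result (k : Type u) [Field k] (n : ℕ)
    (s : LTSeries (PrimeSpectrum (MvPolynomial (Fin n) k)))
    (hsat : ∀ i : Fin s.length, s (Fin.castSucc i) ⋖ s (Fin.succ i)) :
    (s.length : ℕ∞) + s.head.asIdeal.height = s.last.asIdeal.height := by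
  classical
  haveI := FibDepth.cm_mvPolynomial (K := k) (n := n)
  have h := Catenary.height_add_length (Catenary.isCatenary_iff.mp (Catenary.isCatenary_of_cm (MvPolynomial (Fin n) k))) (s := s) (fun i => hsat i)
  rw [PrimeSpectrum.height_eq_orderHeight, PrimeSpectrum.height_eq_orderHeight, h, add_comm]

end Groth.Agent.S9153
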