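import Groth.Statements.S9154
import Groth.Agent.CMFlat.Quotient
import Groth.Agent.DimFormula.Field
import Mathlib.RingTheory.Ideal.KrullsHeightTheorem
import Mathlib.RingTheory.Regular.RegularSequence

set_option autoImplicit false
universe u
open CAlg

open CategoryTheory Limits AlgebraicGeometry Groth.Agent
set_option backward.isDefEq.respectTransparency false
namespace Groth.Agent.S9154

/-- Let S be a Cohen–Macaulay finite type algebra over a field k, equidimensional of dimension d, and
f_1, …, f_i elements (i ≤ d) generating a proper ideal whose zero locus has dimension at most d − i.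
Then that dimension equals d − i and the f_j form a regular sequence in S_q for every prime q
containing them. (The published statement also allows the f_j to generate the unit ideal, where the
zero locus is empty and the equality fails, e.g. f_1 = 1 in k[x]; this row assumes the ideal is
proper.) -/
theorem result (k S : Type u) [Field k] [CommRing S] [Algebra k S]
    [Algebra.FiniteType k S] [LocCoh.IsCohenMacaulayRing S] (d : ℕ)
    (heq : ∀ p ∈ minimalPrimes S, ringKrullDim (S ⧸ p) = d) (f : List S) (hi : f.length ≤ d)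
    (hne : Ideal.ofList f ≠ ⊤)
    (hle : ringKrullDim (S ⧸ Ideal.ofList f) ≤ ((d - f.length : ℕ) : WithBot ℕ∞)) :
    ringKrullDim (S ⧸ Ideal.ofList f) = ((d - f.length : ℕ) : WithBot ℕ∞) ∧
      ∀ (q : Ideal S) [q.IsPrime], Ideal.ofList f ≤ q →
        RingTheory.Sequence.IsRegular (Localization.AtPrime q)
          (f.map (algebraMap S (Localization.AtPrime q))) := by
  haveI : IsNoetherianRing S := Algebra.FiniteType.isNoetherianRing k S
  set I := Ideal.ofList f with hI
  set c := f.length
  have hmono : ∀ (J : Ideal S) (P : PrimeSpectrum S), J ≤ P.asIdeal → ringKrullDim (S ⧸ P.asIdeal) ≤ ringKrullDim (S ⧸ J) := fun J P h =>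
    ringKrullDim_le_of_surjective (Ideal.Quotient.factor h) (Ideal.Quotient.factor_surjective h)
  have key : ∀ (p P : Ideal S) [P.IsPrime], p ∈ minimalPrimes S → p ≤ P →
      ∃ h e : ℕ, (h : ℕ∞) ≤ P.height ∧ ringKrullDim (S ⧸ P) = e ∧ h + e = d := by
    intro p P _ hp hpP
    haveI : p.IsPrime := Ideal.minimalPrimes_isPrime hp
    have hk : RingHom.ker (Ideal.Quotient.mk p) ≤ P := by rw [Ideal.mk_ker]; exact hpP
    haveI : (P.map (Ideal.Quotient.mk p)).IsPrime := Ideal.map_isPrime_of_surjective Ideal.Quotient.mk_surjective hk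
    let q : PrimeSpectrum (S ⧸ p) := ⟨P.map (Ideal.Quotient.mk p), inferInstance⟩
    have h1 := DimFormula.height_add_ringKrullDim_quotient k q
    rw [heq p hp, ringKrullDim_eq_of_ringEquiv (DoubleQuot.quotQuotEquivQuotOfLE hpP)] at h1
    have h2 : q.asIdeal.height ≤ P.height := by
      let emb : PrimeSpectrum (S ⧸ p) → PrimeSpectrum S := PrimeSpectrum.comap (Ideal.Quotient.mk p)
      have hs : StrictMono emb := by
        intro x y hxy
        refine lt_of_le_of_ne (Ideal.comap_mono hxy.le) fun e => hxy.ne ?_
        exact PrimeSpectrum.ext (Ideal.comap_injective_of_surjective _ Ideal.Quotient.mk_surjective (congrArg PrimeSpectrum.asIdeal e))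
      have he : (emb q).asIdeal = P := Ideal.comap_map_mk hpP
      rw [← he, PrimeSpectrum.height_eq_orderHeight, PrimeSpectrum.height_eq_orderHeight]
      exact Order.height_le_height_apply_of_strictMono emb hs q
    haveI : Nontrivial (S ⧸ P) := Ideal.Quotient.nontrivial_iff.2 (Ideal.IsPrime.ne_top ‹_›)
    obtain ⟨e', he'⟩ := WithBot.ne_bot_iff_exists.1 (show ringKrullDim (S ⧸ P) ≠ ⊥ from fun e => by
      have := ringKrullDim_nonneg_of_nontrivial (R := S ⧸ P); rw [e] at this; exact absurd this (by simp))
    have hht : q.asIdeal.height ≠ ⊤ := fun e => by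
      rw [e] at h1
      rw [← he', ← WithBot.coe_add, top_add] at h1
      exact ENat.top_ne_coe d (WithBot.coe_injective h1)
    obtain ⟨h, hh⟩ := ENat.ne_top_iff_exists.mp hht
    rw [← hh] at h1 h2
    rw [← he', ← WithBot.coe_add] at h1
    have h3 : (h : ℕ∞) + e' = d := WithBot.coe_injective (h1.trans (by norm_cast))
    obtain ⟨e, rfl⟩ := ENat.ne_top_iff_exists.mp (show e' ≠ ⊤ from fun e => by simp [e] at h3)
    exact ⟨h, e, h2, by rw [← he']; norm_cast, by exact_mod_cast h3⟩
  have hht : ∀ P : Ideal S, P.IsPrime → I ≤ P → (c : ℕ∞) ≤ P.height := by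
    intro P hP hIP
    obtain ⟨p, hp, hpP⟩ := Ideal.exists_minimalPrimes_le (bot_le : ⊥ ≤ P)
    obtain ⟨h, e, h2, he, hde⟩ := key p P hp hpP
    have := (hmono I ⟨P, hP⟩ hIP).trans hle
    rw [he] at this
    have : e ≤ d - c := by exact_mod_cast this
    exact le_trans (by exact_mod_cast (show c ≤ h by omega)) h2
  refine ⟨le_antisymm hle ?_, fun q _ hIq => ?_⟩
  · obtain ⟨M, hM, hIM⟩ := Ideal.exists_le_maximal I hne
    obtain ⟨P, hP, -⟩ := Ideal.exists_minimalPrimes_le hIM
    haveI : P.IsPrime := hP.1.1
    obtain ⟨p, hp, hpP⟩ := Ideal.exists_minimalPrimes_le (bot_le : ⊥ ≤ P)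
    obtain ⟨h, e, h2, he, hde⟩ := key p P hp hpP
    have hKr : P.height ≤ (c : ℕ∞) := by
      classical
      refine (Ideal.height_le_card_of_mem_minimalPrimes_span_finset (s := f.toFinset) ?_).trans ?_
      · convert hP using 2
        simp [I, Ideal.ofList]
      · exact_mod_cast List.toFinset_card_le f
    have : h ≤ c := by exact_mod_cast h2.trans hKr
    refine le_trans ?_ (hmono I ⟨P, inferInstance⟩ hP.1.2)
    rw [he]
    exact_mod_cast (show d - c ≤ e by omega)
  · haveI : LocCoh.IsCohenMacaulayLocalRing (Localization.AtPrime q) :=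
      LocCoh.IsCohenMacaulayRing.isCohenMacaulayLocalRing_localization q
    have hm : ∀ x ∈ f.map (algebraMap S (Localization.AtPrime q)), x ∈ IsLocalRing.maximalIdeal (Localization.AtPrime q) := by
      intro x hx
      obtain ⟨y, hy, rfl⟩ := List.mem_map.1 hx
      rw [← Localization.AtPrime.map_eq_maximalIdeal]
      exact Ideal.mem_map_of_mem _ (hIq (Ideal.subset_span hy))
    obtain ⟨hw, -⟩ := CMFlat.isWeaklyRegular_of_height (f.map (algebraMap S (Localization.AtPrime q))) hm fun p hp hle' => by
      rw [List.length_map, ← IsLocalization.height_comap q.primeCompl p]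
      refine hht _ (hp.comap _) ?_
      rw [hI, Ideal.ofList, Ideal.span_le]
      intro y hy
      exact hle' (Ideal.subset_span (List.mem_map.2 ⟨y, hy, rfl⟩))
    refine ⟨hw, fun htop => ?_⟩
    have hle' : Ideal.ofList (f.map (algebraMap S (Localization.AtPrime q))) ≤ IsLocalRing.maximalIdeal _ :=
      Ideal.span_le.2 hm
    rw [smul_eq_mul, Ideal.mul_top] at htop
    exact (IsLocalRing.maximalIdeal.isMaximal _).ne_top (top_le_iff.1 (htop.le.trans hle'))

end Groth.Agent.S9154
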