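import Groth.Statements.S9155
import Groth.Agent.Easy3.DiffEtale
import Mathlib

set_option autoImplicit false
universe u
open Diff16

namespace Groth.Agent.S9155

/-- A differential operator of order at most k between modules over B (relative to A → B) has exactly
one extension to the localized modules over S⁻¹B that is again a differential operator of order at
most k (relative to A → S⁻¹B), compatible with the localization maps. -/
theorem result (A B : Type u) [CommRing A] [CommRing B] [Algebra A B]
    (S : Submonoid B) (M N : Type u) [AddCommGroup M] [Module B M] [Module A M] [IsScalarTower A B M]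
    [AddCommGroup N] [Module B N] [Module A N] [IsScalarTower A B N] (k : ℕ) (D : M →ₗ[A] N)
    (hD : Diff16.IsDiffOpLE A B M N k D) :
    ∃! E : LocalizedModule S M →ₗ[A] LocalizedModule S N,
      Diff16.IsDiffOpLE A (Localization S) (LocalizedModule S M) (LocalizedModule S N) k E ∧
        E ∘ₗ (LocalizedModule.mkLinearMap S M).restrictScalars A =
          (LocalizedModule.mkLinearMap S N).restrictScalars A ∘ₗ D := by
  let S' := Localization S
  haveI : Algebra.FormallyEtale B S' := Algebra.FormallyEtale.of_isLocalization S
  let eM : TensorProduct B S' M ≃ₗ[S'] LocalizedModule S M :=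
    (IsLocalizedModule.isBaseChange S S' (LocalizedModule.mkLinearMap S M)).equiv
  have hM : ∀ m, eM (TensorProduct.tmul B (1 : S') m) = LocalizedModule.mkLinearMap S M m := fun m => by
    rw [IsBaseChange.equiv_tmul, one_smul]
  obtain ⟨E, ⟨hE, hE1⟩, hu⟩ := Groth.Agent.Easy3.DiffEtale.existsUnique_ext A B S' k
    ((LocalizedModule.mkLinearMap S N).restrictScalars A ∘ₗ D)
    (Groth.Agent.Easy3.DiffEtale.diff_post A (LocalizedModule.mkLinearMap S N) k D hD)
  refine ⟨E ∘ₗ eM.symm.toLinearMap.restrictScalars A,
    ⟨Groth.Agent.Easy3.DiffEtale.diff_pre A eM.symm.toLinearMap k E hE, LinearMap.ext fun m => ?_⟩, fun F hF => ?_⟩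
  · simp only [LinearMap.comp_apply, LinearMap.coe_restrictScalars, LinearEquiv.coe_coe]
    rw [← hM, LinearEquiv.symm_apply_apply]
    exact hE1 m
  · have h := hu (F ∘ₗ eM.toLinearMap.restrictScalars A)
      ⟨Groth.Agent.Easy3.DiffEtale.diff_pre A eM.toLinearMap k F hF.1, fun m => by
        simp only [LinearMap.comp_apply, LinearMap.coe_restrictScalars, LinearEquiv.coe_coe, hM]
        exact LinearMap.congr_fun hF.2 m⟩
    refine LinearMap.ext fun z => ?_
    rw [← h]
    simp

end Groth.Agent.S9155
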