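import Groth.Statements.S9156
import Groth.Agent.CMChart.Pieces

set_option autoImplicit false
universe u
open CAlg
set_option backward.isDefEq.respectTransparency false
open CategoryTheory Limits AlgebraicGeometry

namespace Groth.Agent.S9156

theorem dim_stalk_eq (A : Type u) [CommRing A] (x : PrimeSpectrum A) :
    ringKrullDim ((Spec (CommRingCat.of A)).presheaf.stalk x) = ringKrullDim (Localization.AtPrime x.asIdeal) :=
  ringKrullDim_eq_of_ringEquiv (IsLocalization.algEquiv (R := A) x.asIdeal.primeCompl
    ((Spec.structureSheaf A).presheaf.stalk x) (Localization.AtPrime x.asIdeal)).toRingEquiv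

/-- A Cohen–Macaulay finite type algebra S over a field k decomposes as a finite product of k-algebras
S_0 × ⋯ × S_N in which every maximal ideal of the factor S_d has height d (so Spec S is a finite
disjoint union of equidimensional open and closed pieces). -/
theorem result (k S : Type u) [Field k] [CommRing S]
    [Algebra k S] [Algebra.FiniteType k S] [LocCoh.IsCohenMacaulayRing S] :
    ∃ (N : ℕ) (T : Fin (N + 1) → Type u) (_ : ∀ d, CommRing (T d)) (_ : ∀ d, Algebra k (T d)),
      Nonempty (S ≃ₐ[k] ((d : Fin (N + 1)) → T d)) ∧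
        ∀ (d : Fin (N + 1)) (m : Ideal (T d)), m.IsMaximal → m.height = (d : ℕ) := by
  have hCM : ∀ p : PrimeSpectrum k, LocCoh.IsCohenMacaulayRing (p.asIdeal.Fiber S) := by
    intro p
    haveI : p.asIdeal.IsMaximal := by
      rw [(Ideal.eq_bot_or_top p.asIdeal).resolve_right p.isPrime.ne_top]; exact Ideal.bot_isMaximal
    have hs : Function.Surjective (Algebra.TensorProduct.includeRight : S →ₐ[k] p.asIdeal.Fiber S) :=
      Algebra.TensorProduct.includeRight_surjective S (Ideal.algebraMap_residueField_surjective p.asIdeal)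
    have hi : Function.Injective (Algebra.TensorProduct.includeRight : S →ₐ[k] p.asIdeal.Fiber S) :=
      Algebra.TensorProduct.includeRight_injective (algebraMap k p.asIdeal.ResidueField).injective
    letI := (Algebra.TensorProduct.includeRight : S →ₐ[k] p.asIdeal.Fiber S).toRingHom.toAlgebra
    haveI : IsLocalization (⊥ : Submonoid S) S := IsLocalization.self (by simp)
    haveI : IsLocalization (⊥ : Submonoid S) (p.asIdeal.Fiber S) :=
      IsLocalization.isLocalization_of_algEquiv (⊥ : Submonoid S)
        (AlgEquiv.ofBijective (Algebra.ofId S (p.asIdeal.Fiber S)) ⟨hi, hs⟩)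
    exact Groth.Agent.CMChart.isCohenMacaulayRing_of_isLocalization (⊥ : Submonoid S)
  haveI : Algebra.FinitePresentation k S := Algebra.FinitePresentation.of_finiteType.mp inferInstance
  obtain ⟨N, T, i1, i2, hT, h⟩ := Groth.Agent.CMChart.exists_decomposition hCM
  refine ⟨N, T, i1, i2, hT, fun d m hm => ?_⟩
  haveI := (h d).2.1
  let f : Spec (CommRingCat.of (T d)) ⟶ Spec (CommRingCat.of k) :=
    Spec.map (CommRingCat.ofHom (algebraMap k (T d)))
  haveI : LocallyOfFiniteType f :=
    (HasRingHomProperty.Spec_iff (P := @LocallyOfFiniteType)).mpr (RingHom.finiteType_algebraMap.mpr inferInstance)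
  let x : PrimeSpectrum (T d) := ⟨m, hm.isPrime⟩
  obtain ⟨b, δ, hb, hloc, -, hδ⟩ := Groth.Agent.CMChart.localDim_field_eq f x
  have hcl : IsClosed ({x} : Set (PrimeSpectrum (T d))) := (PrimeSpectrum.isClosed_singleton_iff_isMaximal x).mpr hm
  rw [hδ hcl, add_zero] at hloc
  have h1 : ((b : ℕ) : WithBot ℕ∞) = ((d : ℕ) : WithBot ℕ∞) := by
    rw [← hloc, ← Groth.Agent.CMChart.fibreDimAt_eq_localDim f x]
    exact (h d).2.2.2.2 x
  have h2 : ringKrullDim (Localization.AtPrime m) = ((d : ℕ) : WithBot ℕ∞) := by
    rw [← h1, ← hb]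
    exact (dim_stalk_eq (T d) x).symm
  rw [IsLocalization.AtPrime.ringKrullDim_eq_height m] at h2
  exact_mod_cast h2

end Groth.Agent.S9156
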