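import Groth.Statements.S9157
import Mathlib.Algebra.Module.FinitePresentation
import Mathlib.Algebra.Module.LocalizedModule.Submodule
import Mathlib.Algebra.Module.LocalizedModule.IsLocalization
import Mathlib.RingTheory.Localization.Finiteness

set_option autoImplicit false
universe u
open CAlg

namespace Groth.Agent.S9157

/-- If the localization S⁻¹M of an R-module M is finitely presented over S⁻¹R, then some finitely
presented R-module M' maps to M inducing an isomorphism S⁻¹M' → S⁻¹M. -/
theorem result (R : Type u) [CommRing R] (S : Submonoid R)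
    (M : Type u) [AddCommGroup M] [Module R M]
    [Module.FinitePresentation (Localization S) (LocalizedModule S M)] :
    ∃ (M' : Type u) (_ : AddCommGroup M') (_ : Module R M') (φ : M' →ₗ[R] M),
      Module.FinitePresentation R M' ∧ Function.Bijective (LocalizedModule.map S φ) := by
  classical
  obtain ⟨G, hG⟩ := (inferInstance : Module.Finite (Localization S) (LocalizedModule S M)).fg_top
  have hrep : ∀ {N : Type u} [AddCommGroup N] [Module R N] (z : LocalizedModule S N), ∃ (m : N) (s : S), z = LocalizedModule.mk m s := by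
    intro N _ _ z
    induction z using LocalizedModule.induction_on with
    | h m s => exact ⟨m, s, rfl⟩
  choose num den hnd using fun z : LocalizedModule S M => hrep z
  let π : (G → R) →ₗ[R] M := Fintype.linearCombination R (fun z : G => num z.1)
  let πS := LocalizedModule.map S π
  have hπm : ∀ (x : G → R) (s : S), πS (LocalizedModule.mk x s) = LocalizedModule.mk (π x) s := fun x s => LocalizedModule.map_mk S π x s
  have hsur : Function.Surjective πS := by
    rw [← LinearMap.range_eq_top, eq_top_iff, ← hG, Submodule.span_le]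
    intro z hz
    refine ⟨LocalizedModule.mk (Pi.single (⟨z, hz⟩ : G) 1) (den z), ?_⟩
    rw [hπm, Fintype.linearCombination_apply_single, one_smul, ← hnd]
  obtain ⟨W, hW⟩ := Module.FinitePresentation.fg_ker (R := Localization S) πS hsur
  have hW' : ∀ w : W, ∃ v : G → R, π v = 0 ∧ ∃ s : S, (w : LocalizedModule S (G → R)) = LocalizedModule.mk v s := by
    rintro ⟨w, hw⟩
    obtain ⟨v, s, rfl⟩ := hrep w
    have h1 : πS (LocalizedModule.mk v s) = 0 := LinearMap.mem_ker.1 (hW ▸ Submodule.subset_span hw)
    rw [hπm, ← LocalizedModule.zero_mk s, LocalizedModule.mk_eq] at h1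
    obtain ⟨u, hu⟩ := h1
    refine ⟨((u * s : S) : R) • v, ?_, u * s * s, ?_⟩
    · rw [map_smul, Submonoid.coe_mul, mul_smul]
      simpa [Submonoid.smul_def] using hu
    · exact (LocalizedModule.mk_cancel_common_left (u * s) s v).symm
  choose v hv0 sv hv using hW'
  let L : Submodule R (G → R) := Submodule.span R (Set.range v)
  have hL : L ≤ LinearMap.ker π := Submodule.span_le.2 (by rintro _ ⟨w, rfl⟩; exact hv0 w)
  refine ⟨(G → R) ⧸ L, inferInstance, inferInstance, L.liftQ π hL, ?_, ?_⟩
  · exact Module.finitePresentation_of_surjective L.mkQ L.mkQ_surjective (by rw [Submodule.ker_mkQ]; exact Submodule.fg_span (Set.finite_range v))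
  have hloc : ∀ z ∈ Submodule.span (Localization S) (W : Set (LocalizedModule S (G → R))), LocalizedModule.map S L.mkQ z = 0 := by
    intro z hz
    refine (Submodule.span_le (p := LinearMap.ker (LocalizedModule.map S L.mkQ))).2 (fun w hw => ?_) hz
    rw [SetLike.mem_coe, LinearMap.mem_ker, show w = LocalizedModule.mk (v ⟨w, hw⟩) (sv ⟨w, hw⟩) from hv ⟨w, hw⟩, LocalizedModule.map_mk, show L.mkQ (v ⟨w, hw⟩) = 0 from
      (Submodule.Quotient.mk_eq_zero L).2 (Submodule.subset_span ⟨_, rfl⟩), LocalizedModule.zero_mk]
  refine ⟨(injective_iff_map_eq_zero _).2 fun z hz => ?_, fun y => ?_⟩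
  · obtain ⟨q, s, rfl⟩ := hrep z
    obtain ⟨q, rfl⟩ := L.mkQ_surjective q
    rw [LocalizedModule.map_mk] at hz
    have h1 : LocalizedModule.mk q s ∈ LinearMap.ker πS := by rw [LinearMap.mem_ker, hπm]; exact hz
    rw [← hW] at h1
    rw [← hloc _ h1, LocalizedModule.map_mk]
  · obtain ⟨z, rfl⟩ := hsur y
    obtain ⟨q, s, rfl⟩ := hrep z
    exact ⟨LocalizedModule.mk (L.mkQ q) s, by rw [LocalizedModule.map_mk, hπm]; rfl⟩

end Groth.Agent.S9157
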