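import Groth.Statements.S9158
import Groth.Agent.GenFree.ReducedMain

set_option autoImplicit false
universe u
open CAlg

namespace Groth.Agent.S9158

/-- Generic freeness over a reduced ring: let R → S be of finite type with R reduced and M a finite
S-module. There is a dense open subset U of Spec R such that each point of U lies in a basic open
D(f) ⊆ U with M_f and S_f free over R_f, S_f of finite presentation over R_f, and M_f of finite
presentation over S_f. -/
theorem result (R S : Type u) [CommRing R] [IsReduced R] [CommRing S]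
    [Algebra R S] [Algebra.FiniteType R S] (M : Type u) [AddCommGroup M] [Module S M] [Module R M]
    [IsScalarTower R S M] [Module.Finite S M] :
    ∃ U : Set (PrimeSpectrum R), IsOpen U ∧ Dense U ∧ ∀ u ∈ U, ∃ f : R, f ∉ u.asIdeal ∧
      (PrimeSpectrum.basicOpen f : Set (PrimeSpectrum R)) ⊆ U ∧
      Module.Free (Localization.Away f) (LocalizedModule (Submonoid.powers f) M) ∧
      Module.Free (Localization.Away f) (LocalizedModule (Submonoid.powers f) S) ∧
      (Localization.awayMap (algebraMap R S) f).FinitePresentation ∧
      Module.FinitePresentation (Localization.Away (algebraMap R S f))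
        (LocalizedModule (Submonoid.powers (algebraMap R S f)) M) := by
  let U : Set (PrimeSpectrum R) := ⋃ f ∈ {f : R |
      Module.Free (Localization.Away f) (LocalizedModule (Submonoid.powers f) M) ∧
      Module.Free (Localization.Away f) (LocalizedModule (Submonoid.powers f) S) ∧
      (Localization.awayMap (algebraMap R S) f).FinitePresentation ∧
      Module.FinitePresentation (Localization.Away (algebraMap R S f))
        (LocalizedModule (Submonoid.powers (algebraMap R S f)) M)}, (PrimeSpectrum.basicOpen f : Set (PrimeSpectrum R))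
  refine ⟨U, isOpen_biUnion fun f _ => (PrimeSpectrum.basicOpen f).isOpen, ?_, fun u hu => ?_⟩
  · rw [PrimeSpectrum.isTopologicalBasis_basic_opens.dense_iff]
    rintro _ ⟨a, rfl⟩ ⟨p, hp⟩
    have ha : a ≠ 0 := fun h => hp (h ▸ zero_mem _)
    obtain ⟨f, haf, hf, h1, h2, h3, h4⟩ :=
      Groth.Agent.GenFree.generic_freeness_reduced (R := R) (S := S) (M := M) ha
    obtain ⟨q, hq⟩ : ∃ q : PrimeSpectrum R, q ∈ PrimeSpectrum.basicOpen f := by
      by_contra hne
      push Not at hne
      exact hf (IsNilpotent.eq_zero ((PrimeSpectrum.basicOpen_eq_bot_iff f).1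
        (eq_bot_iff.2 fun p hp => (hne p hp).elim)))
    exact ⟨q, fun hmem => hq (q.asIdeal.mem_of_dvd haf hmem),
      Set.mem_iUnion₂.2 ⟨f, ⟨h1, h2, h3, h4⟩, hq⟩⟩
  · obtain ⟨f, hf, huf⟩ := Set.mem_iUnion₂.1 hu
    exact ⟨f, huf, fun v hv => Set.mem_biUnion hf hv, hf⟩

end Groth.Agent.S9158
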