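import Groth.Statements.S9160
import Mathlib.RingTheory.KrullDimension.NonZeroDivisors
import Mathlib.RingTheory.HopkinsLevitzki
import Mathlib.RingTheory.Length
import Mathlib.Tactic.Ring

set_option autoImplicit false
universe u
open CAlg

namespace Groth.Agent.S9160

/-- In a semi-local Noetherian ring of dimension one, for nonzerodivisors a and b the length of R/(ab)
is the sum of the lengths of R/(a) and R/(b), and these lengths are finite. -/
theorem result (R : Type u) [CommRing R] [IsNoetherianRing R]
    (hsemi : Finite (MaximalSpectrum R)) (hdim : ringKrullDim R = 1) (a b : R) (ha : IsRegular a)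
    (hb : IsRegular b) :
    Module.length R (R ⧸ Ideal.span ({a * b} : Set R)) =
        Module.length R (R ⧸ Ideal.span ({a} : Set R)) + Module.length R (R ⧸ Ideal.span ({b} : Set R)) ∧
      Module.length R (R ⧸ Ideal.span ({a} : Set R)) ≠ ⊤ ∧
      Module.length R (R ⧸ Ideal.span ({b} : Set R)) ≠ ⊤ := by
  classical
  let q := fun c : R => R ⧸ Ideal.span ({c} : Set R)
  have hfin : ∀ c : R, IsRegular c → Module.length R (R ⧸ Ideal.span ({c} : Set R)) ≠ ⊤ := by
    intro c hc
    set I := Ideal.span ({c} : Set R)
    have h1 := ringKrullDim_quotient_succ_le_of_nonZeroDivisor (show c ∈ nonZeroDivisors R from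
      mem_nonZeroDivisors_iff_right.mpr fun x hx => hc.right (by simpa using hx))
    rw [hdim] at h1
    haveI : Ring.KrullDimLE 0 (R ⧸ I) := by
      rw [Ring.krullDimLE_iff]
      generalize ringKrullDim (R ⧸ I) = e at h1
      induction e with
      | bot => exact bot_le
      | coe e =>
        induction e with
        | top => exact absurd (WithBot.coe_le_coe.mp h1) (by simp)
        | coe e => norm_cast at h1 ⊢; omega
    haveI : IsNoetherianRing (R ⧸ I) := isNoetherianRing_of_surjective R _ (Ideal.Quotient.mk I) Ideal.Quotient.mk_surjective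
    haveI : IsArtinianRing (R ⧸ I) := isArtinianRing_iff_krullDimLE_zero.mpr inferInstance
    let up : Submodule R (R ⧸ I) → Submodule (R ⧸ I) (R ⧸ I) := fun W =>
      { carrier := W
        add_mem' := W.add_mem
        zero_mem' := W.zero_mem
        smul_mem' := fun r x hx => by
          obtain ⟨r, rfl⟩ := Ideal.Quotient.mk_surjective r
          exact W.smul_mem r hx }
    have hup : StrictMono up := fun W W' h => ⟨fun x hx => h.le hx, fun hle => h.not_ge fun x hx => hle hx⟩
    haveI : IsArtinian R (R ⧸ I) := hup.wellFoundedLT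
    exact Module.length_ne_top
  refine ⟨?_, hfin a ha, hfin b hb⟩
  let f : (R ⧸ Ideal.span ({b} : Set R)) →ₗ[R] R ⧸ Ideal.span ({a * b} : Set R) :=
    Submodule.mapQ _ _ (LinearMap.mulLeft R a) (fun x hx => by
      obtain ⟨c, rfl⟩ := Ideal.mem_span_singleton'.mp hx
      exact Ideal.mem_span_singleton'.mpr ⟨c, by show _ = a * (c * b); ring⟩)
  let g : (R ⧸ Ideal.span ({a * b} : Set R)) →ₗ[R] R ⧸ Ideal.span ({a} : Set R) :=
    Submodule.factor (Ideal.span_singleton_le_span_singleton.mpr (dvd_mul_right a b))
  have hf : Function.Injective f := by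
    rw [← LinearMap.ker_eq_bot, LinearMap.ker_eq_bot']
    intro x hx
    obtain ⟨x, rfl⟩ := Submodule.Quotient.mk_surjective _ x
    obtain ⟨c, hc⟩ := Ideal.mem_span_singleton'.mp ((Submodule.Quotient.mk_eq_zero _).mp hx :
      a * x ∈ Ideal.span ({a * b} : Set R))
    refine (Submodule.Quotient.mk_eq_zero _).mpr (Ideal.mem_span_singleton'.mpr ⟨c, ha.left ?_⟩)
    show a * (c * b) = a * x
    rw [← hc]; ring
  have hg : Function.Surjective g := fun x => by
    obtain ⟨x, rfl⟩ := Submodule.Quotient.mk_surjective _ x
    exact ⟨Submodule.Quotient.mk x, rfl⟩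
  have hex : Function.Exact f g := by
    intro y
    obtain ⟨y, rfl⟩ := Submodule.Quotient.mk_surjective _ y
    constructor
    · intro hy
      obtain ⟨c, hc⟩ := Ideal.mem_span_singleton'.mp ((Submodule.Quotient.mk_eq_zero _).mp hy :
        y ∈ Ideal.span ({a} : Set R))
      exact ⟨Submodule.Quotient.mk c, congrArg Submodule.Quotient.mk (show a * c = y by rw [← hc]; ring)⟩
    · rintro ⟨x, hx⟩
      obtain ⟨x, rfl⟩ := Submodule.Quotient.mk_surjective _ x
      rw [← hx]
      exact (Submodule.Quotient.mk_eq_zero _).mpr (Ideal.mem_span_singleton'.mpr ⟨x, by show x * a = a * x; ring⟩)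
  rw [Module.length_eq_add_of_exact f g hf hg hex, add_comm]

end Groth.Agent.S9160
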