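import Groth.Statements.S9161
import Mathlib.LinearAlgebra.Prod
import Mathlib.Tactic.Abel

set_option autoImplicit false
universe u
open CAlg

namespace Groth.Agent.S9161

/-- If two two-term complexes of R-modules A₁ → A₀ and B₁ → B₀ are homotopy equivalent (maps of
complexes both ways whose composites are homotopic to the identity maps), then A₁ ⊕ B₀ and B₁ ⊕ A₀
are isomorphic R-modules. -/
theorem result (R : Type u) [CommRing R]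
    (A₁ A₀ B₁ B₀ : Type u) [AddCommGroup A₁] [Module R A₁] [AddCommGroup A₀] [Module R A₀]
    [AddCommGroup B₁] [Module R B₁] [AddCommGroup B₀] [Module R B₀]
    (dA : A₁ →ₗ[R] A₀) (dB : B₁ →ₗ[R] B₀) (φ₁ : A₁ →ₗ[R] B₁) (φ₀ : A₀ →ₗ[R] B₀)
    (ψ₁ : B₁ →ₗ[R] A₁) (ψ₀ : B₀ →ₗ[R] A₀) (hφ : dB ∘ₗ φ₁ = φ₀ ∘ₗ dA) (hψ : dA ∘ₗ ψ₁ = ψ₀ ∘ₗ dB)
    (h : A₀ →ₗ[R] A₁) (hh₁ : LinearMap.id - ψ₁ ∘ₗ φ₁ = h ∘ₗ dA) (hh₀ : LinearMap.id - ψ₀ ∘ₗ φ₀ = dA ∘ₗ h)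
    (h' : B₀ →ₗ[R] B₁) (hh'₁ : LinearMap.id - φ₁ ∘ₗ ψ₁ = h' ∘ₗ dB)
    (hh'₀ : LinearMap.id - φ₀ ∘ₗ ψ₀ = dB ∘ₗ h') :
    Nonempty ((A₁ × B₀) ≃ₗ[R] (B₁ × A₀)) := by
  let M : (A₁ × B₀) →ₗ[R] (B₁ × A₀) := (φ₁.coprod h').prod (dA.coprod (-ψ₀))
  let N : (B₁ × A₀) →ₗ[R] (A₁ × B₀) := (ψ₁.coprod h).prod (dB.coprod (-φ₀))
  have e1 := fun x => LinearMap.congr_fun hh₁ x
  have e0 := fun x => LinearMap.congr_fun hh₀ x
  have e1' := fun x => LinearMap.congr_fun hh'₁ x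
  have e0' := fun x => LinearMap.congr_fun hh'₀ x
  have c1 := fun x => LinearMap.congr_fun hφ x
  have c2 := fun x => LinearMap.congr_fun hψ x
  simp only [LinearMap.sub_apply, LinearMap.id_apply, LinearMap.comp_apply] at e1 e0 e1' e0' c1 c2
  have hNM : ∀ a b, N (M (a, b)) = (a + (ψ₁ (h' b) - h (ψ₀ b)), b) := fun a b => by
    show (ψ₁ (φ₁ a + h' b) + h (dA a + -ψ₀ b), dB (φ₁ a + h' b) + -φ₀ (dA a + -ψ₀ b)) = _
    simp only [map_add, map_neg, Prod.mk.injEq]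
    refine ⟨?_, ?_⟩
    · rw [← e1 a]; abel
    · rw [c1 a, ← e0' b]; abel
  have hMN : ∀ b a, M (N (b, a)) = (b + (φ₁ (h a) - h' (φ₀ a)), a) := fun b a => by
    show (φ₁ (ψ₁ b + h a) + h' (dB b + -φ₀ a), dA (ψ₁ b + h a) + -ψ₀ (dB b + -φ₀ a)) = _
    simp only [map_add, map_neg, Prod.mk.injEq]
    refine ⟨?_, ?_⟩
    · rw [← e1' b]; abel
    · rw [c2 b, ← e0 a]; abel
  refine ⟨LinearEquiv.ofBijective M ⟨fun x y hxy => ?_, fun z => ?_⟩⟩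
  · have h' := congrArg N hxy
    rw [← Prod.mk.eta (p := x), ← Prod.mk.eta (p := y), hNM, hNM, Prod.mk.injEq] at h'
    obtain ⟨h1, h2⟩ := h'
    rw [h2] at h1
    exact Prod.ext (add_right_cancel h1) h2
  · refine ⟨N (z.1 - (φ₁ (h z.2) - (fun w => w) (h' (φ₀ z.2))), z.2), ?_⟩
    rw [hMN]
    exact Prod.ext (sub_add_cancel _ _) rfl

end Groth.Agent.S9161
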