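import Groth.Statements.S9162
import Groth.Agent.CotLib.Schanuel

set_option autoImplicit false
universe u
open CAlg Groth.Agent
open scoped TensorProduct

namespace Groth.Agent.S9162

/-- Let S be an R-algebra and α : R[x_1, …, x_n] → S, β : R[y_1, …, y_m] → S surjective R-algebra maps
(presentations by polynomial rings in finitely many variables; the kernels I and J need not be
finitely generated). Then I/I² ⊕ S^m and J/J² ⊕ S^n are isomorphic S-modules. -/
theorem result (R S : Type u) [CommRing R] [CommRing S]
    [Algebra R S] (n m : ℕ) (α : MvPolynomial (Fin n) R →ₐ[R] S) (hα : Function.Surjective α)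
    (β : MvPolynomial (Fin m) R →ₐ[R] S) (hβ : Function.Surjective β) :
    Nonempty (((Algebra.Extension.ofSurjective α hα).Cotangent × (Fin m → S)) ≃ₗ[S]
      ((Algebra.Extension.ofSurjective β hβ).Cotangent × (Fin n → S))) := by
  let P := Algebra.Extension.ofSurjective α hα
  let Q := Algebra.Extension.ofSurjective β hβ
  haveI : Algebra.FormallySmooth R P.Ring :=
    inferInstanceAs (Algebra.FormallySmooth R (MvPolynomial (Fin n) R))
  haveI : Algebra.FormallySmooth R Q.Ring :=
    inferInstanceAs (Algebra.FormallySmooth R (MvPolynomial (Fin m) R))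
  obtain ⟨e⟩ := CotLib.nonempty_equiv_of_formallySmooth P Q
  have bP : Module.Basis (Fin n) S P.CotangentSpace :=
    (show Module.Basis (Fin n) P.Ring Ω[P.Ring⁄R] from
      KaehlerDifferential.mvPolynomialBasis R (Fin n)).baseChange S
  have bQ : Module.Basis (Fin m) S Q.CotangentSpace :=
    (show Module.Basis (Fin m) Q.Ring Ω[Q.Ring⁄R] from
      KaehlerDifferential.mvPolynomialBasis R (Fin m)).baseChange S
  exact ⟨(((LinearEquiv.refl S _).prodCongr bQ.equivFun.symm).trans e).trans
    ((LinearEquiv.prodComm S _ _).trans ((LinearEquiv.refl S _).prodCongr bP.equivFun))⟩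

end Groth.Agent.S9162
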