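import Groth.Statements.S9163
import Mathlib.RingTheory.IntegralClosure.IsIntegralClosure.Basic
import Mathlib.RingTheory.FiniteType
import Mathlib.Algebra.Algebra.Subalgebra.Tower

set_option autoImplicit false
universe u
open CAlg

namespace Groth.Agent.S9163

/-- If S is integral over R, then any finitely many elements of R and of S lie in a pair R₀ ⊆ R, S₀ ⊆ S
with R₀ a finite type ℤ-subalgebra, S₀ an R₀-subalgebra of S, and S₀ finite as an R₀-module; so R →
S is the directed colimit of finite maps between finite type ℤ-algebras. -/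
theorem result (R S : Type u) [CommRing R] [CommRing S] [Algebra R S]
    [Algebra.IsIntegral R S] (E : Finset R) (F : Finset S) :
    ∃ (R₀ : Subalgebra ℤ R) (S₀ : Subalgebra R₀ S), Algebra.FiniteType ℤ R₀ ∧ (E : Set R) ⊆ R₀ ∧
      (F : Set S) ⊆ S₀ ∧ Module.Finite R₀ S₀ := by
  classical
  have hint : ∀ x : S, ∃ p : Polynomial R, p.Monic ∧ Polynomial.eval₂ (algebraMap R S) x p = 0 := fun x => Algebra.IsIntegral.isIntegral x
  choose p hp hp0 using hint
  let C : Finset R := E ∪ F.biUnion fun x => (p x).coeffs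
  let R₀ := Algebra.adjoin ℤ (C : Set R)
  have hC : (C : Set R) ⊆ R₀ := Algebra.subset_adjoin
  refine ⟨R₀, Algebra.adjoin R₀ (F : Set S), ?_, fun e he => hC (Finset.mem_coe.2 (Finset.mem_union_left _ he)), Algebra.subset_adjoin, ?_⟩
  · exact (Subalgebra.fg_iff_finiteType _).1 ⟨C, rfl⟩
  · refine Module.Finite.iff_fg.2 (fg_adjoin_of_finite F.finite_toSet fun x hx => ?_)
    have hlift : p x ∈ Polynomial.lifts (algebraMap R₀ R) := by
      rw [Polynomial.lifts_iff_coeff_lifts]
      intro n
      by_cases h0 : (p x).coeff n = 0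
      · exact ⟨0, by rw [map_zero, h0]⟩
      · exact ⟨⟨_, hC (Finset.mem_coe.2 (Finset.mem_union_right _ (Finset.mem_biUnion.2 ⟨x, hx, Polynomial.coeff_mem_coeffs h0⟩)))⟩, rfl⟩
    obtain ⟨q, hq, -, hqm⟩ := Polynomial.lifts_and_natDegree_eq_and_monic hlift (hp x)
    refine ⟨q, hqm, ?_⟩
    rw [← hp0 x, ← hq, Polynomial.eval₂_map]
    rfl

end Groth.Agent.S9163
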