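import Groth.Statements.S9164
import Mathlib.Algebra.Module.Lattice
import Mathlib.RingTheory.OrderOfVanishing.Basic
import Mathlib.RingTheory.KrullDimension.Field
import Mathlib.RingTheory.Nakayama
import Mathlib.RingTheory.Length
import Mathlib.Algebra.BigOperators.Group.Finset.Piecewise

set_option autoImplicit false
universe u
open CAlg

namespace Groth.Agent.S9164

/-- Let R be a one-dimensional Noetherian local domain with fraction field K and V a finite-dimensional
K-vector space; a lattice is a finitely generated R-submodule of V spanning V over K. (1) For a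
lattice M and an R-submodule M' ⊇ M: M' is a lattice iff M'/M has finite length over R iff M' is
finitely generated. (2) For a lattice M and M' ⊆ M: M' is a lattice iff M/M' has finite length. (3)
The intersection of two lattices is a lattice. (The published statement also asserts that the sum M
+ M' of two lattices is a lattice and two identities between lengths of quotients of nested
lattices; this row states (1), (2) and the intersection half of (3).) -/
theorem result (R K V : Type u) [CommRing R] [IsDomain R]
    [IsNoetherianRing R] [IsLocalRing R] (hdim : ringKrullDim R = 1) [Field K] [Algebra R K]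
    [IsFractionRing R K] [AddCommGroup V] [Module K V] [Module R V] [IsScalarTower R K V]
    [FiniteDimensional K V] (M : Submodule R V) [Submodule.IsLattice K M] :
    (∀ M' : Submodule R V, M ≤ M' →
        (Submodule.IsLattice K M' ↔ Module.length R (M' ⧸ Submodule.comap M'.subtype M) ≠ ⊤) ∧
          (Submodule.IsLattice K M' ↔ M'.FG)) ∧
      (∀ M' : Submodule R V, M' ≤ M →
        (Submodule.IsLattice K M' ↔ Module.length R (M ⧸ Submodule.comap M.subtype M') ≠ ⊤)) ∧
      ∀ M' : Submodule R V, Submodule.IsLattice K M' → Submodule.IsLattice K (M ⊓ M') := by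
  classical
  haveI : Ring.KrullDimLE 1 R := Ring.krullDimLE_iff.mpr (by rw [hdim]; rfl)
  have hfin : ∀ {Q : Type u} [AddCommGroup Q] [Module R Q] [Module.Finite R Q],
      (∀ q : Q, ∃ c : R, c ≠ 0 ∧ c • q = 0) → Module.length R Q ≠ ⊤ := by
    intro Q _ _ _ h
    obtain ⟨n, s, hs⟩ := Module.Finite.exists_fin' R Q
    choose c hc0 hc using fun i => h (s (Pi.single i 1))
    let a := ∏ i, c i
    have ha : a ≠ 0 := Finset.prod_ne_zero_iff.mpr fun i _ => hc0 i
    let π : (Fin n → R) →ₗ[R] (Fin n → R ⧸ Ideal.span {a}) := LinearMap.pi fun i => (Ideal.Quotient.mkₐ R _).toLinearMap ∘ₗ LinearMap.proj i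
    have hπ : Function.Surjective π := fun z => by
      choose y hy using fun i => Ideal.Quotient.mk_surjective (z i)
      exact ⟨y, funext hy⟩
    have hle : LinearMap.ker π ≤ LinearMap.ker s := fun v hv => by
      choose w hw using fun i => Ideal.mem_span_singleton'.mp (Ideal.Quotient.eq_zero_iff_mem.mp (congrFun hv i : Ideal.Quotient.mk _ (v i) = 0))
      have hv : v = ∑ i, (w i * a) • (Pi.single i 1 : Fin n → R) := by
        rw [pi_eq_sum_univ' v]
        exact Finset.sum_congr rfl fun i _ => by rw [hw i]; rfl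
      rw [LinearMap.mem_ker, hv, map_sum]
      refine Finset.sum_eq_zero fun i _ => ?_
      obtain ⟨d, hd⟩ : c i ∣ a := Finset.dvd_prod_of_mem c (Finset.mem_univ i)
      rw [map_smul, hd, mul_left_comm, mul_comm, mul_smul, hc i, smul_zero]
    refine ne_top_of_le_ne_top ?_ (Module.length_le_of_surjective ((LinearMap.ker π).liftQ s hle ∘ₗ (π.quotKerEquivOfSurjective hπ).symm.toLinearMap) ?_)
    · rw [Module.length_pi]
      exact WithTop.mul_ne_top (by rw [ENat.card_eq_coe_fintype_card, Fintype.card_fin]; exact ENat.natCast_ne_top n) (Ring.ord_ne_top (R := R) (mem_nonZeroDivisors_of_ne_zero ha))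
    · intro q
      obtain ⟨v, rfl⟩ := hs q
      refine ⟨π v, ?_⟩
      show ((LinearMap.ker π).liftQ s hle) ((π.quotKerEquivOfSurjective hπ).symm (π v)) = s v
      rw [show (π.quotKerEquivOfSurjective hπ).symm (π v) = Submodule.Quotient.mk v from (LinearEquiv.symm_apply_eq _).mpr rfl]
      rfl
  have htor : ∀ (L : Submodule R V) [Submodule.IsLattice K L] (v : V), ∃ c : R, c ≠ 0 ∧ c • v ∈ L := by
    intro L _ v
    have hv : v ∈ Submodule.span K (L : Set V) := by rw [Submodule.IsLattice.span_eq_top]; trivial
    induction hv using Submodule.span_induction with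
    | mem x hx => exact ⟨1, one_ne_zero, by rwa [one_smul]⟩
    | zero => exact ⟨1, one_ne_zero, by simp⟩
    | add x y _ _ hx hy =>
      obtain ⟨c, hc, hcx⟩ := hx
      obtain ⟨d, hd, hdy⟩ := hy
      refine ⟨c * d, mul_ne_zero hc hd, ?_⟩
      rw [smul_add]
      refine add_mem ?_ ?_
      · rw [mul_comm, mul_smul]; exact L.smul_mem d hcx
      · rw [mul_smul]; exact L.smul_mem c hdy
    | smul k x _ hx =>
      obtain ⟨c, hc, hcx⟩ := hx
      obtain ⟨⟨num, den⟩, hk⟩ := IsLocalization.surj (nonZeroDivisors R) k
      refine ⟨den * c, mul_ne_zero (nonZeroDivisors.ne_zero den.2) hc, ?_⟩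
      rw [mul_comm, mul_smul, ← algebraMap_smul K (den : R) (k • x), ← mul_smul, mul_comm, hk, algebraMap_smul, smul_comm]
      exact L.smul_mem num hcx
  have hquot : ∀ (A B : Submodule R V), A.FG → (∀ v ∈ A, ∃ c : R, c ≠ 0 ∧ c • v ∈ B) →
      Module.length R (A ⧸ Submodule.comap A.subtype B) ≠ ⊤ := by
    intro A B hA h
    haveI : Module.Finite R A := Module.Finite.of_fg hA
    refine hfin fun q => ?_
    obtain ⟨⟨v, hv⟩, rfl⟩ := Submodule.mkQ_surjective _ q
    obtain ⟨c, hc, hcv⟩ := h v hv
    exact ⟨c, hc, by rw [← map_smul]; exact (Submodule.Quotient.mk_eq_zero _).mpr hcv⟩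
  refine ⟨fun M' hle => ?_, fun M' hle => ?_, fun M' hM' => ⟨?_, ?_⟩⟩
  · have h1 : Submodule.IsLattice K M' ↔ M'.FG :=
      ⟨fun h => h.fg, fun h => Submodule.IsLattice.of_le_of_isLattice_of_fg K hle h⟩
    refine ⟨h1.trans ⟨fun hfg => hquot M' M hfg fun v _ => htor M v, fun hl => ?_⟩, h1⟩
    haveI : Module.Finite R M := inferInstance
    haveI : IsNoetherian R (M' ⧸ M.comap M'.subtype) :=
      (isFiniteLength_iff_isNoetherian_isArtinian.mp (Module.length_ne_top_iff.mp hl)).1
    haveI : Module.Finite R (M.comap M'.subtype) := Module.Finite.equiv (Submodule.comapSubtypeEquivOfLe hle).symm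
    haveI := Module.Finite.of_submodule_quotient (M.comap M'.subtype)
    exact Module.Finite.iff_fg.mp inferInstance
  · have hfg : M'.FG := by
      haveI : IsNoetherian R M := isNoetherian_of_fg_of_noetherian M Submodule.IsLattice.fg
      exact isNoetherian_submodule.mp inferInstance M' hle
    refine ⟨fun h => hquot M M' Submodule.IsLattice.fg fun v _ => htor M' v, fun hl => ⟨hfg, ?_⟩⟩
    obtain ⟨a, ham, ha⟩ : ∃ a ∈ IsLocalRing.maximalIdeal R, a ≠ 0 := by
      refine Submodule.exists_mem_ne_zero_of_ne_bot fun h => ?_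
      letI := (IsLocalRing.isField_iff_maximalIdeal_eq.mpr h).toField
      rw [ringKrullDim_eq_zero_of_field] at hdim
      exact zero_ne_one hdim
    haveI hfl := isFiniteLength_iff_isNoetherian_isArtinian.mp (Module.length_ne_top_iff.mp hl)
    haveI := hfl.2
    -- the decreasing sequence of images of powers of `a` stabilises
    let Q := ↥M ⧸ Submodule.comap M.subtype M'
    obtain ⟨n, hn⟩ := IsArtinian.monotone_stabilizes
      ⟨fun k : ℕ => OrderDual.toDual (LinearMap.range ((LinearMap.lsmul R Q) (a ^ k))), fun i j hij => by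
        rintro _ ⟨y, rfl⟩
        exact ⟨a ^ (j - i) • y, by simp [← mul_smul, ← pow_add, Nat.add_sub_cancel' hij, Nat.sub_add_cancel hij]⟩⟩
    haveI := hfl.1
    have hkill : ∀ q : Q, a ^ n • q = 0 := by
      have h1 : LinearMap.range ((LinearMap.lsmul R Q) (a ^ n)) ≤ Ideal.span {a} • LinearMap.range ((LinearMap.lsmul R Q) (a ^ n)) := by
        intro z hz
        rw [show LinearMap.range ((LinearMap.lsmul R Q) (a ^ n)) = LinearMap.range ((LinearMap.lsmul R Q) (a ^ (n + 1))) from hn (n + 1) n.le_succ] at hz
        obtain ⟨y, rfl⟩ := hz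
        rw [LinearMap.lsmul_apply, pow_succ', mul_smul]
        exact Submodule.smul_mem_smul (Ideal.mem_span_singleton_self a) ⟨y, rfl⟩
      have h2 := Submodule.eq_bot_of_le_smul_of_le_jacobson_bot (Ideal.span {a}) _ (IsNoetherian.noetherian _) h1 (by
        rw [IsLocalRing.jacobson_eq_maximalIdeal ⊥ bot_ne_top, Ideal.span_singleton_le_iff_mem]; exact ham)
      intro q
      exact DFunLike.congr_fun (LinearMap.range_eq_bot.mp h2) q
    rw [eq_top_iff, ← Submodule.IsLattice.span_eq_top (A := K) (M := M), Submodule.span_le]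
    intro v hv
    have hmem : a ^ n • v ∈ M' := (Submodule.Quotient.mk_eq_zero (Submodule.comap M.subtype M')).mp ((Submodule.Quotient.mk_smul _ (r := a ^ n) (x := (⟨v, hv⟩ : M))).trans (hkill _))
    have hne : algebraMap R K (a ^ n) ≠ 0 := fun h => pow_ne_zero n ha (IsFractionRing.injective R K (h.trans (map_zero _).symm))
    rw [show v = (algebraMap R K (a ^ n))⁻¹ • (a ^ n • v) by rw [← algebraMap_smul K (a ^ n) v, smul_smul, inv_mul_cancel₀ hne, one_smul]]
    exact Submodule.smul_mem _ _ (Submodule.subset_span hmem)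
  · haveI : IsNoetherian R M := isNoetherian_of_fg_of_noetherian M Submodule.IsLattice.fg
    exact isNoetherian_submodule.mp inferInstance _ inf_le_left
  · haveI := hM'
    rw [eq_top_iff, ← Submodule.IsLattice.span_eq_top (A := K) (M := M), Submodule.span_le]
    intro v hv
    obtain ⟨c, hc, hcv⟩ := htor M' v
    have hne : algebraMap R K c ≠ 0 := fun h => hc (IsFractionRing.injective R K (h.trans (map_zero _).symm))
    rw [show v = (algebraMap R K c)⁻¹ • (c • v) by rw [← algebraMap_smul K c v, smul_smul, inv_mul_cancel₀ hne, one_smul]]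
    exact Submodule.smul_mem _ _ (Submodule.subset_span ⟨M.smul_mem c hv, hcv⟩)

end Groth.Agent.S9164
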