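import Groth.Statements.S9166
import Mathlib

set_option autoImplicit false
universe u
open CAlg

namespace Groth.Agent.S9166

/-- Let I be an ideal of a ring R, S → S' a surjective homomorphism of R-algebras with S of finite type
and S' of finite presentation over R, and q a prime of S containing IS. Assume S'_q is flat over R
and that S_q/IS_q → S'_q/IS'_q is an isomorphism, which for a surjection says: every element of the
kernel of S → S' maps into I·S_q. Then for some g ∉ q the localized map S_g → S'_g is bijective. -/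
theorem result (R S S' : Type u) [CommRing R] [CommRing S]
    [CommRing S'] [Algebra R S] [Algebra R S'] [Algebra.FiniteType R S] [Algebra.FinitePresentation R S']
    (I : Ideal R) (f : S →ₐ[R] S') (hf : Function.Surjective f) (q : Ideal S) [q.IsPrime]
    (hq : I.map (algebraMap R S) ≤ q)
    (hker : ∀ j : S, f j = 0 →
      algebraMap S (Localization.AtPrime q) j ∈ I.map (algebraMap R (Localization.AtPrime q)))
    (hflat : letI : Module S S' := f.toRingHom.toModule
      Module.Flat R (LocalizedModule q.primeCompl S')) :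
    ∃ g : S, g ∉ q ∧ Function.Bijective (Localization.awayMap f.toRingHom g) := by
  classical
  letI iM : Module S S' := f.toRingHom.toModule
  haveI : IsScalarTower R S S' := ⟨fun r s x => by
    show f (r • s) * x = r • (f s * x)
    rw [map_smul, smul_mul_assoc]⟩
  haveI := hflat
  -- the kernel is finitely generated
  obtain ⟨n, π, hπ⟩ := Algebra.FiniteType.iff_quotient_mvPolynomial''.1 (inferInstance : Algebra.FiniteType R S)
  have hfg : (RingHom.ker f.toRingHom).FG := by
    have h1 := Algebra.FinitePresentation.ker_fG_of_surjective (f.comp π) (hf.comp hπ)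
    have h2 : (RingHom.ker f.toRingHom).comap π.toRingHom = RingHom.ker (f.comp π).toRingHom :=
      RingHom.comap_ker f.toRingHom π.toRingHom
    rw [← Ideal.map_comap_of_surjective π.toRingHom hπ (RingHom.ker f.toRingHom), h2]
    exact h1.map π.toRingHom
  let J := RingHom.ker f.toRingHom
  let Sq := Localization.AtPrime q
  let J' : Ideal Sq := J.map (algebraMap S Sq)
  have hle : J' ≤ IsLocalRing.maximalIdeal Sq • J' := by
    refine Ideal.map_le_iff_le_comap.2 fun j hj => ?_
    have hj0 : f j = 0 := hj
    have h3 : algebraMap S Sq j ∈ (I.map (algebraMap R S)).map (algebraMap S Sq) := by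
      rw [Ideal.map_map, ← IsScalarTower.algebraMap_eq R S Sq]
      exact hker j hj0
    obtain ⟨⟨⟨x, hx⟩, u⟩, hxu⟩ := (IsLocalization.mem_map_algebraMap_iff q.primeCompl Sq).1 h3
    obtain ⟨c, hc⟩ := (IsLocalization.eq_iff_exists q.primeCompl Sq).1
      ((map_mul (algebraMap S Sq) j u).trans hxu)
    -- `c u j` lies in `I S`
    have hy : (c : S) * (j * u) ∈ I.map (algebraMap R S) := by
      rw [hc]; exact Ideal.mul_mem_left _ _ hx
    obtain ⟨l, a, s, ha, hsum⟩ : ∃ (l : ℕ) (a : Fin l → R) (s : Fin l → S), (∀ i, a i ∈ I) ∧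
        (c : S) * (j * u) = ∑ i, a i • s i := by
      have h4 : (c : S) * (j * u) ∈ I • (⊤ : Submodule R S) := by
        rw [Ideal.smul_top_eq_map]; exact hy
      refine Submodule.smul_induction_on h4 (fun r hr t _ => ⟨1, ![r], ![t], fun i => by fin_cases i; exact hr,
        by simp⟩) ?_
      rintro y z ⟨l, a, s, ha, rfl⟩ ⟨l', a', s', ha', rfl⟩
      exact ⟨l + l', Fin.append a a', Fin.append s s', Fin.addCases (fun i => by simpa using ha i)
        (fun i => by simpa using ha' i), by simp [Fin.sum_univ_add]⟩
    let m : S →ₗ[R] LocalizedModule q.primeCompl S' :=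
      ((LocalizedModule.mkLinearMap q.primeCompl S').restrictScalars R).comp f.toLinearMap
    have hmS : ∀ t y : S, m (t * y) = t • m y := fun t y => by
      show LocalizedModule.mkLinearMap q.primeCompl S' (f (t * y)) = t • LocalizedModule.mkLinearMap q.primeCompl S' (f y)
      rw [map_mul, ← map_smul]
      rfl
    have hmsurj : ∀ y, ∃ (t : S) (v : q.primeCompl), (v : S) • y = m t := fun y => by
      obtain ⟨⟨z, v⟩, hv⟩ := IsLocalizedModule.surj q.primeCompl (LocalizedModule.mkLinearMap q.primeCompl S') y
      obtain ⟨t, rfl⟩ := hf z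
      exact ⟨t, v, hv⟩
    have hm0 : ∑ i, a i • m (s i) = 0 := by
      simp only [← map_smul, ← map_sum, ← hsum]
      show LocalizedModule.mkLinearMap q.primeCompl S' (f ((c : S) * (j * u))) = 0
      rw [show f ((c : S) * (j * u)) = 0 by rw [map_mul, map_mul, hj0, zero_mul, mul_zero], map_zero]
    obtain ⟨K, b, y, hy, hb⟩ := Module.Flat.iff_forall_isTrivialRelation.1 hflat hm0
    choose t v hv using fun i => hmsurj (y i)
    let V : S := ∏ i, (v i : S)
    have hV : V ∈ q.primeCompl := Submonoid.prod_mem _ fun i _ => (v i).2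
    let t' : Fin K → S := fun i => (∏ l ∈ Finset.univ.erase i, (v l : S)) * t i
    have ht' : ∀ i, V • y i = m (t' i) := fun i => by
      rw [hmS, ← hv, smul_smul, Finset.prod_erase_mul _ _ (Finset.mem_univ i)]
    have hd : ∀ i, ∃ w : q.primeCompl, (w : S) * (V * s i - ∑ l, b i l • t' l) ∈ J := fun i => by
      have h5 : m (V * s i - ∑ l, b i l • t' l) = 0 := by
        rw [map_sub, hmS, show m (s i) = _ from hy i, Finset.smul_sum, map_sum, sub_eq_zero]
        refine Finset.sum_congr rfl fun l _ => ?_
        rw [map_smul, ← ht', smul_comm]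
      obtain ⟨w, hw⟩ := (IsLocalizedModule.eq_zero_iff q.primeCompl
        (LocalizedModule.mkLinearMap q.primeCompl S')).1 h5
      refine ⟨w, ?_⟩
      show f ((w : S) * (V * s i - ∑ l, b i l • t' l)) = 0
      rw [map_mul]
      exact hw
    choose w hw using hd
    let W : S := ∏ i, (w i : S)
    have hW : W ∈ q.primeCompl := Submonoid.prod_mem _ fun i _ => (w i).2
    have hkey : W * V * ((c : S) * (j * u)) ∈ q • J := by
      have h6 : W * V * ((c : S) * (j * u)) = ∑ i, algebraMap R S (a i) * (W * (V * s i - ∑ l, b i l • t' l)) := by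
        have h7 : ∑ i, algebraMap R S (a i) * ∑ l, b i l • t' l = 0 := by
          simp only [Finset.mul_sum, ← Algebra.smul_def, smul_smul]
          rw [Finset.sum_comm]
          simp only [← Finset.sum_smul, hb, zero_smul, Finset.sum_const_zero]
        rw [hsum]
        simp only [mul_sub, Finset.sum_sub_distrib, mul_left_comm (algebraMap R S _) W, ← Finset.mul_sum]
        rw [h7, mul_zero, sub_zero, Finset.mul_sum, Finset.mul_sum]
        exact Finset.sum_congr rfl fun i _ => by rw [Algebra.smul_def]; ring
      rw [h6]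
      refine Submodule.sum_mem _ fun i _ => Submodule.smul_mem_smul (hq (Ideal.mem_map_of_mem _ (ha i))) ?_
      rw [show W = (∏ l ∈ Finset.univ.erase i, (w l : S)) * w i from
        (Finset.prod_erase_mul _ _ (Finset.mem_univ i)).symm, mul_assoc]
      exact Ideal.mul_mem_left _ _ (hw i)
    show algebraMap S Sq j ∈ IsLocalRing.maximalIdeal Sq * J'
    have hU : IsUnit (algebraMap S Sq (W * V * (c : S) * u)) :=
      IsLocalization.map_units Sq (⟨_, mul_mem (mul_mem (mul_mem hW hV) c.2) u.2⟩ : q.primeCompl)
    refine (Ideal.unit_mul_mem_iff_mem _ hU).1 ?_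
    rw [← map_mul, ← Localization.AtPrime.map_eq_maximalIdeal, ← Ideal.map_mul]
    refine Ideal.mem_map_of_mem _ ?_
    rw [show W * V * (c : S) * u * j = W * V * ((c : S) * (j * u)) by ring]
    exact hkey
  have hbot : J' = ⊥ := Submodule.eq_bot_of_le_smul_of_le_jacobson_bot _ _ (hfg.map _) hle
    (IsLocalRing.maximalIdeal_le_jacobson _)
  -- a common annihilator outside `q`
  obtain ⟨T, hT⟩ := hfg
  have hann : ∀ j ∈ T, ∃ z : q.primeCompl, (z : S) * j = 0 := fun j hj => by
    have hjJ : j ∈ RingHom.ker f.toRingHom := hT ▸ Ideal.subset_span hj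
    have h8 : algebraMap S Sq j ∈ J' := Ideal.mem_map_of_mem _ hjJ
    rw [hbot] at h8
    exact (IsLocalization.map_eq_zero_iff q.primeCompl Sq j).1 h8
  choose z hz using hann
  let g : S := ∏ j ∈ T.attach, (z j.1 j.2 : S)
  have hg : g ∈ q.primeCompl := Submonoid.prod_mem _ fun j _ => (z j.1 j.2).2
  have hgJ : ∀ x, f x = 0 → g * x = 0 := fun x hx => by
    have hx' : x ∈ Ideal.span (T : Set S) := hT.symm ▸ (hx : x ∈ RingHom.ker f.toRingHom)
    clear hx
    induction hx' using Submodule.span_induction with
    | mem j hj =>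
      show (∏ j ∈ T.attach, (z j.1 j.2 : S)) * j = 0
      rw [← Finset.prod_erase_mul _ _ (Finset.mem_attach T ⟨j, hj⟩), mul_assoc, hz j hj, mul_zero]
    | zero => rw [mul_zero]
    | add p r _ _ hp hr => rw [mul_add, hp, hr, add_zero]
    | smul e p _ hp => rw [smul_eq_mul, mul_left_comm, hp, mul_zero]
  refine ⟨g, hg, ⟨(injective_iff_map_eq_zero _).2 fun y hy => ?_, fun y => ?_⟩⟩
  · obtain ⟨s, t, rfl⟩ := IsLocalization.exists_mk'_eq (Submonoid.powers g) y
    unfold Localization.awayMap IsLocalization.Away.map at hy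
    rw [IsLocalization.map_mk', IsLocalization.mk'_eq_zero_iff] at hy
    obtain ⟨⟨_, m, rfl⟩, hm⟩ := hy
    rw [IsLocalization.mk'_eq_zero_iff]
    refine ⟨⟨g ^ (m + 1), m + 1, rfl⟩, ?_⟩
    show g ^ (m + 1) * s = 0
    rw [pow_succ', mul_assoc]
    exact hgJ _ (by rw [map_mul, map_pow]; exact hm)
  · obtain ⟨s', ⟨_, m, rfl⟩, rfl⟩ := IsLocalization.exists_mk'_eq (Submonoid.powers (f.toRingHom g)) y
    obtain ⟨s, rfl⟩ := hf s'
    refine ⟨IsLocalization.mk' (Localization.Away g) s (⟨g ^ m, m, rfl⟩ : Submonoid.powers g), ?_⟩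
    unfold Localization.awayMap IsLocalization.Away.map
    rw [IsLocalization.map_mk']
    congr 1
    exact Subtype.ext (map_pow f.toRingHom g m)

end Groth.Agent.S9166
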