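import Groth.Statements.S9168


set_option autoImplicit false
universe u
open CAlg

namespace Groth.Agent.S9168

/-- For a local homomorphism of local rings R → S and finite subsets E ⊆ R, F ⊆ S there are local
subrings R₀ ⊆ R and S₀ ⊆ S containing E and F, with R → S mapping R₀ into S₀, such that the
inclusions and the induced map R₀ → S₀ are local homomorphisms, R₀ is essentially of finite type
over ℤ and S₀ is essentially of finite type over R₀. (So R → S is the directed colimit of such R₀ →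
S₀.) -/
theorem result (R S : Type u) [CommRing R] [CommRing S] [IsLocalRing R]
    [IsLocalRing S] [Algebra R S] [IsLocalHom (algebraMap R S)] (E : Finset R) (F : Finset S) :
    ∃ (R₀ : Subring R) (S₀ : Subring S) (h : ∀ x ∈ R₀, algebraMap R S x ∈ S₀),
      (E : Set R) ⊆ R₀ ∧ (F : Set S) ⊆ S₀ ∧ ∃ (_ : IsLocalRing R₀) (_ : IsLocalRing S₀),
        IsLocalHom R₀.subtype ∧ IsLocalHom S₀.subtype ∧
          IsLocalHom ((algebraMap R S).restrict R₀ S₀ h) ∧
          (algebraMap ℤ R₀).EssFiniteType ∧ ((algebraMap R S).restrict R₀ S₀ h).EssFiniteType := by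
  classical
  -- the localisation of a subring of a ring at the elements which are units of the big ring
  let loc : ∀ {T : Type u} [CommRing T], Subring T → Subring T := fun {T} _ A =>
    { carrier := {x | ∃ s ∈ A, IsUnit s ∧ x * s ∈ A}
      mul_mem' := by
        rintro x y ⟨s, hs, hsu, hxs⟩ ⟨t, ht, htu, hyt⟩
        exact ⟨s * t, A.mul_mem hs ht, hsu.mul htu, by
          rw [show x * y * (s * t) = (x * s) * (y * t) by ring]; exact A.mul_mem hxs hyt⟩
      one_mem' := ⟨1, A.one_mem, isUnit_one, by rw [mul_one]; exact A.one_mem⟩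
      add_mem' := by
        rintro x y ⟨s, hs, hsu, hxs⟩ ⟨t, ht, htu, hyt⟩
        exact ⟨s * t, A.mul_mem hs ht, hsu.mul htu, by
          rw [show (x + y) * (s * t) = (x * s) * t + (y * t) * s by ring]
          exact A.add_mem (A.mul_mem hxs ht) (A.mul_mem hyt hs)⟩
      zero_mem' := ⟨1, A.one_mem, isUnit_one, by rw [zero_mul]; exact A.zero_mem⟩
      neg_mem' := by
        rintro x ⟨s, hs, hsu, hxs⟩
        exact ⟨s, hs, hsu, by rw [neg_mul]; exact A.neg_mem hxs⟩ }
  have hle : ∀ {T : Type u} [CommRing T] (A : Subring T), A ≤ loc A :=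
    fun A x hx => ⟨1, A.one_mem, isUnit_one, by rw [mul_one]; exact hx⟩
  -- units of `loc A` are the elements which are units in the big ring
  have hunit : ∀ {T : Type u} [CommRing T] (A : Subring T) (x : loc A),
      IsUnit (x : T) → IsUnit x := by
    intro T _ A x hx
    obtain ⟨s, hs, hsu, hxs⟩ := x.2
    obtain ⟨u, hu⟩ := hx
    refine isUnit_iff_exists_inv.mpr ⟨⟨((u⁻¹ : Tˣ) : T), (x : T) * s, hxs,
      (hu ▸ u.isUnit).mul hsu, ?_⟩, ?_⟩
    · rw [← mul_assoc, ← hu, Units.inv_mul, one_mul]; exact hs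
    · refine Subtype.ext ?_
      show (x : T) * ((u⁻¹ : Tˣ) : T) = 1
      rw [← hu, Units.mul_inv]
  have hlochom : ∀ {T : Type u} [CommRing T] (A : Subring T), IsLocalHom (loc A).subtype :=
    fun A => ⟨fun x hx => hunit A x hx⟩
  have hlocal : ∀ {T : Type u} [CommRing T] [IsLocalRing T] (A : Subring T),
      IsLocalRing (loc A) := by
    intro T _ _ A
    haveI := (loc A).subtype_injective.nontrivial
    refine IsLocalRing.of_isUnit_or_isUnit_of_isUnit_add fun a b h => ?_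
    have h' : IsUnit ((a : T) + (b : T)) := h.map (loc A).subtype
    rcases IsLocalRing.isUnit_or_isUnit_of_isUnit_add h' with h'' | h''
    · exact Or.inl (hunit A a h'')
    · exact Or.inr (hunit A b h'')
  let A₀ : Subring R := Subring.closure (E : Set R)
  let R₀ : Subring R := loc A₀
  let B₀ : Subring S := Subring.closure ((algebraMap R S '' (R₀ : Set R)) ∪ (F : Set S))
  let S₀ : Subring S := loc B₀
  have h : ∀ x ∈ R₀, algebraMap R S x ∈ S₀ := fun x hx =>
    hle B₀ (Subring.subset_closure (Or.inl ⟨x, hx, rfl⟩))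
  refine ⟨R₀, S₀, h, fun x hx => hle A₀ (Subring.subset_closure hx),
    fun x hx => hle B₀ (Subring.subset_closure (Or.inr hx)), hlocal A₀, hlocal B₀,
    hlochom A₀, hlochom B₀, ⟨?_⟩, ?_, ?_⟩
  · intro x hx
    have h1 : IsUnit ((((algebraMap R S).restrict R₀ S₀ h) x : S₀) : S) := hx.map S₀.subtype
    exact hunit A₀ x ((isUnit_map_iff (algebraMap R S) (x : R)).mp h1)
  · rw [RingHom.essFiniteType_algebraMap, Algebra.essFiniteType_iff]
    refine ⟨E.attach.image (fun e => (⟨e.1, hle A₀ (Subring.subset_closure e.2)⟩ : R₀)), fun x => ?_⟩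
    set σ : Set R₀ :=
      ↑(E.attach.image (fun e => (⟨e.1, hle A₀ (Subring.subset_closure e.2)⟩ : R₀))) with hσ
    have key : ∀ a ∈ A₀, ∃ ha : a ∈ R₀, (⟨a, ha⟩ : R₀) ∈ Algebra.adjoin ℤ σ := by
      intro a ha
      refine ⟨hle A₀ ha, ?_⟩
      have : A₀ ≤ (Algebra.adjoin ℤ σ).toSubring.map R₀.subtype := by
        refine Subring.closure_le.mpr fun e he => ?_
        refine ⟨⟨e, hle A₀ (Subring.subset_closure he)⟩, Algebra.subset_adjoin ?_, rfl⟩
        simp [hσ]; exact he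
      obtain ⟨y, hy, hy'⟩ := this ha
      rwa [show (⟨a, hle A₀ ha⟩ : R₀) = y from Subtype.ext hy'.symm]
    obtain ⟨s, hs, hsu, hxs⟩ := x.2
    obtain ⟨hs', hs''⟩ := key s hs
    obtain ⟨hxs', hxs''⟩ := key _ hxs
    exact ⟨⟨s, hs'⟩, hs'', hunit A₀ ⟨s, hs'⟩ hsu,
      by rwa [show x * ⟨s, hs'⟩ = (⟨(x : R) * s, hxs'⟩ : R₀) from rfl]⟩
  · letI : Algebra R₀ S₀ := ((algebraMap R S).restrict R₀ S₀ h).toAlgebra
    show Algebra.EssFiniteType R₀ S₀
    rw [Algebra.essFiniteType_iff]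
    refine ⟨F.attach.image (fun e => (⟨e.1, hle B₀ (Subring.subset_closure (Or.inr e.2))⟩ : S₀)),
      fun x => ?_⟩
    set σ : Set S₀ := ↑(F.attach.image
      (fun e => (⟨e.1, hle B₀ (Subring.subset_closure (Or.inr e.2))⟩ : S₀))) with hσ
    have key : ∀ a ∈ B₀, ∃ ha : a ∈ S₀, (⟨a, ha⟩ : S₀) ∈ Algebra.adjoin R₀ σ := by
      intro a ha
      refine ⟨hle B₀ ha, ?_⟩
      have : B₀ ≤ (Algebra.adjoin R₀ σ).toSubring.map S₀.subtype := by
        refine Subring.closure_le.mpr ?_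
        rintro e (⟨r, hr, rfl⟩ | he)
        · exact ⟨algebraMap R₀ S₀ ⟨r, hr⟩, Subalgebra.algebraMap_mem _ _, rfl⟩
        · refine ⟨⟨e, hle B₀ (Subring.subset_closure (Or.inr he))⟩, Algebra.subset_adjoin ?_, rfl⟩
          simp [hσ]; exact he
      obtain ⟨y, hy, hy'⟩ := this ha
      rwa [show (⟨a, hle B₀ ha⟩ : S₀) = y from Subtype.ext hy'.symm]
    obtain ⟨s, hs, hsu, hxs⟩ := x.2
    obtain ⟨hs', hs''⟩ := key s hs
    obtain ⟨hxs', hxs''⟩ := key _ hxs
    exact ⟨⟨s, hs'⟩, hs'', hunit B₀ ⟨s, hs'⟩ hsu,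
      by rwa [show x * ⟨s, hs'⟩ = (⟨(x : S) * s, hxs'⟩ : S₀) from rfl]⟩

end Groth.Agent.S9168
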