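import Groth.Statements.S9171
import Groth.Agent.SyntLib.FieldMore

set_option autoImplicit false
universe u
open Synt

namespace Groth.Agent.S9171

/-- Let S = k[x_1, …, x_n]/I over a field k, q a prime of S, q' the corresponding prime of the
polynomial ring and c the integer with c + ht(q) = ht(q'). Equivalent: (1) S_g is a global complete
intersection over k for some g ∉ q; (2) the extension of I to the local ring k[x]_{q'} is generated
by c elements; (5) that extension is generated by a regular sequence. Stated as (1) ↔ (2) and (1) ↔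
(5). -/
theorem result (k : Type u) [Field k] (n : ℕ)
    (I : Ideal (MvPolynomial (Fin n) k)) (q : Ideal (MvPolynomial (Fin n) k ⧸ I)) [q.IsPrime] (c : ℕ)
    (hc : (c : ℕ∞) + q.height = (q.comap (Ideal.Quotient.mk I)).height) :
    ((∃ g : MvPolynomial (Fin n) k ⧸ I, g ∉ q ∧ Synt.IsGlobalCI k (Localization.Away g)) ↔
        ∃ s : Finset (Localization.AtPrime (q.comap (Ideal.Quotient.mk I))), s.card = c ∧
          Ideal.span (s : Set _) =
            I.map (algebraMap _ (Localization.AtPrime (q.comap (Ideal.Quotient.mk I))))) ∧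
      ((∃ g : MvPolynomial (Fin n) k ⧸ I, g ∉ q ∧ Synt.IsGlobalCI k (Localization.Away g)) ↔
        ∃ rs : List (Localization.AtPrime (q.comap (Ideal.Quotient.mk I))),
          RingTheory.Sequence.IsRegular (Localization.AtPrime (q.comap (Ideal.Quotient.mk I))) rs ∧
          Ideal.ofList rs =
            I.map (algebraMap _ (Localization.AtPrime (q.comap (Ideal.Quotient.mk I))))) := by
  refine ⟨⟨fun h => ?_, ?_⟩, SyntLib.gci_nhd_iff I q⟩
  · obtain ⟨rs, hreg, hrs⟩ := (SyntLib.gci_nhd_iff I q).mp h
    exact SyntLib.length_eq I q c hc rs hreg hrs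
  · rintro ⟨s, hs, hspan⟩
    have h' : Ideal.ofList s.toList = I.map (algebraMap _ (Localization.AtPrime (q.comap (Ideal.Quotient.mk I)))) := by
      rw [← hspan]; exact congrArg Ideal.span (by ext; simp)
    exact (SyntLib.gci_nhd_iff I q).mpr ⟨s.toList,
      SyntLib.isRegular_of_generators I q c hc s.toList (by rw [Finset.length_toList, hs]) h', h'⟩

end Groth.Agent.S9171
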