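import Groth.Statements.S9175
import Groth.Agent.SyntLib.Open
import Groth.Agent.S0402
import Groth.Agent.Unibranch.FibreChains
import Groth.Agent.Unibranch.Noether

set_option autoImplicit false
universe u
open CAlg
set_option backward.isDefEq.respectTransparency false
open CategoryTheory Limits AlgebraicGeometry

namespace Groth.Agent.S9175

theorem exists_away_quasiFinite {M B : Type u} [CommRing M] [CommRing B] [Algebra M B] [Algebra.FiniteType M B]
    (P : Ideal B) [P.IsPrime] [Algebra.QuasiFiniteAt M P] :
    ∃ r : B, r ∉ P ∧ Algebra.QuasiFinite M (Localization.Away r) := by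
  obtain ⟨S', hS', r, hrp, H⟩ :=
    Algebra.QuasiFiniteAt.exists_fg_and_exists_notMem_and_awayMap_bijective (R := M) P
  have : Module.Finite M S' := ⟨(Submodule.fg_top _).mpr hS'⟩
  have : Algebra.QuasiFinite M (Localization.Away r) := .trans _ S' _
  exact ⟨r, hrp, .of_surjective_algHom (Localization.awayMapₐ S'.val r) H.2⟩

/-- Let R → S be of finite type, q a prime of S over p, and Q the prime of the fibre ring κ(p) ⊗ S
pulling back to q. If Spec(κ(p) ⊗ S) has local dimension n at Q (the relative dimension of S over R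
at q is n), then some S_g with g ∉ q admits an R-algebra map from the polynomial ring R[t_1, …, t_n]
which is of finite type and quasi-finite. -/
theorem result (R S : Type u) [CommRing R] [CommRing S]
    [Algebra R S] [Algebra.FiniteType R S] (p : Ideal R) [p.IsPrime] (q : Ideal S) [q.IsPrime] [q.LiesOver p]
    (Q : PrimeSpectrum (p.Fiber S))
    (hQ : Q.asIdeal.comap (Algebra.TensorProduct.includeRight.toRingHom) = q) (n : ℕ)
    (hdim : FlatMor.localDim (PrimeSpectrum (p.Fiber S)) Q = (n : WithBot ℕ∞)) :
    ∃ g : S, g ∉ q ∧ ∃ φ : MvPolynomial (Fin n) R →ₐ[R] Localization.Away g,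
      φ.toRingHom.FiniteType ∧ φ.toRingHom.QuasiFinite := by
  classical
  let f : Spec (CommRingCat.of S) ⟶ Spec (CommRingCat.of R) := Spec.map (CommRingCat.ofHom (algebraMap R S))
  haveI : LocallyOfFiniteType f :=
    (HasRingHomProperty.Spec_iff (P := @LocallyOfFiniteType)).mpr (RingHom.finiteType_algebraMap.mpr inferInstance)
  let x : Spec (CommRingCat.of S) := (⟨q, inferInstance⟩ : PrimeSpectrum S)
  have hx : FlatMor.fibreDimAt f x ≤ (n : WithBot ℕ∞) := by
    refine le_of_eq ?_
    rw [← hdim, ← Groth.Agent.SyntLib.fibreDimAt_eq_localDim (R := R) (A := S) p Q]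
    congr 1
    exact PrimeSpectrum.ext hQ.symm
  obtain ⟨U, hxU, hU⟩ := (Groth.Agent.Unibranch.fibreDimAt_le_iff f x).mp hx
  obtain ⟨_, ⟨a, rfl⟩, hxa, hle⟩ := PrimeSpectrum.isTopologicalBasis_basic_opens.exists_subset_of_mem_open
    (show (⟨q, inferInstance⟩ : PrimeSpectrum S) ∈ (U : Set (Spec (CommRingCat.of S))) from hxU) U.2
  let B := Localization.Away a
  have hrange : Set.range (PrimeSpectrum.comap (algebraMap S B)) =
      (PrimeSpectrum.basicOpen a : Set (PrimeSpectrum S)) := PrimeSpectrum.localization_away_comap_range B a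
  have hinj : Function.Injective (PrimeSpectrum.comap (algebraMap S B)) :=
    PrimeSpectrum.localization_comap_injective B (Submonoid.powers a)
  obtain ⟨m, hm⟩ : (⟨q, inferInstance⟩ : PrimeSpectrum S) ∈ Set.range (PrimeSpectrum.comap (algebraMap S B)) := by
    rw [hrange]; exact hxa
  have hRSB : algebraMap R B = (algebraMap S B).comp (algebraMap R S) := IsScalarTower.algebraMap_eq R S B
  obtain ⟨t, ht⟩ := Groth.Agent.Unibranch.exists_quasiFiniteAt_aeval (A := R) m (e := n) fun l hl => by
    refine hU l.length (fun i => PrimeSpectrum.comap (algebraMap S B) (l i)) (fun i => ⟨?_, ?_⟩) fun i => ⟨?_, ?_⟩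
    · exact hle (hrange.subset ⟨l i, rfl⟩)
    · show PrimeSpectrum.comap (algebraMap R S) _ = PrimeSpectrum.comap (algebraMap R S) ⟨q, inferInstance⟩
      rw [← hm, ← PrimeSpectrum.comap_comp_apply, ← PrimeSpectrum.comap_comp_apply, ← hRSB]
      exact hl i
    · exact ((PrimeSpectrum.le_iff_specializes _ _).mp (l.step i).le).map
        (PrimeSpectrum.continuous_comap (algebraMap S B))
    · exact fun h' => (show l i.castSucc < l i.succ from l.step i).ne (hinj h')
  letI algM : Algebra (MvPolynomial (ULift.{u} (Fin n)) R) B := (MvPolynomial.aeval (R := R) t).toRingHom.toAlgebra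
  haveI : IsScalarTower R (MvPolynomial (ULift.{u} (Fin n)) R) B :=
    IsScalarTower.of_algebraMap_eq fun r => ((MvPolynomial.aeval (R := R) t).commutes r).symm
  haveI : Algebra.FiniteType (MvPolynomial (ULift.{u} (Fin n)) R) B :=
    Algebra.FiniteType.of_restrictScalars_finiteType R (MvPolynomial (ULift.{u} (Fin n)) R) B
  haveI : Algebra.QuasiFiniteAt (MvPolynomial (ULift.{u} (Fin n)) R) m.asIdeal := ht
  obtain ⟨r, hr, hqf'⟩ := exists_away_quasiFinite (M := MvPolynomial (ULift.{u} (Fin n)) R) m.asIdeal
  obtain ⟨⟨s, ⟨_, k, rfl⟩⟩, hs⟩ := IsLocalization.surj (Submonoid.powers a) r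
  haveI hg : IsLocalization.Away (a * s) (Localization.Away r) :=
    IsLocalization.Away.mul_of_associated (R := S) (S := B) (T := Localization.Away r) a s r
      (hs ▸ associated_mul_unit_left r _ (IsLocalization.map_units B (⟨a ^ k, k, rfl⟩ : Submonoid.powers a)))
  let e : Localization.Away r ≃ₐ[S] Localization.Away (a * s) :=
    IsLocalization.algEquiv (Submonoid.powers (a * s)) _ _
  refine ⟨a * s, fun hmem => ?_, (e.toAlgHom.restrictScalars R).comp
    ((IsScalarTower.toAlgHom R B (Localization.Away r)).comp
      ((MvPolynomial.aeval (R := R) t).comp (MvPolynomial.renameEquiv R Equiv.ulift.symm).toAlgHom)), ?_, ?_⟩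
  · rcases (inferInstance : q.IsPrime).mem_or_mem hmem with h | h
    · exact hxa h
    · have h' : algebraMap S B s ∈ m.asIdeal := by
        have := congrArg PrimeSpectrum.asIdeal hm
        change m.asIdeal.comap (algebraMap S B) = q at this
        rw [← Ideal.mem_comap, this]; exact h
      rw [← hs] at h'
      rcases m.isPrime.mem_or_mem h' with h'' | h''
      · exact hr h''
      · exact m.isPrime.ne_top (Ideal.eq_top_of_isUnit_mem _ h''
          (IsLocalization.map_units B (⟨a ^ k, k, rfl⟩ : Submonoid.powers a)))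
  · refine RingHom.FiniteType.comp (RingHom.FiniteType.of_surjective _ e.surjective) ?_
    refine RingHom.FiniteType.comp (RingHom.finiteType_algebraMap.mpr
      (IsLocalization.finiteType_of_monoid_fg (Submonoid.powers r) (Localization.Away r))) ?_
    exact RingHom.FiniteType.comp (RingHom.finiteType_algebraMap.mpr ‹_›)
      (RingHom.FiniteType.of_surjective _ (MvPolynomial.renameEquiv R Equiv.ulift.symm).surjective)
  · refine RingHom.QuasiFinite.comp (RingHom.QuasiFinite.of_finite (RingHom.Finite.of_surjective _ e.surjective)) ?_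
    refine RingHom.QuasiFinite.comp (f := (IsScalarTower.toAlgHom R B (Localization.Away r)).toRingHom.comp
      (algebraMap (MvPolynomial (ULift.{u} (Fin n)) R) B)) ?_
      (RingHom.QuasiFinite.of_finite (RingHom.Finite.of_surjective _
        (MvPolynomial.renameEquiv R Equiv.ulift.symm).surjective))
    show ((algebraMap B (Localization.Away r)).comp (algebraMap (MvPolynomial (ULift.{u} (Fin n)) R) B)).QuasiFinite
    rw [← IsScalarTower.algebraMap_eq]
    exact RingHom.quasiFinite_algebraMap.mpr hqf'

end Groth.Agent.S9175
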