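import Groth.Statements.S9176
import Groth.Agent.SyntLib.Open
import Groth.Agent.S9355
import Groth.Agent.S0402

set_option autoImplicit false
universe u
open CAlg
set_option backward.isDefEq.respectTransparency false
open CategoryTheory Limits AlgebraicGeometry

namespace Groth.Agent.S9176

/-- For a ring map R → S of finite presentation and n ≥ 0, the set of primes q of S whose fibre
Spec(κ(p) ⊗ S), p = q ∩ R, has local dimension at most n at the point over q is open and
quasi-compact in Spec S. -/
theorem result (R S : Type u) [CommRing R]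
    [CommRing S] [Algebra R S] [Algebra.FinitePresentation R S] (n : ℕ) :
    IsOpen {q : PrimeSpectrum S | ∀ Q : PrimeSpectrum ((q.asIdeal.under R).Fiber S),
        Q.asIdeal.comap (Algebra.TensorProduct.includeRight.toRingHom) = q.asIdeal →
          FlatMor.localDim (PrimeSpectrum ((q.asIdeal.under R).Fiber S)) Q ≤ (n : WithBot ℕ∞)} ∧
      IsCompact {q : PrimeSpectrum S | ∀ Q : PrimeSpectrum ((q.asIdeal.under R).Fiber S),
        Q.asIdeal.comap (Algebra.TensorProduct.includeRight.toRingHom) = q.asIdeal →
          FlatMor.localDim (PrimeSpectrum ((q.asIdeal.under R).Fiber S)) Q ≤ (n : WithBot ℕ∞)} := by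
  let f : Spec (CommRingCat.of S) ⟶ Spec (CommRingCat.of R) := Spec.map (CommRingCat.ofHom (algebraMap R S))
  haveI : LocallyOfFinitePresentation f :=
    (HasRingHomProperty.Spec_iff (P := @LocallyOfFinitePresentation)).mpr
      (RingHom.finitePresentation_algebraMap.mpr inferInstance)
  have key : ∀ q : PrimeSpectrum S, (∀ Q : PrimeSpectrum ((q.asIdeal.under R).Fiber S),
      Q.asIdeal.comap (Algebra.TensorProduct.includeRight.toRingHom) = q.asIdeal →
      FlatMor.localDim (PrimeSpectrum ((q.asIdeal.under R).Fiber S)) Q ≤ (n : WithBot ℕ∞)) ↔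
      FlatMor.fibreDimAt f q ≤ (n : WithBot ℕ∞) := by
    intro q
    have hrw : ∀ Q : PrimeSpectrum ((q.asIdeal.under R).Fiber S),
        Q.asIdeal.comap (Algebra.TensorProduct.includeRight.toRingHom) = q.asIdeal →
        FlatMor.fibreDimAt f q = FlatMor.localDim (PrimeSpectrum ((q.asIdeal.under R).Fiber S)) Q := by
      intro Q hQ
      rw [← Groth.Agent.SyntLib.fibreDimAt_eq_localDim (R := R) (A := S) (q.asIdeal.under R) Q]
      congr 1
      exact PrimeSpectrum.ext hQ.symm
    let o := PrimeSpectrum.preimageOrderIsoFiber R S ⟨q.asIdeal.under R, inferInstance⟩ ⟨q, rfl⟩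
    have ho : o.asIdeal.comap (Algebra.TensorProduct.includeRight.toRingHom) = q.asIdeal :=
      congrArg (fun z => (Subtype.val z).asIdeal)
        ((PrimeSpectrum.preimageOrderIsoFiber R S ⟨q.asIdeal.under R, inferInstance⟩).symm_apply_apply ⟨q, rfl⟩)
    exact ⟨fun h => (hrw o ho).trans_le (h o ho), fun h Q hQ => (hrw Q hQ).symm.trans_le h⟩
  rw [show {q : PrimeSpectrum S | ∀ Q : PrimeSpectrum ((q.asIdeal.under R).Fiber S),
      Q.asIdeal.comap (Algebra.TensorProduct.includeRight.toRingHom) = q.asIdeal →
      FlatMor.localDim (PrimeSpectrum ((q.asIdeal.under R).Fiber S)) Q ≤ (n : WithBot ℕ∞)} =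
      {q : PrimeSpectrum S | FlatMor.fibreDimAt f q ≤ (n : WithBot ℕ∞)} from Set.ext key]
  refine ⟨Groth.Agent.S0402.result f n, ?_⟩
  have h := Groth.Agent.S9355.result f n (isCompact_univ) isOpen_univ
  rw [Set.inter_univ] at h
  exact h

end Groth.Agent.S9176
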