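import Groth.Statements.S9177
import Groth.Agent.ModDesc.ColimAlg

set_option linter.style.haveILetI false

set_option autoImplicit false
universe u
open CAlg

namespace Groth.Agent.S9177

open TensorProduct in
/-- Let R = colim R_i be a directed colimit of A-algebras (compatible transition maps), B and C
A-algebras. (1) If B is of finite type over A, two A-algebra maps B → C whose base changes to R
coincide already have equal base changes to some R_i. (2) If C is of finite type over A and u : B →
C has surjective base change to R, then its base change to some R_i is surjective. (The A-algebra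
structure on R is through any stage R_l; it does not depend on l.) -/
theorem result {ι : Type u} [Preorder ι]
    [Nonempty ι] [IsDirectedOrder ι] (G : ι → Type u) [∀ i, CommRing (G i)]
    (f : ∀ i j, i ≤ j → G i →+* G j) [DirectedSystem G (fun i j h => f i j h)]
    (A : Type u) [CommRing A] [∀ i, Algebra A (G i)]
    (hf : ∀ i j (h : i ≤ j), (f i j h).comp (algebraMap A (G i)) = algebraMap A (G j)) (l : ι)
    (B C : Type u) [CommRing B] [CommRing C] [Algebra A B] [Algebra A C] :
    letI : Algebra A (Ring.DirectLimit G (fun i j h => f i j h)) :=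
      ((Ring.DirectLimit.of G (fun i j h => f i j h) l).comp (algebraMap A (G l))).toAlgebra
    (Algebra.FiniteType A B → ∀ u u' : B →ₐ[A] C,
        Algebra.TensorProduct.map (AlgHom.id A (Ring.DirectLimit G (fun i j h => f i j h))) u =
            Algebra.TensorProduct.map (AlgHom.id A (Ring.DirectLimit G (fun i j h => f i j h))) u' →
          ∃ i : ι, Algebra.TensorProduct.map (AlgHom.id A (G i)) u =
            Algebra.TensorProduct.map (AlgHom.id A (G i)) u') ∧
      (Algebra.FiniteType A C → ∀ u : B →ₐ[A] C,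
        Function.Surjective
            (Algebra.TensorProduct.map (AlgHom.id A (Ring.DirectLimit G (fun i j h => f i j h))) u) →
          ∃ i : ι, Function.Surjective (Algebra.TensorProduct.map (AlgHom.id A (G i)) u)) := by
  classical
  letI algD : Algebra A (Ring.DirectLimit G (fun i j h => f i j h)) :=
    ((Ring.DirectLimit.of G (fun i j h => f i j h) l).comp (algebraMap A (G l))).toAlgebra
  let D := Ring.DirectLimit G (fun i j h => f i j h)
  let π : ∀ j, G j →ₐ[A] D := fun j =>
    { Ring.DirectLimit.of G (fun i j h => f i j h) j with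
      commutes' := fun a => by
        change Ring.DirectLimit.of G (fun i j h => f i j h) j (algebraMap A (G j) a) = Ring.DirectLimit.of G (fun i j h => f i j h) l (algebraMap A (G l) a)
        obtain ⟨m, hjm, hlm⟩ := exists_ge_ge j l
        rw [← Ring.DirectLimit.of_f (G := G) (f := fun i j h => f i j h) hjm, ← Ring.DirectLimit.of_f (G := G) (f := fun i j h => f i j h) hlm]
        congr 1
        exact (RingHom.congr_fun (hf j m hjm) a).trans (RingHom.congr_fun (hf l m hlm) a).symm }
  let t : ∀ {i j : ι}, (i ⟶ j) → (G i →ₐ[A] G j) := fun {i j} h =>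
    { f i j (CategoryTheory.leOfHom h) with commutes' := fun a => RingHom.congr_fun (hf i j (CategoryTheory.leOfHom h)) a }
  have htt : ∀ {i j k : ι} (p : i ⟶ j) (q : j ⟶ k) (x : G i), t (CategoryTheory.CategoryStruct.comp p q) x = t q (t p x) := fun p q x =>
    (DirectedSystem.map_map (f := fun i j h => f i j h) (CategoryTheory.leOfHom p) (CategoryTheory.leOfHom q) x).symm
  have hπ : ∀ {i j : ι} (p : i ⟶ j) (x : G i), π j (t p x) = π i x := fun p x =>
    Ring.DirectLimit.of_f (G := G) (f := fun i j h => f i j h) (CategoryTheory.leOfHom p) x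
  have hsurj : ∀ b : D, ∃ j x, π j x = b := fun b => Ring.DirectLimit.exists_of b
  have hinj : ∀ (i : ι) (x : G i), π i x = 0 → ∃ (j : ι) (p : i ⟶ j), t p x = 0 := fun i x hx => by
    obtain ⟨j, hij, hj⟩ := Ring.DirectLimit.of.zero_exact (f' := f) hx
    exact ⟨j, CategoryTheory.homOfLE hij, hj⟩
  have kill : ∀ i (z : G i ⊗[A] C), Algebra.TensorProduct.map (π i) (AlgHom.id A C) z = 0 →
      ∃ j, ∃ h : i ≤ j, ∀ k (hk : j ≤ k),
        Algebra.TensorProduct.map (t (CategoryTheory.homOfLE (h.trans hk))) (AlgHom.id A C) z = 0 := fun i z hz => by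
    obtain ⟨j, p, hj⟩ := ModDesc.exists_rTensor_eq_zero t π htt hπ hsurj hinj C i z hz
    refine ⟨j, CategoryTheory.leOfHom p, fun k hk => ?_⟩
    have he : t (CategoryTheory.homOfLE ((CategoryTheory.leOfHom p).trans hk)) = (t (CategoryTheory.homOfLE hk)).comp (t p) :=
      AlgHom.ext fun x => htt p (CategoryTheory.homOfLE hk) x
    change LinearMap.rTensor C (t (CategoryTheory.homOfLE ((CategoryTheory.leOfHom p).trans hk))).toLinearMap z = 0
    rw [he, AlgHom.comp_toLinearMap, LinearMap.rTensor_comp, LinearMap.comp_apply, hj, map_zero]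
  refine ⟨fun hB u u' h => ?_, fun hC u hu => ?_⟩
  · obtain ⟨s, hs⟩ := hB.out
    have hk : ∀ b : s, ∃ j, ∃ _ : l ≤ j, ∀ k, j ≤ k → (1 : G k) ⊗ₜ[A] u (b : B) = 1 ⊗ₜ u' (b : B) := fun b => by
      obtain ⟨j, hlj, hj⟩ := kill l (1 ⊗ₜ u (b : B) - 1 ⊗ₜ u' (b : B)) (by
        rw [map_sub, Algebra.TensorProduct.map_tmul, Algebra.TensorProduct.map_tmul, map_one, AlgHom.id_apply, AlgHom.id_apply]
        have := AlgHom.congr_fun h (1 ⊗ₜ (b : B))
        rw [Algebra.TensorProduct.map_tmul, Algebra.TensorProduct.map_tmul, AlgHom.id_apply] at this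
        exact sub_eq_zero.2 this)
      refine ⟨j, hlj, fun k hk => sub_eq_zero.1 ?_⟩
      have := hj k hk
      rwa [map_sub, Algebra.TensorProduct.map_tmul, Algebra.TensorProduct.map_tmul, map_one, AlgHom.id_apply, AlgHom.id_apply] at this
    choose j _ hj using hk
    obtain ⟨m, hm⟩ := (Finset.univ.image j).exists_le
    refine ⟨m, ?_⟩
    have hbase : ((Algebra.TensorProduct.includeRight : C →ₐ[A] G m ⊗[A] C).comp u) =
        (Algebra.TensorProduct.includeRight : C →ₐ[A] G m ⊗[A] C).comp u' :=
      AlgHom.ext_of_adjoin_eq_top hs fun b hb => hj ⟨b, hb⟩ m (hm _ (Finset.mem_image_of_mem _ (Finset.mem_univ _)))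
    refine Algebra.TensorProduct.ext (AlgHom.ext fun g => by simp) (AlgHom.ext fun b => ?_)
    simpa using AlgHom.congr_fun hbase b
  · obtain ⟨s, hs⟩ := hC.out
    have hk : ∀ c : s, ∃ j, ∀ k, j ≤ k → (1 : G k) ⊗ₜ[A] (c : C) ∈ Set.range (Algebra.TensorProduct.map (AlgHom.id A (G k)) u) := fun c => by
      obtain ⟨w, hw⟩ := hu (1 ⊗ₜ (c : C))
      obtain ⟨i, -, y, hy⟩ := ModDesc.exists_stage_lTensor t π hπ hsurj B l w
      have hcomm : ∀ y, Algebra.TensorProduct.map (π i) (AlgHom.id A C) (Algebra.TensorProduct.map (AlgHom.id A (G i)) u y) =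
          Algebra.TensorProduct.map (AlgHom.id A D) u ((π i).toLinearMap.rTensor B y) := fun y => by
        induction y with
        | zero => simp
        | tmul g b => simp
        | add a b ha hb => simp only [map_add, ha, hb]
      obtain ⟨j, hij, hj⟩ := kill i (Algebra.TensorProduct.map (AlgHom.id A (G i)) u y - 1 ⊗ₜ (c : C)) (by
        rw [map_sub, hcomm, hy, hw, Algebra.TensorProduct.map_tmul, map_one, AlgHom.id_apply, sub_self])
      refine ⟨j, fun k hk => ⟨Algebra.TensorProduct.map (t (CategoryTheory.homOfLE (hij.trans hk))) (AlgHom.id A B) y, ?_⟩⟩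
      have h0 := hj k hk
      rw [map_sub, Algebra.TensorProduct.map_tmul, map_one, AlgHom.id_apply, sub_eq_zero] at h0
      rw [← h0]
      clear h0 hj hy
      induction y with
      | zero => simp
      | tmul g b => simp
      | add a b ha hb => simp only [map_add, ha, hb]
    choose j hj using hk
    obtain ⟨m, hm⟩ := (Finset.univ.image j).exists_le
    refine ⟨m, fun z => ?_⟩
    let S : Subalgebra A (G m ⊗[A] C) :=
      ((Algebra.TensorProduct.map (AlgHom.id A (G m)) u).range)
    have hc : ∀ c : C, (1 : G m) ⊗ₜ[A] c ∈ S := fun c => by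
      have : Algebra.adjoin A (s : Set C) ≤ S.comap Algebra.TensorProduct.includeRight :=
        Algebra.adjoin_le fun c hc => hj ⟨c, hc⟩ m (hm _ (Finset.mem_image_of_mem _ (Finset.mem_univ _)))
      exact this (hs ▸ trivial)
    suffices z ∈ S by exact this
    induction z with
    | zero => exact S.zero_mem
    | tmul g c =>
      rw [show g ⊗ₜ[A] c = (g ⊗ₜ 1) * (1 ⊗ₜ c) by simp]
      exact S.mul_mem ⟨g ⊗ₜ 1, by simp⟩ (hc c)
    | add a b ha hb => exact S.add_mem ha hb

end Groth.Agent.S9177
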