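import Groth.Statements.S9178


set_option autoImplicit false
universe u
open CAlg
open scoped TensorProduct

namespace Groth.Agent.S9178

/-- For ring maps A → B → C with A → C surjective, writing I = ker(A → C) and J = ker(B → C), the
sequence I/I² → J/J² → C ⊗_B Ω_{B/A} → 0 is exact. Stated: the image of I/I² in J/J² is exactly the
kernel of J/J² → C ⊗_B Ω_{B/A} (surjectivity of the latter map is the standard conormal sequence for
the surjection B → C). -/
theorem result (A B C : Type u) [CommRing A] [CommRing B]
    [CommRing C] [Algebra A B] [Algebra B C] [Algebra A C] [IsScalarTower A B C]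
    (hAC : Function.Surjective (algebraMap A C))
    (h : RingHom.ker (algebraMap A C) ≤ (RingHom.ker (algebraMap B C)).comap (Algebra.ofId A B)) :
    Function.Exact
      (Ideal.mapCotangent (RingHom.ker (algebraMap A C)) (RingHom.ker (algebraMap B C)) (Algebra.ofId A B) h)
      (KaehlerDifferential.kerCotangentToTensor A B C) := by
  classical
  set I := RingHom.ker (algebraMap A C) with hI
  set J := RingHom.ker (algebraMap B C) with hJ
  set φ := Ideal.mapCotangent I J (Algebra.ofId A B) h with hφ
  let N : Submodule B J.Cotangent := Submodule.span B (Set.range φ)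
  have hJsmul : ∀ (b : B), b ∈ J → ∀ x : J.Cotangent, b • x = 0 := by
    intro b hb x
    obtain ⟨x, rfl⟩ := J.toCotangent_surjective x
    rw [← map_smul, Ideal.toCotangent_eq_zero]
    simpa [pow_two] using Ideal.mul_mem_mul hb x.2
  -- the span is just the range, as `A → C` is surjective
  have hN : ∀ x ∈ N, x ∈ Set.range φ := by
    intro x hx
    induction hx using Submodule.span_induction with
    | mem y hy => exact hy
    | zero => exact ⟨0, map_zero _⟩
    | add y z _ _ hy hz =>
      obtain ⟨y', rfl⟩ := hy
      obtain ⟨z', rfl⟩ := hz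
      exact ⟨y' + z', map_add _ _ _⟩
    | smul b y _ hy =>
      obtain ⟨y', rfl⟩ := hy
      obtain ⟨a, ha⟩ := hAC (algebraMap B C b)
      refine ⟨a • y', ?_⟩
      rw [map_smul, ← algebraMap_smul B a (φ y'), ← sub_eq_zero, ← sub_smul]
      apply hJsmul
      simp [hJ, RingHom.mem_ker, ← IsScalarTower.algebraMap_apply, ha]
  choose lift hlift using fun b : B => hAC (algebraMap B C b)
  have hmem : ∀ b, b - algebraMap A B (lift b) ∈ J := by
    intro b
    simp [hJ, RingHom.mem_ker, ← IsScalarTower.algebraMap_apply, hlift]
  -- the comparison map `D₀`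
  let D₀ : B → J.Cotangent ⧸ N := fun b =>
    Submodule.Quotient.mk (J.toCotangent ⟨_, hmem b⟩)
  have hD₀ : ∀ (b : B) (a : A) (ha : b - algebraMap A B a ∈ J),
      D₀ b = Submodule.Quotient.mk (J.toCotangent ⟨_, ha⟩) := by
    intro b a ha
    have hI' : a - lift b ∈ I := by
      have h1 : algebraMap B C (b - algebraMap A B a) = 0 := ha
      rw [map_sub, ← IsScalarTower.algebraMap_apply, sub_eq_zero] at h1
      simp [hI, RingHom.mem_ker, hlift, h1]
    apply (Submodule.Quotient.eq N).2
    refine Submodule.subset_span ⟨I.toCotangent ⟨_, hI'⟩, ?_⟩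
    rw [hφ, ← map_sub]
    refine congrArg J.toCotangent (Subtype.ext ?_)
    change algebraMap A B (a - lift b) = _
    simp
  let L : B →ₗ[A] J.Cotangent ⧸ N :=
    { toFun := D₀
      map_add' := by
        intro x y
        have h2 : x + y - algebraMap A B (lift x + lift y) ∈ J := by
          have := J.add_mem (hmem x) (hmem y)
          convert this using 1
          rw [map_add]; ring
        rw [hD₀ _ _ h2, ← Submodule.Quotient.mk_add, ← map_add]
        refine congrArg _ (congrArg J.toCotangent (Subtype.ext ?_))
        simp; ring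
      map_smul' := by
        intro a x
        have h2 : a • x - algebraMap A B (a * lift x) ∈ J := by
          have := J.mul_mem_left (algebraMap A B a) (hmem x)
          convert this using 1
          rw [map_mul, Algebra.smul_def]; ring
        rw [RingHom.id_apply, hD₀ _ _ h2,
          show a • D₀ x = algebraMap A B a • D₀ x from (algebraMap_smul _ _ _).symm,
          ← Submodule.Quotient.mk_smul, ← map_smul]
        refine congrArg _ (congrArg J.toCotangent (Subtype.ext ?_))
        simp [Algebra.smul_def]; ring }
  have hQ : ∀ (b : B), b ∈ J → ∀ q : J.Cotangent ⧸ N, b • q = 0 := by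
    intro b hb q
    obtain ⟨x, rfl⟩ := Submodule.Quotient.mk_surjective N q
    rw [← Submodule.Quotient.mk_smul, hJsmul b hb, Submodule.Quotient.mk_zero]
  let δ : Derivation A B (J.Cotangent ⧸ N) := Derivation.mk' L <| by
    intro x y
    have h2 : x * y - algebraMap A B (lift x * lift y) ∈ J := by
      have := J.add_mem (J.mul_mem_left x (hmem y))
        (J.mul_mem_left (algebraMap A B (lift y)) (hmem x))
      convert this using 1
      rw [map_mul]; ring
    change D₀ (x * y) = x • D₀ y + y • D₀ x
    have h3 : y • D₀ x = algebraMap A B (lift y) • D₀ x := by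
      rw [← sub_eq_zero, ← sub_smul]; exact hQ _ (hmem y) _
    rw [hD₀ _ _ h2, h3, ← Submodule.Quotient.mk_smul, ← Submodule.Quotient.mk_smul,
      ← Submodule.Quotient.mk_add, ← map_smul, ← map_smul, ← map_add]
    refine congrArg _ (congrArg J.toCotangent (Subtype.ext ?_))
    simp [Algebra.smul_def]; ring
  have hsurjBC : Function.Surjective (Algebra.linearMap B C) := fun c => by
    obtain ⟨a, rfl⟩ := hAC c
    exact ⟨algebraMap A B a, (IsScalarTower.algebraMap_apply A B C a).symm⟩
  let act : C →ₗ[B] (J.Cotangent ⧸ N) →ₗ[B] J.Cotangent ⧸ N :=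
    (Submodule.liftQ (LinearMap.ker (Algebra.linearMap B C))
      (LinearMap.lsmul B (J.Cotangent ⧸ N)) (by
        intro b hb
        refine LinearMap.mem_ker.2 (LinearMap.ext fun q => ?_)
        exact hQ b hb q)) ∘ₗ
      ((Algebra.linearMap B C).quotKerEquivOfSurjective hsurjBC).symm.toLinearMap
  have hact1 : act 1 = LinearMap.id := by
    have : ((Algebra.linearMap B C).quotKerEquivOfSurjective hsurjBC).symm 1 =
        Submodule.Quotient.mk 1 := by
      rw [LinearEquiv.symm_apply_eq]
      exact (map_one (algebraMap B C)).symm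
    refine LinearMap.ext fun q => ?_
    simp only [act, LinearMap.comp_apply, LinearEquiv.coe_coe, this, Submodule.liftQ_apply,
      LinearMap.lsmul_apply, one_smul, LinearMap.id_coe, id_eq]
  let Φ : C ⊗[B] Ω[B⁄A] →ₗ[B] J.Cotangent ⧸ N :=
    TensorProduct.lift (LinearMap.compl₂ act δ.liftKaehlerDifferential)
  intro y
  constructor
  · intro hy
    obtain ⟨⟨j, hj⟩, rfl⟩ := J.toCotangent_surjective y
    have h1 := congrArg Φ hy
    rw [KaehlerDifferential.kerCotangentToTensor_toCotangent, map_zero] at h1
    simp only [Φ, TensorProduct.lift.tmul, LinearMap.compl₂_apply, hact1,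
      Derivation.liftKaehlerDifferential_comp_D, LinearMap.id_coe, id_eq] at h1
    have h2 : j - algebraMap A B 0 ∈ J := by simpa using hj
    change D₀ j = 0 at h1
    rw [hD₀ j 0 h2, Submodule.Quotient.mk_eq_zero] at h1
    refine hN _ ?_
    simpa using h1
  · rintro ⟨x, rfl⟩
    obtain ⟨⟨a, ha⟩, rfl⟩ := I.toCotangent_surjective x
    change KaehlerDifferential.kerCotangentToTensor A B C
      (J.toCotangent ⟨algebraMap A B a, h ha⟩) = 0
    rw [KaehlerDifferential.kerCotangentToTensor_toCotangent]
    simp

end Groth.Agent.S9178
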