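import Groth.Statements.S9180
import Groth.Agent.FieldExtDim.Basic

set_option autoImplicit false
universe u
open CAlg

namespace Groth.Agent.S9180

open TensorProduct in
/-- Let S be of finite type over a field k, K an extension field of k, S_K = S ⊗_k K, q a prime of S
whose residue field has transcendence degree r over k, and q_K a prime of S_K lying over q whose
residue field has transcendence degree r_K over K. Then the local ring at q_K of the fibre of S →
S_K over q has dimension dim (S_K)_{q_K} − dim S_q = r − r_K (stated additively), and there is a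
prime of S_K over q for which this dimension is zero. -/
theorem result (k S K : Type u) [Field k] [CommRing S] [Algebra k S]
    [Algebra.FiniteType k S] [Field K] [Algebra k K] (q : Ideal S) [q.IsPrime] (r : ℕ)
    (hr : Algebra.trdeg k q.ResidueField = r) (qK : Ideal (S ⊗[k] K)) [qK.IsPrime] [qK.LiesOver q]
    (rK : ℕ)
    (hrK : letI : Algebra K (S ⊗[k] K) := Algebra.TensorProduct.rightAlgebra
      Algebra.trdeg K qK.ResidueField = rK) :
    ringKrullDim (EGA4.FibLocRing S (S ⊗[k] K) qK) + ringKrullDim (Localization.AtPrime q) =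
        ringKrullDim (Localization.AtPrime qK) ∧
      ringKrullDim (EGA4.FibLocRing S (S ⊗[k] K) qK) + (rK : WithBot ℕ∞) = (r : WithBot ℕ∞) ∧
      ∃ (q' : Ideal (S ⊗[k] K)) (_ : q'.IsPrime), q'.LiesOver q ∧
        ringKrullDim (EGA4.FibLocRing S (S ⊗[k] K) q') = 0 := by
  obtain ⟨h1, h2⟩ := Groth.Agent.FieldExtDim.main q r hr qK rK hrK
  refine ⟨h1, h2, ?_⟩
  have hle : q.map (algebraMap S (S ⊗[k] K)) ≤ qK :=
    Ideal.map_le_iff_le_comap.2 (Ideal.LiesOver.over (p := q) (P := qK)).le
  obtain ⟨Q, hQ, hQle⟩ := Ideal.exists_minimalPrimes_le hle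
  haveI := hQ.1.1
  haveI : Q.LiesOver q := ⟨le_antisymm (Ideal.map_le_iff_le_comap.1 hQ.1.2)
    ((Ideal.comap_mono hQle).trans (Ideal.LiesOver.over (p := q) (P := qK)).ge)⟩
  exact ⟨Q, inferInstance, inferInstance, Groth.Agent.FieldExtDim.minimal_dim_zero q Q hQ⟩


end Groth.Agent.S9180
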