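import Groth.Statements.S9181
import Groth.Agent.NoethPre.Main

set_option autoImplicit false
universe u
open CAlg
set_option linter.style.haveILetI false
set_option backward.isDefEq.respectTransparency false

namespace Groth.Agent.S9181

/-- Let R → S be of finite type, q a prime of S over p, Q the prime of κ(p) ⊗ S over q, with the fibre
of local dimension n at Q and κ(q) of transcendence degree r over κ(p). Then for some f ∉ p and g ∉
q there is an R-algebra map φ : R_f[x_1, …, x_n] → S_g, of finite type and quasi-finite, such that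
the inverse image of q S_g under φ is the ideal generated by p and the variables x_{r+1}, …, x_n. -/
theorem result (R S : Type u) [CommRing R] [CommRing S]
    [Algebra R S] [Algebra.FiniteType R S] (p : Ideal R) [p.IsPrime] (q : Ideal S) [q.IsPrime] [q.LiesOver p]
    [Algebra (Localization.AtPrime p) (Localization.AtPrime q)]
    [Localization.AtPrime.IsLiesOverAlgebra p q] (Q : PrimeSpectrum (p.Fiber S))
    (hQ : Q.asIdeal.comap (Algebra.TensorProduct.includeRight.toRingHom) = q) (n r : ℕ)
    (hdim : FlatMor.localDim (PrimeSpectrum (p.Fiber S)) Q = (n : WithBot ℕ∞))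
    (hr : Algebra.trdeg p.ResidueField q.ResidueField = r) :
    ∃ (f : R) (g : S), f ∉ p ∧ g ∉ q ∧
      ∃ φ : MvPolynomial (Fin n) (Localization.Away f) →ₐ[R] Localization.Away g,
        φ.toRingHom.FiniteType ∧ φ.toRingHom.QuasiFinite ∧
        (q.map (algebraMap S (Localization.Away g))).comap φ =
          p.map (algebraMap R (MvPolynomial (Fin n) (Localization.Away f))) ⊔
            Ideal.span (Set.range fun i : {i : Fin n // r ≤ (i : ℕ)} =>
              (MvPolynomial.X (i : Fin n) : MvPolynomial (Fin n) (Localization.Away f))) := by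
  classical
  have hu : q.under R = p := (Ideal.over_def q p).symm
  have hrd : Groth.Agent.Unibranch.rdim R q = r := by
    haveI : IsDomain (R ⧸ p) := Ideal.Quotient.isDomain p
    haveI : IsDomain (S ⧸ q) := Ideal.Quotient.isDomain q
    haveI : Algebra.IsAlgebraic (R ⧸ p) p.ResidueField := IsLocalization.isAlgebraic _ (nonZeroDivisors (R ⧸ p))
    haveI : FaithfulSMul (R ⧸ p) p.ResidueField :=
      (faithfulSMul_iff_algebraMap_injective _ _).2 (IsFractionRing.injective (R ⧸ p) p.ResidueField)
    have h1 := Groth.Agent.NoethPre.trdeg_eq_of_ringHom (A := R ⧸ p) (K := p.ResidueField) (D := S ⧸ q)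
      (F := q.ResidueField) (algebraMap (S ⧸ q) q.ResidueField) (IsFractionRing.injective _ _)
      (fun a b hab => by
        obtain ⟨a, rfl⟩ := Ideal.Quotient.mk_surjective a
        obtain ⟨b, rfl⟩ := Ideal.Quotient.mk_surjective b
        change Ideal.Quotient.mk q (algebraMap R S a) = Ideal.Quotient.mk q (algebraMap R S b) at hab
        rw [Ideal.Quotient.eq, ← map_sub] at hab
        rw [Ideal.Quotient.eq, ← hu]
        exact hab)
      (fun c => by
        obtain ⟨c, rfl⟩ := Ideal.Quotient.mk_surjective c
        show algebraMap (S ⧸ q) q.ResidueField (algebraMap S (S ⧸ q) (algebraMap R S c)) =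
          algebraMap p.ResidueField q.ResidueField (algebraMap (R ⧸ p) p.ResidueField (algebraMap R (R ⧸ p) c))
        rw [← IsScalarTower.algebraMap_apply R (R ⧸ p) p.ResidueField,
          ← IsScalarTower.algebraMap_apply R p.ResidueField q.ResidueField,
          ← IsScalarTower.algebraMap_apply S (S ⧸ q) q.ResidueField, ← IsScalarTower.algebraMap_apply R S q.ResidueField])
      (fun z => by
        obtain ⟨⟨e, s⟩, hz⟩ := IsLocalization.surj (nonZeroDivisors (S ⧸ q)) z
        exact ⟨s, nonZeroDivisors.ne_zero s.2, e, by rw [mul_comm]; exact hz⟩)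
    rw [hr] at h1
    subst hu
    rw [← Groth.Agent.Unibranch.natCast_rdim (A := R) q] at h1
    exact_mod_cast h1.symm
  obtain ⟨x, hx, hqf⟩ := Groth.Agent.NoethPre.exists_coords p q hu Q hQ n hdim
  rw [hrd] at hx
  letI := (MvPolynomial.aeval (R := R) x).toRingHom.toAlgebra
  haveI : IsScalarTower R (MvPolynomial (Fin n) R) S :=
    IsScalarTower.of_algebraMap_eq fun c => ((MvPolynomial.aeval (R := R) x).commutes c).symm
  haveI : Algebra.FiniteType (MvPolynomial (Fin n) R) S :=
    Algebra.FiniteType.of_restrictScalars_finiteType R _ S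
  haveI := hqf
  obtain ⟨g, hg, hqfg⟩ := Groth.Agent.NoethPre.exists_quasiFinite_away (P := MvPolynomial (Fin n) R) q
  let φ₀ : Localization.Away (1 : R) →ₐ[R] Localization.Away g :=
    IsLocalization.Away.liftAlgHom (1 : R) (f := Algebra.ofId R _) (by rw [map_one]; exact isUnit_one)
  let φ : MvPolynomial (Fin n) (Localization.Away (1 : R)) →ₐ[R] Localization.Away g :=
    { MvPolynomial.eval₂Hom φ₀.toRingHom (fun i => algebraMap S (Localization.Away g) (x i)) with
      commutes' := fun c => by
        show MvPolynomial.eval₂Hom φ₀.toRingHom _ (algebraMap R (MvPolynomial (Fin n) (Localization.Away (1 : R))) c) = _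
        rw [IsScalarTower.algebraMap_apply R (Localization.Away (1 : R)) (MvPolynomial (Fin n) _),
          MvPolynomial.algebraMap_eq, MvPolynomial.eval₂Hom_C]
        exact φ₀.commutes c }
  let ι : MvPolynomial (Fin n) R →+* MvPolynomial (Fin n) (Localization.Away (1 : R)) :=
    MvPolynomial.map (algebraMap R (Localization.Away (1 : R)))
  have hι : Function.Surjective ι := MvPolynomial.map_surjective _ fun z => by
    obtain ⟨⟨a, ⟨_, k, rfl⟩⟩, hz⟩ := IsLocalization.surj (Submonoid.powers (1 : R)) z
    exact ⟨a, by simpa using hz.symm⟩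
  have hcomp : φ.toRingHom.comp ι = algebraMap (MvPolynomial (Fin n) R) (Localization.Away g) := by
    rw [IsScalarTower.algebraMap_eq (MvPolynomial (Fin n) R) S (Localization.Away g)]
    refine MvPolynomial.ringHom_ext (fun c => ?_) (fun i => ?_)
    · show MvPolynomial.eval₂Hom φ₀.toRingHom _ (ι (MvPolynomial.C c)) = algebraMap S _ (MvPolynomial.aeval x (MvPolynomial.C c))
      simp only [ι, MvPolynomial.map_C, MvPolynomial.eval₂Hom_C, MvPolynomial.aeval_C]
      exact (φ₀.commutes c).trans (IsScalarTower.algebraMap_apply R S (Localization.Away g) c)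
    · show MvPolynomial.eval₂Hom φ₀.toRingHom _ (ι (MvPolynomial.X i)) = algebraMap S _ (MvPolynomial.aeval x (MvPolynomial.X i))
      simp [ι]
  refine ⟨1, g, fun h => Ideal.IsPrime.ne_top ‹p.IsPrime› ((Ideal.eq_top_iff_one _).2 h), hg, φ, ?_, ?_, ?_⟩
  · refine RingHom.FiniteType.of_comp_finiteType (f := ι) ?_
    rw [hcomp, RingHom.finiteType_algebraMap]
    infer_instance
  · letI := φ.toRingHom.toAlgebra
    letI := ι.toAlgebra
    haveI : IsScalarTower (MvPolynomial (Fin n) R) (MvPolynomial (Fin n) (Localization.Away (1 : R)))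
        (Localization.Away g) := IsScalarTower.of_algebraMap_eq' hcomp.symm
    exact Algebra.QuasiFinite.of_restrictScalars (MvPolynomial (Fin n) R) _ _
  · refine Ideal.comap_injective_of_surjective ι hι ?_
    show ((q.map (algebraMap S (Localization.Away g))).comap φ.toRingHom).comap ι = _
    rw [Ideal.comap_comap, hcomp, IsScalarTower.algebraMap_eq (MvPolynomial (Fin n) R) S (Localization.Away g),
      ← Ideal.comap_comap, show (q.map (algebraMap S (Localization.Away g))).comap (algebraMap S (Localization.Away g)) = q from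
        IsLocalization.under_map_of_isPrime_disjoint (Submonoid.powers g) _ inferInstance
          ((Ideal.disjoint_powers_iff_notMem g (Ideal.IsPrime.isRadical ‹q.IsPrime›)).2 hg)]
    refine hx.trans ?_
    have hC : p.map (algebraMap R (MvPolynomial (Fin n) (Localization.Away (1 : R)))) =
        (p.map (MvPolynomial.C : R →+* MvPolynomial (Fin n) R)).map ι := by
      rw [Ideal.map_map]
      refine congrArg (fun f => p.map f) (RingHom.ext fun c => ?_)
      rw [RingHom.comp_apply, IsScalarTower.algebraMap_apply R (Localization.Away (1 : R)) (MvPolynomial (Fin n) _)]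
      simp [ι]
    have hX : (fun i : {i : Fin n // r ≤ (i : ℕ)} =>
        (MvPolynomial.X (i : Fin n) : MvPolynomial (Fin n) (Localization.Away (1 : R)))) =
        ι ∘ fun i : {i : Fin n // r ≤ (i : ℕ)} => (MvPolynomial.X (i : Fin n) : MvPolynomial (Fin n) R) := by
      funext i; simp [ι]
    rw [hC, hX, Set.range_comp, ← Ideal.map_span, ← Ideal.map_sup, Ideal.comap_map_of_surjective ι hι,
      left_eq_sup]
    have hinj : Function.Injective ι := MvPolynomial.map_injective _
      (IsLocalization.injective (M := Submonoid.powers (1 : R)) _ (by rintro _ ⟨k, rfl⟩; simp))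
    rw [← RingHom.ker_eq_comap_bot, (RingHom.injective_iff_ker_eq_bot ι).1 hinj]
    exact bot_le

end Groth.Agent.S9181
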