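import Groth.Statements.S9182
import Groth.Agent.CotLib.Schanuel
import Groth.Agent.CotLib.Loc

set_option autoImplicit false
universe u
open CAlg Groth.Agent
open scoped TensorProduct

namespace Groth.Agent.S9182

/-- For presentations α : R[x_1, …, x_n] → S and β : R[y_1, …, y_m] → S_g (g ∈ S) with kernels I and J,
the S_g-modules (I/I²)_g ⊕ S_g^m and J/J² ⊕ S_g^n are isomorphic. -/
theorem result (R S : Type u) [CommRing R] [CommRing S] [Algebra R S]
    (g : S) (n m : ℕ) (α : MvPolynomial (Fin n) R →ₐ[R] S) (hα : Function.Surjective α)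
    (β : MvPolynomial (Fin m) R →ₐ[R] Localization.Away g) (hβ : Function.Surjective β) :
    Nonempty ((LocalizedModule (Submonoid.powers g) (Algebra.Extension.ofSurjective α hα).Cotangent ×
        (Fin m → Localization.Away g)) ≃ₗ[Localization.Away g]
      ((Algebra.Extension.ofSurjective β hβ).Cotangent × (Fin n → Localization.Away g))) := by
  let P := Algebra.Extension.ofSurjective α hα
  let Q := Algebra.Extension.ofSurjective β hβ
  let M := Submonoid.powers g
  let Pl := P.localization M (S' := Localization.Away g)
  haveI : Algebra.FormallySmooth R P.Ring :=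
    inferInstanceAs (Algebra.FormallySmooth R (MvPolynomial (Fin n) R))
  haveI : Algebra.FormallySmooth R Q.Ring :=
    inferInstanceAs (Algebra.FormallySmooth R (MvPolynomial (Fin m) R))
  haveI : Algebra.FormallySmooth R Pl.Ring := CotLib.formallySmooth_localization_ring P M _
  obtain ⟨e⟩ := CotLib.nonempty_equiv_of_formallySmooth Pl Q
  obtain ⟨eC⟩ := CotLib.nonempty_tensorCotangent P M (Localization.Away g)
  obtain ⟨eS⟩ := CotLib.nonempty_tensorCotangentSpace P M (Localization.Away g)
  have bP : Module.Basis (Fin n) S P.CotangentSpace :=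
    (show Module.Basis (Fin n) P.Ring Ω[P.Ring⁄R] from
      KaehlerDifferential.mvPolynomialBasis R (Fin n)).baseChange S
  have bPl : Module.Basis (Fin n) (Localization.Away g) Pl.CotangentSpace :=
    (bP.baseChange (Localization.Away g)).map eS
  have bQ : Module.Basis (Fin m) (Localization.Away g) Q.CotangentSpace :=
    (show Module.Basis (Fin m) Q.Ring Ω[Q.Ring⁄R] from
      KaehlerDifferential.mvPolynomialBasis R (Fin m)).baseChange (Localization.Away g)
  exact ⟨((((LocalizedModule.equivTensorProduct M P.Cotangent).trans eC).prodCongr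
      bQ.equivFun.symm).trans e).trans
    ((LinearEquiv.prodComm _ _ _).trans ((LinearEquiv.refl _ _).prodCongr bPl.equivFun))⟩

end Groth.Agent.S9182
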