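import Groth.Statements.S9196
import Groth.Agent.AbsApprox.Main
import Groth.Agent.S0591
import Groth.Agent.DimField.Limit
import Groth.Agent.LocalDimBC.Scheme
import Groth.Agent.CMChart.Locus

set_option autoImplicit false
universe u
open CategoryTheory AlgebraicGeometry
open Lim
set_option backward.isDefEq.respectTransparency false

namespace Groth.Agent.S9196

/-- Let S = lim S_i be a cofiltered limit of schemes with affine transition morphisms, S_{i₀} a
quasi-compact quasi-separated stage, f₀ : X₀ → Y₀ a morphism of quasi-compact quasi-separated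
schemes over S_{i₀}, and f : X → Y its base change along S → S_{i₀} (base changes expressed by
pullback squares). Let d be a natural number. If f₀ is locally of finite presentation and f has
relative dimension d (every irreducible component of every fibre of f has dimension d), then for
some index i over i₀ the base change f_i : X_i → Y_i of f₀ along S_i → S_{i₀} has relative dimension
d. -/
theorem result {I : Type u} [SmallCategory I] [IsCofiltered I]
    (D : I ⥤ Scheme.{u}) (c : Limits.Cone D) (hc : Limits.IsLimit c)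
    [∀ (i j : I) (f : i ⟶ j), IsAffineHom (D.map f)] (i₀ : I) [CompactSpace (D.obj i₀)]
    [QuasiSeparatedSpace (D.obj i₀)] {X₀ Y₀ : Scheme.{u}} (f₀ : X₀ ⟶ Y₀) (g₀ : Y₀ ⟶ D.obj i₀)
    [CompactSpace X₀] [QuasiSeparatedSpace X₀] [CompactSpace Y₀] [QuasiSeparatedSpace Y₀]
    [LocallyOfFinitePresentation f₀] (d : ℕ)
    {X Y : Scheme.{u}} (f : X ⟶ Y) (g : Y ⟶ c.pt) (qY : Y ⟶ Y₀) (qX : X ⟶ X₀)
    (hY : IsPullback qY g g₀ (c.π.app i₀)) (hX : IsPullback qX f f₀ qY) (hd : Cyc.HasRelDim f d) :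
    ∃ (i : I) (φ : i ⟶ i₀) (Xi Yi : Scheme.{u}) (fi : Xi ⟶ Yi) (gi : Yi ⟶ D.obj i) (pY : Yi ⟶ Y₀)
      (pX : Xi ⟶ X₀), IsPullback pY gi g₀ (D.map φ) ∧ IsPullback pX fi f₀ pY ∧ Cyc.HasRelDim fi d := by
  classical
  haveI : ∀ {i j} (f : i ⟶ j), IsAffineHom (D.map f) := fun {i j} f => inferInstance
  haveI : QuasiCompact f₀ := QuasiCompact.of_comp f₀ (Limits.terminal.from Y₀)
  haveI : QuasiSeparated f₀ := QuasiSeparated.of_comp f₀ (Limits.terminal.from Y₀)
  haveI : LocallyOfFiniteType f := MorphismProperty.of_isPullback (P := @LocallyOfFiniteType) hX inferInstance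
  obtain ⟨L, _, _, _, E, π, hl, hE1, hE2, -⟩ := Groth.Agent.AbsApprox.hasApprox Y₀
  haveI : IsCofiltered Lᵒᵖ := isCofiltered_op_of_isFiltered _
  haveI : ∀ l, CompactSpace (E.obj l) := fun l => (hE2 l).1
  haveI : ∀ l, IsLocallyNoetherian (E.obj l) := fun l => Groth.Agent.AbsApprox.isLocallyNoetherian_of_lft (hE2 l).2
  haveI : LocallyOfFinitePresentation (f₀ : X₀ ⟶ (Limits.Cone.mk Y₀ π).pt) := ‹LocallyOfFinitePresentation f₀›
  haveI : ∀ (i j : Lᵒᵖ) (a : i ⟶ j), IsAffineHom (E.map a) := hE1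
  obtain ⟨l, X₁, f₁, q, hf1, hf2, hf3, hq⟩ := Groth.Agent.S0591.result E (Limits.Cone.mk Y₀ π) hl X₀ f₀
  haveI : CompactSpace X₁ := QuasiCompact.compactSpace_of_compactSpace f₁
  haveI : IsLocallyNoetherian X₁ := LocallyOfFiniteType.isLocallyNoetherian f₁
  haveI : AlgebraicGeometry.IsNoetherian X₁ := {}
  let C : Set X₁ := {x | FlatMor.fibreDimAt f₁ x ≠ (d : WithBot ℕ∞)}
  have hC : Topology.IsLocallyConstructible C := by
    have hc : ∀ n : ℕ, Topology.IsConstructible {x : X₁ | (n : WithBot ℕ∞) ≤ FlatMor.fibreDimAt f₁ x} := fun n => by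
      rw [← compl_compl {x : X₁ | (n : WithBot ℕ∞) ≤ FlatMor.fibreDimAt f₁ x}]
      exact ((TopologicalSpace.NoetherianSpace.isCompact _).isConstructible
        (Groth.Agent.DimField.isClosed_le_fibreDimAt f₁ n).isOpen_compl).compl
    have e : C = ({x : X₁ | (d : WithBot ℕ∞) ≤ FlatMor.fibreDimAt f₁ x} \
        {x : X₁ | ((d + 1 : ℕ) : WithBot ℕ∞) ≤ FlatMor.fibreDimAt f₁ x})ᶜ := by
      ext x
      obtain ⟨e, he⟩ := Groth.Agent.Unibranch.exists_fibreDimAt_eq f₁ x
      simp only [C, Set.mem_setOf_eq, Set.mem_compl_iff, Set.mem_sdiff, he, Nat.cast_inj, ne_eq, Nat.cast_le]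
      omega
    rw [e]
    exact ((hc d).sdiff (hc (d + 1))).compl.isLocallyConstructible
  let j₀ : Over i₀ := Over.mk (𝟙 i₀)
  let T := Groth.Agent.LimDesc.tower D (f₀ ≫ g₀)
  haveI : CompactSpace (T.obj j₀) := Groth.Agent.LimDesc.compactSpace_stage D _ j₀
  let b := Groth.Agent.LimDesc.toBase D (f₀ ≫ g₀) j₀
  have hK : ProCons.IsProConstructible ((b ≫ q) ⁻¹' C : Set (T.obj j₀)) :=
    Groth.Agent.ConsTop.isProConstructible_iff_indCons_compl.mpr
      (Groth.Agent.ConsEngine.indCons_of_isLocallyConstructible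
        (Groth.Agent.ConsEngine.isLocallyConstructible_preimage (b ≫ q) hC)).2
  have key : ∀ {W Z : Scheme.{u}} (w : W ⟶ Z) (e : W ⟶ X₀) (z : Z ⟶ Y₀), IsPullback e w f₀ z → ∀ x,
      (FlatMor.fibreDimAt w x = FlatMor.fibreDimAt f₁ (q (e x))) := fun w e z h x =>
    (Groth.Agent.LocalDimBC.fibreDimAt_of_isPullback f₀ z e w h x).trans
      (Groth.Agent.LocalDimBC.fibreDimAt_of_isPullback f₁ _ q f₀ hq (e x))
  have hXS := Groth.Agent.LimDesc.isPullback_comp D g₀ c hY f₀ hX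
  obtain ⟨j, a, hj⟩ := Groth.Agent.ConsEngine.exists_preimage_eq_empty T
    (Groth.Agent.LimDesc.towerCone D (f₀ ≫ g₀) c hXS)
    (Groth.Agent.LimDesc.isLimitTowerCone D (f₀ ≫ g₀) c hXS hc) j₀ hK (by
      refine Set.eq_empty_of_forall_notMem fun x hx => ?_
      change q (b (Groth.Agent.LimDesc.proj D (f₀ ≫ g₀) c hXS j₀ x)) ∈ C at hx
      rw [← Scheme.Hom.comp_apply (f := Groth.Agent.LimDesc.proj D (f₀ ≫ g₀) c hXS j₀), Groth.Agent.LimDesc.proj_toBase] at hx
      exact hx ((key f qX qY hX x).symm.trans (Groth.Agent.CMChart.fibreDimAt_of_hasRelDim f hd x)))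
  have hpb := Groth.Agent.LimDesc.isPullback_stageMap D g₀ f₀ j
  haveI : LocallyOfFiniteType (Groth.Agent.LimDesc.stageMap D g₀ f₀ j) :=
    MorphismProperty.of_isPullback (P := @LocallyOfFiniteType) hpb inferInstance
  refine ⟨j.left, j.hom, _, _, Groth.Agent.LimDesc.stageMap D g₀ f₀ j, Groth.Agent.LimDesc.toStage D g₀ j,
    Groth.Agent.LimDesc.toBase D g₀ j, Groth.Agent.LimDesc.toBase D (f₀ ≫ g₀) j,
    Groth.Agent.LimDesc.isPullback_stage D g₀ j, hpb, Groth.Agent.LocalDimBC.hasRelDim_of_fibreDimAt _ d fun x => ?_⟩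
  by_contra hx
  refine (Set.eq_empty_iff_forall_notMem.mp hj) x ?_
  show q (b (Groth.Agent.LimDesc.trans D (f₀ ≫ g₀) a x)) ∈ C
  rw [← Scheme.Hom.comp_apply (f := Groth.Agent.LimDesc.trans D (f₀ ≫ g₀) a), Groth.Agent.LimDesc.trans_toBase]
  exact fun h => hx ((key _ _ _ hpb x).trans h)

end Groth.Agent.S9196
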