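import Groth.Statements.S9197
import Groth.Agent.LimMore.Basic
import Groth.Agent.FlatSpread.LimScheme
import Mathlib.AlgebraicGeometry.Morphisms.FlatRank

set_option autoImplicit false
universe u
open CategoryTheory AlgebraicGeometry
open Lim

namespace Groth.Agent.S9197

/-- Let S = lim S_i be a cofiltered limit of schemes with affine transition morphisms, S_{i₀} a
quasi-compact quasi-separated stage, f₀ : X₀ → Y₀ a morphism of quasi-compact quasi-separated
schemes over S_{i₀}, and f : X → Y its base change along S → S_{i₀} (base changes expressed by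
pullback squares). Let d be a natural number. If f₀ is locally of finite presentation and f is
finite locally free of degree d (finite, flat, locally of finite presentation, with rank function
constant equal to d), then for some index i over i₀ the base change f_i : X_i → Y_i of f₀ along S_i
→ S_{i₀} is finite locally free of degree d. -/
theorem result {I : Type u} [SmallCategory I] [IsCofiltered I]
    (D : I ⥤ Scheme.{u}) (c : Limits.Cone D) (hc : Limits.IsLimit c)
    [∀ (i j : I) (f : i ⟶ j), IsAffineHom (D.map f)] (i₀ : I) [CompactSpace (D.obj i₀)]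
    [QuasiSeparatedSpace (D.obj i₀)] {X₀ Y₀ : Scheme.{u}} (f₀ : X₀ ⟶ Y₀) (g₀ : Y₀ ⟶ D.obj i₀)
    [CompactSpace X₀] [QuasiSeparatedSpace X₀] [CompactSpace Y₀] [QuasiSeparatedSpace Y₀]
    [LocallyOfFinitePresentation f₀] (d : ℕ)
    {X Y : Scheme.{u}} (f : X ⟶ Y) (g : Y ⟶ c.pt) (qY : Y ⟶ Y₀) (qX : X ⟶ X₀)
    (hY : IsPullback qY g g₀ (c.π.app i₀)) (hX : IsPullback qX f f₀ qY) (hf : Mor2.IsFinLocFreeOfDeg d f) :
    ∃ (i : I) (φ : i ⟶ i₀) (Xi Yi : Scheme.{u}) (fi : Xi ⟶ Yi) (gi : Yi ⟶ D.obj i) (pY : Yi ⟶ Y₀)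
      (pX : Xi ⟶ X₀), IsPullback pY gi g₀ (D.map φ) ∧ IsPullback pX fi f₀ pY ∧ Mor2.IsFinLocFreeOfDeg d fi := by
  haveI : ∀ {i j : I} (f : i ⟶ j), IsAffineHom (D.map f) := fun {i j} f => inferInstance
  haveI := quasiCompact_of_compactSpace g₀
  haveI := quasiCompact_of_compactSpace (f₀ ≫ g₀)
  obtain ⟨⟨hfin, hflat, -⟩, hrk⟩ := hf
  haveI := hfin
  haveI := hflat
  obtain ⟨j₁, h₁⟩ := Groth.Agent.LimMore.exists_isFinite D c hc f₀ g₀ hY hX
  obtain ⟨j₂, h₂⟩ := Groth.Agent.FlatSpread.exists_flat D c hc f₀ g₀ hY hX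
  obtain ⟨l, a, b, -⟩ := IsCofilteredOrEmpty.cone_objs j₁ j₂
  haveI : IsFinite (Groth.Agent.LimDesc.stageMap D g₀ f₀ l) :=
    MorphismProperty.of_isPullback (P := @IsFinite) (Groth.Agent.LimDesc.isPullback_trans_stageMap D g₀ f₀ a) h₁
  haveI : Flat (Groth.Agent.LimDesc.stageMap D g₀ f₀ l) :=
    MorphismProperty.of_isPullback (P := @Flat) (Groth.Agent.LimDesc.isPullback_trans_stageMap D g₀ f₀ b) h₂
  haveI : LocallyOfFinitePresentation (Groth.Agent.LimDesc.stageMap D g₀ f₀ l) :=
    MorphismProperty.of_isPullback (P := @LocallyOfFinitePresentation) (Groth.Agent.LimDesc.isPullback_stageMap D g₀ f₀ l) inferInstance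
  let U : ((Groth.Agent.LimDesc.tower D g₀).obj l).Opens :=
    ⟨{y | (Groth.Agent.LimDesc.stageMap D g₀ f₀ l).finrank y = d},
      ((Groth.Agent.LimDesc.stageMap D g₀ f₀ l).isLocallyConstant_finrank).isOpen_fiber d⟩
  haveI : ∀ {i k : CategoryTheory.Over i₀} (e : i ⟶ k), IsAffineHom ((Groth.Agent.LimDesc.tower D g₀).map e) :=
    fun e => Groth.Agent.LimDesc.isAffineHom_tower_map D g₀ e
  haveI : ∀ k, CompactSpace ((Groth.Agent.LimDesc.tower D g₀).obj k) := fun k => Groth.Agent.LimDesc.compactSpace_stage D g₀ k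
  obtain ⟨k, e, he⟩ := exists_map_eq_top (Groth.Agent.LimDesc.tower D g₀) (Groth.Agent.LimDesc.towerCone D g₀ c hY)
    (Groth.Agent.LimDesc.isLimitTowerCone D g₀ c hY hc) U (by
      refine eq_top_iff.2 fun y _ => ?_
      change (Groth.Agent.LimDesc.stageMap D g₀ f₀ l).finrank (Groth.Agent.LimDesc.proj D g₀ c hY l (show Y from y)) = d
      rw [← Scheme.Hom.finrank_of_isPullback _ _ _ _ (Groth.Agent.LimDesc.isPullback_proj_stageMap D g₀ c hY f₀ hX l)]
      exact hrk _)
  have hk := Groth.Agent.LimDesc.isPullback_trans_stageMap D g₀ f₀ e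
  refine ⟨k.left, k.hom, _, _, _, _, _, _, Groth.Agent.LimDesc.isPullback_stage D g₀ k,
    Groth.Agent.LimDesc.isPullback_stageMap D g₀ f₀ k,
    ⟨MorphismProperty.of_isPullback (P := @IsFinite) hk inferInstance, MorphismProperty.of_isPullback (P := @Flat) hk inferInstance,
      MorphismProperty.of_isPullback (P := @LocallyOfFinitePresentation) hk inferInstance⟩, fun y => ?_⟩
  rw [Scheme.Hom.finrank_of_isPullback _ _ _ _ hk]
  exact he.ge (Set.mem_univ y)

end Groth.Agent.S9197
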