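import Groth.Statements.S9202
import Groth.Agent.S2079
import Groth.Agent.S2076
import Groth.Agent.LimModel.Main
import Groth.Agent.LimProper.Main
import Groth.Agent.LimMore.OverBase

set_option backward.isDefEq.respectTransparency false

set_option autoImplicit false
universe u
open CategoryTheory AlgebraicGeometry
open Lim

namespace Groth.Agent.S9202

/-- Let S be a scheme and X = lim X_i a cofiltered limit of S-schemes X_i (a diagram with a compatible
family of structure maps to S) with affine transition morphisms, every X_i quasi-compact and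
quasi-separated; the structure map X → S is the composite X → X_{i₀} → S for any index i₀. Let h : Y
→ X be a proper morphism such that the composite Y → X → S is locally of finite type. Then Y → X_i
is proper for all i beyond some index i₁. -/
theorem result {I : Type u} [SmallCategory I] [IsCofiltered I] (S : Scheme.{u})
    (D : I ⥤ Scheme.{u}) (t : D ⟶ (Functor.const I).obj S) (c : Limits.Cone D) (hc : Limits.IsLimit c)
    [∀ (i j : I) (a : i ⟶ j), IsAffineHom (D.map a)]
    [∀ i, CompactSpace (D.obj i)] [∀ i, QuasiSeparatedSpace (D.obj i)] (i₀ : I)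
    {Y : Scheme.{u}} (h : Y ⟶ c.pt) [IsProper h] [LocallyOfFiniteType (h ≫ c.π.app i₀ ≫ t.app i₀)] :
    ∃ i₁ : I, ∀ (i : I) (_ : i ⟶ i₁), IsProper (h ≫ c.π.app i) := by
  classical
  haveI : ∀ {i j : I} (a : i ⟶ j), IsAffineHom (D.map a) := fun {i j} a => inferInstance
  haveI : CompactSpace c.pt := Scheme.compactSpace_of_isLimit D c hc
  haveI : QuasiSeparatedSpace c.pt := by
    haveI := isAffineHom_π_app D c hc i₀
    exact quasiSeparatedSpace_of_quasiSeparated (c.π.app i₀)
  obtain ⟨I', _, _, D', c', -, e, -, h2⟩ := Groth.Agent.S2079.result h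
  obtain ⟨a⟩ := (IsCofiltered.nonempty : Nonempty I')
  obtain ⟨hk₀, hp₀, hl₀⟩ := h2 a
  let P := (D'.obj a).left
  let p : P ⟶ c.pt := (D'.obj a).hom
  let k : Y ⟶ P := e.inv.left ≫ (c'.π.app a).left
  haveI : IsProper p := hp₀
  haveI : LocallyOfFinitePresentation p := hl₀
  haveI : IsClosedImmersion k := by haveI := hk₀; exact inferInstanceAs (IsClosedImmersion (e.inv.left ≫ _))
  have hkp : k ≫ p = h := by
    show (e.inv.left ≫ (c'.π.app a).left) ≫ (D'.obj a).hom = h
    rw [Category.assoc, Over.w (c'.π.app a)]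
    exact Over.w e.inv
  obtain ⟨j, Pj, pj, g, h1, h1', h1'', hsq⟩ := Groth.Agent.LimModel.exists_model D c hc p
  obtain ⟨l₁, hl₁⟩ := Groth.Agent.LimProper.exists_isProper D c hc pj (𝟙 _) (Groth.Agent.LimMore.isPullback_id D c) hsq
  have hl₁' := (Groth.Agent.LimMore.stageMap_id_iff D pj @IsProper l₁).1 hl₁
  haveI : CompactSpace Pj := QuasiCompact.compactSpace_of_compactSpace pj
  let m₀ : I := IsCofiltered.min i₀ l₁.left
  let o : Over j := Over.mk (IsCofiltered.minToRight i₀ l₁.left ≫ l₁.hom)
  have hprop : ∀ l : Over j, (l ⟶ o) → IsProper (Groth.Agent.LimDesc.toStage D pj l) := fun l b => by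
    let b' : l ⟶ l₁ := b ≫ Over.homMk (IsCofiltered.minToRight i₀ l₁.left) rfl
    exact MorphismProperty.of_isPullback (Groth.Agent.LimDesc.isPullback_trans D pj b') hl₁'
  let T := Groth.Agent.LimDesc.tower D pj
  let cT := Groth.Agent.LimDesc.towerCone D pj c hsq
  let hcT := Groth.Agent.LimDesc.isLimitTowerCone D pj c hsq hc
  let D₂ : Over o ⥤ Over S :=
    { obj := fun l => Over.mk (Groth.Agent.LimDesc.toStage D pj l.left ≫ t.app l.left.left)
      map := fun {l l'} b => Over.homMk (T.map b.left) (by
        show Groth.Agent.LimDesc.trans D pj b.left ≫ Groth.Agent.LimDesc.toStage D pj l'.left ≫ t.app l'.left.left = _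
        rw [Groth.Agent.LimDesc.trans_toStage_assoc]
        refine congrArg (Groth.Agent.LimDesc.toStage D pj l.left ≫ ·) ?_
        exact (t.naturality b.left.left).trans (Category.comp_id _))
      map_id := fun l => by ext; exact T.map_id _
      map_comp := fun b b' => by ext; exact T.map_comp _ _ }
  have hwt : ∀ {i i' : I} (b : i ⟶ i'), D.map b ≫ t.app i' = t.app i := fun b => (t.naturality b).trans (Category.comp_id _)
  have hconst : ∀ i : I, c.π.app i ≫ t.app i = c.π.app i₀ ≫ t.app i₀ := fun i => by
    obtain ⟨m, b, b', -⟩ := IsCofilteredOrEmpty.cone_objs i i₀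
    rw [← c.w b, ← c.w b', Category.assoc, Category.assoc, hwt b, hwt b']
  let c₂ : Limits.Cone D₂ :=
    { pt := Over.mk (p ≫ c.π.app i₀ ≫ t.app i₀)
      π :=
      { app := fun l => Over.homMk (cT.π.app l.left) (by
          show Groth.Agent.LimDesc.proj D pj c hsq l.left ≫ Groth.Agent.LimDesc.toStage D pj l.left ≫ t.app l.left.left = _
          rw [Groth.Agent.LimDesc.proj_toStage_assoc, hconst]
          rfl)
        naturality := fun l l' b => by
          ext
          exact cT.π.naturality b.left } }
  haveI : IsConnected (Over o) := IsCofiltered.isConnected _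
  let hwh : Limits.IsLimit (cT.whisker (Over.forget o)) := (Functor.Initial.isLimitWhiskerEquiv (Over.forget o) cT).symm hcT
  have hc₂ : Limits.IsLimit c₂ := Limits.isLimitOfReflects (Over.forget S)
    (Limits.IsLimit.ofIsoLimit hwh (Limits.Cone.ext (Iso.refl _) (fun l => (Category.id_comp _).symm)))
  haveI : ∀ (l l' : Over o) (b : l ⟶ l'), IsAffineHom (D₂.map b).left := fun l l' b =>
    Groth.Agent.LimDesc.isAffineHom_tower_map D pj b.left
  haveI : ∀ l : Over o, CompactSpace (D₂.obj l).left := fun l => Groth.Agent.LimDesc.compactSpace_stage D pj l.left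
  haveI : IsClosedImmersion (k : Y ⟶ c₂.pt.left) := inferInstanceAs (IsClosedImmersion k)
  haveI : LocallyOfFiniteType ((k : Y ⟶ c₂.pt.left) ≫ c₂.pt.hom) := by
    show LocallyOfFiniteType (k ≫ p ≫ c.π.app i₀ ≫ t.app i₀)
    rw [← Category.assoc, hkp]
    infer_instance
  obtain ⟨l, hl⟩ := Groth.Agent.S2076.result S D₂ c₂ hc₂ (k : Y ⟶ c₂.pt.left)
  refine ⟨l.left.left, fun i b => ?_⟩
  let l' : Over j := Over.mk (b ≫ l.left.hom)
  let b' : l' ⟶ l.left := Over.homMk b rfl
  haveI := hprop l' (b' ≫ l.hom)
  haveI : IsAffineHom (T.map b') := Groth.Agent.LimDesc.isAffineHom_tower_map D pj b'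
  haveI : IsClosedImmersion (k ≫ cT.π.app l') := by
    haveI : IsClosedImmersion ((k ≫ cT.π.app l') ≫ T.map b') := by
      rw [Category.assoc, cT.w b']
      exact hl
    exact IsClosedImmersion.of_comp (k ≫ cT.π.app l') (T.map b')
  have hfin : h ≫ c.π.app i = (k ≫ cT.π.app l') ≫ Groth.Agent.LimDesc.toStage D pj l' := by
    rw [← hkp, Category.assoc, Category.assoc]
    exact congrArg (k ≫ ·) (Groth.Agent.LimDesc.proj_toStage D pj c hsq l').symm
  rw [hfin]
  infer_instance

end Groth.Agent.S9202
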