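import Groth.Statements.S9203
import Groth.Agent.AbsApprox.Chevalley

set_option autoImplicit false
universe u v
open CategoryTheory AlgebraicGeometry
open Lim

namespace Groth.Agent.S9203

/-- Suppose a scheme X is covered, as a topological space, by finitely many closed subschemes each of
which is affine: there are closed immersions Z_k → X, indexed by a finite type, with each Z_k affine
and whose images cover X. Then X is affine. -/
theorem result (X : Scheme.{u}) {κ : Type v} [Finite κ]
    (Z : κ → Scheme.{u}) (ι : ∀ k, Z k ⟶ X) [∀ k, IsClosedImmersion (ι k)] [∀ k, IsAffine (Z k)]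
    (hcov : ∀ x : X, ∃ k, x ∈ Set.range (ι k).base) : IsAffine X := by
  classical
  have key : ∀ s : Finset κ, ∃ (A : Scheme.{u}) (a : A ⟶ X), IsAffine A ∧ IsFinite a ∧
      ∀ k ∈ s, Set.range (ι k).base ⊆ Set.range a.base := by
    intro s
    induction s using Finset.induction_on with
    | empty =>
      have : IsEmpty (Scheme.empty.{u}) := inferInstanceAs (IsEmpty PEmpty)
      have : IsAffine Scheme.empty.{u} := isAffine_of_isEmpty
      exact ⟨Scheme.empty, X.emptyTo, inferInstance, inferInstance, by simp⟩
    | @insert k s hk ih =>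
      obtain ⟨A, a, hA, ha, h⟩ := ih
      refine ⟨Limits.coprod (Z k) A, Limits.coprod.desc (ι k) a, inferInstance, inferInstance, fun j hj => ?_⟩
      rcases Finset.mem_insert.1 hj with rfl | hj
      · rintro _ ⟨z, rfl⟩
        exact ⟨(Limits.coprod.inl : Z j ⟶ Limits.coprod (Z j) A).base z, by
          rw [← Scheme.Hom.comp_apply, Limits.coprod.inl_desc]⟩
      · intro x hx
        obtain ⟨z, rfl⟩ := h j hj hx
        exact ⟨(Limits.coprod.inr : A ⟶ Limits.coprod (Z k) A).base z, by
          rw [← Scheme.Hom.comp_apply, Limits.coprod.inr_desc]⟩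
  have := Fintype.ofFinite κ
  obtain ⟨A, a, hA, ha, h⟩ := key Finset.univ
  have : Surjective a := ⟨fun x => by
    obtain ⟨k, hk⟩ := hcov x
    exact h k (Finset.mem_univ k) hk⟩
  exact Groth.Agent.AbsApprox.isAffine_of_universallyClosed a

end Groth.Agent.S9203
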