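import Groth.Statements.S9206
import Groth.Agent.ConsEngine.LimSec

set_option autoImplicit false
universe u
open CategoryTheory AlgebraicGeometry
open Lim

namespace Groth.Agent.S9206

theorem aux {X Y : Scheme.{u}} (f : X ⟶ Y) (s : X) {V : Y.Opens} {P W : X.Opens} (b : Γ(Y, V)) (t : Γ(X, W))
    (hV : f s ∈ V) (hP : s ∈ P) (e : P ≤ f ⁻¹ᵁ V) (e' : P ≤ W) (hW : s ∈ W)
    (h : f.appLE V P e b = X.presheaf.map (homOfLE e').op t) :
    (f.residueFieldMap s).hom (Y.residue _ (Y.presheaf.germ V _ hV b)) =
      X.residue s (X.presheaf.germ W s hW t) := by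
  show (f.residueFieldMap s) (Y.residue _ _) = _
  rw [← ConcreteCategory.comp_apply (Y.residue _), Scheme.residue_residueFieldMap,
    ConcreteCategory.comp_apply, Scheme.Hom.germ_stalkMap_apply,
    ← X.presheaf.germ_res_apply (homOfLE e) s hP, ← X.presheaf.germ_res_apply (homOfLE e') s hP t, ← h]
  rfl

/-- Let S = lim S_i be a cofiltered limit of schemes with affine transition morphisms and let s be a
point of S with images s_i in S_i. Then the residue field κ(s) is the colimit of the residue fields
κ(s_i): every element of κ(s) is the image of an element of κ(s_i) for some i under the map of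
residue fields induced by S → S_i (the maps κ(s_i) → κ(s) being injective, this says that the
canonical map from the colimit is an isomorphism). -/
theorem result {I : Type u} [SmallCategory I] [IsCofiltered I]
    (D : I ⥤ Scheme.{u}) (c : Limits.Cone D) (hc : Limits.IsLimit c)
    [∀ (i j : I) (f : i ⟶ j), IsAffineHom (D.map f)] (s : c.pt) (a : c.pt.residueField s) :
    ∃ (i : I) (b : (D.obj i).residueField ((c.π.app i).base s)), ((c.π.app i).residueFieldMap s).hom b = a := by
  haveI : ∀ {i j} (f : i ⟶ j), IsAffineHom (D.map f) := fun {i j} f => inferInstance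
  obtain ⟨a₀, rfl⟩ := c.pt.residue_surjective s a
  obtain ⟨W, hW, t, rfl⟩ := c.pt.presheaf.exists_germ_eq a₀
  obtain ⟨_, ⟨i, U, hU, rfl⟩, hxU, hUW⟩ :=
    TopologicalSpace.Opens.isBasis_iff_nbhd.mp (isBasis_preimage_isAffineOpen D c hc) hW
  obtain ⟨j, φ, b, hb⟩ := ConsEngine.exists_app_π_eq D c hc hU (c.pt.presheaf.map (homOfLE hUW).op t)
  have hsj : c.π.app j s ∈ D.map φ ⁻¹ᵁ U := ConsEngine.preimage_π_le D c φ U hxU
  refine ⟨j, (D.obj j).residue _ ((D.obj j).presheaf.germ _ _ hsj b), ?_⟩
  exact aux (c.π.app j) s b t hsj hxU (ConsEngine.preimage_π_le D c φ U) hUW hW hb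

end Groth.Agent.S9206
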