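import Groth.Statements.S9212
import Groth.Agent.DvrGeneric.Basic

set_option autoImplicit false
universe u
open CategoryTheory CategoryTheory.Limits AlgebraicGeometry
open Lim

set_option backward.isDefEq.respectTransparency false

namespace Groth.Agent.S9212

open CategoryTheory AlgebraicGeometry

/-- Let S be a locally Noetherian scheme and f : X → S a morphism of finite type. Then f is proper if
and only if: for every generic point η of an irreducible component of X, every discrete valuation
ring A contained in the residue field κ(η) with fraction field κ(η) (a valuation subring of κ(η)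
which is a discrete valuation ring), and every morphism Spec A → S whose restriction to Spec κ(η) is
the canonical morphism Spec κ(η) → X followed by f, there is exactly one morphism Spec A → X over S
restricting to the canonical morphism on Spec κ(η). -/
theorem result {X S : Scheme.{u}} [IsLocallyNoetherian S] (f : X ⟶ S)
    [LocallyOfFiniteType f] [QuasiCompact f] :
    IsProper f ↔ ∀ (η : X), closure {η} ∈ irreducibleComponents (X : Type u) →
      ∀ (A : ValuationSubring (X.residueField η)), IsDiscreteValuationRing A →
        ∀ y : Spec (CommRingCat.of A) ⟶ S,
          Spec.map (CommRingCat.ofHom A.subtype) ≫ y = X.fromSpecResidueField η ≫ f →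
          ∃! l : Spec (CommRingCat.of A) ⟶ X,
            l ≫ f = y ∧ Spec.map (CommRingCat.ofHom A.subtype) ≫ l = X.fromSpecResidueField η := by
  constructor
  · intro hf η _ A _ y h
    obtain ⟨l, hl⟩ := DvrGeneric.exists_of_universallyClosed f A _ y h
    exact ⟨l, hl, fun l' hl' => DvrGeneric.eq_of_isSeparated f A _ l' l (hl'.1.trans hl.1.symm) hl'.2 hl.2⟩
  · intro H
    have : IsSeparated f := DvrGeneric.isSeparated_of_generic f fun η hη A hA l₁ l₂ h h1 h2 =>
      (H η hη A hA (l₁ ≫ f) (by rw [← Category.assoc, h1])).unique ⟨rfl, h1⟩ ⟨h.symm, h2⟩
    have : UniversallyClosed f := DvrGeneric.universallyClosed_of_generic f fun η hη A hA y h => (H η hη A hA y h).exists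
    exact ⟨⟩

end Groth.Agent.S9212
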