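import Groth.Statements.S9214
import Groth.Agent.AbsApprox.OverLim
import Groth.Agent.S2076
import Groth.Agent.S0591

set_option autoImplicit false
universe u
open CategoryTheory CategoryTheory.Limits AlgebraicGeometry
open Lim

namespace Groth.Agent.S9214

/-- Let S = lim S_i be a cofiltered limit of Noetherian schemes with affine transition morphisms, and
suppose X → S is of finite type and quasi-separated. One can then find an index i, a finite type
morphism W → S_i and a morphism X → W over S_i (compatible with X → S → S_i) for which the resulting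
map X → S ×_{S_i} W into the fibre product is a closed immersion. -/
theorem result {I : Type u} [SmallCategory I] [IsCofiltered I]
    (D : I ⥤ Scheme.{u}) (c : Limits.Cone D) (hc : Limits.IsLimit c)
    [∀ (i j : I) (f : i ⟶ j), IsAffineHom (D.map f)] [∀ i, IsNoetherian (D.obj i)]
    {X : Scheme.{u}} (a : X ⟶ c.pt) [QuasiSeparated a] [QuasiCompact a] [LocallyOfFiniteType a] :
    ∃ (i : I) (W : Scheme.{u}) (w : W ⟶ D.obj i) (b : X ⟶ W) (hb : a ≫ c.π.app i = b ≫ w),
      LocallyOfFiniteType w ∧ QuasiCompact w ∧ IsClosedImmersion (pullback.lift a b hb) := by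
  have : IsCofiltered I := inferInstance
  obtain ⟨i₀⟩ := (IsCofiltered.nonempty : Nonempty I)
  have : ∀ {i j : I} (f : i ⟶ j), IsAffineHom (D.map f) := fun f => inferInstance
  have := isAffineHom_π_app D c hc i₀
  have : CompactSpace c.pt := QuasiCompact.compactSpace_of_compactSpace (c.π.app i₀)
  have : QuasiSeparatedSpace c.pt := quasiSeparatedSpace_of_quasiSeparated (c.π.app i₀)
  have : CompactSpace X := QuasiCompact.compactSpace_of_compactSpace a
  have : QuasiSeparatedSpace X := quasiSeparatedSpace_of_quasiSeparated a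
  obtain ⟨J, _, _, _, E, d, hl, e, h1, h2, h3⟩ := Groth.Agent.AbsApprox.exists_limit_over a
  have : IsCofiltered Jᵒᵖ := isCofiltered_op_of_isFiltered _
  have : ∀ (i j : Jᵒᵖ) (f : i ⟶ j), IsAffineHom (E.map f).left := h2
  have : ∀ j, CompactSpace (E.obj j).left := fun j => (h1 j).2.2.2.1
  have : IsIso e.inv.left := inferInstance
  have : LocallyOfFiniteType (e.inv.left ≫ d.pt.hom) := by
    rw [Over.w e.inv]; exact ‹LocallyOfFiniteType a›
  obtain ⟨j, hj⟩ := Groth.Agent.S2076.result c.pt E d hl e.inv.left
  have : LocallyOfFinitePresentation (E.obj j).hom := (h1 j).1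
  have : QuasiCompact (E.obj j).hom := (h1 j).2.1
  have : QuasiSeparated (E.obj j).hom := (h1 j).2.2.1
  have : ∀ i, CompactSpace (D.obj i) := fun i => inferInstance
  have : ∀ i, QuasiSeparatedSpace (D.obj i) := fun i => inferInstance
  obtain ⟨i, W, w, g, hw1, hw2, hw3, hY⟩ := Groth.Agent.S0591.result D c hc (E.obj j).left (E.obj j).hom
  let ι : X ⟶ (E.obj j).left := (e.inv ≫ d.π.app j).left
  have hι : ι ≫ (E.obj j).hom = a := Over.w (e.inv ≫ d.π.app j)
  have hb : a ≫ c.π.app i = (ι ≫ g) ≫ w := by rw [Category.assoc, hY.w, reassoc_of% hι]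
  refine ⟨i, W, w, ι ≫ g, hb, inferInstance, hw2, ?_⟩
  have heq : pullback.lift a (ι ≫ g) hb = ι ≫ hY.flip.isoPullback.hom := by
    refine pullback.hom_ext ?_ ?_
    · rw [pullback.lift_fst, Category.assoc, hY.flip.isoPullback_hom_fst, hι]
    · rw [pullback.lift_snd, Category.assoc, hY.flip.isoPullback_hom_snd]
  rw [heq]
  have : IsClosedImmersion ι := hj
  infer_instance

end Groth.Agent.S9214
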