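import Groth.Statements.S9216
import Groth.Agent.AbsApprox.StageProps
import Groth.Agent.S9215

set_option backward.isDefEq.respectTransparency false

set_option autoImplicit false
universe u
open CategoryTheory CategoryTheory.Limits AlgebraicGeometry
open Lim

namespace Groth.Agent.S9216

/-- Let S be a quasi-compact quasi-separated scheme, f : X → S a morphism of finite presentation and d a
natural number. Let Z be a closed subscheme of X such that every fibre of Z → S has dimension at
most d. Then there is a closed subscheme Z' of X containing Z such that Z' → X is of finite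
presentation and every fibre of Z' → S has dimension at most d. -/
theorem result {X S Z : Scheme.{u}} [CompactSpace S]
    [QuasiSeparatedSpace S] (f : X ⟶ S) [LocallyOfFinitePresentation f] [QuasiCompact f] [QuasiSeparated f]
    (d : ℕ) (ι : Z ⟶ X) [IsClosedImmersion ι] (hZ : ∀ s : S, topologicalKrullDim ↥((ι ≫ f).fiber s) ≤ d) :
    ∃ (Z' : Scheme.{u}) (ι' : Z' ⟶ X) (k : Z ⟶ Z'), IsClosedImmersion ι' ∧ LocallyOfFinitePresentation ι' ∧
      k ≫ ι' = ι ∧ ∀ s : S, topologicalKrullDim ↥((ι' ≫ f).fiber s) ≤ d := by
  classical
  haveI : CompactSpace X := QuasiCompact.compactSpace_of_compactSpace f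
  haveI : QuasiSeparatedSpace X := quasiSeparatedSpace_of_quasiSeparated f
  let J := (Groth.Agent.LimClosed.FTBelow ι.ker)ᵒᵖ
  haveI : IsCofiltered J := isCofiltered_op_of_isFiltered _
  haveI : IsConnected J := IsCofiltered.isConnected _
  let D := Groth.Agent.AbsApprox.closedDiagram f ι
  let c := Groth.Agent.AbsApprox.closedCone (ι ≫ f) f ι rfl
  let DX : J ⥤ Scheme.{u} := D ⋙ Over.forget S
  let DS : J ⥤ Scheme.{u} := (Functor.const J).obj S
  let φ : DX ⟶ DS :=
    { app := fun L => (D.obj L).hom
      naturality := fun L L' a => (Over.w (D.map a)).trans (Category.comp_id _).symm }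
  let cX := (Over.forget S).mapCone c
  have hX : Limits.IsLimit cX := Groth.Agent.AbsApprox.isLimitForget (ι ≫ f) f ι rfl
  let cS : Limits.Cone DS := { pt := S, π := { app := fun _ => 𝟙 S } }
  let L₀ : J := Opposite.op (Classical.arbitrary _)
  have hS : Limits.IsLimit cS :=
    { lift := fun t => t.π.app L₀
      fac := fun t L => (Category.comp_id _).trans
        (CategoryTheory.constant_of_preserves_morphisms (α := t.pt ⟶ S) (fun L : J => t.π.app L)
          (fun L L' a => ((t.w a).symm.trans (Category.comp_id _)).symm) L₀ L)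
      uniq := fun t m hm => (Category.comp_id m).symm.trans (hm L₀) }
  haveI : ∀ L : J, LocallyOfFiniteType (φ.app L) := fun L => by
    haveI := Groth.Agent.AbsApprox.lfp_closedDiagram f ι L
    exact inferInstanceAs (LocallyOfFiniteType (D.obj L).hom)
  haveI : ∀ L : J, QuasiCompact (φ.app L) := fun L => by
    haveI : CompactSpace (DX.obj L) := inferInstanceAs (CompactSpace (D.obj L).left)
    haveI : QuasiSeparatedSpace (DS.obj L) := inferInstanceAs (QuasiSeparatedSpace S)
    exact quasiCompact_of_compactSpace _
  haveI : ∀ (L L' : J) (a : L ⟶ L'), IsAffineHom (DS.map a) := fun _ _ _ => inferInstanceAs (IsAffineHom (𝟙 S))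
  haveI : ∀ L : J, CompactSpace (DS.obj L) := fun _ => inferInstanceAs (CompactSpace S)
  haveI : ∀ L : J, QuasiSeparatedSpace (DS.obj L) := fun _ => inferInstanceAs (QuasiSeparatedSpace S)
  obtain ⟨L, hL⟩ := Groth.Agent.S9215.result DX DS φ cX cS hX hS (fun L L' a => by
    haveI hiso : IsIso (DS.map a) := inferInstanceAs (IsIso (𝟙 S))
    haveI : IsIso (Limits.pullback.fst (φ.app L') (DS.map a)) := inferInstance
    haveI : IsClosedImmersion (Limits.pullback.lift (DX.map a) (φ.app L) (φ.naturality a) ≫ Limits.pullback.fst _ _) := by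
      rw [Limits.pullback.lift_fst]
      exact Groth.Agent.AbsApprox.isClosedImmersion_closedDiagram_map f ι a
    exact IsClosedImmersion.of_comp (Limits.pullback.lift (DX.map a) (φ.app L) (φ.naturality a)) (Limits.pullback.fst _ _))
    (ι ≫ f) (fun L => ((Over.w (c.π.app L)).trans (Category.comp_id _).symm).symm) d hZ
  let m := ((Groth.Agent.LimClosed.diagram ι.ker).obj L).hom
  exact ⟨(D.obj L).left, m, (c.π.app L).left, inferInstanceAs (IsClosedImmersion m),
    Groth.Agent.LimClosed.lfp_diagram ι.ker L, Over.w ((Groth.Agent.LimClosed.cone ι.ker ι rfl).π.app L), hL⟩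

end Groth.Agent.S9216
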