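import Groth.Statements.S9217
import Groth.Agent.RatMap.Spread
import Groth.Agent.MTBridge.CentralFibres
import Groth.Agent.SectionExt.Basic
import Groth.Agent.ConsEngine.LimClosure
import Groth.Agent.ConsEngine.LimComp

set_option autoImplicit false
universe u
open CategoryTheory AlgebraicGeometry
open Lim

namespace Groth.Agent.S9217

/-- Let S be a scheme, X and Y schemes over S with Y locally of finite presentation over S, and x a
closed point of X such that the inclusion of U = X - {x} in X is quasi-compact; let V be the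
complement of the closed point in Spec O_{X,x}, i.e. the preimage of U under the canonical morphism
Spec O_{X,x} → X. Then restriction is a bijection from the S-morphisms X → Y to the pairs (a, b) of
S-morphisms a : U → Y, b : Spec O_{X,x} → Y which agree on V: two morphisms X → Y with the same
restrictions to U and to Spec O_{X,x} are equal, and every such compatible pair of S-morphisms is
the pair of restrictions of an S-morphism X → Y. -/
theorem result {X Y S : Scheme.{u}} (p : X ⟶ S) (q : Y ⟶ S) [LocallyOfFinitePresentation q]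
    (x : X) (U : X.Opens) (hU : (U : Set X) = {x}ᶜ) [QuasiCompact U.ι] :
    (∀ g₁ g₂ : X ⟶ Y, U.ι ≫ g₁ = U.ι ≫ g₂ → X.fromSpecStalk x ≫ g₁ = X.fromSpecStalk x ≫ g₂ → g₁ = g₂) ∧
    (∀ (a : (U : Scheme.{u}) ⟶ Y) (b : Spec (X.presheaf.stalk x) ⟶ Y), a ≫ q = U.ι ≫ p →
      b ≫ q = X.fromSpecStalk x ≫ p → ((X.fromSpecStalk x) ⁻¹ᵁ U).ι ≫ b = ((X.fromSpecStalk x) ∣_ U) ≫ a →
        ∃ g : X ⟶ Y, g ≫ q = p ∧ U.ι ≫ g = a ∧ X.fromSpecStalk x ≫ g = b) := by
  classical
  refine ⟨fun g₁ g₂ hU' hx' => MTBridge.hom_ext_fromSpecStalk _ _ fun t => ?_, fun a b ha hb hab => ?_⟩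
  · by_cases ht : t = x
    · subst ht; exact hx'
    · have htU : t ∈ U := by rw [← SetLike.mem_coe, hU]; exact ht
      rw [← Scheme.Opens.fromSpecStalkOfMem_ι U t htU, Category.assoc, Category.assoc, hU']
  · obtain ⟨W, hxW, gW, hbW, hgW⟩ := RatMap.spread_out_of_locallyOfFinitePresentation p q b hb
    have hagree : ∀ z : X, ∀ hzU : z ∈ U, z ⤳ x → ∃ O : X.Opens, z ∈ O ∧
        ∃ (h₁ : O ≤ U) (h₂ : O ≤ W), X.homOfLE h₁ ≫ a = X.homOfLE h₂ ≫ gW := by
      intro z hzU hz
      have hzW : z ∈ W := hz.mem_open W.2 hxW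
      let zz : (U ⊓ W : X.Opens).toScheme := ⟨z, hzU, hzW⟩
      have he : (U ⊓ W : X.Opens).fromSpecStalkOfMem z ⟨hzU, hzW⟩ ≫ X.homOfLE inf_le_left ≫ a =
          (U ⊓ W : X.Opens).fromSpecStalkOfMem z ⟨hzU, hzW⟩ ≫ X.homOfLE inf_le_right ≫ gW := by
        have e1 : (U ⊓ W : X.Opens).fromSpecStalkOfMem z ⟨hzU, hzW⟩ ≫ X.homOfLE inf_le_left =
            U.fromSpecStalkOfMem z hzU := by
          rw [← cancel_mono U.ι]; simp

        have e2 : (U ⊓ W : X.Opens).fromSpecStalkOfMem z ⟨hzU, hzW⟩ ≫ X.homOfLE inf_le_right =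
            Spec.map (X.presheaf.stalkSpecializes hz) ≫ W.fromSpecStalkOfMem x hxW := by
          rw [← cancel_mono W.ι]; simp [Scheme.SpecMap_stalkSpecializes_fromSpecStalk]

        rw [reassoc_of% e1, reassoc_of% e2, ← hbW]
        set sp := Spec.map (X.presheaf.stalkSpecializes hz) with hsp
        have hrange : Set.range sp ⊆ Set.range ((X.fromSpecStalk x) ⁻¹ᵁ U).ι := by
          rintro _ ⟨w, rfl⟩
          rw [Scheme.Opens.range_ι]
          show (X.fromSpecStalk x) (sp w) ∈ U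
          rw [← Scheme.Hom.comp_apply, hsp, Scheme.SpecMap_stalkSpecializes_fromSpecStalk]
          have : z ∈ U := hzU
          have hw : X.fromSpecStalk z w ⤳ z := by
            have := Scheme.range_fromSpecStalk (X := X) (x := z)
            exact this.subset ⟨w, rfl⟩
          exact hw.mem_open U.2 hzU
        obtain ⟨l, hl⟩ : ∃ l, l ≫ ((X.fromSpecStalk x) ⁻¹ᵁ U).ι = sp :=
          ⟨_, IsOpenImmersion.lift_fac _ sp hrange⟩
        rw [← hl, Category.assoc, hab, ← Category.assoc]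
        congr 1
        rw [← cancel_mono U.ι, Category.assoc, morphismRestrict_ι, reassoc_of% hl, hsp,
          Scheme.SpecMap_stalkSpecializes_fromSpecStalk, Scheme.Opens.fromSpecStalkOfMem_ι]
      have he' : (U ⊓ W : X.Opens).toScheme.fromSpecStalk zz ≫ X.homOfLE inf_le_left ≫ a =
          (U ⊓ W : X.Opens).toScheme.fromSpecStalk zz ≫ X.homOfLE inf_le_right ≫ gW := by
        simp only [Scheme.Opens.fromSpecStalkOfMem, Category.assoc] at he
        have : IsIso (Spec.map (inv (Scheme.Hom.stalkMap (U ⊓ W : X.Opens).ι zz))) :=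
          inferInstanceAs (IsIso (Scheme.Spec.map (inv (Scheme.Hom.stalkMap (U ⊓ W : X.Opens).ι zz)).op))
        exact (cancel_epi (Spec.map (inv (Scheme.Hom.stalkMap (U ⊓ W : X.Opens).ι zz)))).mp he
      obtain ⟨O', hzO', hO'⟩ := RatMap.spread_out_unique_of_locallyOfFiniteType
        ((U ⊓ W : X.Opens).ι ≫ p) q (X.homOfLE inf_le_left ≫ a) (X.homOfLE inf_le_right ≫ gW)
        (by simp [ha]) (by simp [hgW]) he'
      refine ⟨(U ⊓ W : X.Opens).ι ''ᵁ O', ⟨zz, hzO', rfl⟩,
        ((U ⊓ W : X.Opens).ι_image_le O').trans inf_le_left,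
        ((U ⊓ W : X.Opens).ι_image_le O').trans inf_le_right, ?_⟩
      rw [← cancel_epi ((U ⊓ W : X.Opens).ι.isoImage O').hom]
      have e1 : ((U ⊓ W : X.Opens).ι.isoImage O').hom ≫
          X.homOfLE (((U ⊓ W : X.Opens).ι_image_le O').trans inf_le_left) =
          O'.ι ≫ X.homOfLE inf_le_left := by
        rw [← cancel_mono U.ι]; simp
      have e2 : ((U ⊓ W : X.Opens).ι.isoImage O').hom ≫
          X.homOfLE (((U ⊓ W : X.Opens).ι_image_le O').trans inf_le_right) =
          O'.ι ≫ X.homOfLE inf_le_right := by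
        rw [← cancel_mono W.ι]; simp
      rw [reassoc_of% e1, reassoc_of% e2, hO']
    choose O hzO hOU hOW hO using hagree
    let OO : X.Opens := ⨆ z : {z : X // z ∈ U ∧ z ⤳ x}, O z.1 z.2.1 z.2.2
    let E : Set X := (U : Set X) ∩ (OO : Set X)ᶜ
    have hE : ProCons.IsProConstructible E := by
      refine ConsEngine.proCons_inter_compl ?_ ?_
      · simpa using ConsEngine.proCons_range U.ι
      · simpa using ConsTop.isProConstructible_iff_indCons_compl.mp
          (ConsEngine.proCons_of_isClosed OO.2.isClosed_compl)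
    have hxE : x ∉ closure E := by
      intro hx
      obtain ⟨z, hz, hzx⟩ := ConsEngine.exists_specializes_of_mem_closure_proCons hE hx
      exact hz.2 (TopologicalSpace.Opens.mem_iSup.mpr ⟨⟨z, hz.1, hzx⟩, hzO z hz.1 hzx⟩)
    let V : X.Opens := W ⊓ ⟨(closure E)ᶜ, isClosed_closure.isOpen_compl⟩
    have hVW : V ≤ W := inf_le_left
    have hOO : U ⊓ V ≤ OO := fun w hw => by
      by_contra h
      exact hw.2.2 (subset_closure ⟨hw.1, h⟩)
    have hcomp : X.homOfLE (inf_le_left : U ⊓ V ≤ U) ≫ a =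
        X.homOfLE (inf_le_right : U ⊓ V ≤ V) ≫ X.homOfLE hVW ≫ gW := by
      refine Scheme.hom_ext_of_forall _ _ fun w => ?_
      obtain ⟨z, hz⟩ := TopologicalSpace.Opens.mem_iSup.mp (hOO w.2)
      refine ⟨(U ⊓ V : X.Opens).ι ⁻¹ᵁ O z.1 z.2.1 z.2.2, hz, ?_⟩
      set k := IsOpenImmersion.lift (O z.1 z.2.1 z.2.2).ι
        (((U ⊓ V : X.Opens).ι ⁻¹ᵁ O z.1 z.2.1 z.2.2).ι ≫ (U ⊓ V : X.Opens).ι)
        (by rintro _ ⟨v, rfl⟩; rw [Scheme.Opens.range_ι]; exact v.2) with hk
      have e1 : ((U ⊓ V : X.Opens).ι ⁻¹ᵁ O z.1 z.2.1 z.2.2).ι ≫ X.homOfLE inf_le_left =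
          k ≫ X.homOfLE (hOU z.1 z.2.1 z.2.2) := by
        rw [← cancel_mono U.ι]; simp [hk] <;> exact (IsOpenImmersion.lift_fac _ _ _).symm
      have e2 : ((U ⊓ V : X.Opens).ι ⁻¹ᵁ O z.1 z.2.1 z.2.2).ι ≫ X.homOfLE inf_le_right ≫ X.homOfLE hVW =
          k ≫ X.homOfLE (hOW z.1 z.2.1 z.2.2) := by
        rw [← cancel_mono W.ι]; simp [hk]
      rw [reassoc_of% e1, reassoc_of% e2, hO]
    obtain ⟨c, hc1, hc2⟩ := SectionExt.exists_glue_two U V a (X.homOfLE hVW ≫ gW) hcomp
    have hxV : x ∈ V := ⟨hxW, hxE⟩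
    have htop : U ⊔ V = ⊤ := by
      refine top_le_iff.mp fun w _ => ?_
      by_cases hw : w = x
      · exact Or.inr (hw ▸ hxV)
      · exact Or.inl (by rw [hU]; exact hw)
    obtain ⟨g, hg⟩ : ∃ g : X ⟶ Y, g = X.topIso.inv ≫ (X.isoOfEq htop).inv ≫ c := ⟨_, rfl⟩
    have hgU : U.ι ≫ g = a := by
      rw [← hc1]
      simp only [hg, ← Category.assoc]
      congr 1
      rw [← cancel_mono (U ⊔ V).ι]
      simp
    have hgV : V.ι ≫ g = X.homOfLE hVW ≫ gW := by
      rw [← hc2]
      simp only [hg, ← Category.assoc]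
      congr 1
      rw [← cancel_mono (U ⊔ V).ι]
      simp
    refine ⟨g, ?_, hgU, ?_⟩
    · refine MTBridge.hom_ext_fromSpecStalk _ _ fun t => ?_
      rcases (htop ▸ trivial : t ∈ U ⊔ V) with ht | ht
      · rw [← Scheme.Opens.fromSpecStalkOfMem_ι U t ht, Category.assoc, Category.assoc,
          reassoc_of% hgU, ha]
      · rw [← Scheme.Opens.fromSpecStalkOfMem_ι V t ht, Category.assoc, Category.assoc,
          reassoc_of% hgV, hgW, Scheme.homOfLE_ι_assoc]
    · rw [← Scheme.Opens.fromSpecStalkOfMem_ι V x hxV, Category.assoc, hgV, hbW, ← Category.assoc]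
      congr 1
      rw [← cancel_mono W.ι]
      simp

end Groth.Agent.S9217
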