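import Groth.Statements.S9221
import Groth.Agent.LimProper.Main
import Groth.Agent.ClSubLib.Basic
import Groth.Agent.SupportLib.Pull
import Groth.Agent.QC.Support

set_option autoImplicit false
universe u
open CategoryTheory AlgebraicGeometry
open Lim

namespace Groth.Agent.S9221

/-- Let S = lim S_i be a cofiltered limit of schemes with affine transition morphisms, S_{i₀} a
quasi-compact quasi-separated stage, f₀ : X₀ → Y₀ a morphism of quasi-compact quasi-separated
schemes over S_{i₀}, and f : X → Y its base change along S → S_{i₀} (base changes expressed by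
pullback squares). Let F₀ be a quasi-coherent O_{X₀}-module of finite type, with pullbacks F to X
and F_i to X_i, and assume f₀ is locally of finite type. If the support of F (a closed subset of X,
taken with its reduced structure; equivalently the scheme-theoretic support of F) is proper over Y,
then for some index i over i₀, with f_i : X_i → Y_i the base change of f₀ along S_i → S_{i₀}, the
support of F_i is proper over Y_i. -/
theorem result {I : Type u} [SmallCategory I] [IsCofiltered I]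
    (D : I ⥤ Scheme.{u}) (c : Limits.Cone D) (hc : Limits.IsLimit c)
    [∀ (i j : I) (f : i ⟶ j), IsAffineHom (D.map f)] (i₀ : I) [CompactSpace (D.obj i₀)]
    [QuasiSeparatedSpace (D.obj i₀)] {X₀ Y₀ : Scheme.{u}} (f₀ : X₀ ⟶ Y₀) (g₀ : Y₀ ⟶ D.obj i₀)
    [CompactSpace X₀] [QuasiSeparatedSpace X₀] [CompactSpace Y₀] [QuasiSeparatedSpace Y₀]
    [LocallyOfFiniteType f₀] (F₀ : X₀.Modules) [Coh.IsQCoh F₀] (hF₀ : CohB1.IsFT F₀)
    {X Y : Scheme.{u}} (f : X ⟶ Y) (g : Y ⟶ c.pt) (qY : Y ⟶ Y₀) (qX : X ⟶ X₀)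
    (hY : IsPullback qY g g₀ (c.π.app i₀)) (hX : IsPullback qX f f₀ qY) (hF : ClSub.IsProperOver f (CohB1.support ((Scheme.Modules.pullback qX).obj F₀))) :
    ∃ (i : I) (φ : i ⟶ i₀) (Xi Yi : Scheme.{u}) (fi : Xi ⟶ Yi) (gi : Yi ⟶ D.obj i) (pY : Yi ⟶ Y₀)
      (pX : Xi ⟶ X₀), IsPullback pY gi g₀ (D.map φ) ∧ IsPullback pX fi f₀ pY ∧ ClSub.IsProperOver fi (CohB1.support ((Scheme.Modules.pullback pX).obj F₀)) := by
  haveI : ∀ {i j : I} (f : i ⟶ j), IsAffineHom (D.map f) := fun {i j} f => inferInstance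
  haveI := quasiCompact_of_compactSpace f₀
  haveI : QuasiSeparated f₀ := QuasiSeparated.of_comp f₀ (Y₀.toSpecΓ)
  have hC : IsClosed (CohB1.support F₀) := Groth.Agent.QC.isClosed_support hF₀
  let i₁ := ClSubLib.redι _ hC
  have hr : Set.range i₁ = CohB1.support F₀ := ClSubLib.range_redι _ hC
  haveI : LocallyOfFiniteType f := MorphismProperty.of_isPullback (P := @LocallyOfFiniteType) hX inferInstance
  rw [Groth.Agent.SupportLib.support_pullback qX F₀ hF₀] at hF
  have hZ := IsPullback.of_hasPullback i₁ qX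
  haveI : IsProper (Limits.pullback.snd i₁ qX ≫ f) := ClSubLib.isProper_comp f (Limits.pullback.snd i₁ qX) hF (by
    rw [Scheme.Pullback.range_snd, hr])
  obtain ⟨j, hj⟩ := Groth.Agent.LimProper.exists_isProper D c hc (i₁ ≫ f₀) g₀ hY (hZ.paste_vert hX)
  refine ⟨j.left, j.hom, _, _, _, _, _, _, LimDesc.isPullback_stage D g₀ j, LimDesc.isPullback_stageMap D g₀ f₀ j, ?_⟩
  let pX := LimDesc.toBase D (f₀ ≫ g₀) j
  rw [Groth.Agent.SupportLib.support_pullback pX F₀ hF₀]
  have hW := IsPullback.of_hasPullback i₁ pX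
  have hW' := (hW.paste_vert (LimDesc.isPullback_stageMap D g₀ f₀ j))
  haveI : IsProper (Limits.pullback.snd i₁ pX ≫ LimDesc.stageMap D g₀ f₀ j) := by
    rw [← hW'.isoIsPullback_hom_snd _ _ (LimDesc.isPullback_stageMap D g₀ (i₁ ≫ f₀) j)]
    exact MorphismProperty.comp_mem _ _ _ inferInstance hj
  exact ClSubLib.isProperOver_of_subset _ (Limits.pullback.snd i₁ pX) _ (hC.preimage pX.continuous) (by
    rw [Scheme.Pullback.range_snd, hr])

end Groth.Agent.S9221
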