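import Groth.Statements.S9224
import Mathlib.AlgebraicGeometry.PullbackCarrier
import Mathlib.AlgebraicGeometry.Morphisms.FinitePresentation


set_option autoImplicit false
universe u
open CategoryTheory CategoryTheory.Limits AlgebraicGeometry
open Lim

namespace Groth.Agent.S9224

open TensorProduct

/-- Given an affine chart `W` of `X` mapping into the affine open `U` of `S` and a scheme `Y ≅ Spec R`
over `U`, the spectrum of `Γ(X, W) ⊗ R` is the part of `X ×_S Y` over `W`. -/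
lemma chart {X S Y : Scheme.{u}} (f : X ⟶ S) (i : Y ⟶ S) {U : S.Opens} (hU : IsAffineOpen U)
    {W : X.Opens} (hW : IsAffineOpen W) {R : CommRingCat.{u}}
    [Algebra Γ(S, U) Γ(X, W)] [Algebra Γ(S, U) R] (r : Spec R ⟶ Y) [IsIso r]
    (hc : Spec.map (CommRingCat.ofHom (algebraMap Γ(S, U) Γ(X, W))) ≫ hU.fromSpec = hW.fromSpec ≫ f)
    (hr : Spec.map (CommRingCat.ofHom (algebraMap Γ(S, U) R)) ≫ hU.fromSpec = r ≫ i) :
    ∃ ψ : Spec (CommRingCat.of (Γ(X, W) ⊗[Γ(S, U)] R)) ⟶ pullback f i,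
      ψ ≫ pullback.fst f i =
        Spec.map (CommRingCat.ofHom Algebra.TensorProduct.includeLeftRingHom) ≫ hW.fromSpec ∧
      ψ ≫ pullback.snd f i =
        Spec.map (CommRingCat.ofHom
          (Algebra.TensorProduct.includeRight : R →ₐ[Γ(S, U)] Γ(X, W) ⊗[Γ(S, U)] R).toRingHom) ≫ r ∧
      IsOpenImmersion ψ ∧ Set.range ψ.base = (pullback.fst f i).base ⁻¹' W := by
  have h0 := isPullback_SpecMap_of_isPushout _ _ _ _
    (CommRingCat.isPushout_tensorProduct Γ(S, U) Γ(X, W) R)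
  have h1 := IsPullback.mk ⟨h0.w_assoc hU.fromSpec⟩
    ⟨PullbackCone.isLimitOfCompMono _ _ hU.fromSpec _ h0.isLimit⟩
  have h2 : IsPullback (Spec.map (CommRingCat.ofHom Algebra.TensorProduct.includeLeftRingHom))
      (Spec.map (CommRingCat.ofHom
          (Algebra.TensorProduct.includeRight : R →ₐ[Γ(S, U)] Γ(X, W) ⊗[Γ(S, U)] R).toRingHom) ≫ r)
      (hW.fromSpec ≫ f) i :=
    h1.of_iso (Iso.refl _) (Iso.refl _) (asIso r) (Iso.refl _) (by simp) (by simp)
      (by simpa using hc) (by simpa using hr)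
  refine ⟨h2.isoPullback.hom ≫ (pullbackRightPullbackFstIso f i hW.fromSpec).inv ≫
    pullback.snd hW.fromSpec (pullback.fst f i), ?_, ?_, inferInstance, ?_⟩
  · rw [Category.assoc, Category.assoc, ← pullback.condition,
      pullbackRightPullbackFstIso_inv_fst_assoc, IsPullback.isoPullback_hom_fst_assoc]
  · rw [Category.assoc, Category.assoc, pullbackRightPullbackFstIso_inv_snd_snd,
      IsPullback.isoPullback_hom_snd]
  · have : Set.range (pullback.snd hW.fromSpec (pullback.fst f i)).base =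
        (pullback.fst f i).base ⁻¹' W := by
      rw [Scheme.Pullback.range_snd, hW.range_fromSpec]
    rw [← Category.assoc, Scheme.Hom.comp_base, TopCat.coe_comp, Set.range_comp]
    rw [(ConcreteCategory.bijective_of_isIso _).surjective.range_eq, Set.image_univ, this]

/-- The algebra: a closed subset of `Spec (C ⊗ B)` missing the fibre over `p` is contained in the
zero set of an element defined over a finitely generated subalgebra which is invertible on the
fibre over `p`. -/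
lemma key {A B C : Type u} [CommRing A] [CommRing B] [CommRing C] [Algebra A B] [Algebra A C]
    (Z : Set (PrimeSpectrum (C ⊗[A] B))) (hZ : IsClosed Z) (p : PrimeSpectrum B)
    (hZp : ∀ q ∈ Z, q.asIdeal.comap (Algebra.TensorProduct.includeRight : B →ₐ[A] C ⊗[A] B) ≠ p.asIdeal) :
    ∃ F : Finset B, ∀ G : Finset B, F ⊆ G →
      ∀ φ : MvPolynomial G A →ₐ[A] B, (∀ x, φ (MvPolynomial.X x) = x) →
      ∃ a : C ⊗[A] MvPolynomial G A,
        (∀ q ∈ Z, Algebra.TensorProduct.map (AlgHom.id A C) φ a ∈ q.asIdeal) ∧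
        ∀ q : PrimeSpectrum (C ⊗[A] MvPolynomial G A), a ∈ q.asIdeal →
          q.asIdeal.comap (Algebra.TensorProduct.includeRight : MvPolynomial G A →ₐ[A] _) ≠
            p.asIdeal.comap φ := by
  classical
  obtain ⟨J, rfl⟩ := (PrimeSpectrum.isClosed_iff_zeroLocus_ideal Z).mp hZ
  let iR : B →+* C ⊗[A] B := (Algebra.TensorProduct.includeRight : B →ₐ[A] C ⊗[A] B).toRingHom
  -- some `s ∉ p` lies in `J + p (C ⊗ B)`
  obtain ⟨s, hs, hsI⟩ : ∃ s, s ∉ p.asIdeal ∧ iR s ∈ J ⊔ p.asIdeal.map iR := by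
    by_contra hc
    push Not at hc
    have hd : Disjoint ((J ⊔ p.asIdeal.map iR : Ideal (C ⊗[A] B)) : Set (C ⊗[A] B))
        ((p.asIdeal.primeCompl.map iR : Submonoid _) : Set (C ⊗[A] B)) := by
      rw [Set.disjoint_right]
      rintro _ ⟨b, hb, rfl⟩
      exact hc b hb
    obtain ⟨q, hq, hle, hdq⟩ := Ideal.exists_le_prime_disjoint _ _ hd
    refine hZp ⟨q, hq⟩ ?_ (le_antisymm ?_ ?_)
    · rw [PrimeSpectrum.mem_zeroLocus]
      exact fun x hx => hle ((le_sup_left : J ≤ _) hx)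
    · intro b hb
      by_contra hbp
      exact Set.disjoint_left.mp hdq (Ideal.mem_comap.mp hb) ⟨b, hbp, rfl⟩
    · intro b hb
      exact Ideal.mem_comap.mpr
        (hle ((le_sup_right : p.asIdeal.map iR ≤ _) (Ideal.mem_map_of_mem iR hb)))
  obtain ⟨a₀, ha₀, y, hy, hsum⟩ := Submodule.mem_sup.mp hsI
  -- `P w` says that `w` is defined over finitely many elements
  obtain ⟨F, hF⟩ : ∃ F : Finset B, ∀ G : Finset B, F ⊆ G →
      ∀ φ : MvPolynomial G A →ₐ[A] B, (∀ x, φ (MvPolynomial.X x) = x) →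
      ∃ y' : C ⊗[A] MvPolynomial G A, Algebra.TensorProduct.map (AlgHom.id A C) φ y' = y ∧
        ∀ q : PrimeSpectrum (C ⊗[A] MvPolynomial G A),
          q.asIdeal.comap (Algebra.TensorProduct.includeRight : MvPolynomial G A →ₐ[A] _) =
            p.asIdeal.comap φ → y' ∈ q.asIdeal := by
    rw [Ideal.map] at hy
    clear hsum
    induction hy using Submodule.span_induction with
    | mem y hy =>
      obtain ⟨b, hb, rfl⟩ := hy
      refine ⟨{b}, fun G hG φ hφ => ⟨1 ⊗ₜ MvPolynomial.X ⟨b, hG (by simp)⟩, ?_, ?_⟩⟩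
      · simp [iR, hφ]
      · intro q hq
        have : MvPolynomial.X ⟨b, hG (by simp)⟩ ∈ p.asIdeal.comap φ := by
          rw [Ideal.mem_comap, hφ]; exact hb
        rw [← hq, Ideal.mem_comap] at this
        simpa using this
    | zero => exact ⟨∅, fun G _ φ _ => ⟨0, map_zero _, fun q _ => q.asIdeal.zero_mem⟩⟩
    | add y z _ _ iy iz =>
      obtain ⟨F₁, h₁⟩ := iy
      obtain ⟨F₂, h₂⟩ := iz
      refine ⟨F₁ ∪ F₂, fun G hG φ hφ => ?_⟩
      obtain ⟨y', hy', hy''⟩ := h₁ G (Finset.union_subset_left hG) φ hφ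
      obtain ⟨z', hz', hz''⟩ := h₂ G (Finset.union_subset_right hG) φ hφ
      exact ⟨y' + z', by rw [map_add, hy', hz'], fun q hq => q.asIdeal.add_mem (hy'' q hq) (hz'' q hq)⟩
    | smul w y _ iy =>
      obtain ⟨F₁, h₁⟩ := iy
      obtain ⟨F₂, hw⟩ : ∃ F : Finset B, ∀ G : Finset B, F ⊆ G →
          ∀ φ : MvPolynomial G A →ₐ[A] B, (∀ x, φ (MvPolynomial.X x) = x) →
          ∃ w' : C ⊗[A] MvPolynomial G A, Algebra.TensorProduct.map (AlgHom.id A C) φ w' = w := by
        induction w using TensorProduct.induction_on with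
        | zero => exact ⟨∅, fun G _ φ _ => ⟨0, map_zero _⟩⟩
        | tmul c b =>
          exact ⟨{b}, fun G hG φ hφ => ⟨c ⊗ₜ MvPolynomial.X ⟨b, hG (by simp)⟩, by simp [hφ]⟩⟩
        | add w z iw iz =>
          obtain ⟨F₁, h₁⟩ := iw
          obtain ⟨F₂, h₂⟩ := iz
          refine ⟨F₁ ∪ F₂, fun G hG φ hφ => ?_⟩
          obtain ⟨w', hw'⟩ := h₁ G (Finset.union_subset_left hG) φ hφ
          obtain ⟨z', hz'⟩ := h₂ G (Finset.union_subset_right hG) φ hφ
          exact ⟨w' + z', by rw [map_add, hw', hz']⟩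
      refine ⟨F₁ ∪ F₂, fun G hG φ hφ => ?_⟩
      obtain ⟨y', hy', hy''⟩ := h₁ G (Finset.union_subset_left hG) φ hφ
      obtain ⟨w', hw'⟩ := hw G (Finset.union_subset_right hG) φ hφ
      exact ⟨w' * y', by rw [map_mul, hy', hw', smul_eq_mul],
        fun q hq => q.asIdeal.mul_mem_left _ (hy'' q hq)⟩
  refine ⟨insert s F, fun G hG φ hφ => ?_⟩
  obtain ⟨y', hy', hy''⟩ := hF G ((Finset.subset_insert s F).trans hG) φ hφ
  let S' : MvPolynomial G A := MvPolynomial.X ⟨s, hG (Finset.mem_insert_self s F)⟩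
  refine ⟨1 ⊗ₜ S' - y', fun q hq => ?_, fun q hq hqp => hs ?_⟩
  · rw [map_sub, hy']
    have : Algebra.TensorProduct.map (AlgHom.id A C) φ (1 ⊗ₜ S') = iR s := by simp [S', iR, hφ]
    rw [this, ← hsum, add_sub_cancel_right]
    exact (PrimeSpectrum.mem_zeroLocus _ _).mp hq ha₀
  · have h1 : (1 ⊗ₜ S' : C ⊗[A] MvPolynomial G A) ∈ q.asIdeal := by
      simpa using q.asIdeal.add_mem hq (hy'' q hqp)
    have h2 : S' ∈ p.asIdeal.comap φ := by
      rw [← hqp, Ideal.mem_comap]; simpa using h1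
    simpa [S', hφ] using h2


/-- On one chart: the closure of the image of a closed set missing the fibre over `t` misses
the fibre over the image of `t`, once the parameters contain a suitable finite set. -/
lemma chartwise {X S Y : Scheme.{u}} (f : X ⟶ S) {U : S.Opens} (hU : IsAffineOpen U)
    {W : X.Opens} (hW : IsAffineOpen W) (hWU : W ≤ f ⁻¹ᵁ U)
    {B : CommRingCat.{u}} [Algebra Γ(S, U) B] (i : Y ⟶ S) (r : Spec B ⟶ Y) [IsIso r]
    (hr : Spec.map (CommRingCat.ofHom (algebraMap Γ(S, U) B)) ≫ hU.fromSpec = r ≫ i)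
    (Z : Set ↥(pullback f i)) (hZ : IsClosed Z) (y : Y)
    (hZy : ∀ z ∈ Z, (pullback.snd f i).base z ≠ y) :
    ∃ F : Finset B, ∀ G : Finset B, F ⊆ G →
      ∀ φ : MvPolynomial G Γ(S, U) →ₐ[Γ(S, U)] B, (∀ x, φ (MvPolynomial.X x) = x) →
      ∀ (a : Y ⟶ Spec (CommRingCat.of (MvPolynomial G Γ(S, U))))
        (b : Spec (CommRingCat.of (MvPolynomial G Γ(S, U))) ⟶ S)
        (m : pullback f i ⟶ pullback f b),
        r ≫ a = Spec.map (CommRingCat.ofHom φ.toRingHom) →
        b = Spec.map (CommRingCat.ofHom (algebraMap Γ(S, U) (MvPolynomial G Γ(S, U)))) ≫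
          hU.fromSpec →
        m ≫ pullback.fst f b = pullback.fst f i →
        m ≫ pullback.snd f b = pullback.snd f i ≫ a →
        ∀ x' ∈ closure (m.base '' Z), (pullback.fst f b).base x' ∈ W →
          (pullback.snd f b).base x' ≠ a.base y := by
  let : Algebra Γ(S, U) Γ(X, W) := (f.appLE U W hWU).hom.toAlgebra
  have hc : Spec.map (CommRingCat.ofHom (algebraMap Γ(S, U) Γ(X, W))) ≫ hU.fromSpec =
      hW.fromSpec ≫ f := by
    rw [RingHom.algebraMap_toAlgebra, CommRingCat.ofHom_hom,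
      IsAffineOpen.SpecMap_appLE_fromSpec f hU hW]
  obtain ⟨ψ, hψ1, hψ2, hψo, hψr⟩ := chart f i hU hW r hc hr
  obtain ⟨p, rfl⟩ : ∃ p, r.base p = y := (ConcreteCategory.bijective_of_isIso r.base).surjective y
  obtain ⟨F, hF⟩ := key (ψ.base ⁻¹' Z) (hZ.preimage ψ.base.hom.continuous) p (by
    intro q hq hqp
    refine hZy _ hq ?_
    rw [← Scheme.Hom.comp_apply, hψ2, Scheme.Hom.comp_apply]
    exact congrArg r.base (PrimeSpectrum.ext hqp))
  refine ⟨F, fun G hG φ hφ a b m ha hb hm1 hm2 x' hx' hxW hxy => ?_⟩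
  obtain ⟨ψ', hψ1', hψ2', hψo', hψr'⟩ := chart f b hU hW (R := CommRingCat.of (MvPolynomial G Γ(S, U)))
    (𝟙 _) hc (by rw [hb]; simp)
  obtain ⟨α, hα1, hα2⟩ := hF G hG φ hφ
  let σ : Spec (CommRingCat.of (Γ(X, W) ⊗[Γ(S, U)] B)) ⟶
      Spec (CommRingCat.of (Γ(X, W) ⊗[Γ(S, U)] MvPolynomial G Γ(S, U))) :=
    Spec.map (CommRingCat.ofHom
      (Algebra.TensorProduct.map (AlgHom.id Γ(S, U) Γ(X, W)) φ).toRingHom)
  have hσ : σ ≫ ψ' = ψ ≫ m := by
    apply pullback.hom_ext
    · rw [Category.assoc, Category.assoc, hψ1', hm1, hψ1, ← Spec.map_comp_assoc]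
      congr 2
      ext c
      simp
    · rw [Category.assoc, Category.assoc, hψ2', hm2, reassoc_of% hψ2, ha, Category.comp_id,
        ← Spec.map_comp, ← Spec.map_comp]
      congr 1
  obtain ⟨q, rfl⟩ : x' ∈ Set.range ψ'.base := by rw [hψr']; exact hxW
  have hq : q ∈ closure (ψ'.base ⁻¹' (m.base '' Z)) := by
    have := (Scheme.Hom.isOpenEmbedding ψ').isOpenMap.preimage_closure_eq_closure_preimage
      ψ'.base.hom.continuous (m.base '' Z)
    rw [← this]
    exact hx'
  have hsub : ψ'.base ⁻¹' (m.base '' Z) ⊆ PrimeSpectrum.zeroLocus {α} := by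
    rintro q' ⟨z, hz, hzq⟩
    have hzW : z ∈ (pullback.fst f i).base ⁻¹' (W : Set X) := by
      have : q' ∈ ψ'.base ⁻¹' ((pullback.fst f b).base ⁻¹' (W : Set X)) := by
        rw [← hψr']; exact ⟨q', rfl⟩
      rw [Set.mem_preimage, Set.mem_preimage, ← hzq, ← Scheme.Hom.comp_apply, hm1] at this
      exact this
    rw [← hψr] at hzW
    obtain ⟨q₀, rfl⟩ := hzW
    have : ψ'.base (σ.base q₀) = ψ'.base q' := by
      rw [← hzq, ← Scheme.Hom.comp_apply, hσ, Scheme.Hom.comp_apply]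
    have := (Scheme.Hom.isOpenEmbedding ψ').injective this
    subst this
    exact (PrimeSpectrum.mem_zeroLocus _ _).mpr (Set.singleton_subset_iff.mpr (hα1 q₀ hz))
  have hqα : α ∈ q.asIdeal := Set.singleton_subset_iff.mp <|
    (PrimeSpectrum.mem_zeroLocus _ _).mp
      ((PrimeSpectrum.isClosed_zeroLocus _).closure_subset_iff.mpr hsub hq)
  refine hα2 q hqα ?_
  rw [← Scheme.Hom.comp_apply, hψ2', Category.comp_id, ← Scheme.Hom.comp_apply, ha] at hxy
  exact congrArg PrimeSpectrum.asIdeal hxy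

/-- Let f : X → S be a quasi-compact morphism, g : T → S a morphism, t a point of T and Z a closed
subset of X_T = X ×_S T which does not meet the fibre of X_T → T over t. Then there exist an affine
open neighbourhood V of t in T, an affine scheme T' with a morphism b : T' → S locally of finite
presentation, a morphism a : V → T' whose composite with b is the restriction of g, and a closed
subset Z' of X_{T'} = X ×_S T' which does not meet the fibre over t' = a(t), such that the induced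
morphism X_V → X_{T'} maps every point of X_V lying over Z (under X_V → X_T) into Z'. The morphisms
X_V → X_T and X_V → X_{T'} are the canonical ones, characterised by their projections. -/
theorem result {X S T : Scheme.{u}} (f : X ⟶ S) [QuasiCompact f] (g : T ⟶ S) (t : T)
    (Z : Set ↥(pullback f g)) (hZ : IsClosed Z) (hZt : ∀ z ∈ Z, (pullback.snd f g).base z ≠ t) :
    ∃ (V : T.Opens) (ht : t ∈ V) (T' : Scheme.{u}) (b : T' ⟶ S) (a : (V : Scheme.{u}) ⟶ T')
      (n : pullback f (V.ι ≫ g) ⟶ pullback f g) (m : pullback f (V.ι ≫ g) ⟶ pullback f b)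
      (Z' : Set ↥(pullback f b)),
      IsAffineOpen V ∧ IsAffine T' ∧ LocallyOfFinitePresentation b ∧ a ≫ b = V.ι ≫ g ∧
      n ≫ pullback.fst f g = pullback.fst f (V.ι ≫ g) ∧ n ≫ pullback.snd f g = pullback.snd f (V.ι ≫ g) ≫ V.ι ∧
      m ≫ pullback.fst f b = pullback.fst f (V.ι ≫ g) ∧ m ≫ pullback.snd f b = pullback.snd f (V.ι ≫ g) ≫ a ∧
      IsClosed Z' ∧ (∀ z' ∈ Z', (pullback.snd f b).base z' ≠ a.base ⟨t, ht⟩) ∧
      ∀ z : ↥(pullback f (V.ι ≫ g)), n.base z ∈ Z → m.base z ∈ Z' := by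
  classical
  -- affine opens around `g t` and `t`
  obtain ⟨U, hU, hgt, -⟩ := exists_isAffineOpen_mem_and_subset (x := g.base t) (U := ⊤) trivial
  obtain ⟨V, hV, ht, hVU⟩ := exists_isAffineOpen_mem_and_subset (x := t) (U := g ⁻¹ᵁ U) hgt
  have hVU' : V ≤ g ⁻¹ᵁ U := hVU
  -- finitely many affine charts of the preimage of `U`
  obtain ⟨W, hWfin, hWcov⟩ : ∃ W : Set X.affineOpens, W.Finite ∧
      ((f ⁻¹ᵁ U : X.Opens) : Set X) = ⋃ w ∈ W, ((w : X.Opens) : Set X) :=
    (isCompact_and_isOpen_iff_finite_and_eq_biUnion_affineOpens).mp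
      ⟨QuasiCompact.isCompact_preimage _ U.2 hU.isCompact, (f ⁻¹ᵁ U).2⟩
  have hWle : ∀ w ∈ W, (w : X.Opens) ≤ f ⁻¹ᵁ U := fun w hw => SetLike.coe_subset_coe.mp
    (by rw [hWcov]; exact Set.subset_biUnion_of_mem (u := fun w : X.affineOpens => ((w : X.Opens) : Set X)) hw)
  let : Algebra Γ(S, U) Γ(T, V) := (g.appLE U V hVU').hom.toAlgebra
  let iV : (V : Scheme.{u}) ⟶ S := V.ι ≫ g
  let rB : Spec Γ(T, V) ⟶ (V : Scheme.{u}) := hV.isoSpec.inv
  have hrB : Spec.map (CommRingCat.ofHom (algebraMap Γ(S, U) Γ(T, V))) ≫ hU.fromSpec = rB ≫ iV := by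
    rw [RingHom.algebraMap_toAlgebra, CommRingCat.ofHom_hom, IsAffineOpen.SpecMap_appLE_fromSpec g hU hV]
    simp [rB, iV, IsAffineOpen.isoSpec_inv_ι_assoc]
  let n : pullback f iV ⟶ pullback f g :=
    pullback.lift (pullback.fst f iV) (pullback.snd f iV ≫ V.ι) (by
      rw [Category.assoc]; exact pullback.condition)
  let p : PrimeSpectrum Γ(T, V) := hV.isoSpec.hom.base ⟨t, ht⟩
  have hp : rB.base p = ⟨t, ht⟩ := by
    simp only [p, rB, ← Scheme.Hom.comp_apply, Iso.hom_inv_id]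
    rfl
  have hZV : IsClosed (n.base ⁻¹' Z) := hZ.preimage n.base.hom.continuous
  have hZy : ∀ z ∈ n.base ⁻¹' Z, (pullback.snd f iV).base z ≠ ⟨t, ht⟩ := by
    intro z hz h
    refine hZt _ hz ?_
    rw [← Scheme.Hom.comp_apply, pullback.lift_snd, Scheme.Hom.comp_apply, h]
    rfl
  have hchart : ∀ w : W, ∃ F : Finset Γ(T, V), _ := fun w =>
    chartwise f hU w.1.2 (hWle _ w.2) iV rB hrB _ hZV ⟨t, ht⟩ hZy
  choose F hF using hchart
  have := hWfin.fintype
  let G : Finset Γ(T, V) := Finset.univ.biUnion F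
  let φ : MvPolynomial G Γ(S, U) →ₐ[Γ(S, U)] Γ(T, V) := MvPolynomial.aeval (fun x => x.1)
  let b : Spec (CommRingCat.of (MvPolynomial G Γ(S, U))) ⟶ S :=
    Spec.map (CommRingCat.ofHom (algebraMap Γ(S, U) (MvPolynomial G Γ(S, U)))) ≫ hU.fromSpec
  have hblfp : LocallyOfFinitePresentation b := by
    have : LocallyOfFinitePresentation
        (Spec.map (CommRingCat.ofHom (algebraMap Γ(S, U) (MvPolynomial G Γ(S, U))))) := by
      rw [HasRingHomProperty.Spec_iff (P := @LocallyOfFinitePresentation), CommRingCat.hom_ofHom,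
        RingHom.finitePresentation_algebraMap]
      infer_instance
    exact inferInstanceAs (LocallyOfFinitePresentation (_ ≫ _))
  let a : (V : Scheme.{u}) ⟶ Spec (CommRingCat.of (MvPolynomial G Γ(S, U))) :=
    hV.isoSpec.hom ≫ Spec.map (CommRingCat.ofHom φ.toRingHom)
  have hab : a ≫ b = V.ι ≫ g := by
    change _ = iV
    rw [← cancel_epi rB, ← hrB]
    simp only [a, b, rB, Category.assoc, Iso.inv_hom_id_assoc, ← Spec.map_comp_assoc]
    congr 2
    ext c
    simp
  let m : pullback f iV ⟶ pullback f b :=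
    pullback.lift (pullback.fst f iV) (pullback.snd f iV ≫ a) (by
      rw [Category.assoc, hab]; exact pullback.condition)
  refine ⟨V, ht, _, b, a, n, m, closure (m.base '' (n.base ⁻¹' Z)), hV, inferInstance, hblfp, hab,
    pullback.lift_fst _ _ _, pullback.lift_snd _ _ _, pullback.lift_fst _ _ _,
    pullback.lift_snd _ _ _, isClosed_closure, ?_, fun z hz => subset_closure ⟨z, hz, rfl⟩⟩
  intro x' hx'
  have hxU : (pullback.fst f b).base x' ∈ (f ⁻¹ᵁ U : X.Opens) := by
    change f.base _ ∈ U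
    rw [← Scheme.Hom.comp_apply, pullback.condition, Scheme.Hom.comp_apply, ← SetLike.mem_coe,
      ← hU.range_fromSpec]
    exact ⟨_, rfl⟩
  rw [← SetLike.mem_coe, hWcov, Set.mem_iUnion₂] at hxU
  obtain ⟨w, hw, hxw⟩ := hxU
  exact hF ⟨w, hw⟩ G (Finset.subset_biUnion_of_mem F (Finset.mem_univ _)) φ
    (fun x => MvPolynomial.aeval_X _ _) a b m (by simp [a, rB]) rfl (pullback.lift_fst _ _ _)
    (pullback.lift_snd _ _ _) x' hx' hxw

end Groth.Agent.S9224
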