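import Groth.Statements.S9226
import Groth.Agent.RegLimit.Basic
import Groth.Agent.RegLoc.Order
import Mathlib.LinearAlgebra.Matrix.NonsingularInverse

set_option autoImplicit false
universe u
open CAlg Groth.Agent

namespace Groth.Agent.S9226

/-- Let R be a regular local ring, m ≥ 1, f_1, ..., f_m elements of the maximal ideal, and D_1, ..., D_m
derivations of R such that the determinant of the matrix (D_i(f_j)) is a unit of R. Then R/(f_1,
..., f_m) is a regular local ring and f_1, ..., f_m is a regular sequence on R. -/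
theorem result (R : Type u) [CommRing R]
    [IsRegularLocalRing R] (m : ℕ) (hm : 1 ≤ m) (f : Fin m → R)
    (hf : ∀ i, f i ∈ IsLocalRing.maximalIdeal R) (D : Fin m → Derivation ℤ R R)
    (hdet : IsUnit (Matrix.det (Matrix.of (fun i j : Fin m => D i (f j))))) :
    IsRegularLocalRing (R ⧸ Ideal.span (Set.range f)) ∧
      RingTheory.Sequence.IsRegular R (List.ofFn f) := by
  classical
  let M : Matrix (Fin m) (Fin m) R := Matrix.of fun i j : Fin m => D i (f j)
  let 𝔪 := IsLocalRing.maximalIdeal R
  have hD2 : ∀ (k : Fin m) (y : R), y ∈ 𝔪 ^ 2 → D k y ∈ 𝔪 := by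
    intro k y hy
    rw [pow_two] at hy
    refine Submodule.mul_induction_on hy (fun a ha b hb => ?_) (fun a b ha hb => by rw [map_add]; exact add_mem ha hb)
    rw [Derivation.leibniz, smul_eq_mul, smul_eq_mul]
    exact add_mem (Ideal.mul_mem_right _ _ ha) (Ideal.mul_mem_right _ _ hb)
  have hmin : ∀ i : Fin m, RingHom.id R (f i) ∉ Ideal.span (Set.range fun j : {j : Fin m // j < i} => RingHom.id R (f j)) ⊔ 𝔪 ^ 2 := by
    intro i hi
    obtain ⟨a, ha, y, hy, hay⟩ := Submodule.mem_sup.mp hi
    obtain ⟨c, hc⟩ := Ideal.mem_span_range_iff_exists_fun.mp ha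
    let v : Fin m → R := fun j => (if j = i then 1 else 0) - (if h : j < i then c ⟨j, h⟩ else 0)
    have hv : ∀ k, M.mulVec v k ∈ 𝔪 := by
      intro k
      have e : (∑ j, v j * f j) = y := by
        have h1 : (∑ j, (if h : j < i then c ⟨j, h⟩ else 0) * f j) = a := by
          rw [← hc, ← Finset.sum_filter_add_sum_filter_not Finset.univ (· < i)]
          rw [Finset.sum_eq_zero (s := Finset.univ.filter fun j => ¬ j < i) fun j hj => by rw [dif_neg (Finset.mem_filter.mp hj).2, zero_mul], add_zero]
          rw [Finset.sum_subtype _ (p := (· < i)) (by simp)]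
          exact Finset.sum_congr rfl fun j _ => by rw [dif_pos j.2]; rfl
        simp only [v, sub_mul, Finset.sum_sub_distrib, ite_mul, one_mul, zero_mul, Finset.sum_ite_eq', Finset.mem_univ, if_true, h1]
        rw [sub_eq_iff_eq_add, add_comm]
        exact hay.symm
      have h2 : M.mulVec v k = D k y - ∑ j, f j * D k (v j) := by
        rw [← e, map_sum, ← Finset.sum_sub_distrib]
        show ∑ j, M k j * v j = _
        refine Finset.sum_congr rfl fun j _ => ?_
        rw [Derivation.leibniz, smul_eq_mul, smul_eq_mul, add_sub_assoc, sub_self, add_zero]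
        exact mul_comm _ _
      rw [h2]
      exact sub_mem (hD2 k y hy) (Ideal.sum_mem _ fun j _ => Ideal.mul_mem_right _ _ (hf j))
    have hvi : v i ∈ 𝔪 := by
      have h3 : M⁻¹.mulVec (M.mulVec v) = v := by rw [Matrix.mulVec_mulVec, Matrix.nonsing_inv_mul _ hdet, Matrix.one_mulVec]
      rw [← h3]
      show ∑ j, M⁻¹ i j * M.mulVec v j ∈ 𝔪
      exact Ideal.sum_mem _ fun j _ => Ideal.mul_mem_left _ _ (hv j)
    rw [show v i = 1 by simp [v]] at hvi
    exact (IsLocalRing.maximalIdeal.isMaximal R).ne_top ((Ideal.eq_top_iff_one _).mpr hvi)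
  have hreg := RegLimit.regular_quot_span (RingHom.id R) f hf hmin
  constructor
  · have h := hreg m le_rfl
    rwa [show f '' {i : Fin m | (i : ℕ) < m} = Set.range f by rw [← Set.image_univ]; congr 1; ext i; simp] at h
  · refine (IsLocalRing.isRegular_iff_isWeaklyRegular_of_subset_maximalIdeal ?_).mpr ⟨fun r hr => ?_⟩
    · intro x hx
      obtain ⟨i, rfl⟩ := List.mem_ofFn.mp hx
      exact hf i
    rw [List.length_ofFn] at hr
    have hI : Ideal.ofList ((List.ofFn f).take r) = Ideal.span (f '' {i : Fin m | (i : ℕ) < r}) := by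
      refine congrArg Ideal.span (Set.ext fun x => ?_)
      constructor
      · intro hx
        obtain ⟨j, hj, rfl⟩ := List.mem_iff_getElem.mp hx
        simp only [List.length_take, List.length_ofFn, lt_min_iff] at hj
        exact ⟨⟨j, hj.2⟩, hj.1, by simp⟩
      · rintro ⟨j, hj, rfl⟩
        have hj' : (j : ℕ) < r := hj
        exact List.mem_iff_getElem.mpr ⟨j, by simp [List.length_take]; omega, by simp⟩
    have hget : (List.ofFn f)[r]'(by simpa using hr) = f ⟨r, hr⟩ := by simp
    rw [hget, hI]
    haveI := hreg r hr.le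
    haveI : IsDomain (R ⧸ Ideal.span (f '' {i : Fin m | (i : ℕ) < r})) := RegLoc.isDomain _
    have hne : Ideal.Quotient.mk (Ideal.span (f '' {i : Fin m | (i : ℕ) < r})) (f ⟨r, hr⟩) ≠ 0 := by
      rw [Ne, Ideal.Quotient.eq_zero_iff_mem]
      intro h
      refine hmin ⟨r, hr⟩ (Ideal.mem_sup_left (Ideal.span_mono ?_ h))
      rintro _ ⟨j, hj, rfl⟩
      exact ⟨⟨j, hj⟩, rfl⟩
    generalize hK : Ideal.span (f '' {i : Fin m | (i : ℕ) < r}) = K at *
    intro a b hab
    obtain ⟨a, rfl⟩ := Submodule.mkQ_surjective _ a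
    obtain ⟨b, rfl⟩ := Submodule.mkQ_surjective _ b
    simp only [Submodule.mkQ_apply, ← Submodule.Quotient.mk_smul] at hab ⊢
    rw [Submodule.Quotient.eq] at hab ⊢
    simp only [smul_eq_mul, Ideal.mul_top, ← mul_sub] at hab ⊢
    rw [← Ideal.Quotient.eq_zero_iff_mem, map_mul] at hab
    exact Ideal.Quotient.eq_zero_iff_mem.mp ((mul_eq_zero.mp hab).resolve_left hne)

end Groth.Agent.S9226
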