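import Groth.Statements.S9227
import Groth.Agent.DerivReg.Basic
import Mathlib.RingTheory.RegularLocalRing.Polynomial
import Mathlib.Tactic.Ring

set_option autoImplicit false
universe u
open CAlg Groth.Agent

namespace Groth.Agent.S9227

/-- Let R be a regular ring, f an element of R and D a derivation of R with D(f) a unit of R. Then for
every polynomial p with integer coefficients the ring R[z]/(p(z) - f) is regular; in particular
R[z]/(z^n - f) is regular for every n ≥ 1. -/
theorem result (R : Type u) [CommRing R]
    [IsRegularRing R] (f : R) (D : Derivation ℤ R R) (hD : IsUnit (D f)) (p : Polynomial ℤ) :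
    IsRegularRing (Polynomial R ⧸
      Ideal.span ({Polynomial.map (Int.castRingHom R) p - Polynomial.C f} : Set (Polynomial R))) := by
  classical
  let T : Polynomial R →+ Polynomial R :=
    { toFun := fun q => (q.sum fun i a => Polynomial.monomial i (D a))
      map_zero' := Polynomial.sum_zero_index _
      map_add' := fun a b => Polynomial.sum_add_index a b _ (fun i => by simp) (fun i x y => by simp) }
  have hT : ∀ i a, T (Polynomial.monomial i a) = Polynomial.monomial i (D a) := fun i a =>
    (Polynomial.sum_monomial_index a (fun i a => Polynomial.monomial i (D a)) ((congrArg (Polynomial.monomial i) (map_zero D)).trans (map_zero _)))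
  let D' : Derivation ℤ (Polynomial R) (Polynomial R) := Derivation.mk' T.toIntLinearMap fun a b => by
    show T (a * b) = a * T b + b * T a
    induction a using Polynomial.induction_on' with
    | add a c ha hc => simp only [add_mul, mul_add, map_add, ha, hc]; ring
    | monomial i x =>
      induction b using Polynomial.induction_on' with
      | add b c hb hc => simp only [add_mul, mul_add, map_add, hb, hc]; ring
      | monomial j y =>
        rw [Polynomial.monomial_mul_monomial, hT, hT, hT, Polynomial.monomial_mul_monomial, Polynomial.monomial_mul_monomial,
          Nat.add_comm j i, ← map_add, Derivation.leibniz, smul_eq_mul, smul_eq_mul]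
  refine DerivReg.isRegularRing_quotient _ D' (IsUnit.map _ ?_)
  have hval : D' (Polynomial.map (Int.castRingHom R) p - Polynomial.C f) = - Polynomial.C (D f) := by
    show T _ = _
    have hp : T (Polynomial.map (Int.castRingHom R) p) = 0 := by
      induction p using Polynomial.induction_on' with
      | add a c ha hc => rw [Polynomial.map_add, map_add, ha, hc, add_zero]
      | monomial i x => rw [Polynomial.map_monomial, hT]; simp
    rw [map_sub, hp, zero_sub, ← Polynomial.monomial_zero_left, hT, Polynomial.monomial_zero_left]
  refine Eq.mpr (congrArg IsUnit (Eq.trans ?_ hval)) (hD.map Polynomial.C).neg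
  rfl

end Groth.Agent.S9227
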