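import Groth.Statements.S9229
-- import your own Groth.Agent.* helpers here
import Groth.Agent.GRingCpl.UnibranchCat

set_option autoImplicit false
universe u
open EGA4

namespace Groth.Agent.S9229

/-- A Noetherian local ring A whose formal fibres are geometrically normal and which is unibranch (a
normal local ring, say) is universally catenary. -/
theorem result (A : Type u) [CommRing A]
    [IsLocalRing A] [IsNoetherianRing A] (hA : EGA4.HasGeomNormalFormalFibres A)
    (hu : CAlg2.IsUnibranch A) : CAlg.IsUniversallyCatenary A := by
  exact GRingCpl.isUniversallyCatenary_of_isUnibranch A hA hu

end Groth.Agent.S9229
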