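import Groth.Statements.S9230
-- import your own Groth.Agent.* helpers here
import Groth.Agent.GRingCpl.UnibranchCat
import Groth.Agent.GRingCpl.HenselNormal
import Groth.Agent.Hensel.HenselizationMore

set_option autoImplicit false
universe u
open EGA4

namespace Groth.Agent.S9230

/-- For a Noetherian local ring A whose formal fibres are geometrically normal, every henselization S of
A is universally catenary. -/
theorem result (A S : Type u) [CommRing A]
    [IsLocalRing A] [IsNoetherianRing A] [CommRing S] [IsLocalRing S] [Algebra A S]
    [IsLocalHom (algebraMap A S)] [Hensel.IsHenselization A S]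
    (hA : EGA4.HasGeomNormalFormalFibres A) : CAlg.IsUniversallyCatenary S := by
  haveI : IsNoetherianRing S := (Hensel.henselization_isNoetherianRing_iff A S).1 inferInstance
  haveI := Hensel.henselization_flat A S
  have hS' : EGA4.HasGeomNormalFormalFibres S := GRingCpl.hasGeomNormalFormalFibres_of_etaleStages
    (Hensel.henselization_map_maximalIdeal A S) (Hensel.henselization_unramifiedFibres A S)
    (Hensel.henselization_hasEtaleStages A S) hA
  haveI : HenselianLocalRing S := Hensel.IsHenselization.henselian (R := A) (S := S)
  refine Cohen.isUniversallyCatenary_of_formallyCatenary fun p _ => ?_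
  haveI : Nontrivial (S ⧸ p) := Ideal.Quotient.nontrivial_iff.mpr (Ideal.IsPrime.ne_top inferInstance)
  haveI : IsLocalRing (S ⧸ p) := IsLocalRing.of_surjective' (Ideal.Quotient.mk p) Ideal.Quotient.mk_surjective
  haveI : HenselianLocalRing (S ⧸ p) := Hensel.henselianLocalRing_finite S (S ⧸ p)
  haveI := GRingCpl.isDomain_cpl_of_henselian (S ⧸ p) (S4754.result S hS' p)
  exact GRingCpl.isFormallyEquidim_of_surjective (RingHom.id (S ⧸ p)) Function.surjective_id

end Groth.Agent.S9230
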