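import Groth.Statements.S9232
import Groth.Agent.AdicBasics.LocalMap

set_option autoImplicit false
universe u
open CAlg

namespace Groth.Agent.S9232

/-- Suppose A → B is a flat local ring map between Noetherian local rings, the maximal ideal of A
generates that of B, and the residue field map is bijective. Then the induced map between the
completions of A and B (a ring map of the completions compatible with A → B; it is unique since A is
Noetherian) is an isomorphism. -/
theorem result (A B : Type u) [CommRing A]
    [CommRing B] [IsLocalRing A] [IsLocalRing B] [IsNoetherianRing A] [IsNoetherianRing B]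
    [Algebra A B] [IsLocalHom (algebraMap A B)] [Module.Flat A B]
    (hm : Ideal.map (algebraMap A B) (IsLocalRing.maximalIdeal A) = IsLocalRing.maximalIdeal B)
    (hk : Function.Bijective (IsLocalRing.ResidueField.map (algebraMap A B)))
    (ψ : AdicCompletion (IsLocalRing.maximalIdeal A) A →+* AdicCompletion (IsLocalRing.maximalIdeal B) B)
    (hψ : ψ.comp (algebraMap A (AdicCompletion (IsLocalRing.maximalIdeal A) A)) =
      (algebraMap B (AdicCompletion (IsLocalRing.maximalIdeal B) B)).comp (algebraMap A B)) :
    Function.Bijective ψ := by
  haveI hloc : IsLocalHom ψ := AdicBasics.isLocalHom_completionMap (algebraMap A B) ψ hψ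
  refine ⟨?_, AdicBasics.surjective_of_cotangent (algebraMap A B) ψ hψ hk.2 (hm.ge.trans le_sup_left)⟩
  have hfl : ψ.Flat := (AdicBasics.flat_completionMap_iff (algebraMap A B) ψ hψ).2 (by
    show (algebraMap A B).Flat
    rw [RingHom.flat_algebraMap_iff]; infer_instance)
  letI := ψ.toAlgebra
  haveI : Module.Flat (AdicCompletion (IsLocalRing.maximalIdeal A) A)
    (AdicCompletion (IsLocalRing.maximalIdeal B) B) := hfl
  haveI : IsLocalHom (algebraMap (AdicCompletion (IsLocalRing.maximalIdeal A) A)
    (AdicCompletion (IsLocalRing.maximalIdeal B) B)) := hloc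
  haveI : Module.FaithfullyFlat (AdicCompletion (IsLocalRing.maximalIdeal A) A)
    (AdicCompletion (IsLocalRing.maximalIdeal B) B) := Module.FaithfullyFlat.of_flat_of_isLocalHom
  exact FaithfulSMul.algebraMap_injective (AdicCompletion (IsLocalRing.maximalIdeal A) A)
    (AdicCompletion (IsLocalRing.maximalIdeal B) B)

end Groth.Agent.S9232
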