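import Groth.Statements.S9239
import Mathlib
import Groth.Agent.Hensel.BranchFlat
-- import your own Groth.Agent.* helpers here

set_option autoImplicit false
universe u
open Brnch

namespace Groth.Agent.S9239

/-- For a Noetherian local ring A with completion A^ at its maximal ideal, A^ has at least as many
branches as A, and at least as many geometric branches as A. -/
theorem result (A : Type u) [CommRing A] [IsLocalRing A] [IsNoetherianRing A] :
    Brnch.numBranches A ≤ Brnch.numBranches (AdicCompletion (IsLocalRing.maximalIdeal A) A) ∧
      Brnch.numGeomBranches A ≤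
        Brnch.numGeomBranches (AdicCompletion (IsLocalRing.maximalIdeal A) A) := by
  have hloc : IsLocalHom (algebraMap A (AdicCompletion (IsLocalRing.maximalIdeal A) A)) :=
    ((IsLocalRing.local_hom_TFAE _).out 0 2).2 (AdicCompletion.maximalIdeal_eq_map (R := A)).ge
  have hf : (algebraMap A (AdicCompletion (IsLocalRing.maximalIdeal A) A)).Flat :=
    RingHom.flat_algebraMap_iff.2 (AdicCompletion.flat_of_isNoetherian _)
  exact ⟨Hensel.numBranches_le_of_flat _ hf, Hensel.numGeomBranches_le_of_flat _ hf⟩

end Groth.Agent.S9239
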