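import Groth.Statements.S9242
import Mathlib
import Groth.Agent.Hensel.BranchDimOne
-- import your own Groth.Agent.* helpers here

set_option autoImplicit false
universe u
open Brnch

namespace Groth.Agent.S9242

/-- Let A be a Noetherian local ring with henselization S and completion A^, let ψ : S → A^ be the ring
map compatible with the structure maps from A, and let q be a minimal prime of A^ with dim(A^/q) =
1. Then q is the radical of the extension along ψ of some minimal prime of S. -/
theorem result (A S : Type u) [CommRing A]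
    [IsLocalRing A] [IsNoetherianRing A] [CommRing S] [IsLocalRing S] [Algebra A S]
    [IsLocalHom (algebraMap A S)] [Hensel.IsHenselization A S]
    (ψ : S →+* AdicCompletion (IsLocalRing.maximalIdeal A) A)
    (hψ : ψ.comp (algebraMap A S) = algebraMap A (AdicCompletion (IsLocalRing.maximalIdeal A) A))
    (q : Ideal (AdicCompletion (IsLocalRing.maximalIdeal A) A))
    (hq : q ∈ minimalPrimes (AdicCompletion (IsLocalRing.maximalIdeal A) A))
    (hdim : ringKrullDim (AdicCompletion (IsLocalRing.maximalIdeal A) A ⧸ q) = 1) :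
    ∃ q' ∈ minimalPrimes S, (Ideal.map ψ q').radical = q := by
  obtain ⟨hloc, hm, hres⟩ := Hensel.completion_setup A S ψ hψ
  letI := ψ.toAlgebra
  haveI : IsLocalHom (algebraMap S (AdicCompletion (IsLocalRing.maximalIdeal A) A)) := hloc
  haveI := Hensel.faithfullyFlat_completion A S ψ hψ
  haveI : HenselianLocalRing S := _root_.Hensel.IsHenselization.henselian (R := A)
  haveI : IsNoetherianRing S := (Hensel.henselization_isNoetherianRing_iff A S).1 inferInstance
  haveI : IsNoetherianRing (AdicCompletion (IsLocalRing.maximalIdeal A) A) :=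
    Groth.Agent.ResExt.isNoetherianRing_adicCompletion _ (IsNoetherian.noetherian _)
  haveI := hq.1.1
  haveI : IsLocalRing (AdicCompletion (IsLocalRing.maximalIdeal A) A ⧸ q) :=
    IsLocalRing.of_surjective' (Ideal.Quotient.mk q) Ideal.Quotient.mk_surjective
  haveI : IsDomain (AdicCompletion (IsLocalRing.maximalIdeal A) A ⧸ q) := Ideal.Quotient.isDomain q
  have hqm : q ≠ IsLocalRing.maximalIdeal _ := fun e => by
    have h0 : IsField (AdicCompletion (IsLocalRing.maximalIdeal A) A ⧸ q) :=
      (Ideal.Quotient.maximal_ideal_iff_isField_quotient q).1 (e ▸ IsLocalRing.maximalIdeal.isMaximal _)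
    rw [ringKrullDim_eq_zero_of_isField h0] at hdim
    exact zero_ne_one hdim
  haveI : Ring.KrullDimLE 1 (AdicCompletion (IsLocalRing.maximalIdeal A) A ⧸ q) :=
    Ring.krullDimLE_iff.2 (by rw [hdim]; simp)
  have hdim' : ∀ Q : Ideal (AdicCompletion (IsLocalRing.maximalIdeal A) A), Q.IsPrime → q < Q →
      Q = IsLocalRing.maximalIdeal _ := fun Q hQ hlt => by
    have hmk := Ideal.comap_map_of_surjective _ (Ideal.Quotient.mk_surjective (I := q)) Q
    rw [← RingHom.ker_eq_comap_bot, Ideal.mk_ker, sup_eq_left.2 hlt.le] at hmk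
    haveI : (Ideal.map (Ideal.Quotient.mk q) Q).IsPrime :=
      Ideal.map_isPrime_of_surjective Ideal.Quotient.mk_surjective (by rw [Ideal.mk_ker]; exact hlt.le)
    rcases Ring.krullDimLE_one_iff.1 inferInstance _ this with h | h
    · exfalso
      have h0 : (Ideal.map (Ideal.Quotient.mk q) Q) = ⊥ :=
        le_bot_iff.1 (h.2 ⟨Ideal.isPrime_bot, le_rfl⟩ bot_le)
      rw [h0, ← RingHom.ker_eq_comap_bot, Ideal.mk_ker] at hmk
      exact hlt.ne hmk
    · haveI := h
      rw [← hmk]
      exact IsLocalRing.eq_maximalIdeal (Ideal.comap_isMaximal_of_surjective _ Ideal.Quotient.mk_surjective)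
  refine ⟨q.comap ψ, Hensel.comap_mem_minimalPrimes_of_flat (R := S) hq, le_antisymm ?_ ?_⟩
  · exact (Ideal.IsPrime.radical_le_iff inferInstance).2 Ideal.map_comap_le
  · rw [← Ideal.sInf_minimalPrimes]
    refine le_sInf fun P hP => ?_
    have hcm := Hensel.comap_mem_minimalPrimes_of_flat (R := S) hq
    haveI := hP.1.1
    obtain ⟨P', hP', hle⟩ := Ideal.exists_minimalPrimes_le (bot_le : (⊥ : Ideal _) ≤ P)
    haveI := hcm.1.1
    haveI : P.LiesOver (P.comap ψ) := ⟨rfl⟩
    obtain ⟨P₀, hle₀, hP₀, hover⟩ := Ideal.exists_ideal_le_liesOver_of_le (p := q.comap ψ) P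
      (Ideal.map_le_iff_le_comap.1 hP.1.2)
    obtain ⟨P₁, hP₁, hle₁⟩ := Ideal.exists_minimalPrimes_le (bot_le : (⊥ : Ideal _) ≤ P₀)
    haveI := hP₁.1.1
    have h1 : P₁.comap ψ = q.comap ψ := by
      refine le_antisymm ((Ideal.comap_mono hle₁).trans hover.over.ge) ?_
      exact hcm.2 ⟨Ideal.IsPrime.comap _, bot_le⟩ ((Ideal.comap_mono hle₁).trans hover.over.ge)
    exact (Hensel.eq_of_comap_eq hm hres hq hqm hdim' hP₁ h1).ge.trans (hle₁.trans hle₀)

end Groth.Agent.S9242
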