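import Groth.Statements.S9247
import Groth.Agent.UFDLib.Regular

set_option autoImplicit false
universe u
open CAlg

namespace Groth.Agent.S9247

/-- For a regular local ring R and an element f of R, the Picard group of R_f is trivial. -/
theorem result (R : Type u) [CommRing R]
    [IsRegularLocalRing R] (f : R) : Subsingleton (CommRing.Pic (Localization.Away f)) := by
  by_cases hf : f = 0
  · subst hf
    haveI : Subsingleton (Localization.Away (0 : R)) :=
      IsLocalization.subsingleton (M := Submonoid.powers (0 : R)) ⟨1, pow_one _⟩
    exact subsingleton_iff.2 fun x y => by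
      first | exact Subsingleton.elim x y | exact CommRing.Pic.ext_iff.2 ⟨LinearEquiv.ofSubsingleton _ _⟩
  haveI : IsDomain R := Groth.Agent.RegLoc.isDomain R
  haveI := Groth.Agent.UFDLib.ufd_of_isRegularLocalRing R
  haveI : IsDomain (Localization.Away f) :=
    IsLocalization.isDomain_of_le_nonZeroDivisors (M := Submonoid.powers f) (S := Localization.Away f)
      (Submonoid.powers_le.2 (mem_nonZeroDivisors_of_ne_zero hf))
  haveI : UniqueFactorizationMonoid (Localization.Away f) := inferInstanceAs (UniqueFactorizationMonoid (Localization (Submonoid.powers f)))
  haveI : IsGCDMonoid (Localization.Away f) := inferInstance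
  infer_instance

end Groth.Agent.S9247
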