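import Groth.Statements.S9248
import Groth.Agent.PicGenFib.Basic

set_option linter.style.haveILetI false

set_option autoImplicit false
universe u
open CAlg

namespace Groth.Agent.S9248

/-- Let R be a valuation ring, K its field of fractions and κ its residue field, and let A be a local
ring with a flat, local homomorphism R → A essentially of finite type such that κ ⊗_R A is a regular
ring. Then K ⊗_R A has trivial Picard group. -/
theorem result (R A : Type u) [CommRing R] [IsDomain R]
    [ValuationRing R] [CommRing A] [IsLocalRing A] [Algebra R A] [IsLocalHom (algebraMap R A)]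
    [Module.Flat R A] [Algebra.EssFiniteType R A]
    (hreg : IsRegularRing (TensorProduct R (IsLocalRing.ResidueField R) A)) :
    Subsingleton (CommRing.Pic (TensorProduct R (FractionRing R) A)) := by
  classical
  let e₀ : (A ⧸ Groth.Agent.PicGenFib.J R A) ≃+* TensorProduct R (IsLocalRing.ResidueField R) A :=
    (Algebra.TensorProduct.quotIdealMapEquivTensorQuot A (IsLocalRing.maximalIdeal R)).toRingEquiv.trans
      (Algebra.TensorProduct.comm R A (IsLocalRing.ResidueField R)).toRingEquiv
  haveI := hreg
  haveI : IsRegularRing (A ⧸ Groth.Agent.PicGenFib.J R A) := IsRegularRing.of_ringEquiv e₀.symm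
  haveI : IsRegularLocalRing (A ⧸ Groth.Agent.PicGenFib.J R A) :=
    IsRegularLocalRing.of_isRegularRing_of_isLocalRing _
  have hA : Groth.Agent.PicGenFib.TF R A A := fun t ht m h =>
    (Module.Flat.isSMulRegular_of_nonZeroDivisors (M := A) (mem_nonZeroDivisors_of_ne_zero ht))
      (show t • m = t • 0 by rw [smul_zero, Algebra.smul_def, ← smul_eq_mul, h])
  haveI := Groth.Agent.PicGenFib.subsingleton_pic hA
  let e : Localization (Algebra.algebraMapSubmonoid A (nonZeroDivisors R)) ≃+*
      TensorProduct R (FractionRing R) A :=
    letI : Algebra A (TensorProduct R (FractionRing R) A) := Algebra.TensorProduct.rightAlgebra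
    haveI : IsLocalization (Algebra.algebraMapSubmonoid A (nonZeroDivisors R))
        (TensorProduct R (FractionRing R) A) :=
      IsLocalization.tensorRight (FractionRing R) (nonZeroDivisors R)
    (IsLocalization.algEquiv (Algebra.algebraMapSubmonoid A (nonZeroDivisors R)) _ _).toRingEquiv
  refine Function.Surjective.subsingleton (f := CommRing.Pic.mapRingHom e.toRingHom) fun M => ?_
  refine ⟨CommRing.Pic.mapRingHom e.symm.toRingHom M, ?_⟩
  rw [CommRing.Pic.mapRingHom_mapRingHom]
  have : e.toRingHom.comp e.symm.toRingHom = RingHom.id _ := RingHom.ext e.apply_symm_apply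
  rw [this, CommRing.Pic.mapRingHom_id_apply]

end Groth.Agent.S9248
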