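import Groth.Statements.S9253
import Groth.Agent.KoszulLib.Pres

set_option autoImplicit false
set_option linter.style.haveILetI false
set_option backward.isDefEq.respectTransparency false
open Groth.Agent
universe u
attribute [local instance] HasDerivedCategory.standard
open CategoryTheory
open LCI

namespace Groth.Agent.S9253

/-- Let R → S be a ring map and g_1, ..., g_m elements of S generating the unit ideal. When every
localization S_{g_j} is a local complete intersection algebra over R, so is S. -/
theorem result (R S : Type u) [CommRing R] [CommRing S] [Algebra R S]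
    (m : ℕ) (g : Fin m → S) (hg : Ideal.span (Set.range g) = ⊤)
    (h : ∀ j, LCI.IsLCI R (Localization.Away (g j))) : LCI.IsLCI R S := by
  classical
  haveI hft : Algebra.FiniteType R S := by
    rw [← RingHom.finiteType_algebraMap]
    refine RingHom.finiteType_ofLocalizationSpanTarget (algebraMap R S) (Set.range g) hg ?_
    rintro ⟨_, j, rfl⟩
    rw [← IsScalarTower.algebraMap_eq, RingHom.finiteType_algebraMap]
    exact (h j).1
  refine Groth.Agent.KoszulLib.isLCI_iff.mpr ⟨hft, fun n φ hφ P => ?_⟩
  let I := RingHom.ker φ.toRingHom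
  by_cases hle : I ≤ P.asIdeal
  swap; · exact Groth.Agent.KoszulLib.kAt_of_not_le hle
  obtain ⟨j, G, hG, hGP⟩ : ∃ j G, φ G = g j ∧ G ∉ P.asIdeal := by
    by_contra hcon
    push Not at hcon
    have h1 : Ideal.map φ.toRingHom P.asIdeal = ⊤ := by
      rw [eq_top_iff, ← hg, Ideal.span_le]
      rintro _ ⟨j, rfl⟩
      obtain ⟨G, hG⟩ := hφ (g j)
      exact hG ▸ Ideal.mem_map_of_mem φ.toRingHom (hcon j G hG)
    have h2 := congrArg (Ideal.comap φ.toRingHom) h1
    rw [Ideal.comap_map_of_surjective φ.toRingHom hφ, Ideal.comap_top, sup_eq_left.mpr (show Ideal.comap φ.toRingHom ⊥ ≤ P.asIdeal from hle)] at h2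
    exact P.2.ne_top h2
  let T := Localization.Away G
  haveI : Algebra.Smooth R (MvPolynomial (Fin n) R) := ⟨inferInstance, inferInstance⟩
  haveI : Algebra.Smooth R T := Algebra.Smooth.comp R (MvPolynomial (Fin n) R) T
  let L := Localization.Away (g j)
  have hM : (Submonoid.powers G).map φ.toRingHom = Submonoid.powers (g j) := by
    rw [Submonoid.map_powers]; congr 1
  let φT₀ : T →+* L := IsLocalization.map L φ.toRingHom (M := Submonoid.powers G) (T := Submonoid.powers (g j))
    (hM ▸ Submonoid.le_comap_map _)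
  have hφT₀ : ∀ r, φT₀ (algebraMap R T r) = algebraMap R L r := fun r => by
    rw [IsScalarTower.algebraMap_apply R (MvPolynomial (Fin n) R) T, IsLocalization.map_eq,
      IsScalarTower.algebraMap_apply R S L]
    exact congrArg _ (φ.commutes r)
  let φT : T →ₐ[R] L := { φT₀ with commutes' := hφT₀ }
  have hφT : Function.Surjective φT := fun y => by
    obtain ⟨a, ⟨_, k, rfl⟩, rfl⟩ := IsLocalization.exists_mk'_eq (Submonoid.powers (g j)) y
    obtain ⟨a, rfl⟩ := hφ a
    refine ⟨IsLocalization.mk' T a (⟨G ^ k, k, rfl⟩ : Submonoid.powers G), ?_⟩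
    show φT₀ _ = _
    rw [IsLocalization.map_mk']
    congr 1
    exact Subtype.ext (by show φ (G ^ k) = _; rw [map_pow, hG])
  have hker : RingHom.ker φT.toRingHom = I.map (algebraMap (MvPolynomial (Fin n) R) T) :=
    IsLocalization.ker_map (S := T) L φ.toRingHom hM
  obtain ⟨P', hP'⟩ : P ∈ Set.range (PrimeSpectrum.comap (algebraMap (MvPolynomial (Fin n) R) T)) := by
    rw [PrimeSpectrum.localization_away_comap_range T G]; exact hGP
  have hPP : P.asIdeal = P'.asIdeal.comap (algebraMap (MvPolynomial (Fin n) R) T) := by rw [← hP']; rfl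
  have hle' : RingHom.ker φT.toRingHom ≤ P'.asIdeal := by
    rw [hker, Ideal.map_le_iff_le_comap, ← hPP]; exact hle
  obtain ⟨N, π, hπ, -⟩ := (Algebra.FinitePresentation.out (R := R) (A := T))
  have hK := (Groth.Agent.KoszulLib.isLCI_iff.mp (h j)).2 N (φT.comp π) (hφT.comp hπ)
    (PrimeSpectrum.comap π.toRingHom P')
  have hKe : RingHom.ker (φT.comp π).toRingHom = (RingHom.ker φT.toRingHom).comap π.toRingHom := rfl
  have hQe : (PrimeSpectrum.comap π.toRingHom P').asIdeal = P'.asIdeal.comap π.toRingHom := rfl
  rw [hKe, hQe, Groth.Agent.KoszulLib.kAt_map_iff π hπ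
      (fun x hx => by rw [Ideal.mem_comap, show π.toRingHom x = 0 from hx]; exact zero_mem _)
      (Ideal.comap_mono hle'),
    Ideal.map_comap_of_surjective π.toRingHom hπ, Ideal.map_comap_of_surjective π.toRingHom hπ, hker] at hK
  rw [hPP]
  exact Groth.Agent.KoszulLib.KAt.of_map P' hK

end Groth.Agent.S9253
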