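import Groth.Statements.S9260
import Mathlib.RingTheory.Invariant.Defs
import Mathlib.Algebra.MvPolynomial.Eval
import Mathlib.Algebra.Polynomial.BigOperators
import Mathlib.Algebra.Polynomial.Degree.Lemmas
import Mathlib.Algebra.BigOperators.Fin
import Mathlib.Algebra.Ring.Action.Basic
import Mathlib.RingTheory.Ideal.Maps
import Mathlib.Tactic.Ring
import Mathlib.Tactic.FinCases
import Mathlib.Algebra.Polynomial.Monic

set_option autoImplicit false
universe u
open CAlg

namespace Groth.Agent.S9260

/-- Suppose a finite group G with n elements acts on a ring R by ring automorphisms, A → R is a ring map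
compatible with the action whose image contains the invariants (so that A maps onto R^G), J is an
ideal of A, and x lies in JR. Then ∏_σ (T - σ(x)) is the image of a monic polynomial over A of
degree at most n whose coefficients below degree n all lie in J. (The published statement takes A =
R^G and a polynomial of degree n; this row allows any such A mapping onto R^G and asks degree at
most n, which is the same when A is nonzero.) -/
theorem result (A R G : Type u) [CommRing A]
    [CommRing R] [Algebra A R] [Group G] [Fintype G] [MulSemiringAction G R] [SMulCommClass G A R]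
    [Algebra.IsInvariant A R G] (J : Ideal A) (x : R) (hx : x ∈ Ideal.map (algebraMap A R) J) :
    ∃ P : Polynomial A, P.Monic ∧ P.natDegree ≤ Fintype.card G ∧
      (∀ i : ℕ, i < Fintype.card G → P.coeff i ∈ J) ∧
      Polynomial.map (algebraMap A R) P = ∏ σ : G, (Polynomial.X - Polynomial.C (σ • x)) := by
  classical
  obtain ⟨m, r, j, hj, hxj⟩ : ∃ (m : ℕ) (r : Fin m → R) (j : Fin m → A), (∀ i, j i ∈ J) ∧ x = ∑ i, algebraMap A R (j i) * r i := by
    induction hx using Submodule.span_induction with
    | mem y hy => obtain ⟨a, ha, rfl⟩ := hy; exact ⟨1, ![1], ![a], fun i => by fin_cases i; exact ha, by simp⟩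
    | zero => exact ⟨0, ![], ![], fun i => i.elim0, by simp⟩
    | add y z _ _ hy hz =>
      obtain ⟨m₁, r₁, j₁, hj₁, rfl⟩ := hy
      obtain ⟨m₂, r₂, j₂, hj₂, rfl⟩ := hz
      exact ⟨m₁ + m₂, Fin.append r₁ r₂, Fin.append j₁ j₂, fun i => Fin.addCases (fun i => by simpa using hj₁ i) (fun i => by simpa using hj₂ i) i,
        by rw [Fin.sum_univ_add]; simp⟩
    | smul c y _ hy =>
      obtain ⟨m, r, j, hj, rfl⟩ := hy
      exact ⟨m, fun i => c * r i, j, hj, by rw [smul_eq_mul, Finset.mul_sum]; exact Finset.sum_congr rfl fun i _ => by ring⟩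
  let L : G → (MvPolynomial (Fin m) R) := fun σ => ∑ i, MvPolynomial.C (σ • r i) * MvPolynomial.X i
  let Q : Polynomial (MvPolynomial (Fin m) R) := ∏ σ : G, (Polynomial.X - Polynomial.C (L σ))
  have hQ : Q.Monic := Polynomial.monic_prod_of_monic _ _ fun σ _ => Polynomial.monic_X_sub_C _
  have hinv : ∀ (τ : G) (i : ℕ) (d : Fin m →₀ ℕ), τ • MvPolynomial.coeff d (Q.coeff i) = MvPolynomial.coeff d (Q.coeff i) := by
    intro τ i d
    let t : (MvPolynomial (Fin m) R) →+* (MvPolynomial (Fin m) R) := MvPolynomial.map (MulSemiringAction.toRingHom G R τ)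
    have hL : ∀ σ, t (L σ) = L (τ * σ) := fun σ => by
      simp only [t, L, map_sum, map_mul, MvPolynomial.map_C, MvPolynomial.map_X, mul_smul]; rfl
    have hQt : Q.map t = Q := by
      simp only [Q, Polynomial.map_prod, Polynomial.map_sub, Polynomial.map_X, Polynomial.map_C, hL]
      exact Fintype.prod_equiv (Equiv.mulLeft τ) _ _ fun _ => rfl
    conv_rhs => rw [← hQt, Polynomial.coeff_map]
    exact (MvPolynomial.coeff_map (MulSemiringAction.toRingHom G R τ) (Q.coeff i) d).symm
  choose a ha using fun (i : ℕ) (d : Fin m →₀ ℕ) => Algebra.IsInvariant.isInvariant (A := A) _ (fun τ => hinv τ i d)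
  let c : ℕ → A := fun i => ∑ d ∈ (Q.coeff i).support, if d = 0 then 0 else a i d * d.prod fun l e => j l ^ e
  have hc0 : ∀ i, c i ∈ J := fun i => J.sum_mem fun d _ => by
    split_ifs with hd
    · exact J.zero_mem
    · obtain ⟨l, hl⟩ : ∃ l, d l ≠ 0 := by by_contra! hh; exact hd (Finsupp.ext hh)
      refine J.mul_mem_left _ ?_
      rw [← Finsupp.mul_prod_erase d l _ (Finsupp.mem_support_iff.mpr hl)]
      exact J.mul_mem_right _ (J.pow_mem_of_mem (hj l) _ (Nat.pos_of_ne_zero hl))
  let φ : (MvPolynomial (Fin m) R) →+* R := MvPolynomial.eval (fun i => algebraMap A R (j i))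
  have hQφ : Q.map φ = ∏ σ : G, (Polynomial.X - Polynomial.C (σ • x)) := by
    simp only [Q, Polynomial.map_prod, Polynomial.map_sub, Polynomial.map_X, Polynomial.map_C]
    refine Finset.prod_congr rfl fun σ _ => ?_
    congr 2
    simp only [φ, L, hxj, Finset.smul_sum, smul_mul', smul_algebraMap, map_sum, map_mul, MvPolynomial.eval_C, MvPolynomial.eval_X]
    exact Finset.sum_congr rfl fun l _ => mul_comm _ _
  let n := Fintype.card G
  have hQ0 : ∀ i < n, MvPolynomial.constantCoeff (Q.coeff i) = 0 := fun i hi => by
    have hh : Q.map (MvPolynomial.constantCoeff) = Polynomial.X ^ n := by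
      simp only [Q, Polynomial.map_prod, Polynomial.map_sub, Polynomial.map_X, Polynomial.map_C]
      simp [L, n]
    have := congrArg (fun P => Polynomial.coeff P i) hh
    simpa [Polynomial.coeff_map, Polynomial.coeff_X_pow, hi.ne] using this
  have hc : ∀ i < n, algebraMap A R (c i) = φ (Q.coeff i) := fun i hi => by
    show _ = MvPolynomial.eval _ _
    rw [MvPolynomial.eval_eq, map_sum]
    refine Finset.sum_congr rfl fun d hd => ?_
    split_ifs with h0
    · exfalso
      subst h0
      exact (MvPolynomial.mem_support_iff.mp hd) (hQ0 i hi)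
    · rw [map_mul, ha i d, Finsupp.prod, map_prod]
      simp [map_pow]
  rcases subsingleton_or_nontrivial A with hA | hA
  · exact ⟨1, Polynomial.monic_one, by simp, fun i _ => by rw [Subsingleton.elim (Polynomial.coeff 1 i) 0]; exact J.zero_mem,
      (have : Subsingleton R := (algebraMap A R).codomain_trivial; Subsingleton.elim _ _)⟩
  let P : Polynomial A := Polynomial.X ^ n + ∑ i : Fin n, Polynomial.C (c i) * Polynomial.X ^ (i : ℕ)
  have hdeg : (∑ i : Fin n, Polynomial.C (c i) * Polynomial.X ^ (i : ℕ)).degree < (n : WithBot ℕ) := Polynomial.degree_sum_fin_lt _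
  refine ⟨P, Polynomial.monic_X_pow_add hdeg, ?_, fun i hi => ?_, ?_⟩
  · refine Polynomial.natDegree_le_iff_degree_le.mpr ((Polynomial.degree_add_le _ _).trans (max_le (Polynomial.degree_X_pow n).le hdeg.le))
  · simp only [P, Polynomial.coeff_add, Polynomial.coeff_X_pow, (show ¬ i = n from hi.ne), if_false, zero_add, Polynomial.finsetSum_coeff, Polynomial.coeff_C_mul, mul_ite, mul_one, mul_zero]
    exact J.sum_mem fun l _ => by
      split_ifs
      exacts [hc0 _, J.zero_mem]
  · rw [← hQφ]
    rcases subsingleton_or_nontrivial R with hR | hR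
    · exact Subsingleton.elim _ _
    have hnd : (Q.map φ).natDegree = n := by
      rw [hQφ, Polynomial.natDegree_prod_of_monic _ _ (fun σ _ => Polynomial.monic_X_sub_C _)]
      simp [n]
    rw [(hQ.map φ).as_sum, hnd, ← Fin.sum_univ_eq_sum_range (fun i => Polynomial.C ((Q.map φ).coeff i) * Polynomial.X ^ i)]
    simp only [P, Polynomial.map_add, Polynomial.map_pow, Polynomial.map_X, Polynomial.map_sum, Polynomial.map_mul, Polynomial.map_C]
    congr 1
    exact Finset.sum_congr rfl fun i _ => by rw [hc i i.2, Polynomial.coeff_map]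

end Groth.Agent.S9260
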