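import Groth.Statements.S9261
import Mathlib.RingTheory.Flat.Basic
import Mathlib.LinearAlgebra.TensorProduct.Pi
import Mathlib.RingTheory.Invariant.Basic
import Mathlib.Tactic.Abel

set_option autoImplicit false
universe u
open CAlg

namespace Groth.Agent.S9261

/-- Let G be a finite group acting on a ring R, S = R^G its ring of invariants (here: S → R injective
with image the invariants) and A a flat S-algebra. Then the map A → A ⊗_S R is injective with image
the invariants of G acting on A ⊗_S R through the second factor; that is, A → (A ⊗_S R)^G is an
isomorphism. -/
theorem result (S R A G : Type u) [CommRing S] [CommRing R] [Algebra S R]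
    [FaithfulSMul S R] [Group G] [Finite G] [MulSemiringAction G R] [SMulCommClass G S R]
    [Algebra.IsInvariant S R G] [CommRing A] [Algebra S A] [Module.Flat S A] :
    Function.Injective (algebraMap A (TensorProduct S A R)) ∧
      ∀ x : TensorProduct S A R,
        (∀ σ : G, Algebra.TensorProduct.map (AlgHom.id S A) (MulSemiringAction.toAlgHom S R σ) x = x) →
          x ∈ Set.range (algebraMap A (TensorProduct S A R)) := by
  classical
  haveI := Fintype.ofFinite G
  let d : R →ₗ[S] (G → R) := LinearMap.pi fun σ : G =>
    (MulSemiringAction.toAlgHom S R σ).toLinearMap - LinearMap.id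
  have hex : Function.Exact (Algebra.linearMap S R) d := by
    intro r
    constructor
    · intro h
      obtain ⟨s, hs⟩ := Algebra.IsInvariant.isInvariant (A := S) (G := G) r fun σ => by
        have := congrFun h σ
        simpa [d, sub_eq_zero] using this
      exact ⟨s, hs⟩
    · rintro ⟨s, rfl⟩
      funext σ
      simp [d, Algebra.algebraMap_eq_smul_one]
  have hE : Function.Exact (LinearMap.lTensor A (Algebra.linearMap S R)) (LinearMap.lTensor A d) :=
    Module.Flat.lTensor_exact A hex
  have hi : ∀ z : TensorProduct S A S, LinearMap.lTensor A (Algebra.linearMap S R) z =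
      algebraMap A (TensorProduct S A R) (TensorProduct.rid S A z) := by
    intro z
    induction z using TensorProduct.induction_on with
    | zero => simp
    | tmul a s =>
      simp only [LinearMap.lTensor_tmul, TensorProduct.rid_tmul, Algebra.linearMap_apply,
        Algebra.TensorProduct.algebraMap_apply, Algebra.algebraMap_self_apply,
        Algebra.algebraMap_eq_smul_one s, TensorProduct.smul_tmul]
    | add x y hx hy => simp only [map_add, hx, hy]
  refine ⟨?_, fun x hx => ?_⟩
  · intro a b hab
    obtain ⟨z, rfl⟩ := (TensorProduct.rid S A).surjective a
    obtain ⟨w, rfl⟩ := (TensorProduct.rid S A).surjective b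
    rw [← hi, ← hi] at hab
    rw [Module.Flat.lTensor_preserves_injective_linearMap (M := A) (Algebra.linearMap S R)
      (FaithfulSMul.algebraMap_injective S R) hab]
  · have hzero : LinearMap.lTensor A d x = 0 := by
      apply (TensorProduct.piRight S S A (fun _ : G => R)).injective
      rw [map_zero]
      funext σ
      have : ∀ y, TensorProduct.piRight S S A (fun _ : G => R) (LinearMap.lTensor A d y) σ =
          Algebra.TensorProduct.map (AlgHom.id S A) (MulSemiringAction.toAlgHom S R σ) y - y := by
        intro y
        induction y using TensorProduct.induction_on with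
        | zero => simp
        | tmul a r => simp [d, TensorProduct.tmul_sub]
        | add u v hu hv => simp only [map_add, Pi.add_apply, hu, hv]; abel
      rw [this, hx σ, sub_self, Pi.zero_apply]
    obtain ⟨z, rfl⟩ := (hE x).mp hzero
    exact ⟨_, (hi z).symm⟩

end Groth.Agent.S9261
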