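import Groth.Statements.S9262
import Groth.Agent.Hensel.HenselizationMore
import Mathlib
-- import your own Groth.Agent.* helpers here

set_option autoImplicit false
universe u
open Hensel

namespace Groth.Agent.S9262

/-- Let R be a Noetherian local ring with henselization S and strict henselization T. Then R is a
discrete valuation ring exactly when S is one, and exactly when T is one. -/
theorem result (R S T : Type u)
    [CommRing R] [IsLocalRing R] [IsNoetherianRing R] [CommRing S] [IsLocalRing S] [Algebra R S]
    [IsLocalHom (algebraMap R S)] [Hensel.IsHenselization R S] [CommRing T] [IsLocalRing T]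
    [Algebra R T] [IsLocalHom (algebraMap R T)] [Hensel.IsStrictHenselization R T] :
    ((∃ _ : IsDomain R, IsDiscreteValuationRing R) ↔ (∃ _ : IsDomain S, IsDiscreteValuationRing S)) ∧
      ((∃ _ : IsDomain R, IsDiscreteValuationRing R) ↔
        (∃ _ : IsDomain T, IsDiscreteValuationRing T)) := by
  haveI hS : IsNoetherianRing S := (Hensel.henselization_isNoetherianRing_iff R S).1 ‹_›
  haveI hT : IsNoetherianRing T := (Hensel.strictHenselization_isNoetherianRing_iff R T).1 ‹_›
  haveI := Hensel.henselization_faithfullyFlat R S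
  haveI := Hensel.strictHenselization_faithfullyFlat R T
  rw [Hensel.dvr_iff, Hensel.dvr_iff, Hensel.dvr_iff]
  have key : ∀ (U : Type u) [CommRing U] [IsLocalRing U] [Algebra R U] [Module.FaithfullyFlat R U],
      ((IsDomain R ∧ IsIntegrallyClosed R) → IsDomain U) →
      (IsRegularLocalRing R ↔ IsRegularLocalRing U) → ringKrullDim U = ringKrullDim R →
      ((IsDomain R ∧ IsRegularLocalRing R ∧ ringKrullDim R = 1) ↔
        (IsDomain U ∧ IsRegularLocalRing U ∧ ringKrullDim U = 1)) := by
    intro U _ _ _ _ hn hr hd
    refine ⟨fun ⟨h1, h2, h3⟩ => ?_, fun ⟨h1, h2, h3⟩ => ?_⟩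
    · haveI := h1
      obtain ⟨_, h4⟩ := (Hensel.dvr_iff R).2 ⟨h1, h2, h3⟩
      exact ⟨hn ⟨h1, inferInstance⟩, hr.1 h2, hd.trans h3⟩
    · exact ⟨(FaithfulSMul.algebraMap_injective R U).isDomain (algebraMap R U), hr.2 h2, hd.symm.trans h3⟩
  exact ⟨key S (fun h => ((Hensel.henselization_normal_iff R S).1 h).1)
      (Hensel.henselization_isRegularLocalRing_iff R S) (Hensel.henselization_ringKrullDim R S),
    key T (fun h => ((Hensel.strictHenselization_normal_iff R T).2 h).1)
      (Hensel.strictHenselization_isRegularLocalRing_iff R T).symm (Hensel.strictHenselization_ringKrullDim R T)⟩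

end Groth.Agent.S9262
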