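import Groth.Statements.S9265
import Groth.Agent.CechX.Single
import Mathlib
-- import your own Groth.Agent.* helpers here

set_option autoImplicit false
universe u
attribute [local instance] HasDerivedCategory.standard
open CategoryTheory
open DerCA

namespace Groth.Agent.S9265

/-- Every element of the cohomology of the extended alternating Cech complex of M with respect to f_1,
..., f_r is killed by a common power of the f_i; in particular these cohomology modules are
supported on V(f_1, ..., f_r). -/
theorem result (R : Type u) [CommRing R] (fs : List R) (M : ModuleCat.{u} R)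
    (q : ℤ) (x : DerCA.extCechH fs M q) :
    ∃ n : ℕ, 1 ≤ n ∧ ∀ f ∈ fs, (f ^ n) • x = 0 := by
  have ht : ∀ g ∈ fs, Groth.Agent.CechX.Tors g (DerCA.extCech M fs) := fun g hg => by
    rw [Groth.Agent.CechX.extCech_eq]
    exact Groth.Agent.CechX.tors_EC fs g hg _
  obtain ⟨z, rfl⟩ := Groth.Agent.CechX.hcls_surjective q x
  have h : ∀ f ∈ fs, ∃ n : ℕ, (f ^ n) • Groth.Agent.CechX.hcls _ q z = 0 := fun f hf => by
    obtain ⟨n, y, hy⟩ := ht f hf (q - 1) q (sub_add_cancel q 1) z.1 z.2
    refine ⟨n, ?_⟩
    rw [← map_smul]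
    exact (Groth.Agent.CechX.hcls_eq_zero_iff q (q - 1) (sub_add_cancel q 1) _).2 ⟨y, hy⟩
  classical
  choose n hn using h
  refine ⟨(fs.attach.map fun f => n f.1 f.2).sum + 1, Nat.le_add_left 1 _, fun f hf => ?_⟩
  have hmem : n f hf ∈ fs.attach.map (fun f => n f.1 f.2) :=
    List.mem_map.2 ⟨⟨f, hf⟩, List.mem_attach _ _, rfl⟩
  have hle : n f hf ≤ (fs.attach.map fun f => n f.1 f.2).sum + 1 :=
    (List.le_sum_of_mem hmem).trans (Nat.le_succ _)
  rw [← Nat.sub_add_cancel hle, pow_add, mul_smul, hn, smul_zero]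

end Groth.Agent.S9265
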