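import Groth.Statements.S9266
import Groth.Agent.CechX.Single
import Mathlib
-- import your own Groth.Agent.* helpers here

set_option autoImplicit false
universe u
attribute [local instance] HasDerivedCategory.standard
open CategoryTheory
open DerCA

namespace Groth.Agent.S9266

/-- If some element f of the ideal (f_1, ..., f_r) acts invertibly on the module M, then the extended
alternating Cech complex of M with respect to f_1, ..., f_r has zero cohomology in every degree. -/
theorem result (R : Type u) [CommRing R] (fs : List R)
    (M : ModuleCat.{u} R) (f : R) (hf : f ∈ Ideal.span {a : R | a ∈ fs})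
    (hbij : Function.Bijective (fun m : M => f • m)) (q : ℤ) :
    Limits.IsZero (DerCA.extCechH fs M q) := by
  show Limits.IsZero ((DerCA.extCech M fs).homology q)
  rw [Groth.Agent.CechX.extCech_eq]
  refine Groth.Agent.CechX.isZero_homology_of_tors (fun g hg => Groth.Agent.CechX.tors_EC fs g hg _)
    hf (Groth.Agent.CechX.smulBij_EC (fun p => ?_) fs) q
  by_cases hp : p = 0
  · subst hp
    let e := (HomologicalComplex.singleObjXSelf (ComplexShape.up ℤ) 0 M).toLinearEquiv
    have h : (fun x => f • x) = e.symm ∘ (fun m : M => f • m) ∘ e := funext fun x => by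
      show f • x = e.symm (f • e x)
      rw [map_smul, e.symm_apply_apply]
    rw [h]
    exact e.symm.bijective.comp (hbij.comp e.bijective)
  · have h0 : ∀ x : (Groth.Agent.CechX.single0 M).X p, x = 0 :=
      Groth.Agent.CechX.single0_eq_zero _ p (by omega)
    exact ⟨fun x y _ => (h0 x).trans (h0 y).symm, fun y => ⟨y, (h0 _).trans (h0 y).symm⟩⟩

end Groth.Agent.S9266
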