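import Groth.Statements.S9267
import Groth.Agent.CechX.Koszul
import Groth.Agent.CechX.KoszulPow
import Mathlib
-- import your own Groth.Agent.* helpers here

set_option autoImplicit false
universe u
attribute [local instance] HasDerivedCategory.standard
open CategoryTheory
open DerCA

namespace Groth.Agent.S9267

/-- For a Koszul-regular sequence f_1, ..., f_r in a ring R, the extended alternating Cech complex R → ⊕
R_{f_i} → ... → R_{f_1 ... f_r} has cohomology only in degree r. -/
theorem result (R : Type u) [CommRing R] (fs : List R)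
    (hfs : LCI.IsKoszulRegularSeq R fs) (q : ℤ) (hq : q ≠ (fs.length : ℤ)) :
    Limits.IsZero (DerCA.extCechH fs (ModuleCat.of R R) q) := by
  show Limits.IsZero ((DerCA.extCech (ModuleCat.of R R) fs).homology q)
  rw [Groth.Agent.CechX.extCech_eq]
  rcases le_or_gt 0 q with hq0 | hq0
  · obtain ⟨p, rfl⟩ := Int.eq_ofNat_of_zero_le hq0
    obtain ⟨e⟩ := Groth.Agent.CechX.nonempty_koszulHLim_equiv (ModuleCat.of R R) fs p
    have hk : ∀ l : List R, Koszul.koszul R l = Groth.Agent.CechX.KC l
        ((HomologicalComplex.single (ModuleCat.{u} R) (ComplexShape.up ℤ) 0).obj (ModuleCat.of R R)) := by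
      intro l
      induction l with
      | nil => rfl
      | cons a l ih => exact congrArg (Groth.Agent.CechX.KC [a]) ih
    have h0 : Groth.Agent.CechX.Conc 0 (Groth.Agent.CechX.KC fs
        ((HomologicalComplex.single (ModuleCat.{u} R) (ComplexShape.up ℤ) 0).obj (ModuleCat.of R R))) := by
      intro i hi
      rw [← hk]
      exact hfs i hi
    have hn : ∀ n, Limits.IsZero (CohIII.koszulHPow fs (ModuleCat.of R R) p n) := fun n => by
      show Limits.IsZero ((CohIII.koszulCx (ModuleCat.of R R) (fs.map (· ^ n))).homology ((p : ℤ) - fs.length))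
      rw [Groth.Agent.CechX.koszulCx_eq]
      exact Groth.Agent.CechX.conc_KC_pow n fs _ 0 h0 _ (by omega)
    have hs : Subsingleton (CohIII.koszulHLim fs (ModuleCat.of R R) p) := by
      refine subsingleton_of_forall_eq 0 fun c => ?_
      induction c using Module.DirectLimit.induction_on with
      | ih n x =>
        rw [(ModuleCat.subsingleton_of_isZero (hn n)).elim x 0, map_zero]
        rfl
    haveI := e.symm.toEquiv.subsingleton
    exact ModuleCat.isZero_of_subsingleton _
  · exact (Groth.Agent.CechX.isZero_homology_iff q (q - 1) (sub_add_cancel q 1)).2 fun x _ =>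
      ⟨0, (map_zero _).trans (Groth.Agent.CechX.EC_single_eq_zero (ModuleCat.of R R) fs q (Or.inl hq0) x).symm⟩

end Groth.Agent.S9267
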