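import Groth.Statements.S9268
-- import your own Groth.Agent.* helpers here
import Groth.Agent.InfLift.SmallExt

set_option autoImplicit false
universe u
open CAlg

namespace Groth.Agent.S9268

/-- Suppose A is a Noetherian ring and B is a finitely generated A-algebra, and consider a prime q of B
lying over p in A. Then A → B is smooth at q (meaning some g not in q makes A → B_g smooth) exactly
when the induced map A_p → B_q is formally smooth with respect to the adic topology defined by the
maximal ideal of B_q. -/
theorem result (A B : Type u) [CommRing A] [IsNoetherianRing A]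
    [CommRing B] [Algebra A B] [Algebra.FiniteType A B] (q : Ideal B) [q.IsPrime] :
    (∃ g : B, g ∉ q ∧ Algebra.Smooth A (Localization.Away g)) ↔
      letI := (Localization.localRingHom (Ideal.comap (algebraMap A B) q) q (algebraMap A B) rfl).toAlgebra
      CAlgX.IsAdicFormallySmooth (Localization.AtPrime (Ideal.comap (algebraMap A B) q))
        (Localization.AtPrime q) (IsLocalRing.maximalIdeal (Localization.AtPrime q)) := by
  let p := Ideal.comap (algebraMap A B) q
  letI := (Localization.localRingHom p q (algebraMap A B) rfl).toAlgebra
  haveI : IsScalarTower A (Localization.AtPrime p) (Localization.AtPrime q) :=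
    IsScalarTower.of_algebraMap_eq fun r => by
      rw [RingHom.algebraMap_toAlgebra, Localization.localRingHom_to_map, ← IsScalarTower.algebraMap_apply]
  haveI : Algebra.FinitePresentation A B := Algebra.FinitePresentation.of_finiteType.mp inferInstance
  constructor
  · rintro ⟨g, hg, hsm⟩
    haveI := hsm
    haveI : Algebra.IsSmoothAt A q :=
      (Algebra.basicOpen_subset_smoothLocus_iff_smooth.mpr hsm)
        (show (⟨q, inferInstance⟩ : PrimeSpectrum B) ∈ (PrimeSpectrum.basicOpen g : Set (PrimeSpectrum B)) from hg)
    haveI : Algebra.FormallySmooth (Localization.AtPrime p) (Localization.AtPrime q) :=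
      Algebra.FormallySmooth.localization_base p.primeCompl
    intro C _ _ J hJ ψ _
    exact ⟨Algebra.FormallySmooth.lift J ⟨2, hJ⟩ ψ, Algebra.FormallySmooth.comp_lift J ⟨2, hJ⟩ ψ⟩
  · intro hfs
    haveI : Algebra.IsSmoothAt A q := by
      refine Groth.Agent.InfLift.isSmoothAt_of_small_lift q ?_
      intro C' C _ _ _ _ _ _ _ _ π hπ ht _ g hgq _
      obtain ⟨t, ht, htm⟩ := ht
      have hker : RingHom.ker π.toRingHom ≤ IsLocalRing.maximalIdeal C' :=
        IsLocalRing.le_maximalIdeal (RingHom.ker_ne_top _)
      have hsq : (RingHom.ker π.toRingHom) ^ 2 = ⊥ := by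
        rw [ht, Ideal.span_singleton_pow, sq, htm t (hker (ht ▸ Ideal.mem_span_singleton_self t)), Ideal.span_singleton_eq_bot]
      have hu : ∀ s : q.primeCompl, IsUnit (g s) := fun s => IsLocalRing.notMem_maximalIdeal.mp fun h => s.2 (hgq.le h)
      haveI : IsLocalHom π.toRingHom := Function.Surjective.isLocalHom (f := π.toRingHom) hπ
      have huA : ∀ a : p.primeCompl, IsUnit (algebraMap A C' a) := fun a => by
        refine IsUnit.of_map π.toRingHom _ ?_
        show IsUnit (π (algebraMap A C' a))
        rw [AlgHom.commutes, ← g.commutes]
        exact hu ⟨_, a.2⟩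
      letI : Algebra (Localization.AtPrime p) C' := (IsLocalization.lift huA).toAlgebra
      haveI : IsScalarTower A (Localization.AtPrime p) C' := IsScalarTower.of_algebraMap_eq fun a =>
        (IsLocalization.lift_eq huA a).symm
      let J := RingHom.ker π.toRingHom
      let eJ : (C' ⧸ J) ≃+* C := RingHom.quotientKerEquivOfSurjective hπ
      let φ : Localization.AtPrime q →+* C := IsLocalization.lift hu
      have hφ : ∀ a : Localization.AtPrime p, eJ.symm (φ (algebraMap _ (Localization.AtPrime q) a)) =
          algebraMap (Localization.AtPrime p) (C' ⧸ J) a := by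
        intro a
        apply eJ.injective
        rw [RingEquiv.apply_symm_apply]
        show _ = π (algebraMap (Localization.AtPrime p) C' a)
        refine congrFun (congrArg DFunLike.coe (IsLocalization.ringHom_ext p.primeCompl
          (j := φ.comp (algebraMap _ (Localization.AtPrime q)))
          (k := π.toRingHom.comp (algebraMap (Localization.AtPrime p) C')) (RingHom.ext fun a => ?_))) a
        show φ (algebraMap _ (Localization.AtPrime q) (algebraMap A _ a)) = π (algebraMap _ C' (algebraMap A _ a))
        rw [← IsScalarTower.algebraMap_apply A (Localization.AtPrime p) (Localization.AtPrime q),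
          ← IsScalarTower.algebraMap_apply A (Localization.AtPrime p) C', AlgHom.commutes,
          IsScalarTower.algebraMap_apply A B (Localization.AtPrime q), IsLocalization.lift_eq]
        exact g.commutes a
      let ψ : Localization.AtPrime q →ₐ[Localization.AtPrime p] C' ⧸ J :=
        { eJ.symm.toRingHom.comp φ with commutes' := hφ }
      obtain ⟨N, hN⟩ := IsArtinianRing.isNilpotent_jacobson_bot (R := C)
      rw [IsLocalRing.jacobson_eq_maximalIdeal _ bot_ne_top] at hN
      have hloc : (IsLocalRing.maximalIdeal (Localization.AtPrime q)).map φ ≤ IsLocalRing.maximalIdeal C := by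
        rw [← Localization.AtPrime.map_eq_maximalIdeal, Ideal.map_map, IsLocalization.lift_comp, Ideal.map_le_iff_le_comap]
        exact hgq.ge
      obtain ⟨χ, hχ⟩ := hfs C' J hsq ψ ⟨N, fun x hx => by
        have h2 : φ x ∈ IsLocalRing.maximalIdeal C ^ N := by
          have := Ideal.pow_right_mono hloc N
          rw [← Ideal.map_pow] at this
          exact this (Ideal.mem_map_of_mem φ hx)
        rw [hN] at h2
        show eJ.symm (φ x) = 0
        rw [show φ x = 0 from h2, map_zero]⟩
      refine ⟨(χ.restrictScalars A).comp (IsScalarTower.toAlgHom A B _), AlgHom.ext fun b => ?_⟩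
      have h3 : Ideal.Quotient.mk J (χ (algebraMap B _ b)) = eJ.symm (φ (algebraMap B _ b)) := AlgHom.congr_fun hχ _
      have h4 := congrArg eJ h3
      rw [RingEquiv.apply_symm_apply, show φ (algebraMap B _ b) = g b from IsLocalization.lift_eq hu b] at h4
      exact h4
    obtain ⟨g, hg, hsm⟩ := Algebra.IsSmoothAt.exists_notMem_smooth (R := A) q
    exact ⟨g, hg, hsm⟩

end Groth.Agent.S9268
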