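import Groth.Statements.S9271
import Groth.Agent.KoszulLib.FlatQuot
import Mathlib.RingTheory.Smooth.Fiber

set_option autoImplicit false
universe u
open CAlg

open scoped TensorProduct

namespace Groth.Agent.S9271

/-- Suppose A' → B' is a flat ring map of finite presentation (smooth maps being one example), and let I
be a locally nilpotent ideal of A', with A = A'/I and B = B'/IB'. Let f'_1, ..., f'_r be elements of
B' whose images f_1, ..., f_r in B form a quasi-regular sequence with B/(f_1, ..., f_r) smooth over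
A. Then B'/(f'_1, ..., f'_r) is smooth over A'. -/
theorem result (A' B' : Type u) [CommRing A']
    [CommRing B'] [Algebra A' B'] [Module.Flat A' B'] [Algebra.FinitePresentation A' B']
    (I : Ideal A') (hI : ∀ x ∈ I, IsNilpotent x) (r : ℕ) (f' : Fin r → B')
    (hq : CAlgX.IsQuasiRegular
      (fun i => Ideal.Quotient.mk (Ideal.map (algebraMap A' B') I) (f' i)))
    (hsm : Algebra.Smooth (A' ⧸ I)
      ((B' ⧸ Ideal.map (algebraMap A' B') I) ⧸
        Ideal.span (Set.range (fun i => Ideal.Quotient.mk (Ideal.map (algebraMap A' B') I) (f' i))))) :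
    Algebra.Smooth A' (B' ⧸ Ideal.span (Set.range f')) := by
  haveI := hsm
  haveI : Module.Flat A' (B' ⧸ Ideal.span (Set.range f')) :=
    KoszulLib.flat_of_quasi_quot_nil I hI f' hq inferInstance
  haveI : Algebra.FinitePresentation A' (B' ⧸ Ideal.span (Set.range f')) :=
    Algebra.FinitePresentation.quotient (Submodule.fg_span (Set.finite_range f'))
  let K := I.map (algebraMap A' B')
  let J := Ideal.span (Set.range f')
  let S := B' ⧸ J
  let L := I.map (algebraMap A' S)
  have hL : L = K.map (Ideal.Quotient.mk J) := by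
    show I.map (algebraMap A' S) = (I.map (algebraMap A' B')).map (Ideal.Quotient.mk J)
    rw [Ideal.map_map]
    rfl
  have hJ : J.map (Ideal.Quotient.mk K) = Ideal.span (Set.range fun i => Ideal.Quotient.mk K (f' i)) := by
    rw [Ideal.map_span, ← Set.range_comp]; rfl
  let e : ((B' ⧸ K) ⧸ Ideal.span (Set.range fun i => Ideal.Quotient.mk K (f' i))) ≃+* S ⧸ L :=
    ((Ideal.quotEquivOfEq hJ.symm).trans (DoubleQuot.quotQuotEquivComm K J)).trans (Ideal.quotEquivOfEq hL.symm)
  let e' : ((B' ⧸ K) ⧸ Ideal.span (Set.range fun i => Ideal.Quotient.mk K (f' i))) ≃ₐ[A' ⧸ I] S ⧸ L :=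
    AlgEquiv.ofRingEquiv (f := e) fun x => by
      obtain ⟨a, rfl⟩ := Ideal.Quotient.mk_surjective x
      rfl
  haveI : Algebra.Smooth (A' ⧸ I) (S ⧸ L) := Algebra.Smooth.of_equiv e'
  refine Algebra.Smooth.of_formallySmooth_fiber fun p hp => ?_
  have hIp : I ≤ p := fun x hx => hp.mem_of_pow_mem (hI x hx).choose (by rw [(hI x hx).choose_spec]; exact zero_mem _)
  let κ := p.ResidueField
  letI : Algebra (A' ⧸ I) κ := (Ideal.Quotient.lift I (algebraMap A' κ) fun a ha =>
    Ideal.algebraMap_residueField_eq_zero.mpr (hIp ha)).toAlgebra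
  haveI : IsScalarTower A' (A' ⧸ I) κ := IsScalarTower.of_algebraMap_eq fun x => rfl
  haveI : Algebra.IsPushout A' (A' ⧸ I) S (S ⧸ L) := FibCrit.isPushout_quot I rfl
  haveI := Algebra.IsPushout.symm (R := A') (S := A' ⧸ I) (R' := S) (S' := S ⧸ L) inferInstance
  let c := Algebra.IsPushout.cancelBaseChangeAlg A' S (A' ⧸ I) (S ⧸ L) κ
  let ψ : κ ⊗[A' ⧸ I] (S ⧸ L) ≃+* κ ⊗[A'] S :=
    ((Algebra.TensorProduct.comm (A' ⧸ I) κ (S ⧸ L)).toRingEquiv.trans c.toRingEquiv).trans
      (Algebra.TensorProduct.comm A' S κ).toRingEquiv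
  let ψ' : κ ⊗[A' ⧸ I] (S ⧸ L) ≃ₐ[κ] κ ⊗[A'] S := AlgEquiv.ofRingEquiv (f := ψ) fun x => by
    show (Algebra.TensorProduct.comm A' S κ) (c ((Algebra.TensorProduct.comm (A' ⧸ I) κ (S ⧸ L)) (x ⊗ₜ 1))) = x ⊗ₜ 1
    rw [Algebra.TensorProduct.comm_tmul, Algebra.IsPushout.cancelBaseChangeAlg_tmul, Algebra.TensorProduct.comm_tmul]
  haveI : Algebra.Smooth κ (κ ⊗[A' ⧸ I] (S ⧸ L)) := inferInstance
  refine Algebra.FormallySmooth.of_equiv (A := κ ⊗[A' ⧸ I] (S ⧸ L)) ?_
  exact ψ'

end Groth.Agent.S9271
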