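import Groth.Statements.S9275
import Mathlib
import Groth.Agent.Hensel.SpreadNbhd
-- import your own Groth.Agent.* helpers here

set_option autoImplicit false
universe u
open EtAlg

namespace Groth.Agent.S9275

/-- Let A → B be a ring map and J an ideal of B such that A → B is étale at every prime of V(J), in the
sense that every prime q ⊇ J has some h ∉ q with A → B_h étale. Then there is g ∈ B mapping to a
unit of B/J such that A → B_g is étale. -/
theorem result (A B : Type u) [CommRing A] [CommRing B]
    [Algebra A B] (J : Ideal B)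
    (h : ∀ (q : Ideal B) [q.IsPrime], J ≤ q → ∃ h : B, h ∉ q ∧ Algebra.Etale A (Localization.Away h)) :
    ∃ g : B, IsUnit (Ideal.Quotient.mk J g) ∧ Algebra.Etale A (Localization.Away g) := by
  let U : Set (PrimeSpectrum B) := {q | ∃ h : B, h ∉ q.asIdeal ∧ Algebra.Etale A (Localization.Away h)}
  have hU : IsOpen U := isOpen_iff_forall_mem_open.2 fun q ⟨x, hxq, hx⟩ =>
    ⟨PrimeSpectrum.basicOpen x, fun r hr => ⟨x, hr, hx⟩, (PrimeSpectrum.basicOpen x).2, hxq⟩
  obtain ⟨g, hg, hgU⟩ := Groth.Agent.Hensel.exists_sub_one_mem_basicOpen_subset J hU fun q hq => h q.asIdeal hq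
  refine ⟨g, ?_, ?_⟩
  · rw [show Ideal.Quotient.mk J g = 1 by rw [← map_one (Ideal.Quotient.mk J), Ideal.Quotient.eq]; exact hg]
    exact isUnit_one
  let L := Localization.Away g
  let s : Set L := (fun x => algebraMap B L x) '' {x | Algebra.Etale A (Localization.Away x)}
  have hs : Ideal.span s = ⊤ := by
    by_contra hne
    obtain ⟨M, hM, hle⟩ := Ideal.exists_le_maximal _ hne
    have hgp : g ∉ M.comap (algebraMap B L) := fun hmem =>
      hM.ne_top (M.eq_top_of_isUnit_mem hmem (IsLocalization.Away.algebraMap_isUnit g))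
    obtain ⟨x, hx, het⟩ := hgU ⟨M.comap (algebraMap B L), inferInstance⟩ hgp
    exact hx (hle (Ideal.subset_span ⟨x, het, rfl⟩))
  refine RingHom.etale_algebraMap.1 (RingHom.Etale.ofLocalizationSpanTarget _ s hs ?_)
  rintro ⟨_, x, hx, rfl⟩
  haveI := (show Algebra.Etale A (Localization.Away x) from hx)
  let T := Localization.Away x
  let M := Localization.Away (algebraMap B L x)
  haveI : IsLocalization.Away (g * x) M := IsLocalization.Away.mul' L M g x
  have hxu : IsUnit (algebraMap B M x) :=
    isUnit_of_mul_isUnit_right (by rw [← map_mul]; exact IsLocalization.Away.algebraMap_isUnit (g * x))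
  let φ : T →+* M := IsLocalization.Away.lift x (g := algebraMap B M) hxu
  letI : Algebra T M := φ.toAlgebra
  haveI : IsScalarTower B T M := IsScalarTower.of_algebraMap_eq fun b => (IsLocalization.Away.lift_eq x hxu b).symm
  haveI : IsScalarTower A T M := IsScalarTower.of_algebraMap_eq fun a => by
    rw [IsScalarTower.algebraMap_apply A B T, ← IsScalarTower.algebraMap_apply B T M, ← IsScalarTower.algebraMap_apply A B M]
  haveI : IsLocalization.Away (algebraMap B T g) M := IsLocalization.Away.commutes T L M x g
  haveI : Algebra.Etale T M := Algebra.Etale.of_isLocalizationAway (algebraMap B T g)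
  rw [← IsScalarTower.algebraMap_eq]
  exact RingHom.etale_algebraMap.2 (Algebra.Etale.comp A T M)

end Groth.Agent.S9275
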