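import Groth.Statements.S9276
-- import your own Groth.Agent.* helpers here
import Groth.Agent.GRingCpl.EtaleStages
import Groth.Agent.Hensel.PairEnvelopeStage
import Groth.Agent.Hensel.PairNoeth

set_option autoImplicit false
universe u
open CAlg

namespace Groth.Agent.S9276

/-- Let A be a G-ring, I an ideal of A and B the henselization of the pair (A, I). Then B is a G-ring. -/
theorem result (A : Type u) [CommRing A] (hA : CAlg.IsGRing A) (I : Ideal A)
    (B : Type u) [CommRing B] [Algebra A B] (hB : Hens2.IsPairHenselization A I B) :
    CAlg.IsGRing B := by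
  haveI := hA.1
  haveI := Groth.Agent.Hensel.pairHenselization_flat hB
  haveI := Groth.Agent.Hensel.isNoetherianRing_pairHenselization hB
  exact Groth.Agent.GRingCpl.isGRing_of_hasEtaleStages (A := A) (fun b => by
    obtain ⟨A', _, _, hA', -, φ, s, hs⟩ := Groth.Agent.Hensel.exists_nhd_mem hB b
    exact ⟨A', inferInstance, inferInstance, hA', φ, s, 1, by rw [map_one]; exact isUnit_one,
      by rw [map_one, mul_one, hs]⟩) hA

end Groth.Agent.S9276
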