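import Groth.Statements.S9277
import Mathlib.LinearAlgebra.Matrix.Adjugate
import Mathlib.LinearAlgebra.Matrix.ToLin
import Mathlib.Data.Fintype.EquivFin

set_option autoImplicit false
universe u
open CAlgX

namespace Groth.Agent.S9277

variable {R : Type u} [CommRing R] {m n : ℕ}

theorem minorIdeal_eq_bot (M : Matrix (Fin n) (Fin m) R) {r : ℕ} (hr : m < r) :
    CAlgX.minorIdeal M r = ⊥ := by
  rw [CAlgX.minorIdeal, Ideal.span_eq_bot]
  rintro _ ⟨⟨f, g⟩, rfl⟩
  obtain ⟨i, j, hij, hg⟩ : ∃ i j, i ≠ j ∧ g i = g j :=
    Fintype.exists_ne_map_eq_of_card_lt g (by simpa using hr)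
  exact Matrix.det_zero_of_column_eq hij fun k => by simp [hg]

/-- McCoy: if `M` is injective, nothing nonzero kills all maximal minors. -/
theorem annihilator_eq_bot (M : Matrix (Fin n) (Fin m) R) (h : Function.Injective (Matrix.mulVecLin M)) :
    (CAlgX.minorIdeal M m).annihilator = ⊥ := by
  classical
  rw [eq_bot_iff]
  intro a ha
  have key : ∀ k r : ℕ, r + k = m → ∀ (f : Fin r → Fin n) (g : Fin r → Fin m),
      a * (M.submatrix f g).det = 0 := by
    intro k
    induction k with
    | zero =>
      intro r hr f g
      obtain rfl : r = m := by omega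
      exact (Submodule.mem_annihilator.1 ha) _ (Ideal.subset_span ⟨(f, g), rfl⟩)
    | succ k ih =>
      intro r hr f g
      by_cases hg : Function.Injective g
      swap
      · obtain ⟨i, j, hgij, hij⟩ := Function.not_injective_iff.1 hg
        rw [Matrix.det_zero_of_column_eq hij fun k => by simp [hgij], mul_zero]
      obtain ⟨c, hc⟩ : ∃ c, c ∉ Set.range g := by
        by_contra hcon
        push Not at hcon
        have := Fintype.card_le_of_surjective g hcon
        simp only [Fintype.card_fin] at this
        omega
      set g' : Fin (r + 1) → Fin m := Fin.cons c g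
      set C : Fin (r + 1) → R := fun j => (-1) ^ (j : ℕ) *
        (M.submatrix f (fun t => g' (j.succAbove t))).det
      have hg' : Function.Injective g' := Fin.cons_injective_iff.2 ⟨hc, hg⟩
      let x : Fin m → R := fun l => ∑ j, if g' j = l then a * C j else 0
      have hx : Matrix.mulVecLin M x = 0 := by
        funext i
        have hdet := ih (r + 1) (by omega) (Fin.cons i f) g'
        rw [Matrix.det_succ_row_zero, Finset.mul_sum] at hdet
        show ∑ l, M i l * x l = 0
        simp only [x, Finset.mul_sum, mul_ite, mul_zero]
        rw [Finset.sum_comm]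
        simp only [Finset.sum_ite_eq, Finset.mem_univ, if_true]
        rw [← hdet]
        refine Finset.sum_congr rfl fun j _ => ?_
        have hsub : ((M.submatrix (Fin.cons i f) g').submatrix Fin.succ j.succAbove) =
            M.submatrix f (fun t => g' (j.succAbove t)) := by
          ext s t
          simp
        rw [hsub]
        simp only [C, Matrix.submatrix_apply, Fin.cons_zero]
        ring
      have h0 := congrFun (h (hx.trans (map_zero _).symm)) c
      rw [Pi.zero_apply] at h0
      simp only [x] at h0
      rw [Finset.sum_eq_single 0 (fun j _ hj => if_neg fun hj' => hj (hg' (hj'.trans (show c = g' 0 from (Fin.cons_zero (α := fun _ => Fin m) c g).symm))))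
        (fun h => absurd (Finset.mem_univ _) h), if_pos (show g' 0 = c from Fin.cons_zero (α := fun _ => Fin m) c g)] at h0
      simpa [C, g'] using h0
  have h0 := key m 0 (by omega) Fin.elim0 Fin.elim0
  simpa using h0

/-- McCoy: converse. -/
theorem injective_of_annihilator (M : Matrix (Fin n) (Fin m) R)
    (h : (CAlgX.minorIdeal M m).annihilator = ⊥) : Function.Injective (Matrix.mulVecLin M) := by
  classical
  rw [injective_iff_map_eq_zero]
  intro x hx
  funext l
  have hl : x l ∈ (CAlgX.minorIdeal M m).annihilator := by
    rw [Submodule.mem_annihilator]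
    intro d hd
    rw [smul_eq_mul]
    induction hd using Submodule.span_induction with
    | mem d hd =>
      obtain ⟨⟨f, g⟩, rfl⟩ := hd
      by_cases hg : Function.Injective g
      swap
      · obtain ⟨i, j, hgij, hij⟩ := Function.not_injective_iff.1 hg
        show x l * (M.submatrix f g).det = 0
        rw [Matrix.det_zero_of_column_eq hij fun k => by simp [hgij], mul_zero]
      have hb : Function.Bijective g := (Finite.injective_iff_bijective).1 hg
      have hN : (M.submatrix f g).mulVec (x ∘ g) = 0 := by
        funext i
        have := congrFun hx (f i)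
        rw [Matrix.mulVecLin_apply, Pi.zero_apply] at this
        rw [Pi.zero_apply, ← this]
        exact (Equiv.ofBijective g hb).sum_comp (fun c => M (f i) c * x c)
      have := congrFun (congrArg (M.submatrix f g).adjugate.mulVec hN) ((Equiv.ofBijective g hb).symm l)
      rw [Matrix.mulVec_mulVec, Matrix.adjugate_mul, Matrix.smul_mulVec, Matrix.one_mulVec,
        Matrix.mulVec_zero] at this
      simp only [Pi.smul_apply, Function.comp_apply, Pi.zero_apply, smul_eq_mul,
        Equiv.ofBijective_apply_symm_apply] at this
      rwa [mul_comm]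
    | zero => rw [mul_zero]
    | add u v _ _ hu hv => rw [mul_add, hu, hv, add_zero]
    | smul r u _ hu => rw [smul_eq_mul, mul_left_comm, hu, mul_zero]
  rwa [h, Ideal.mem_bot] at hl

theorem rank_eq [Nontrivial R] (M : Matrix (Fin n) (Fin m) R)
    (h : (CAlgX.minorIdeal M m).annihilator = ⊥) : CAlgX.matrixRank M = m := by
  refine le_antisymm (csSup_le ⟨m, ?_⟩ fun r hr => ?_) (le_csSup ⟨m, fun r hr => ?_⟩ ?_)
  · intro hbot
    rw [hbot, Submodule.annihilator_bot] at h
    exact top_ne_bot h
  · by_contra hlt
    exact hr (minorIdeal_eq_bot M (not_le.1 hlt))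
  · by_contra hlt
    exact hr (minorIdeal_eq_bot M (not_le.1 hlt))
  · intro hbot
    rw [hbot, Submodule.annihilator_bot] at h
    exact top_ne_bot h

theorem injective_iff [Nontrivial R] (M : Matrix (Fin n) (Fin m) R) :
    Function.Injective (Matrix.mulVecLin M) ↔
      CAlgX.matrixRank M = m ∧ (CAlgX.detIdeal M).annihilator = ⊥ := by
  refine ⟨fun h => ?_, fun ⟨h1, h2⟩ => injective_of_annihilator M ?_⟩
  · have h' := annihilator_eq_bot M h
    exact ⟨rank_eq M h', by rwa [CAlgX.detIdeal, rank_eq M h']⟩
  · rwa [CAlgX.detIdeal, h1] at h2

/-- Let R be a local ring and φ : R^m → R^n a map of finite free modules with matrix M. Then φ is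
injective if and only if the rank of M is m and the annihilator of the determinantal ideal I(M)
(generated by the minors of size the rank) is zero. -/
theorem result (R : Type u) [CommRing R] [IsLocalRing R]
    (m n : ℕ) (M : Matrix (Fin n) (Fin m) R) :
    Function.Injective (Matrix.mulVecLin M) ↔
      CAlgX.matrixRank M = m ∧ (CAlgX.detIdeal M).annihilator = ⊥ := by
  exact injective_iff M

end Groth.Agent.S9277
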