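import Groth.Statements.S9278
import Groth.Agent.S9277
import Mathlib.RingTheory.Ideal.AssociatedPrime.Finiteness

set_option autoImplicit false
universe u
open CAlgX

namespace Groth.Agent.S9278

/-- Over a Noetherian ring an ideal with zero annihilator contains a regular element. -/
theorem exists_regular {R : Type u} [CommRing R] [IsNoetherianRing R] (I : Ideal R)
    (h : I.annihilator = ⊥) : ∃ a ∈ I, IsRegular a := by
  classical
  by_contra hcon
  push Not at hcon
  have hfin := associatedPrimes.finite R R
  have hsub : (I : Set R) ⊆ ⋃ p ∈ (↑hfin.toFinset : Set (Ideal R)), (id p : Ideal R) := by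
    intro a ha
    have h0 : a ∈ (nonZeroDivisors R : Set R)ᶜ := fun ha' => hcon a ha (isRegular_iff_mem_nonZeroDivisors.2 ha')
    rw [← biUnion_associatedPrimes_eq_compl_nonZeroDivisors] at h0
    simpa using h0
  obtain ⟨p, hp, hle⟩ := (Ideal.subset_union_prime (⊥ : Ideal R) ⊥ fun p hp _ _ =>
    IsAssociatedPrime.isPrime (hfin.mem_toFinset.1 hp)).1 hsub
  obtain ⟨hprime, x, hx⟩ := isAssociatedPrime_iff.1 (hfin.mem_toFinset.1 hp)
  have hx0 : x ∈ I.annihilator := by
    rw [Submodule.mem_annihilator]
    intro a ha
    have ha' : a ∈ (⊥ : Submodule R R).colon {x} := hx ▸ hle ha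
    rw [Submodule.mem_colon_singleton, Submodule.mem_bot] at ha'
    rw [smul_eq_mul, mul_comm]
    exact ha'
  rw [h, Ideal.mem_bot] at hx0
  refine hprime.ne_top (Ideal.eq_top_iff_one _ |>.2 ?_)
  show (1 : R) ∈ p
  rw [hx, Submodule.mem_colon_singleton, Submodule.mem_bot, hx0, smul_zero]

/-- Let R be a Noetherian local ring and φ : R^m → R^n a map of finite free modules with matrix M. Then
φ is injective if and only if the rank of M is m and the determinantal ideal I(M) is the unit ideal
or contains a nonzerodivisor. -/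
theorem result (R : Type u) [CommRing R]
    [IsLocalRing R] [IsNoetherianRing R] (m n : ℕ) (M : Matrix (Fin n) (Fin m) R) :
    Function.Injective (Matrix.mulVecLin M) ↔
      CAlgX.matrixRank M = m ∧ (CAlgX.detIdeal M = ⊤ ∨ ∃ a ∈ CAlgX.detIdeal M, IsRegular a) := by
  rw [S9277.injective_iff M]
  refine and_congr_right fun _ => ⟨fun h => Or.inr (exists_regular _ h), fun h => ?_⟩
  rw [eq_bot_iff]
  intro x hx
  rw [Submodule.mem_annihilator] at hx
  rcases h with h | ⟨a, ha, hreg⟩
  · simpa using hx 1 (h ▸ Submodule.mem_top)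
  · exact hreg.right (by simpa using hx a ha)

end Groth.Agent.S9278
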