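import Groth.Statements.S9279
import Mathlib
import Groth.Agent.Hensel.BranchDimOne
-- import your own Groth.Agent.* helpers here

set_option autoImplicit false
universe u
open Brnch

namespace Groth.Agent.S9279

/-- For a Noetherian local ring A with henselization S and completion A^ at its maximal ideal, the
spectrum of A^ with its closed point removed is preconnected exactly when the spectrum of S with its
closed point removed is (the two sets are empty together, namely when A has dimension zero). Stated
as: the complement of the closed point in Spec A^ is preconnected iff the complement of the closed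
point in Spec S is. -/
theorem result (A S : Type u) [CommRing A]
    [IsLocalRing A] [IsNoetherianRing A] [CommRing S] [IsLocalRing S] [Algebra A S]
    [IsLocalHom (algebraMap A S)] [Hensel.IsHenselization A S] :
    IsPreconnected
        ({IsLocalRing.closedPoint (AdicCompletion (IsLocalRing.maximalIdeal A) A)}ᶜ :
          Set (PrimeSpectrum (AdicCompletion (IsLocalRing.maximalIdeal A) A))) ↔
      IsPreconnected ({IsLocalRing.closedPoint S}ᶜ : Set (PrimeSpectrum S)) := by
  obtain ⟨ψ, hψ⟩ := Hensel.exists_completion_map A S
  obtain ⟨hloc, hm, hres⟩ := Hensel.completion_setup A S ψ hψ
  letI := ψ.toAlgebra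
  haveI : IsLocalHom (algebraMap S (AdicCompletion (IsLocalRing.maximalIdeal A) A)) := hloc
  haveI := Hensel.faithfullyFlat_completion A S ψ hψ
  haveI : HenselianLocalRing S := _root_.Hensel.IsHenselization.henselian (R := A)
  haveI : IsNoetherianRing S := (Hensel.henselization_isNoetherianRing_iff A S).1 inferInstance
  haveI : IsNoetherianRing (AdicCompletion (IsLocalRing.maximalIdeal A) A) :=
    Groth.Agent.ResExt.isNoetherianRing_adicCompletion _ (IsNoetherian.noetherian _)
  exact Hensel.isPreconnected_punctured_iff hm hres

end Groth.Agent.S9279
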