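import Groth.Statements.S9282
-- import your own Groth.Agent.* helpers here
import Mathlib

set_option autoImplicit false
universe u
open CAlg

namespace Groth.Agent.S9282

/-- Let A → B be a local ring map between Noetherian local rings that is formally smooth for the adic
topology of the maximal ideal of B, and write K for the residue field of B. In the Jacobi–Zariski
sequence attached to A → B → K, the map from H_1(NL_{K/A}) to H_1(NL_{K/B}), which is m_B/m_B^2, is
injective; the remaining terms are exact in general, so that sequence starts with a zero. -/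
theorem result (A B : Type u) [CommRing A]
    [CommRing B] [IsLocalRing A] [IsLocalRing B] [IsNoetherianRing A] [IsNoetherianRing B]
    [Algebra A B] [IsLocalHom (algebraMap A B)]
    (hfs : CAlgX.IsAdicFormallySmooth A B (IsLocalRing.maximalIdeal B)) :
    Function.Injective
      (Algebra.H1Cotangent.map A B (IsLocalRing.ResidueField B) (IsLocalRing.ResidueField B)) := by
  classical
  let K := IsLocalRing.ResidueField B
  let P := (Algebra.Generators.self A K).toExtension
  let Q := (Algebra.Generators.self B K).toExtension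
  let f : Algebra.Extension.Hom P Q := (Algebra.Generators.defaultHom _ _).toExtensionHom
  rw [injective_iff_map_eq_zero]
  intro x hx
  have hx' : Algebra.Extension.Cotangent.map f x.1 = 0 := congrArg Subtype.val hx
  obtain ⟨y, hy⟩ := Algebra.Extension.Cotangent.mk_surjective x.1
  refine Subtype.ext ?_
  rw [← hy] at hx'
  show x.1 = 0
  rw [← hy, Algebra.Extension.Cotangent.mk_eq_zero_iff]
  have hfy : f.toAlgHom y.1 ∈ Q.ker ^ 2 := by
    have h2 : Algebra.Extension.Cotangent.map f (Algebra.Extension.Cotangent.mk y) = Algebra.Extension.Cotangent.mk ⟨f.toAlgHom y.1, by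
      simpa using RingHom.congr_arg (algebraMap K K) y.2⟩ := Algebra.Extension.Cotangent.map_mk f y
    rw [h2] at hx'
    exact (Algebra.Extension.Cotangent.mk_eq_zero_iff _).mp hx'
  -- the square-zero extension of the residue field
  let E := P.Ring ⧸ P.ker ^ 2
  let κ : E →ₐ[A] K := Ideal.Quotient.liftₐ (P.ker ^ 2) (IsScalarTower.toAlgHom A P.Ring K)
    fun a ha => (Ideal.pow_le_self two_ne_zero ha : a ∈ P.ker)
  have hκ : Function.Surjective κ := fun k =>
    ⟨Ideal.Quotient.mk _ (P.σ k), P.algebraMap_σ k⟩
  have hJ : RingHom.ker κ ^ 2 = ⊥ := by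
    have h1 : RingHom.ker κ = P.ker.map (Ideal.Quotient.mk (P.ker ^ 2)) := by
      ext e
      obtain ⟨e, rfl⟩ := Ideal.Quotient.mk_surjective e
      rw [Ideal.mem_map_iff_of_surjective _ Ideal.Quotient.mk_surjective]
      refine ⟨fun he => ⟨e, he, rfl⟩, fun ⟨e', he', hee⟩ => ?_⟩
      show algebraMap P.Ring K e = 0
      have h := Ideal.pow_le_self two_ne_zero (Ideal.Quotient.eq.mp hee) (n := 2) (I := P.ker)
      change algebraMap P.Ring K (e' - e) = 0 at h
      rw [map_sub, show algebraMap P.Ring K e' = 0 from he', zero_sub, neg_eq_zero] at h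
      exact h
    rw [h1, ← Ideal.map_pow, Ideal.map_quotient_self]
  let eK := Ideal.quotientKerAlgEquivOfSurjective hκ
  let ψ : B →ₐ[A] E ⧸ RingHom.ker κ := eK.symm.toAlgHom.comp (IsScalarTower.toAlgHom A B K)
  obtain ⟨χ, hχ⟩ := hfs E (RingHom.ker κ) hJ ψ ⟨1, fun b hb => by
    rw [pow_one] at hb
    show eK.symm (algebraMap B K b) = 0
    rw [IsLocalRing.ResidueField.algebraMap_eq, IsLocalRing.residue_eq_zero_iff _ |>.2 hb, map_zero]⟩
  let g : Q.Ring →+* E :=
    MvPolynomial.eval₂Hom χ.toRingHom fun s : K => Ideal.Quotient.mk (P.ker ^ 2) (MvPolynomial.X s)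
  have hg : g.comp f.toAlgHom.toRingHom = Ideal.Quotient.mk (P.ker ^ 2) := by
    refine MvPolynomial.ringHom_ext (fun a => ?_) fun s => ?_
    · show g (f.toAlgHom (algebraMap A P.Ring a)) = _
      rw [AlgHom.commutes]
      show MvPolynomial.eval₂Hom χ.toRingHom _ (MvPolynomial.C (algebraMap A B a)) = _
      rw [MvPolynomial.eval₂Hom_C]
      exact χ.commutes a
    · show g (f.toAlgHom (MvPolynomial.X s)) = _
      rw [show f.toAlgHom (MvPolynomial.X s) = (MvPolynomial.X s : Q.Ring) from MvPolynomial.aeval_X _ s]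
      exact MvPolynomial.eval₂Hom_X' _ _ s
  have hker : ∀ q : Q.Ring, κ (g q) = algebraMap Q.Ring K q := RingHom.congr_fun
    (show κ.toRingHom.comp g = algebraMap Q.Ring K by
      refine MvPolynomial.ringHom_ext (fun b => ?_) fun s => ?_
      · show κ (MvPolynomial.eval₂Hom χ.toRingHom _ (MvPolynomial.C b)) = _
        rw [MvPolynomial.eval₂Hom_C]
        have h := congrArg eK (AlgHom.congr_fun hχ b)
        show κ (χ b) = _
        refine h.trans ((eK.apply_symm_apply _).trans ?_)
        exact (MvPolynomial.aeval_C (R := B) (fun s : K => s) b).symm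
      · show κ (MvPolynomial.eval₂Hom χ.toRingHom _ (MvPolynomial.X s)) = _
        rw [MvPolynomial.eval₂Hom_X']
        exact (MvPolynomial.aeval_X (R := A) (fun s : K => s) s).trans
          (MvPolynomial.aeval_X (R := B) (fun s : K => s) s).symm)
  have hle : (Q.ker ^ 2).map g ≤ ⊥ := by
    rw [Ideal.map_pow, ← hJ]
    refine Ideal.pow_right_mono (Ideal.map_le_iff_le_comap.2 fun q hq => ?_) 2
    show κ (g q) = 0
    rw [hker]
    exact hq
  have h0 : g (f.toAlgHom y.1) = 0 := hle (Ideal.mem_map_of_mem g hfy)
  exact Ideal.Quotient.eq_zero_iff_mem.1 ((RingHom.congr_fun hg y.1).symm.trans h0)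

end Groth.Agent.S9282
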