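import Groth.Statements.S9283
import Mathlib.RingTheory.Noetherian.Basic
import Mathlib.RingTheory.LocalRing.MaximalIdeal.Basic
import Mathlib.RingTheory.Finiteness.Ideal

set_option autoImplicit false
universe u
open CAlg

namespace Groth.Agent.S9283

/-- Let R be an auto-associated ring, that is, a local ring whose maximal ideal is weakly associated to
R: some nonzero x ∈ R is killed by a power of every element of the maximal ideal. Then every proper
finitely generated ideal of R has a nonzero annihilator. -/
theorem result (R : Type u) [CommRing R] [IsLocalRing R]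
    (h : ∃ x : R, x ≠ 0 ∧ ∀ f ∈ IsLocalRing.maximalIdeal R, ∃ n : ℕ, f ^ n * x = 0)
    (I : Ideal R) (hI : I.FG) (hI' : I ≠ ⊤) : I.annihilator ≠ ⊥ := by
  classical
  obtain ⟨x, hx0, hx⟩ := h
  have hle : I ≤ IsLocalRing.maximalIdeal R := IsLocalRing.le_maximalIdeal hI'
  let A : Ideal R := (Submodule.span R {x}).annihilator
  have hrad : I ≤ A.radical := fun f hf => by
    obtain ⟨n, hn⟩ := hx f (hle hf)
    exact ⟨n, (Submodule.mem_annihilator_span_singleton x _).2 hn⟩
  have hex := Ideal.exists_pow_le_of_le_radical_of_fg hrad hI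
  obtain ⟨j, hj⟩ : ∃ j, Nat.find hex = j + 1 := by
    refine Nat.exists_eq_succ_of_ne_zero fun h0 => hx0 ?_
    have h1 := Nat.find_spec hex
    rw [h0, pow_zero, Ideal.one_eq_top] at h1
    simpa using! (Submodule.mem_annihilator_span_singleton x 1).1 (h1 Submodule.mem_top)
  obtain ⟨y, hy, hyA⟩ := SetLike.not_le_iff_exists.1 (Nat.find_min hex (by omega : j < Nat.find hex))
  intro hbot
  have hyx : y * x ∈ I.annihilator := by
    rw [Submodule.mem_annihilator]
    intro i hi
    have h1 := Nat.find_spec hex
    rw [hj, pow_succ] at h1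
    have h2 := (Submodule.mem_annihilator_span_singleton x (y * i)).1 (h1 (Ideal.mul_mem_mul hy hi))
    rw [smul_eq_mul] at h2 ⊢
    rw [mul_assoc, mul_comm x i, ← mul_assoc]
    exact h2
  rw [hbot, Ideal.mem_bot] at hyx
  exact hyA ((Submodule.mem_annihilator_span_singleton x y).2 hyx)

end Groth.Agent.S9283
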