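import Groth.Statements.S9284
import Groth.Agent.CAlgMisc.PInj
import Mathlib.LinearAlgebra.TensorProduct.Tower
import Mathlib.LinearAlgebra.Finsupp.LinearCombination
import Mathlib.Algebra.Module.Projective

set_option autoImplicit false
universe u
open CAlgX

namespace Groth.Agent.S9284

theorem rTensor_injective_free {R : Type u} [CommRing R]
    (hP : ∀ I : Ideal R, I.FG → I ≠ ⊤ → I.annihilator ≠ ⊥) {ι : Type u}
    {M : Type u} [AddCommGroup M] [Module R M] [Module.Projective R M]
    (w : (ι →₀ R) →ₗ[R] M) (hw : Function.Injective w) (Q : Type u) [AddCommGroup Q] [Module R Q] :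
    Function.Injective (w.rTensor Q) := by
  classical
  let π : (s : Finset ι) → (ι →₀ R) →ₗ[R] ({i // i ∈ s} → R) :=
    fun s => LinearMap.pi fun i => Finsupp.lapply i.1
  let e : (s : Finset ι) → ({i // i ∈ s} → R) →ₗ[R] (ι →₀ R) :=
    fun s => ∑ i : {i // i ∈ s}, (Finsupp.lsingle i.1).comp (LinearMap.proj i)
  have he : ∀ s g i, e s g i = if h : i ∈ s then g ⟨i, h⟩ else 0 := by
    intro s g i
    simp only [e, LinearMap.coe_sum, Finset.sum_apply, LinearMap.comp_apply, LinearMap.proj_apply,
      Finsupp.lsingle_apply, Finsupp.coe_finset_sum, Finsupp.single_apply]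
    by_cases h : i ∈ s
    · rw [dif_pos h, Finset.sum_eq_single ⟨i, h⟩ (fun b _ hb => if_neg fun hbi => hb (Subtype.ext hbi))
        (fun h' => absurd (Finset.mem_univ _) h'), if_pos rfl]
    · rw [dif_neg h, Finset.sum_eq_zero fun b _ => if_neg fun hbi => h (by rw [← hbi]; exact b.2)]
  have hπe : ∀ s, π s ∘ₗ e s = LinearMap.id := fun s => LinearMap.ext fun g => funext fun i => by
    change e s g i.1 = g i
    rw [he, dif_pos i.2]
  have hmono : ∀ s t, s ⊆ t → (e t ∘ₗ π t) ∘ₗ (e s ∘ₗ π s) = e s ∘ₗ π s := fun s t hst =>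
    LinearMap.ext fun x => Finsupp.ext fun i => by
      change e t (fun j => e s (π s x) j.1) i = e s (π s x) i
      rw [he]
      by_cases h : i ∈ t
      · rw [dif_pos h]
      · rw [dif_neg h, he, dif_neg fun h' => h (hst h')]
  have hfix : ∀ z : TensorProduct R (ι →₀ R) Q, ∃ s, (e s ∘ₗ π s).rTensor Q z = z := by
    intro z
    induction z using TensorProduct.induction_on with
    | zero => exact ⟨∅, map_zero _⟩
    | tmul x q =>
      refine ⟨x.support, ?_⟩
      rw [LinearMap.rTensor_tmul]
      congr 1
      ext i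
      change e x.support (fun j => x j.1) i = x i
      rw [he]
      by_cases h : i ∈ x.support
      · rw [dif_pos h]
      · rw [dif_neg h, Finsupp.notMem_support_iff.1 h]
    | add x y hx hy =>
      obtain ⟨s, hs⟩ := hx
      obtain ⟨t, ht⟩ := hy
      refine ⟨s ∪ t, ?_⟩
      rw [map_add]
      congr 1
      · rw [← hs, ← LinearMap.rTensor_comp_apply, hmono _ _ Finset.subset_union_left]
      · rw [← ht, ← LinearMap.rTensor_comp_apply, hmono _ _ Finset.subset_union_right]
  refine (injective_iff_map_eq_zero _).2 fun z hz => ?_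
  obtain ⟨s, hs⟩ := hfix z
  have hinj : Function.Injective (w ∘ₗ e s) :=
    hw.comp (Function.LeftInverse.injective (g := π s) fun g => LinearMap.congr_fun (hπe s) g)
  obtain ⟨L, hL⟩ := Groth.Agent.CAlgMisc.exists_leftInverse hP (w ∘ₗ e s) hinj
  rw [← hs, LinearMap.rTensor_comp_apply]
  have h2 : (π s).rTensor Q z = (L.rTensor Q) ((w ∘ₗ e s).rTensor Q ((π s).rTensor Q z)) := by
    rw [← (LinearMap.rTensor_comp_apply Q L (w ∘ₗ e s) ((π s).rTensor Q z)), hL, LinearMap.rTensor_id_apply]
  have h3 : (w ∘ₗ e s).rTensor Q ((π s).rTensor Q z) = 0 := by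
    rw [← LinearMap.rTensor_comp_apply, LinearMap.comp_assoc, LinearMap.rTensor_comp_apply, hs]
    exact hz
  rw [h2, h3, map_zero, map_zero]

/-- Let R be a ring such that every proper finitely generated ideal of R has a nonzero annihilator, and
let u : N → M be an R-linear map between projective R-modules. Then u stays injective after
tensoring with every R-module exactly when u is injective. -/
theorem result (R : Type u) [CommRing R]
    (hP : (∀ I : Ideal R, I.FG → I ≠ ⊤ → I.annihilator ≠ ⊥))
    (N M : Type u) [AddCommGroup N] [Module R N] [Module.Projective R N] [AddCommGroup M]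
    [Module R M] [Module.Projective R M] (u : N →ₗ[R] M) :
    CAlgX.UniversallyInjective R u ↔ Function.Injective u := by
  constructor
  · intro h
    have hcomp : ∀ x, u.rTensor R ((TensorProduct.rid R N).symm x) =
        (TensorProduct.rid R M).symm (u x) := fun x => by simp
    intro a b hab
    exact (TensorProduct.rid R N).symm.injective (h R (by rw [hcomp, hcomp, hab]))
  · intro hu Q _ _
    obtain ⟨i, hi⟩ := (Module.projective_def').1 ‹Module.Projective R N›
    let p := Finsupp.linearCombination R (id : N → N)
    have hpi : ∀ x, p (i x) = x := LinearMap.congr_fun hi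
    let w : (N →₀ R) →ₗ[R] M × (N →₀ R) := (u ∘ₗ p).prod (LinearMap.id - i ∘ₗ p)
    have hw : Function.Injective w := by
      rw [← LinearMap.ker_eq_bot, Submodule.eq_bot_iff]
      intro x hx
      replace hx : u (p x) = 0 ∧ x - i (p x) = 0 := Prod.ext_iff.1 hx
      have h0 : p x = 0 := hu (hx.1.trans (map_zero u).symm)
      simpa [h0] using hx.2
    have heq : w ∘ₗ i = (LinearMap.inl R M (N →₀ R)) ∘ₗ u := LinearMap.ext fun x =>
      Prod.ext (by simp [w, hpi]) (by simp [w, hpi])
    have hiinj : Function.Injective (i.rTensor Q) := by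
      intro a b hab
      have := congrArg (p.rTensor Q) hab
      rw [← LinearMap.rTensor_comp_apply, ← LinearMap.rTensor_comp_apply, hi,
        LinearMap.rTensor_id_apply, LinearMap.rTensor_id_apply] at this
      exact this
    have hh := (rTensor_injective_free hP w hw Q).comp hiinj
    intro a b hab
    refine hh ?_
    simp only [Function.comp_apply, ← LinearMap.rTensor_comp_apply, heq]
    rw [LinearMap.rTensor_comp_apply, LinearMap.rTensor_comp_apply, hab]

end Groth.Agent.S9284
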