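import Groth.Statements.S9285
import Mathlib.LinearAlgebra.Pi
import Mathlib.RingTheory.Finiteness.Ideal
import Mathlib.Algebra.Module.Submodule.Range
import Mathlib.LinearAlgebra.StdBasis

set_option autoImplicit false
universe u
open CAlg

namespace Groth.Agent.S9285

/-- A ring R has the property that every proper finitely generated ideal has a nonzero annihilator if
and only if every injective linear map R → R^n admits a retraction. -/
theorem result (R : Type u) [CommRing R] :
    (∀ I : Ideal R, I.FG → I ≠ ⊤ → I.annihilator ≠ ⊥) ↔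
      ∀ (n : ℕ) (u : R →ₗ[R] (Fin n → R)), Function.Injective u →
        ∃ v : (Fin n → R) →ₗ[R] R, v.comp u = LinearMap.id := by
  classical
  constructor
  · intro h n u hu
    let f := u 1
    have hufl : ∀ r, u r = r • f := fun r => by rw [← map_smul, smul_eq_mul, mul_one]
    by_cases htop : Ideal.span (Set.range f) = ⊤
    · obtain ⟨c, hc⟩ := (Submodule.mem_span_range_iff_exists_fun R).1
        (show (1 : R) ∈ Submodule.span R (Set.range f) by rw [show Submodule.span R (Set.range f) = ⊤ from htop]; trivial)
      refine ⟨∑ i, c i • LinearMap.proj i, LinearMap.ext fun r => ?_⟩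
      rw [LinearMap.comp_apply, hufl, map_smul, LinearMap.sum_apply]
      simp only [LinearMap.smul_apply, LinearMap.proj_apply, LinearMap.id_apply, smul_eq_mul] at hc ⊢
      rw [hc, mul_one]
    · exfalso
      have hfg : (Ideal.span (Set.range f)).FG := Submodule.fg_span (Set.finite_range f)
      obtain ⟨a, ha, ha0⟩ := (Submodule.ne_bot_iff _).1 (h _ hfg htop)
      refine ha0 (hu ?_)
      rw [map_zero, hufl]
      funext i
      exact Submodule.mem_annihilator.1 ha (f i) (Ideal.subset_span ⟨i, rfl⟩)
  · intro h I hI hne hbot
    obtain ⟨n, f, hf⟩ := Submodule.fg_iff_exists_fin_generating_family.1 hI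
    let u : R →ₗ[R] (Fin n → R) := LinearMap.toSpanSingleton R _ f
    have hu : Function.Injective u := by
      refine (injective_iff_map_eq_zero u).2 fun r hr => ?_
      rw [← Ideal.mem_bot, ← hbot, ← hf, Submodule.mem_annihilator_span]
      rintro ⟨_, i, rfl⟩
      exact congrFun hr i
    obtain ⟨v, hv⟩ := h n u hu
    apply hne
    rw [Ideal.eq_top_iff_one, ← hf]
    have h1 : v f = 1 := by simpa [u] using LinearMap.congr_fun hv 1
    have h2 : v f = ∑ i, v (f i • Pi.single i (1 : R)) := by
      conv_lhs => rw [pi_eq_sum_univ' f]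
      rw [map_sum]
    rw [← h1, h2]
    refine Submodule.sum_mem _ fun i _ => ?_
    rw [map_smul]
    exact Ideal.mul_mem_right _ _ (Submodule.subset_span ⟨i, rfl⟩)

end Groth.Agent.S9285
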