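import Groth.Statements.S9288
import Groth.Agent.S2036
import Groth.Agent.EGA41Adic.Field
import Groth.Agent.FSField.Basic
import Groth.Agent.Popescu.Scale
import Groth.Agent.Popescu.Model
import Groth.Agent.Kunz.Basic
import Groth.Agent.RegLoc.Order
import Groth.Agent.EGA41Nagata.Cotangent

set_option autoImplicit false
universe u
open CAlg

namespace Groth.Agent.S9288

open IsLocalRing MvPolynomial

/-- The chain rule for a derivation-like map on a polynomial ring. -/
theorem chain_rule {k V : Type u} [Field k] [AddCommGroup V] {K : Type u} [CommRing K] [Module K V] {m : ℕ}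
    (ev : MvPolynomial (Fin m) k →+* K) (Δ : MvPolynomial (Fin m) k → V)
    (hadd : ∀ f g, Δ (f + g) = Δ f + Δ g) (hmul : ∀ f g, Δ (f * g) = ev f • Δ g + ev g • Δ f)
    (hC : ∀ c, Δ (C c) = 0) (f : MvPolynomial (Fin m) k) :
    Δ f = ∑ i, ev (pderiv i f) • Δ (X i) := by
  classical
  induction f using MvPolynomial.induction_on with
  | C c => simp [hC]
  | add f g hf hg => simp [hadd, hf, hg, add_smul, Finset.sum_add_distrib]
  | mul_X f j hf =>
    rw [hmul]
    simp only [pderiv_mul, pderiv_X, map_add, add_smul, map_mul, Finset.sum_add_distrib, mul_smul]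
    rw [hf, Finset.smul_sum, add_comm]
    congr 1
    · exact Finset.sum_congr rfl fun i _ => smul_comm _ _ _
    · rw [Finset.sum_eq_single j] <;> simp +contextual [Pi.single_apply, eq_comm]

/-- A derivation over the prime field dual to a regular system of parameters. -/
theorem exists_dual_derivation (p : ℕ) [Fact p.Prime] {k R : Type u} [Field k] [CharP k p] [CommRing R]
    [IsRegularLocalRing R] [Algebra k R] {K : Type u} [Field K] (ρ : R →+* K) (hρ : ∀ r ∈ maximalIdeal R, ρ r = 0)
    {d : ℕ} (x : Fin d → R) (hx : Ideal.span (Set.range x) = maximalIdeal R) (hd : ringKrullDim R = d) (j : Fin d) :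
    ∃ D : R → K, (∀ a b, D (a + b) = D a + D b) ∧ (∀ a b, D (a * b) = ρ a * D b + ρ b * D a) ∧
      ∀ i, D (x i) = if i = j then 1 else 0 := by
  classical
  let T := R ⧸ maximalIdeal R ^ 2
  let pr : R →+* T := Ideal.Quotient.mk _
  let g : T →+* ResidueField R := Ideal.Quotient.lift _ (residue R) fun a ha =>
    (residue_eq_zero_iff a).2 (Ideal.pow_le_self two_ne_zero ha)
  letI : Algebra (ZMod p) T :=
    ((pr.comp (algebraMap k R)).comp (ZMod.castHom dvd_rfl k)).toAlgebra
  letI : Algebra (ZMod p) (ResidueField R) :=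
    (((residue R).comp (algebraMap k R)).comp (ZMod.castHom dvd_rfl k)).toAlgebra
  haveI : Algebra.FormallySmooth (ZMod p) (ResidueField R) :=
    Groth.Agent.FSField.formallySmooth_of_perfectField _ _
  let ga : T →ₐ[ZMod p] ResidueField R :=
    { g with commutes' := fun c => rfl }
  have hg : Function.Surjective ga := fun z => by
    obtain ⟨a, rfl⟩ := residue_surjective z
    exact ⟨pr a, rfl⟩
  have hker : (RingHom.ker (ga : T →+* ResidueField R)) ^ 2 = ⊥ := by
    have h1 : RingHom.ker (ga : T →+* ResidueField R) ≤ (maximalIdeal R).map pr := fun z hz => by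
      obtain ⟨a, rfl⟩ := Ideal.Quotient.mk_surjective z
      exact Ideal.mem_map_of_mem _ ((residue_eq_zero_iff a).1 hz)
    refine le_bot_iff.1 ((Ideal.pow_right_mono h1 2).trans ?_)
    rw [← Ideal.map_pow, Ideal.map_quotient_self]
  let σ : ResidueField R →ₐ[ZMod p] T := Algebra.FormallySmooth.liftOfSurjective (AlgHom.id _ _) ga hg ⟨2, hker⟩
  have hσ : ∀ z, g (σ z) = z :=
    Algebra.FormallySmooth.liftOfSurjective_apply (AlgHom.id _ _) ga hg ⟨2, hker⟩
  have hex : ∀ r, ∃ c : Fin d → R, pr r - σ (residue R r) = pr (∑ i, c i * x i) := fun r => by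
    obtain ⟨a, ha⟩ := Ideal.Quotient.mk_surjective (pr r - σ (residue R r))
    have ha' : a ∈ maximalIdeal R := (residue_eq_zero_iff a).1 (by
      show g (pr a) = 0
      rw [show pr a = pr r - σ (residue R r) from ha, map_sub, hσ]
      exact sub_self _)
    rw [← hx] at ha'
    obtain ⟨c, rfl⟩ := (Submodule.mem_span_range_iff_exists_fun R).1 ha'
    exact ⟨c, ha.symm⟩
  choose c hc using hex
  have huniq : ∀ r (c' : Fin d → R), pr r - σ (residue R r) = pr (∑ i, c' i * x i) → ρ (c r j) = ρ (c' j) := by
    intro r c' h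
    rw [hc] at h
    have h2 : ∑ i, (c r i - c' i) * x i ∈ maximalIdeal R ^ 2 := by
      rw [← Ideal.Quotient.eq_zero_iff_mem]
      simp only [sub_mul, Finset.sum_sub_distrib, map_sub]
      exact sub_eq_zero.2 h
    have := hρ _ (Groth.Agent.Popescu.indep_of_rsop x hx hd _ h2 j)
    rwa [map_sub, sub_eq_zero] at this
  refine ⟨fun r => ρ (c r j), fun a b => ?_, fun a b => ?_, fun i => ?_⟩ <;> beta_reduce
  · rw [huniq (a + b) (c a + c b) ?_, Pi.add_apply, map_add]
    simp only [Pi.add_apply, add_mul, Finset.sum_add_distrib, map_add, ← hc]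
    ring
  · rw [huniq (a * b) (fun i => a * c b i + b * c a i) ?_, map_add, map_mul, map_mul]
    simp only [add_mul, Finset.sum_add_distrib, map_add, mul_assoc, ← Finset.mul_sum, map_mul, ← hc]
    have hz : (pr a - σ (residue R a)) * (pr b - σ (residue R b)) = 0 := by
      rw [hc, hc, ← map_mul, Ideal.Quotient.eq_zero_iff_mem, sq]
      exact Ideal.mul_mem_mul (hx ▸ sum_mem fun i _ => Ideal.mul_mem_left _ _ (Ideal.subset_span ⟨i, rfl⟩))
        (hx ▸ sum_mem fun i _ => Ideal.mul_mem_left _ _ (Ideal.subset_span ⟨i, rfl⟩))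
    linear_combination -hz
  · have hxi : residue R (x i) = 0 := (residue_eq_zero_iff _).2 (hx ▸ Ideal.subset_span ⟨i, rfl⟩)
    rw [huniq (x i) (Pi.single i 1) ?_]
    · simp [Pi.single_apply, eq_comm, apply_ite ρ]
    · rw [hxi, map_zero, sub_zero]
      simp [Pi.single_apply, ite_mul]

/-- A derivation of `k` into the residue field extends to a formally smooth local algebra. -/
theorem exists_extend {k A : Type u} [Field k] [CommRing A] [IsLocalRing A] [Algebra k A]
    (h : CAlgX.IsAdicFormallySmooth k A (maximalIdeal A)) (D : k → ResidueField A)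
    (hadd : ∀ a b, D (a + b) = D a + D b)
    (hmul : ∀ a b, D (a * b) = residue A (algebraMap k A a) * D b + residue A (algebraMap k A b) * D a) :
    ∃ E : A → ResidueField A, (∀ a b, E (a + b) = E a + E b) ∧
      (∀ a b, E (a * b) = residue A a * E b + residue A b * E a) ∧ ∀ c, E (algebraMap k A c) = D c := by
  let e : k →+* (TrivSqZeroExt (ResidueField A) (ResidueField A)) :=
    { toFun := fun c => TrivSqZeroExt.inl (residue A (algebraMap k A c)) + TrivSqZeroExt.inr (D c)
      map_one' := by
        have h1 : D 1 = 0 := by simpa using hmul 1 1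
        simp [h1]
      map_mul' := fun a b => by
        refine TrivSqZeroExt.ext ?_ ?_
        · simp only [TrivSqZeroExt.fst_add, TrivSqZeroExt.fst_mul, TrivSqZeroExt.fst_inl, TrivSqZeroExt.fst_inr, TrivSqZeroExt.snd_add, TrivSqZeroExt.snd_mul, TrivSqZeroExt.snd_inl, TrivSqZeroExt.snd_inr, smul_eq_mul, MulOpposite.smul_eq_mul_unop, MulOpposite.unop_op, map_mul, add_zero]
        · simp only [TrivSqZeroExt.fst_add, TrivSqZeroExt.fst_mul, TrivSqZeroExt.fst_inl, TrivSqZeroExt.fst_inr, TrivSqZeroExt.snd_add, TrivSqZeroExt.snd_mul, TrivSqZeroExt.snd_inl, TrivSqZeroExt.snd_inr, smul_eq_mul, MulOpposite.smul_eq_mul_unop, MulOpposite.unop_op, map_mul, hmul]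
          ring
      map_zero' := by
        have h0 : D 0 = 0 := by simpa using hadd 0 0
        simp [h0]
      map_add' := fun a b => by
        refine TrivSqZeroExt.ext ?_ ?_
        · simp only [TrivSqZeroExt.fst_add, TrivSqZeroExt.fst_mul, TrivSqZeroExt.fst_inl, TrivSqZeroExt.fst_inr, TrivSqZeroExt.snd_add, TrivSqZeroExt.snd_mul, TrivSqZeroExt.snd_inl, TrivSqZeroExt.snd_inr, smul_eq_mul, MulOpposite.smul_eq_mul_unop, MulOpposite.unop_op, map_add, add_zero]
        · simp only [TrivSqZeroExt.fst_add, TrivSqZeroExt.fst_mul, TrivSqZeroExt.fst_inl, TrivSqZeroExt.fst_inr, TrivSqZeroExt.snd_add, TrivSqZeroExt.snd_mul, TrivSqZeroExt.snd_inl, TrivSqZeroExt.snd_inr, smul_eq_mul, MulOpposite.smul_eq_mul_unop, MulOpposite.unop_op, hadd, add_zero, zero_add] }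
  letI : Algebra k (TrivSqZeroExt (ResidueField A) (ResidueField A)) := e.toAlgebra
  let fs : (TrivSqZeroExt (ResidueField A) (ResidueField A)) →+* (ResidueField A) := (TrivSqZeroExt.fstHom (ResidueField A) (ResidueField A) (ResidueField A)).toRingHom
  let J : Ideal (TrivSqZeroExt (ResidueField A) (ResidueField A)) := RingHom.ker fs
  have hJ : J ^ 2 = ⊥ := by
    rw [sq, eq_bot_iff, Ideal.mul_le]
    intro a ha b hb
    have ha' : a.fst = 0 := ha
    have hb' : b.fst = 0 := hb
    refine Ideal.mem_bot.2 (TrivSqZeroExt.ext ?_ ?_)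
    · simp only [TrivSqZeroExt.fst_add, TrivSqZeroExt.fst_mul, TrivSqZeroExt.fst_inl, TrivSqZeroExt.fst_inr, TrivSqZeroExt.snd_add, TrivSqZeroExt.snd_mul, TrivSqZeroExt.snd_inl, TrivSqZeroExt.snd_inr, smul_eq_mul, MulOpposite.smul_eq_mul_unop, MulOpposite.unop_op, ha', zero_mul, TrivSqZeroExt.fst_zero]
    · simp only [TrivSqZeroExt.fst_add, TrivSqZeroExt.fst_mul, TrivSqZeroExt.fst_inl, TrivSqZeroExt.fst_inr, TrivSqZeroExt.snd_add, TrivSqZeroExt.snd_mul, TrivSqZeroExt.snd_inl, TrivSqZeroExt.snd_inr, smul_eq_mul, MulOpposite.smul_eq_mul_unop, MulOpposite.unop_op, ha', hb', zero_mul, mul_zero, add_zero, TrivSqZeroExt.snd_zero]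
  let ψ : A →ₐ[k] (TrivSqZeroExt (ResidueField A) (ResidueField A)) ⧸ J :=
    { ((Ideal.Quotient.mk J).comp (TrivSqZeroExt.inlHom (ResidueField A) (ResidueField A))).comp (residue A) with
      commutes' := fun c => (Ideal.Quotient.eq (I := J)).2 (by
        show (TrivSqZeroExt.inl (residue A (algebraMap k A c)) - e c : (TrivSqZeroExt (ResidueField A) (ResidueField A))).fst = 0
        simp only [e, RingHom.coe_mk, MonoidHom.coe_mk, OneHom.coe_mk, TrivSqZeroExt.fst_sub, TrivSqZeroExt.fst_add, TrivSqZeroExt.fst_mul, TrivSqZeroExt.fst_inl, TrivSqZeroExt.fst_inr, TrivSqZeroExt.snd_add, TrivSqZeroExt.snd_mul, TrivSqZeroExt.snd_inl, TrivSqZeroExt.snd_inr, smul_eq_mul, MulOpposite.smul_eq_mul_unop, MulOpposite.unop_op, add_zero, sub_self]) }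
  obtain ⟨χ, hχ⟩ := h (TrivSqZeroExt (ResidueField A) (ResidueField A)) J hJ ψ ⟨1, fun a ha => by
    rw [pow_one] at ha
    show Ideal.Quotient.mk J (TrivSqZeroExt.inlHom (ResidueField A) (ResidueField A) (residue A a)) = 0
    rw [(residue_eq_zero_iff a).2 ha, map_zero, map_zero]⟩
  have hfst : ∀ a, (χ a).fst = residue A a := fun a => by
    have h1 := Ideal.Quotient.eq.1 (AlgHom.congr_fun hχ a)
    have h2 : (χ a - TrivSqZeroExt.inlHom (ResidueField A) (ResidueField A) (residue A a)).fst = 0 := h1
    simpa [sub_eq_zero] using h2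
  refine ⟨fun a => (χ a).snd, fun a b => by simp, fun a b => ?_, fun c => ?_⟩
  · simp only [map_mul, TrivSqZeroExt.fst_add, TrivSqZeroExt.fst_mul, TrivSqZeroExt.fst_inl, TrivSqZeroExt.fst_inr, TrivSqZeroExt.snd_add, TrivSqZeroExt.snd_mul, TrivSqZeroExt.snd_inl, TrivSqZeroExt.snd_inr, smul_eq_mul, MulOpposite.smul_eq_mul_unop, MulOpposite.unop_op, hfst]
    ring
  · show (χ (algebraMap k A c)).snd = D c
    rw [χ.commutes]
    show (e c).snd = D c
    simp only [e, RingHom.coe_mk, MonoidHom.coe_mk, OneHom.coe_mk, TrivSqZeroExt.fst_add, TrivSqZeroExt.fst_mul, TrivSqZeroExt.fst_inl, TrivSqZeroExt.fst_inr, TrivSqZeroExt.snd_add, TrivSqZeroExt.snd_mul, TrivSqZeroExt.snd_inl, TrivSqZeroExt.snd_inr, smul_eq_mul, MulOpposite.smul_eq_mul_unop, MulOpposite.unop_op, zero_add]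

/-- Let k be a field of positive characteristic p and (A, m, (ResidueField A)) a Noetherian local k-algebra which is
geometrically regular over k. Let F ⊆ (ResidueField A) be a subfield containing k, finitely generated over k, and φ
: k[y_1, ..., y_m] → A a k-algebra map such that each y_i maps into F (modulo m) and such that the
differentials of the images of y_1, ..., y_m form a basis of Ω_{F/k}. Let 𝔭 be the inverse image of
m in k[y_1, ..., y_m]. Then A is flat over k[y_1, ..., y_m] (equivalently over its localization at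
𝔭, since A is local) and A/𝔭A is a regular local ring. -/
theorem result (p : ℕ)
    [Fact p.Prime] (k : Type u) [Field k] [CharP k p] (A : Type u) [CommRing A] [IsLocalRing A]
    [IsNoetherianRing A] [Algebra k A] (hA : CAlg.IsGeometricallyRegular k A)
    (F : IntermediateField k (IsLocalRing.ResidueField A)) (hF : F.FG) (m : ℕ)
    (φ : MvPolynomial (Fin m) k →ₐ[k] A)
    (hφ : ∀ i : Fin m, IsLocalRing.residue A (φ (MvPolynomial.X i)) ∈ F)
    (hb : LinearIndependent F
        (fun i : Fin m => KaehlerDifferential.D k F ⟨IsLocalRing.residue A (φ (MvPolynomial.X i)), hφ i⟩) ∧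
      Submodule.span F (Set.range
        (fun i : Fin m => KaehlerDifferential.D k F ⟨IsLocalRing.residue A (φ (MvPolynomial.X i)), hφ i⟩)) = ⊤) :
    letI := φ.toRingHom.toAlgebra
    Module.Flat (MvPolynomial (Fin m) k) A ∧
      IsRegularLocalRing (A ⧸ Ideal.map φ.toRingHom
        (Ideal.comap φ.toRingHom (IsLocalRing.maximalIdeal A))) := by
  classical
  letI := φ.toRingHom.toAlgebra
  let P := MvPolynomial (Fin m) k
  let K := ResidueField A
  have hfs : CAlgX.IsAdicFormallySmooth k A (maximalIdeal A) := (Groth.Agent.S2036.result p).1 hA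
  haveI : IsRegularLocalRing A := Groth.Agent.EGA41Adic.isRegularLocalRing_of_isAdicFormallySmooth hfs
  let q : Ideal P := Ideal.comap φ.toRingHom (maximalIdeal A)
  haveI : q.IsPrime := Ideal.IsPrime.comap _
  let ev : P →+* K := (residue A).comp φ.toRingHom
  have hq : ∀ f, f ∈ q ↔ ev f = 0 := fun f => (residue_eq_zero_iff _).symm
  -- partial derivatives of elements of `q` lie in `q`
  have hder : ∀ f ∈ q, ∀ i, pderiv i f ∈ q := by
    let yF : Fin m → F := fun i => ⟨residue A (φ (MvPolynomial.X i)), hφ i⟩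
    let evF : P →ₐ[k] F := MvPolynomial.aeval yF
    have hev : ∀ f, (evF f : K) = ev f := fun f => by
      have : (F.val.comp evF : P →ₐ[k] K) = (IsScalarTower.toAlgHom k A K).comp φ := by
        refine MvPolynomial.algHom_ext fun i => ?_
        simp [evF, yF]
        rfl
      exact AlgHom.congr_fun this f
    intro f hf i
    have h0 : evF f = 0 := Subtype.ext ((hev f).trans ((hq f).1 hf))
    have h1 := chain_rule (V := Ω[F⁄k]) evF.toRingHom (fun f => KaehlerDifferential.D k F (evF f))
      (fun f g => by simp) (fun f g => by simp) (fun c => by rw [show evF (MvPolynomial.C c) = algebraMap k F c from evF.commutes c, Derivation.map_algebraMap]) f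
    rw [h0, map_zero] at h1
    have hX : ∀ i, evF (MvPolynomial.X i) = yF i := fun i => MvPolynomial.aeval_X _ _
    simp only [hX] at h1
    have h2 := Fintype.linearIndependent_iff.1 hb.1 _ h1.symm i
    rw [hq, ← hev]
    exact congrArg Subtype.val h2
  -- the localisation
  let R := Localization.AtPrime q
  let ψ : R →+* A := IsLocalization.lift (M := q.primeCompl) (g := φ.toRingHom) fun s => by
    by_contra hu
    exact s.2 hu
  have hψ : ∀ f : P, ψ (algebraMap P R f) = φ f := fun f => IsLocalization.lift_eq _ _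
  haveI : IsLocalHom ψ := ⟨fun r hr => by
    obtain ⟨⟨f, s⟩, rfl⟩ := IsLocalization.mk'_surjective q.primeCompl r
    refine (IsLocalization.AtPrime.isUnit_mk'_iff R q f s).2 fun hf => ?_
    have := hr.mul (RingHom.isUnit_map ψ (IsLocalization.map_units R s))
    rw [← map_mul, IsLocalization.mk'_spec, hψ] at this
    exact hf this⟩
  haveI : IsRegularLocalRing R := IsRegularRing.isRegularLocalRing_localization q
  obtain ⟨d, x, hx, hd⟩ := Groth.Agent.RegLoc.exists_rsop (A := R)
  obtain ⟨a, s, has⟩ : ∃ (a : Fin d → P) (s : Fin d → q.primeCompl), ∀ i,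
      x i * algebraMap P R (s i) = algebraMap P R (a i) := by
    choose as has using fun i => IsLocalization.surj q.primeCompl (x i)
    exact ⟨fun i => (as i).1, fun i => (as i).2, has⟩
  let y : Fin d → R := fun i => algebraMap P R (a i)
  have hy : Ideal.span (Set.range y) = maximalIdeal R := by
    rw [← hx]
    refine le_antisymm (Ideal.span_le.2 ?_) (Ideal.span_le.2 ?_)
    · rintro _ ⟨i, rfl⟩
      show algebraMap P R (a i) ∈ Ideal.span (Set.range x)
      rw [← has i]
      exact Ideal.mul_mem_right _ _ (Ideal.subset_span ⟨i, rfl⟩)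
    · rintro _ ⟨i, rfl⟩
      obtain ⟨u, hu⟩ := IsLocalization.map_units R (s i)
      rw [SetLike.mem_coe, show x i = y i * ↑u⁻¹ from by
        show x i = algebraMap P R (a i) * ↑u⁻¹
        rw [← has i, ← hu, Units.mul_inv_cancel_right]]
      exact Ideal.mul_mem_right _ _ (Ideal.subset_span ⟨i, rfl⟩)
  have haq : ∀ i, a i ∈ q := fun i => (IsLocalization.AtPrime.to_map_mem_maximal_iff R q _).1
    (hy ▸ Ideal.subset_span ⟨i, rfl⟩)
  -- a dual family of derivations on `A`
  let ρ : R →+* K := (residue A).comp ψ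
  have hρ : ∀ r ∈ maximalIdeal R, ρ r = 0 := fun r hr => (residue_eq_zero_iff _).2 (map_nonunit ψ r hr)
  have hdual : ∀ j, ∃ E : A → K, (∀ a b, E (a + b) = E a + E b) ∧
      (∀ a b, E (a * b) = residue A a * E b + residue A b * E a) ∧ ∀ i, E (φ (a i)) = if i = j then 1 else 0 := by
    intro j
    obtain ⟨D, hDa, hDm, hDx⟩ := exists_dual_derivation p (k := k) ρ hρ y hy hd j
    have hρP : ∀ f : P, ρ (algebraMap P R f) = residue A (φ f) := fun f => congrArg _ (hψ f)
    obtain ⟨E, hEa, hEm, hEk⟩ := exists_extend hfs (fun c => D (algebraMap P R (MvPolynomial.C c)))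
      (fun a b => by simp only [map_add, hDa]) (fun a b => by
        simp only [map_mul, hDm, hρP]
        rw [show φ (MvPolynomial.C a) = algebraMap k A a from φ.commutes a,
          show φ (MvPolynomial.C b) = algebraMap k A b from φ.commutes b])
    refine ⟨E, hEa, hEm, fun i => ?_⟩
    have h1 := chain_rule (V := K) ev (fun f => D (algebraMap P R f) - E (φ f))
      (fun f g => by simp only [map_add, hDa, hEa]; ring)
      (fun f g => by
        simp only [map_mul, hDm, hEm, hρP, smul_eq_mul]
        simp only [ev, RingHom.comp_apply, AlgHom.toRingHom_eq_coe, RingHom.coe_coe]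
        ring)
      (fun c => by simp only [show φ (MvPolynomial.C c) = algebraMap k A c from φ.commutes c, hEk, sub_self]) (a i)
    rw [Finset.sum_eq_zero (fun l _ => by rw [(hq _).1 (hder _ (haq i) l), zero_smul]), sub_eq_zero] at h1
    rw [← h1]
    exact hDx i
  -- images of the parameters are independent
  let z : Fin d → A := fun i => φ (a i)
  have hz : ∀ i, z i ∈ maximalIdeal A := fun i => haq i
  have hind : ∀ c : Fin d → A, ∑ i, c i * z i ∈ maximalIdeal A ^ 2 → ∀ i, c i ∈ maximalIdeal A := by
    intro c hc j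
    obtain ⟨E, hEa, hEm, hEx⟩ := hdual j
    let E' : A →+ K := AddMonoidHom.mk' E hEa
    have hsq : E' (∑ i, c i * z i) = 0 := by
      rw [sq] at hc
      refine Submodule.mul_induction_on hc (fun u hu v hv => ?_) fun u v hu hv => by rw [map_add, hu, hv, add_zero]
      show E (u * v) = 0
      rw [hEm, (residue_eq_zero_iff u).2 hu, (residue_eq_zero_iff v).2 hv, zero_mul, zero_mul, add_zero]
    rw [map_sum] at hsq
    have hterm : ∀ i, E' (c i * z i) = if i = j then residue A (c i) else 0 := fun i => by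
      show E (c i * z i) = _
      rw [hEm, hEx, (residue_eq_zero_iff (z i)).2 (hz i)]
      split <;> simp
    simp only [hterm, Finset.sum_ite_eq', Finset.mem_univ, if_true] at hsq
    exact (residue_eq_zero_iff _).1 hsq
  have hlist : (List.ofFn y).map ψ = List.ofFn z := by
    rw [List.map_ofFn]
    exact congrArg List.ofFn (funext fun i => hψ (a i))
  have hspan : Ideal.ofList (List.ofFn y) = maximalIdeal R := by
    rw [← hy]
    exact congrArg Ideal.span (Set.ext fun r => by simp [List.mem_ofFn])
  have hregR := Groth.Agent.Popescu.isWeaklyRegular_of_indep d R y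
    (fun i => hy ▸ Ideal.subset_span ⟨i, rfl⟩) (Groth.Agent.Popescu.indep_of_rsop y hy hd)
  have hψf : ψ.Flat := Groth.Agent.Kunz.flat_of_rsop_map ψ d hd (List.ofFn y) (by simp) hregR hspan (by
    rw [hlist]; exact Groth.Agent.Popescu.isWeaklyRegular_of_indep d A z hz hind)
  have hqA : Ideal.map φ.toRingHom q = Ideal.span (Set.range z) := by
    have h1 : φ.toRingHom = ψ.comp (algebraMap P R) := RingHom.ext fun f => (hψ f).symm
    rw [h1, ← Ideal.map_map, IsLocalization.AtPrime.map_eq_maximalIdeal q R, ← hy, Ideal.map_span, ← Set.range_comp]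
    exact congrArg Ideal.span (congrArg Set.range (funext fun i => hψ (a i)))
  refine ⟨?_, ?_⟩
  · letI := ψ.toAlgebra
    haveI : IsScalarTower P R A := IsScalarTower.of_algebraMap_eq fun f => (hψ f).symm
    haveI : Module.Flat R A := hψf
    haveI : Module.Flat P R := IsLocalization.flat R q.primeCompl
    exact Module.Flat.trans P R A
  · show IsRegularLocalRing (A ⧸ Ideal.map φ.toRingHom q)
    rw [hqA]
    haveI : Nontrivial (A ⧸ Ideal.span (Set.range z)) := Ideal.Quotient.nontrivial_iff.2 fun h =>
      (maximalIdeal.isMaximal A).ne_top (top_le_iff.1 (h.ge.trans (Ideal.span_le.2 (Set.range_subset_iff.2 hz))))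
    haveI : IsLocalRing (A ⧸ Ideal.span (Set.range z)) :=
      IsLocalRing.of_surjective' (Ideal.Quotient.mk _) Ideal.Quotient.mk_surjective
    refine Groth.Agent.EGA41Nagata.isRegularLocalRing_quotient_of_indep z hz (Fintype.linearIndependent_iff.2 fun c hc i => ?_)
    choose c' hc' using fun i => residue_surjective (c i)
    rw [← hc' i, residue_eq_zero_iff]
    refine hind c' ?_ i
    have h2 : (maximalIdeal A).toCotangent (∑ i, c' i • ⟨z i, hz i⟩) = 0 := by
      rw [map_sum, ← hc]
      refine Finset.sum_congr rfl fun i _ => ?_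
      rw [map_smul, ← hc' i]
      rfl
    have h3 := (Ideal.toCotangent_eq_zero _ _).1 h2
    simpa using h3

end Groth.Agent.S9288
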