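import Groth.Statements.S9290
-- import your own Groth.Agent.* helpers here
import Groth.Agent.GRingCpl.QuasiFinite

set_option autoImplicit false
universe u
open CAlg

namespace Groth.Agent.S9290

/-- Let R' be a Noetherian algebra of finite type over the Noetherian ring R, quasi-finite at the prime
p' over p, and let Q' ⊆ R'_{p'} and Q ⊆ R_p be primes with the same contraction to R (that is, a
prime q' ⊆ p' of R' lying over the prime q ⊆ p of R). If the formal fibre of R_p at Q is
geometrically regular over κ(Q), then the formal fibre of R'_{p'} at Q' is geometrically regular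
over κ(Q'). -/
theorem result (R R' : Type u) [CommRing R] [CommRing R']
    [IsNoetherianRing R] [IsNoetherianRing R'] [Algebra R R'] [Algebra.FiniteType R R']
    (p' : Ideal R') [p'.IsPrime] [Algebra.QuasiFiniteAt R p']
    (Q' : Ideal (Localization.AtPrime p')) [Q'.IsPrime]
    (Q : Ideal (Localization.AtPrime (Ideal.comap (algebraMap R R') p'))) [Q.IsPrime]
    (hQ : Ideal.comap (algebraMap R (Localization.AtPrime (Ideal.comap (algebraMap R R') p'))) Q =
      Ideal.comap (algebraMap R (Localization.AtPrime p')) Q')
    (h : CAlg.IsGeometricallyRegular Q.ResidueField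
      (EGA4.formalFibre (Localization.AtPrime (Ideal.comap (algebraMap R R') p')) Q)) :
    CAlg.IsGeometricallyRegular Q'.ResidueField (EGA4.formalFibre (Localization.AtPrime p') Q') := by
  obtain ⟨S', hfg, r, hr, hbij⟩ :=
    Algebra.QuasiFiniteAt.exists_fg_and_exists_notMem_and_awayMap_bijective (R := R) (S := R') p'
  haveI : Module.Finite R S' := ⟨(Submodule.fg_top _).mpr hfg⟩
  let n : Ideal S' := p'.comap S'.val.toRingHom
  haveI : n.IsPrime := Ideal.IsPrime.comap _
  let Bn := Localization.AtPrime p'
  letI : Algebra S' Bn := ((algebraMap R' Bn).comp S'.val.toRingHom).toAlgebra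
  haveI : IsLocalization.AtPrime Bn n := by
    refine { map_units := fun s => IsLocalization.map_units Bn (⟨(s : S').1, s.2⟩ : p'.primeCompl), surj := fun z => ?_,
             exists_of_eq := fun {x y} hxy => ?_ }
    · obtain ⟨x, t, rfl⟩ := IsLocalization.exists_mk'_eq p'.primeCompl z
      obtain ⟨i, hi⟩ := GRingCpl.exists_pow_mul_mem S' r hbij x
      obtain ⟨j, hj⟩ := GRingCpl.exists_pow_mul_mem S' r hbij t
      refine ⟨(⟨_, mul_mem hi (pow_mem r.2 j)⟩, ⟨⟨_, mul_mem hj (pow_mem r.2 i)⟩, fun hmem => ?_⟩), ?_⟩
      · have hm : (t : R') * (r : R') ^ j * (r : R') ^ i ∈ p' := hmem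
        rcases (inferInstance : p'.IsPrime).mem_or_mem hm with h1 | h1
        · rcases (inferInstance : p'.IsPrime).mem_or_mem h1 with h2 | h2
          · exact t.2 h2
          · exact hr ((inferInstance : p'.IsPrime).mem_of_pow_mem j h2)
        · exact hr ((inferInstance : p'.IsPrime).mem_of_pow_mem i h1)
      · show IsLocalization.mk' Bn x t * algebraMap R' Bn ((t : R') * (r : R') ^ j * (r : R') ^ i) =
          algebraMap R' Bn (x * (r : R') ^ i * (r : R') ^ j)
        rw [mul_assoc (t : R'), map_mul, ← mul_assoc, IsLocalization.mk'_spec, ← map_mul]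
        congr 1
        ring
    · obtain ⟨⟨c, hc⟩, hcxy⟩ := (IsLocalization.eq_iff_exists p'.primeCompl Bn).mp
        (show algebraMap R' Bn (x : R') = algebraMap R' Bn (y : R') from hxy)
      obtain ⟨k, hk⟩ := GRingCpl.exists_pow_mul_mem S' r hbij c
      refine ⟨⟨⟨_, hk⟩, fun hmem => ?_⟩, Subtype.ext ?_⟩
      · rcases (inferInstance : p'.IsPrime).mem_or_mem (show c * (r : R') ^ k ∈ p' from hmem) with h1 | h1
        · exact hc h1
        · exact hr ((inferInstance : p'.IsPrime).mem_of_pow_mem k h1)
      · show c * (r : R') ^ k * (x : R') = c * (r : R') ^ k * (y : R')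
        rw [mul_right_comm, show c * (x : R') = c * (y : R') from hcxy, mul_right_comm]
  exact GRingCpl.geomRegular_fibre_finite (B := S') n Bn (Ideal.comap (algebraMap R R') p') rfl Q' Q hQ h

end Groth.Agent.S9290
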