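import Groth.Statements.S9292
import Mathlib
import Groth.Agent.EtLiftLib.Basic
-- import your own Groth.Agent.* helpers here

set_option autoImplicit false
universe u
open EtAlg

open scoped TensorProduct

namespace Groth.Agent.S9292

/-- Let A be a ring, I an ideal, and e_1, ..., e_n a complete system of orthogonal idempotents of A/I
(equivalently a finite disjoint open covering of Spec(A/I)). Then one can find an A-algebra A' that
is étale over A, such that the induced map A/I → A'/IA' is bijective, together with a complete
system of orthogonal idempotents of A' lifting the e_j. -/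
theorem result (A : Type u) [CommRing A] (I : Ideal A)
    (n : ℕ) (e : Fin n → A ⧸ I) (he : CompleteOrthogonalIdempotents e) :
    ∃ (A' : Type u) (_ : CommRing A') (_ : Algebra A A'), Algebra.Etale A A' ∧
      Function.Bijective (Ideal.quotientMap (Ideal.map (algebraMap A A') I) (algebraMap A A')
        Ideal.le_comap_map) ∧
      ∃ e' : Fin n → A', CompleteOrthogonalIdempotents e' ∧
        ∀ j, Ideal.Quotient.mk (Ideal.map (algebraMap A A') I) (e' j) =
          Ideal.quotientMap (Ideal.map (algebraMap A A') I) (algebraMap A A') Ideal.le_comap_map
            (e j) := by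
  let φ : (Fin n → A) →ₐ[A] A ⧸ I :=
    { toFun := fun x => ∑ j, algebraMap A (A ⧸ I) (x j) * e j
      map_one' := by simp [he.complete]
      map_mul' := fun x y => by
        rw [Finset.sum_mul_sum]
        refine Finset.sum_congr rfl fun j _ => ?_
        rw [Finset.sum_eq_single j]
        · rw [Pi.mul_apply, map_mul, mul_mul_mul_comm, (he.idem j).eq]
        · intro k _ hk
          rw [mul_mul_mul_comm, he.ortho (Ne.symm hk), mul_zero]
        · simp
      map_zero' := by simp
      map_add' := fun x y => by simp [add_mul, Finset.sum_add_distrib]
      commutes' := fun r => by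
        simp only [Pi.algebraMap_apply, Algebra.algebraMap_self, RingHom.id_apply]
        rw [← Finset.mul_sum, he.complete, mul_one] }
  obtain ⟨A', _, _, het, hbij, η, hη⟩ := Groth.Agent.EtLiftLib.exists_etale_nhd I φ
  refine ⟨A', inferInstance, inferInstance, het, hbij, fun j => η (Pi.single j 1),
    (CompleteOrthogonalIdempotents.single (fun _ : Fin n => A)).map η.toRingHom, fun j => ?_⟩
  rw [hη]
  have h1 : φ (Pi.single j 1) = e j := by
    change ∑ k, algebraMap A (A ⧸ I) ((Pi.single j 1 : Fin n → A) k) * e k = e j
    rw [Finset.sum_eq_single j] <;> simp +contextual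
  rw [h1]
  rfl

end Groth.Agent.S9292
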