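import Groth.Statements.S9298
import Groth.Agent.RigPts.IdemDescend
import Groth.Agent.RigPts.CompPoly
import Groth.Agent.RigPts.ComplEquiv
import Groth.Agent.Hensel.PairNoeth
import Groth.Agent.Hensel.PairEnvelopeProps
import Groth.Agent.S8801

set_option autoImplicit false
set_option linter.style.haveILetI false
set_option backward.isDefEq.respectTransparency false
open Groth.Agent
universe u
open CAlg

namespace Groth.Agent.S9298

/-- Let A be a Noetherian ring, I an ideal, B a finite type A-algebra and B^ its I-adic completion. Let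
π be a surjective ring map from B^ to C, with kernel J, and suppose some power I^c (c ≥ 0) kills the
conormal module J/J^2. Then, compatibly with the maps from A, C is isomorphic to the I-adic
completion of some finite type A-algebra. -/
theorem result (A : Type u) [CommRing A]
    [IsNoetherianRing A] (I : Ideal A) (B : Type u) [CommRing B] [Algebra A B] [Algebra.FiniteType A B]
    (C : Type u) [CommRing C]
    (π : AdicCompletion (Ideal.map (algebraMap A B) I) B →+* C) (hπ : Function.Surjective π) (c : ℕ)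
    (hJ : Ideal.map ((algebraMap B (AdicCompletion (Ideal.map (algebraMap A B) I) B)).comp
        (algebraMap A B)) I ^ c * RingHom.ker π ≤ RingHom.ker π ^ 2) :
    ∃ (D : Type u) (_ : CommRing D) (_ : Algebra A D), Algebra.FiniteType A D ∧
      ∃ e : C ≃+* AdicCompletion (Ideal.map (algebraMap A D) I) D,
        ∀ a : A, e (π (algebraMap B _ (algebraMap A B a))) =
          algebraMap D _ (algebraMap A D a) := by
  classical
  haveI : IsNoetherianRing B := Algebra.FiniteType.isNoetherianRing A B
  let IB := I.map (algebraMap A B)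
  let S := AdicCompletion IB B
  let Bh := Hensel.PairEnv B IB
  have hBh : Hens2.IsPairHenselization B IB Bh := Hensel.isPairHenselization_pairEnv B IB
  let hb := Hensel.powBij_henselization hBh
  letI : Algebra Bh S := hb.toCompletion.toAlgebra
  haveI : Module.FaithfullyFlat Bh S := Hensel.faithfullyFlat_toCompletion hBh
  haveI : IsNoetherianRing Bh := Hensel.isNoetherianRing_pairHenselization hBh
  haveI : IsNoetherianRing S := ResExt.isNoetherianRing_adicCompletion IB (IsNoetherian.noetherian IB)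
  haveI hScomp : IsAdicComplete (IB.map (algebraMap B S)) S :=
    (IsAdicComplete.map_algebraMap_iff (I := IB) (M := S) (S := S)).2
      (AdicCompletion.isAdicComplete (I := IB) (M := B) (IsNoetherian.noetherian IB))
  have hιB : ∀ b, algebraMap Bh S (algebraMap B Bh b) = algebraMap B S b := fun b => AdicCompletion.ext_evalₐ fun n => by
    show AdicCompletion.evalₐ IB n (hb.toCompletion (algebraMap B Bh b)) = _
    rw [hb.evalₐ_toCompletion (n := n) (s := algebraMap B Bh b) (a := b) (by simp),
      AlgHom.commutes, Ideal.Quotient.algebraMap_eq]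
  haveI : IsScalarTower B Bh S := IsScalarTower.of_algebraMap_eq fun b => (hιB b).symm
  let H := IB.map (algebraMap B Bh)
  haveI : HenselianRing Bh H := hBh.1
  have hHS : H.map (algebraMap Bh S) = IB.map (algebraMap B S) := by
    rw [Ideal.map_map, ← IsScalarTower.algebraMap_eq]
  have hdense : ∀ (N : ℕ) (y : S), ∃ x : B, y - algebraMap B S x ∈ (IB ^ N).map (algebraMap B S) := fun N y => by
    obtain ⟨x, hx⟩ := Ideal.Quotient.mk_surjective (AdicCompletion.evalₐ IB N y)
    refine ⟨x, ?_⟩
    have h2 : y - algebraMap B S x ∈ LinearMap.ker (AdicCompletion.eval IB B N) := by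
      rw [LinearMap.mem_ker, map_sub, sub_eq_zero,
        ← AdicCompletion.factor_evalₐ_eq_eval IB y (le_of_eq (Ideal.mul_top _).symm), ← hx]
      rfl
    rwa [← AdicCompletion.pow_smul_top_eq_ker_eval (IsNoetherian.noetherian _), Ideal.smul_top_eq_map,
      Submodule.restrictScalars_mem] at h2
  -- generators and annihilators
  obtain ⟨r, a₀, ha₀⟩ := Submodule.fg_iff_exists_fin_generating_family.1 (IsNoetherian.noetherian I)
  have ha₀I : ∀ k, a₀ k ∈ I := fun k => ha₀ ▸ Submodule.subset_span ⟨k, rfl⟩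
  let J := RingHom.ker π
  have hex : ∀ k, ∃ x ∈ J, ∃ e : ℕ, 1 ≤ e ∧ ∀ z ∈ J, (algebraMap B S (algebraMap A B (a₀ k)) ^ e - x) * z = 0 := by
    intro k
    obtain ⟨x, hx, e, he, hz⟩ := RigPts.exists_mem_sub_mul_eq_zero J (IsNoetherian.noetherian _)
      (algebraMap B S (algebraMap A B (a₀ k)) ^ (c + 1)) (by
        refine le_trans ?_ hJ
        refine Ideal.mul_mono_left ((Ideal.span_singleton_le_iff_mem (I := _)).2 ?_)
        rw [pow_succ]
        exact Ideal.mul_mem_right _ _ (Ideal.pow_mem_pow (Ideal.mem_map_of_mem _ (ha₀I k)) c))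
    exact ⟨x, hx, (c + 1) * e, Nat.mul_pos (Nat.succ_pos c) he, by rw [pow_mul]; exact hz⟩
  choose x hx e he hann using hex
  let a : Fin r → Bh := fun k => algebraMap B Bh (algebraMap A B (a₀ k) ^ e k)
  have ha : ∀ k, algebraMap Bh S (a k) = algebraMap B S (algebraMap A B (a₀ k)) ^ e k := fun k => by
    rw [← IsScalarTower.algebraMap_apply B Bh S, map_pow]
  have haH : ∀ k, a k ∈ H := fun k =>
    Ideal.mem_map_of_mem _ (Ideal.pow_mem_of_mem IB (Ideal.mem_map_of_mem _ (ha₀I k)) _ (he k))
  have hrad : H ≤ (Ideal.span (Set.range a)).radical := by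
    rw [show H = Ideal.span ((algebraMap B Bh) '' ((algebraMap A B) '' Set.range a₀)) by
      rw [← Ideal.map_span, ← Ideal.map_span, show Ideal.span (Set.range a₀) = I from ha₀], Ideal.span_le]
    rintro _ ⟨_, ⟨_, ⟨k, rfl⟩, rfl⟩, rfl⟩
    exact ⟨e k, Ideal.subset_span ⟨k, map_pow _ _ _⟩⟩
  have hkey : J = (J.comap (algebraMap Bh S)).map (algebraMap Bh S) :=
    RigPts.map_comap_eq_of_ann H a haH
      (fun k => IsAdicComplete.le_jacobson_bot (IB.map (algebraMap B S)) (hHS ▸ Ideal.mem_map_of_mem _ (haH k)))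
      (fun K z hz => by rwa [← Ideal.mem_comap, Ideal.comap_map_eq_self_of_faithfullyFlat] at hz)
      (fun y N => by
        obtain ⟨M, hM⟩ := Ideal.exists_pow_le_of_le_radical_of_fg hrad (IsNoetherian.noetherian _)
        obtain ⟨z, hz⟩ := hdense (M * N) y
        refine ⟨algebraMap B Bh z, ?_⟩
        rw [hιB]
        refine Ideal.map_mono (Ideal.pow_right_mono hM N) ?_
        rwa [← pow_mul, Ideal.map_pow, hHS, ← Ideal.map_pow])
      J x hx (fun k z hz => by rw [ha]; exact hann k z hz)
  let J'' : Ideal Bh := J.comap (algebraMap Bh S)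
  letI : Algebra A Bh := ((algebraMap B Bh).comp (algebraMap A B)).toAlgebra
  haveI : IsScalarTower A B Bh := IsScalarTower.of_algebraMap_eq' rfl
  haveI : IsScalarTower A Bh S := IsScalarTower.of_algebraMap_eq fun t => by
    rw [IsScalarTower.algebraMap_apply A B Bh, hιB, ← IsScalarTower.algebraMap_apply]
  obtain ⟨D, _, _, hD, ⟨eD⟩⟩ := Groth.Agent.S8801.result A I B Bh hBh J''
  let f : Bh ⧸ J'' →ₐ[A] S ⧸ J := Ideal.quotientMapₐ J (IsScalarTower.toAlgHom A Bh S) le_rfl
  have hIq : ∀ n, (I.map (algebraMap A (S ⧸ J))) ^ n = ((IB ^ n).map (algebraMap B S)).map (Ideal.Quotient.mk J) := by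
    intro n
    rw [Ideal.map_pow, Ideal.map_pow, Ideal.map_map (algebraMap A B), ← IsScalarTower.algebraMap_eq, Ideal.map_map,
      ← Ideal.Quotient.algebraMap_eq, ← IsScalarTower.algebraMap_eq]
  have hIq' : ∀ n, (I.map (algebraMap A (Bh ⧸ J''))) ^ n = ((IB ^ n).map (algebraMap B Bh)).map (Ideal.Quotient.mk J'') := by
    intro n
    rw [Ideal.map_pow, Ideal.map_pow, Ideal.map_map (algebraMap A B), ← IsScalarTower.algebraMap_eq, Ideal.map_map,
      ← Ideal.Quotient.algebraMap_eq, ← IsScalarTower.algebraMap_eq]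
  obtain ⟨eS⟩ := RigPts.adicCompletion_algEquiv f (I.map (algebraMap A (Bh ⧸ J''))) (I.map (algebraMap A (S ⧸ J)))
    (fun n => by
      rw [← Ideal.map_le_iff_le_comap, Ideal.map_pow, Ideal.map_map]
      exact le_of_eq (congrArg (· ^ n) (congrArg I.map f.comp_algebraMap)))
    (fun n z hz => by
      obtain ⟨y, rfl⟩ := Ideal.Quotient.mk_surjective z
      have hz' : Ideal.Quotient.mk J (algebraMap Bh S y) ∈ (I.map (algebraMap A (S ⧸ J))) ^ n := hz
      rw [hIq, Ideal.mem_map_iff_of_surjective _ Ideal.Quotient.mk_surjective] at hz'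
      obtain ⟨w, hw, hwy⟩ := hz'
      have h1 : algebraMap Bh S y ∈ (J'' ⊔ (IB ^ n).map (algebraMap B Bh)).map (algebraMap Bh S) := by
        rw [Ideal.map_sup, ← hkey, Ideal.map_map, ← IsScalarTower.algebraMap_eq]
        have := add_mem (Ideal.mem_sup_left (Ideal.Quotient.eq.1 hwy.symm) : _ ∈ J ⊔ (IB ^ n).map (algebraMap B S))
          (Ideal.mem_sup_right hw)
        rwa [sub_add_cancel] at this
      rw [← Ideal.mem_comap, Ideal.comap_map_eq_self_of_faithfullyFlat] at h1
      obtain ⟨p, hp, q, hq, rfl⟩ := Submodule.mem_sup.1 h1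
      rw [hIq', map_add, Ideal.Quotient.eq_zero_iff_mem.2 hp, zero_add]
      exact Ideal.mem_map_of_mem _ hq)
    (fun n z => by
      obtain ⟨y, rfl⟩ := Ideal.Quotient.mk_surjective z
      obtain ⟨t, ht⟩ := hdense n y
      refine ⟨Ideal.Quotient.mk J'' (algebraMap B Bh t), ?_⟩
      show Ideal.Quotient.mk J (algebraMap Bh S (algebraMap B Bh t)) - _ ∈ _
      rw [hιB, hIq, ← map_sub, ← neg_sub]
      exact Ideal.mem_map_of_mem _ (neg_mem ht))
  haveI : IsAdicComplete (I.map (algebraMap A (S ⧸ J))) (S ⧸ J) := by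
    have h := AdicLim.isAdicComplete_of_finite (IB.map (algebraMap B S)) (S ⧸ J)
    rw [← IsAdicComplete.map_algebraMap_iff (S := S ⧸ J)] at h
    rw [Ideal.map_map (algebraMap A B), ← IsScalarTower.algebraMap_eq, Ideal.map_map,
      ← IsScalarTower.algebraMap_eq] at h
    exact h
  let e1 : C ≃+* S ⧸ J := (RingHom.quotientKerEquivOfSurjective hπ).symm
  let e2 : (S ⧸ J) ≃ₐ[A] AdicCompletion (I.map (algebraMap A (S ⧸ J))) (S ⧸ J) :=
    (AdicCompletion.ofAlgEquiv (I.map (algebraMap A (S ⧸ J)))).restrictScalars A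
  refine ⟨D, inferInstance, inferInstance, hD, e1.trans ((e2.trans eS.symm).trans eD.symm).toRingEquiv, fun t => ?_⟩
  show eD.symm (eS.symm (e2 (e1 (π (algebraMap B S (algebraMap A B t)))))) = _
  rw [show e1 (π (algebraMap B S (algebraMap A B t))) = algebraMap A (S ⧸ J) t by
    refine (RingEquiv.symm_apply_eq _).2 ?_
    rw [IsScalarTower.algebraMap_apply A S (S ⧸ J), IsScalarTower.algebraMap_apply A B S]
    rfl, AlgEquiv.commutes, AlgEquiv.commutes, AlgEquiv.commutes, ← IsScalarTower.algebraMap_apply]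

end Groth.Agent.S9298
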