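import Groth.Statements.S9300
import Mathlib.RingTheory.Spectrum.Prime.Basic
import Mathlib.RingTheory.Ideal.Maximal

set_option autoImplicit false
universe u
open CAlg

namespace Groth.Agent.S9300

/-- Let A and B be domains and A → B a ring map for which the generic point of Spec(A) has a unique
preimage in Spec(B). Then every nonzero ideal of B has nonzero preimage in A. -/
theorem result (A B : Type u) [CommRing A] [IsDomain A]
    [CommRing B] [IsDomain B] (φ : A →+* B)
    (h : ∃! q : PrimeSpectrum B, Ideal.comap φ q.asIdeal = ⊥) (J : Ideal B) (hJ : J ≠ ⊥) :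
    Ideal.comap φ J ≠ ⊥ := by
  intro hcon
  obtain ⟨q, hq, huniq⟩ := h
  have hker : ∀ a : A, φ a = 0 → a = 0 := by
    intro a ha
    have : a ∈ Ideal.comap φ q.asIdeal := by rw [Ideal.mem_comap, ha]; exact q.asIdeal.zero_mem
    rwa [hq, Ideal.mem_bot] at this
  have h0 : Ideal.comap φ (⟨⊥, Ideal.isPrime_bot⟩ : PrimeSpectrum B).asIdeal = ⊥ := by
    ext a
    simp only [Ideal.mem_comap, Ideal.mem_bot]
    exact ⟨hker a, fun h => by rw [h, map_zero]⟩
  let S : Submonoid B := (nonZeroDivisors A).map φ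
  have hdis : Disjoint (J : Set B) S := by
    rw [Set.disjoint_left]
    rintro _ hJm ⟨a, ha, rfl⟩
    have : a ∈ Ideal.comap φ J := hJm
    rw [hcon, Ideal.mem_bot] at this
    exact nonZeroDivisors.ne_zero ha this
  obtain ⟨P, hP, hJP, hPS⟩ := Ideal.exists_le_prime_disjoint J S hdis
  have h1 : Ideal.comap φ (⟨P, hP⟩ : PrimeSpectrum B).asIdeal = ⊥ := by
    refine (Submodule.eq_bot_iff _).2 fun a ha => ?_
    by_contra ha0
    exact Set.disjoint_left.1 hPS ha ⟨a, mem_nonZeroDivisors_of_ne_zero ha0, rfl⟩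
  have : P = ⊥ := congrArg PrimeSpectrum.asIdeal ((huniq _ h1).trans (huniq _ h0).symm)
  exact hJ (le_bot_iff.1 (this ▸ hJP))

end Groth.Agent.S9300
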