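import Groth.Statements.S9301
import Mathlib.RingTheory.QuasiFinite.Basic
import Mathlib.RingTheory.Flat.TorsionFree
import Mathlib.RingTheory.Algebraic.Integral
import Mathlib.RingTheory.Localization.FractionRing

set_option autoImplicit false
universe u
open CAlg

namespace Groth.Agent.S9301

/-- Let A and B be domains and A → B a flat ring map which is the localization of a quasi-finite ring
map A → B₀ (of finite type with finite fibres). Then every nonzero ideal of B has nonzero preimage
in A. -/
theorem result (A B₀ B : Type u) [CommRing A] [IsDomain A]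
    [CommRing B₀] [CommRing B] [IsDomain B] [Algebra A B₀] [Algebra.FiniteType A B₀]
    [Algebra.QuasiFinite A B₀] (S : Submonoid B₀) [Algebra B₀ B] [IsLocalization S B] [Algebra A B]
    [IsScalarTower A B₀ B] [Module.Flat A B] (J : Ideal B) (hJ : J ≠ ⊥) :
    Ideal.comap (algebraMap A B) J ≠ ⊥ := by
  have hAB : Function.Injective (algebraMap A B) := by
    intro a a' h
    by_contra hne
    have := Module.Flat.isSMulRegular_of_nonZeroDivisors (M := B)
      (mem_nonZeroDivisors_of_ne_zero (sub_ne_zero.2 hne))
    exact one_ne_zero (this (a₁ := (1 : B)) (a₂ := 0) (by simp [Algebra.smul_def, h]))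
  obtain ⟨b, hb, hb0⟩ := Submodule.exists_mem_ne_zero_of_ne_bot hJ
  obtain ⟨⟨b₀, s⟩, hs⟩ := IsLocalization.surj S b
  have hb₀J : algebraMap B₀ B b₀ ∈ J := hs ▸ Ideal.mul_mem_right _ _ hb
  have hb₀0 : algebraMap B₀ B b₀ ≠ 0 := hs ▸ mul_ne_zero hb0 (IsLocalization.map_units B s).ne_zero
  let L := FractionRing B
  let K := FractionRing A
  have hf : ∀ y : nonZeroDivisors A, IsUnit (algebraMap A L y) := fun y => by
    rw [IsScalarTower.algebraMap_apply A B L]
    refine (IsUnit.mk0 _ ?_)
    intro h0
    have h1 := IsFractionRing.injective B L (h0.trans (map_zero _).symm)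
    exact nonZeroDivisors.coe_ne_zero y (hAB (h1.trans (map_zero _).symm))
  let F : K →ₐ[A] L := IsLocalization.liftAlgHom (M := nonZeroDivisors A)
    (f := Algebra.ofId A L) hf
  let algKL : Algebra K L := F.toRingHom.toAlgebra
  have hT : IsScalarTower A K L := IsScalarTower.of_algebraMap_eq fun a => (F.commutes a).symm
  have hfin : Module.Finite K (TensorProduct A K B₀) := Module.Finite.of_quasiFinite
  let G : TensorProduct A K B₀ →ₐ[K] L := Algebra.TensorProduct.lift (Algebra.ofId K L)
    ((IsScalarTower.toAlgHom A B L).comp (IsScalarTower.toAlgHom A B₀ B)) fun _ _ => Commute.all _ _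
  have hint : IsIntegral K (algebraMap B L (algebraMap B₀ B b₀)) := by
    have := (Algebra.IsIntegral.isIntegral (R := K) ((1 : K) ⊗ₜ[A] b₀)).map G
    simpa [G] using this
  have halg : IsAlgebraic A (algebraMap B₀ B b₀) := by
    have h1 : IsAlgebraic A (algebraMap B L (algebraMap B₀ B b₀)) :=
      (IsFractionRing.isAlgebraic_iff A K L).2 hint.isAlgebraic
    exact (isAlgebraic_algHom_iff (IsScalarTower.toAlgHom A B L) (IsFractionRing.injective B L)).1 h1
  obtain ⟨r, hr, hdvd⟩ := halg.exists_nonzero_dvd (mem_nonZeroDivisors_of_ne_zero hb₀0)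
  intro hbot
  exact hr (by simpa [hbot] using (show r ∈ J.comap (algebraMap A B) from J.mem_of_dvd hdvd hb₀J))

end Groth.Agent.S9301
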