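import Groth.Statements.S9302
import Mathlib
-- import your own Groth.Agent.* helpers here

set_option autoImplicit false
universe u
open CategoryTheory
open EtAlg

namespace Groth.Agent.S9302

/-- Henselian pairs are preserved under limits: for an inverse system (A_j, I_j) of henselian pairs over
a preordered set J, the limit A = lim A_j with the ideal I = lim I_j (elements all of whose
projections lie in the I_j) is a henselian pair. -/
theorem result (J : Type u) [Preorder J] (F : J ⥤ CommRingCat.{u})
    (I : ∀ j : J, Ideal (F.obj j))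
    (hI : ∀ (i j : J) (φ : i ⟶ j), Ideal.map (F.map φ).hom (I i) ≤ I j)
    (h : ∀ j : J, HenselianRing (F.obj j) (I j)) :
    HenselianRing ((Limits.limit F : CommRingCat.{u}) : Type u)
      (⨅ j : J, Ideal.comap (Limits.limit.π F j).hom (I j)) := by
  let c := Limits.limit.cone F
  have hlim := (Limits.Types.isLimit_iff ((forget CommRingCat.{u}).mapCone c)).1
    ⟨Limits.isLimitOfPreserves (forget CommRingCat.{u}) (Limits.limit.isLimit F)⟩
  have hext : ∀ x y : ((Limits.limit F : CommRingCat.{u}) : Type u),
      (∀ j, (Limits.limit.π F j).hom x = (Limits.limit.π F j).hom y) → x = y := fun x y hxy => by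
    obtain ⟨z, -, huniq⟩ := hlim (fun j => (Limits.limit.π F j).hom x) (fun {i j} φ => by
      change (F.map φ).hom ((Limits.limit.π F i).hom x) = (Limits.limit.π F j).hom x
      rw [← Limits.limit.w F φ]; rfl)
    exact (huniq x fun j => rfl).trans (huniq y fun j => (hxy j).symm).symm
  have hmk : ∀ s : (∀ j, F.obj j), (∀ (i j : J) (φ : i ⟶ j), (F.map φ).hom (s i) = s j) →
      ∃ x : ((Limits.limit F : CommRingCat.{u}) : Type u), ∀ j, (Limits.limit.π F j).hom x = s j :=
    fun s hs => (hlim (fun j => s j) (fun φ => hs _ _ φ)).exists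
  have hw : ∀ (i j : J) (φ : i ⟶ j) x, (F.map φ).hom ((Limits.limit.π F i).hom x) = (Limits.limit.π F j).hom x :=
    fun i j φ x => by rw [← Limits.limit.w F φ]; rfl
  constructor
  · intro x hx
    rw [Ideal.mem_iInf] at hx
    rw [Ideal.mem_jacobson_bot]
    intro y
    have hu : ∀ j, IsUnit ((Limits.limit.π F j).hom (x * y + 1)) := fun j => by
      rw [map_add, map_mul, map_one]
      exact Ideal.mem_jacobson_bot.1 ((h j).jac (hx j)) _
    choose v hv using fun j => (hu j).exists_right_inv
    have hv' : ∀ (i j : J) (φ : i ⟶ j), (F.map φ).hom (v i) = v j := fun i j φ => by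
      refine (hu j).mul_left_cancel ?_
      rw [hv j, ← hw i j φ, ← map_mul, hv i, map_one]
    obtain ⟨w, hw'⟩ := hmk v hv'
    exact IsUnit.of_mul_eq_one w (hext _ _ fun j => by rw [map_mul, hw', hv, map_one])
  · intro f hf a₀ h₁ h₂
    rw [Ideal.mem_iInf] at h₁
    let fj : ∀ j, Polynomial (F.obj j) := fun j => f.map (Limits.limit.π F j).hom
    have hev : ∀ j (g : Polynomial ((Limits.limit F : CommRingCat.{u}) : Type u)) x,
        (g.map (Limits.limit.π F j).hom).eval ((Limits.limit.π F j).hom x) = (Limits.limit.π F j).hom (g.eval x) :=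
      fun j g x => Polynomial.eval_map_apply _ _
    have hd : ∀ j, IsUnit (Ideal.Quotient.mk (I j) ((fj j).derivative.eval ((Limits.limit.π F j).hom a₀))) := fun j => by
      rw [Polynomial.derivative_map, hev]
      obtain ⟨b, hb⟩ := Ideal.Quotient.mk_surjective h₂.unit.inv
      have hb' : f.derivative.eval a₀ * b - 1 ∈ ⨅ j, Ideal.comap (Limits.limit.π F j).hom (I j) := by
        rw [← Ideal.Quotient.mk_eq_mk_iff_sub_mem, map_mul, hb, map_one]
        exact h₂.mul_val_inv
      rw [Ideal.mem_iInf] at hb'
      refine IsUnit.of_mul_eq_one (Ideal.Quotient.mk (I j) ((Limits.limit.π F j).hom b)) ?_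
      rw [← map_mul, ← map_one (Ideal.Quotient.mk (I j)), Ideal.Quotient.mk_eq_mk_iff_sub_mem, ← map_mul,
        ← map_one (Limits.limit.π F j).hom, ← map_sub]
      exact hb' j
    have hex : ∀ j, ∃ a : F.obj j, (fj j).IsRoot a ∧ a - (Limits.limit.π F j).hom a₀ ∈ I j := fun j =>
      (h j).is_henselian (fj j) (hf.map _) _ (by rw [hev]; exact h₁ j) (hd j)
    choose a ha ha' using hex
    have hcompat : ∀ (i j : J) (φ : i ⟶ j), (F.map φ).hom (a i) = a j := fun i j φ => by
      set b := (F.map φ).hom (a i)
      have hb : (fj j).IsRoot b := by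
        have := congrArg (F.map φ).hom (ha i)
        rw [map_zero, ← Polynomial.eval_map_apply, Polynomial.map_map, ← CommRingCat.hom_comp, Limits.limit.w] at this
        exact this
      have hb' : b - (Limits.limit.π F j).hom a₀ ∈ I j := by
        rw [← hw i j φ a₀, ← map_sub]
        exact hI i j φ (Ideal.mem_map_of_mem _ (ha' i))
      set g := fj j
      set x₀ := (Limits.limit.π F j).hom a₀
      have hab : b - a j ∈ I j := by
        have := sub_mem hb' (ha' j)
        rwa [sub_sub_sub_cancel_right] at this
      obtain ⟨k, hk⟩ := g.binomExpansion (a j) (b - a j)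
      rw [add_sub_cancel, hb.eq_zero, (ha j).eq_zero, zero_add] at hk
      have hunit : IsUnit (g.derivative.eval (a j) + k * (b - a j)) := by
        suffices hq : IsUnit (Ideal.Quotient.mk (I j) (g.derivative.eval (a j) + k * (b - a j))) by
          obtain ⟨w, hw⟩ := hq.exists_right_inv
          obtain ⟨w', rfl⟩ := Ideal.Quotient.mk_surjective w
          rw [← map_mul, ← map_one (Ideal.Quotient.mk (I j)), Ideal.Quotient.mk_eq_mk_iff_sub_mem] at hw
          have := Ideal.mem_jacobson_bot.1 ((h j).jac hw) 1
          rw [mul_one, sub_add_cancel] at this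
          exact isUnit_of_mul_isUnit_left this
        rw [map_add, map_mul, Ideal.Quotient.eq_zero_iff_mem.2 hab, mul_zero, add_zero, ← Polynomial.eval_map_apply,
          (Ideal.Quotient.mk_eq_mk_iff_sub_mem _ _).2 (ha' j), Polynomial.eval_map_apply]
        exact hd j
      refine sub_eq_zero.1 (hunit.mul_right_eq_zero.1 ?_)
      linear_combination -hk
    obtain ⟨x, hx⟩ := hmk a hcompat
    refine ⟨x, hext _ _ fun j => ?_, Ideal.mem_iInf.2 fun j => ?_⟩
    · rw [← hev, hx, map_zero]
      exact ha j
    · rw [Ideal.mem_comap, map_sub, hx]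
      exact ha' j

end Groth.Agent.S9302
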