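import Groth.Statements.S9303
import Mathlib.RingTheory.Localization.Away.Basic
import Mathlib.RingTheory.Localization.Algebra
import Mathlib.RingTheory.Idempotents

set_option autoImplicit false
universe u
open CAlg

namespace Groth.Agent.S9303

/-- Elementwise content of being the localization at an idempotent after inverting `f`. -/
theorem local_data (A C : Type u) [CommRing A] [CommRing C] [Algebra A C] (f : A)
    (h : ∃ e : Localization.Away f, IsIdempotentElem e ∧
      IsLocalization.Away e (Localization (Algebra.algebraMapSubmonoid C (Submonoid.powers f)))) :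
    ∃ (c : A) (n : ℕ), c ∈ RingHom.ker (algebraMap A C) ∧
      (∀ d ∈ RingHom.ker (algebraMap A C), ∃ m : ℕ, f ^ m * (f ^ n * d - c * d) = 0) ∧
      ∀ p : C, ∃ (a : A) (L : ℕ), algebraMap A C a = algebraMap A C f ^ L * p := by
  set Af := Localization.Away f
  set Cf := Localization (Algebra.algebraMapSubmonoid C (Submonoid.powers f))
  obtain ⟨e, he, hloc⟩ := h
  obtain ⟨c₀, ⟨_, n₀, rfl⟩, hc₀⟩ := IsLocalization.exists_mk'_eq (Submonoid.powers f) (1 - e)
  have he1 : algebraMap Af Cf e = 1 :=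
    (IsIdempotentElem.iff_eq_one_of_isUnit (IsLocalization.Away.algebraMap_isUnit (S := Cf) e)).1 (he.map _)
  have h1 : algebraMap A Cf c₀ = 0 := by
    rw [IsScalarTower.algebraMap_apply A Af Cf, ← IsLocalization.mk'_spec Af c₀ (⟨f ^ n₀, n₀, rfl⟩ : Submonoid.powers f), hc₀,
      map_mul, map_sub, map_one, he1, sub_self, zero_mul]
  rw [IsScalarTower.algebraMap_apply A C Cf] at h1
  obtain ⟨⟨_, s, ⟨j, rfl⟩, rfl⟩, hs⟩ := (IsLocalization.map_eq_zero_iff
    (Algebra.algebraMapSubmonoid C (Submonoid.powers f)) _ _).1 h1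
  rw [← map_mul] at hs
  refine ⟨f ^ j * c₀, n₀ + j, hs, fun d hd => ?_, fun p => ?_⟩
  · have h2 : algebraMap Af Cf (algebraMap A Af d) = 0 := by
      rw [← IsScalarTower.algebraMap_apply A Af Cf, IsScalarTower.algebraMap_apply A C Cf, RingHom.mem_ker.1 hd, map_zero]
    obtain ⟨⟨_, k, rfl⟩, hk⟩ := (IsLocalization.map_eq_zero_iff (Submonoid.powers e) _ _).1 h2
    have hed : e * algebraMap A Af d = 0 := by
      cases k with
      | zero => rw [show algebraMap A Af d = 0 by simpa using hk, mul_zero]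
      | succ k => simpa [he.pow_succ_eq] using hk
    have h3 : algebraMap A Af (f ^ (n₀ + j) * d - f ^ j * c₀ * d) = 0 := by
      have hc : algebraMap A Af c₀ = (1 - e) * algebraMap A Af (f ^ n₀) := by
        rw [← hc₀]; exact (IsLocalization.mk'_spec Af c₀ (⟨f ^ n₀, n₀, rfl⟩ : Submonoid.powers f)).symm
      rw [pow_add, map_sub, map_mul, map_mul, map_mul, map_mul, hc]
      linear_combination algebraMap A Af (f ^ n₀) * algebraMap A Af (f ^ j) * hed
    obtain ⟨⟨_, m, rfl⟩, hm⟩ := (IsLocalization.map_eq_zero_iff (Submonoid.powers f) _ _).1 h3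
    exact ⟨m, hm⟩
  · obtain ⟨x, ⟨_, k, rfl⟩, hx⟩ := IsLocalization.exists_mk'_eq (Submonoid.powers e) (algebraMap C Cf p)
    have hx' : algebraMap Af Cf x = algebraMap C Cf p := by
      rw [← hx, ← IsLocalization.mk'_spec Cf x (⟨e ^ k, k, rfl⟩ : Submonoid.powers e)]
      show _ * algebraMap Af Cf (e ^ k) = _
      rw [map_pow, he1, one_pow, mul_one]
    obtain ⟨a₀, ⟨_, l, rfl⟩, rfl⟩ := IsLocalization.exists_mk'_eq (Submonoid.powers f) x
    have h4 : algebraMap C Cf (algebraMap A C a₀) = algebraMap C Cf (algebraMap A C (f ^ l) * p) := by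
      rw [map_mul, ← hx', ← IsScalarTower.algebraMap_apply A C Cf, ← IsScalarTower.algebraMap_apply A C Cf,
        IsScalarTower.algebraMap_apply A Af Cf, IsScalarTower.algebraMap_apply A Af Cf, ← map_mul,
        mul_comm, IsLocalization.mk'_spec]
    obtain ⟨⟨_, s, ⟨i, rfl⟩, rfl⟩, hi⟩ :=
      (IsLocalization.eq_iff_exists (Algebra.algebraMapSubmonoid C (Submonoid.powers f)) _).1 h4
    refine ⟨f ^ i * a₀, i + l, ?_⟩
    simp only [map_mul, map_pow] at hi ⊢
    rw [hi, pow_add, mul_assoc]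

/-- Let A be a ring, I a finitely generated ideal and A → C a ring map such that for every f ∈ I the map
A_f → C_f is the localization of A_f at an idempotent. Then there is a surjection A → C' (C' = A/K
for an ideal K) such that A_f → (C × C')_f is an isomorphism for every f ∈ I. -/
theorem result (A : Type u) [CommRing A]
    (I : Ideal A) (hI : I.FG) (C : Type u) [CommRing C] [Algebra A C]
    (h : ∀ f ∈ I, ∃ e : Localization.Away f, IsIdempotentElem e ∧
      IsLocalization.Away e (Localization (Algebra.algebraMapSubmonoid C (Submonoid.powers f)))) :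
    ∃ K : Ideal A, ∀ f ∈ I, Function.Bijective
      (algebraMap (Localization.Away f)
        (Localization (Algebra.algebraMapSubmonoid (C × (A ⧸ K)) (Submonoid.powers f)))) := by
  classical
  obtain ⟨G, hG⟩ := hI
  have hGI : ∀ g ∈ G, g ∈ I := fun g hg => hG ▸ Ideal.subset_span hg
  let J := RingHom.ker (algebraMap A C)
  have hmain := fun f hf => local_data A C f (h f hf)
  let K : Ideal A :=
    { carrier := {a | ∀ g ∈ G, ∀ d ∈ J, ∃ m : ℕ, g ^ m * (a * d) = 0}
      add_mem' := fun {a b} ha hb g hg d hd => by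
        obtain ⟨m, hm⟩ := ha g hg d hd
        obtain ⟨m', hm'⟩ := hb g hg d hd
        exact ⟨m + m', by rw [pow_add]; linear_combination g ^ m' * hm + g ^ m * hm'⟩
      zero_mem' := fun g _ d _ => ⟨0, by rw [zero_mul, mul_zero]⟩
      smul_mem' := fun r a ha g hg d hd => by
        obtain ⟨m, hm⟩ := ha g hg d hd
        exact ⟨m, by rw [smul_eq_mul]; linear_combination r * hm⟩ }
  refine ⟨K, fun f hf => ?_⟩
  obtain ⟨c, n, hcJ, hc, hsurj⟩ := hmain f hf
  choose mg hmg using fun g : G => hc _ (hmain g.1 (hGI g.1 g.2)).choose_spec.choose_spec.1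
  let P := ∑ g : G, mg g
  have hK : f ^ P * (f ^ n - c) ∈ K := by
    intro g hg d hd
    obtain ⟨hgJ, hgc, -⟩ := (hmain g (hGI g hg)).choose_spec.choose_spec
    obtain ⟨m, hm⟩ := hgc d hd
    have h1 := hmg ⟨g, hg⟩
    obtain ⟨i, hi⟩ : ∃ i, P = mg ⟨g, hg⟩ + i := Nat.exists_eq_add_of_le
      (Finset.single_le_sum (f := mg) (fun x _ => Nat.zero_le _) (Finset.mem_univ (⟨g, hg⟩ : ↥G)) : mg ⟨g, hg⟩ ≤ P)
    refine ⟨m + (hmain g (hGI g hg)).choose_spec.choose, ?_⟩
    rw [hi, pow_add, pow_add]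
    linear_combination (f ^ mg ⟨g, hg⟩ * f ^ i * (f ^ n - c)) * hm + (g ^ m * f ^ i * d) * h1
  refine ⟨(injective_iff_map_eq_zero _).2 fun x hx => ?_, fun x => ?_⟩
  · obtain ⟨a, ⟨_, i, rfl⟩, rfl⟩ := IsLocalization.exists_mk'_eq (Submonoid.powers f) x
    have h0 : algebraMap A (Localization (Algebra.algebraMapSubmonoid (C × (A ⧸ K)) (Submonoid.powers f))) a = 0 := by
      rw [IsScalarTower.algebraMap_apply A (Localization.Away f), ← IsLocalization.mk'_spec (Localization.Away f) a (⟨f ^ i, i, rfl⟩ : Submonoid.powers f),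
        map_mul, hx, zero_mul]
    rw [IsScalarTower.algebraMap_apply A (C × (A ⧸ K))] at h0
    obtain ⟨⟨_, s, ⟨j, rfl⟩, rfl⟩, hs⟩ := (IsLocalization.map_eq_zero_iff
      (Algebra.algebraMapSubmonoid (C × (A ⧸ K)) (Submonoid.powers f)) _ _).1 h0
    rw [← map_mul] at hs
    have hJd : f ^ j * a ∈ J := congrArg Prod.fst hs
    have hKd : f ^ j * a ∈ K := Ideal.Quotient.eq_zero_iff_mem.1 (congrArg Prod.snd hs)
    have hann : ∀ g ∈ G, ∃ m : ℕ, g ^ m * (f ^ j * a) = 0 := fun g hg => by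
      obtain ⟨hgJ, hgc, -⟩ := (hmain g (hGI g hg)).choose_spec.choose_spec
      obtain ⟨m, hm⟩ := hgc _ hJd
      obtain ⟨m', hm'⟩ := hKd g hg _ hgJ
      refine ⟨m' + m + (hmain g (hGI g hg)).choose_spec.choose, ?_⟩
      rw [pow_add, pow_add]
      linear_combination g ^ m' * hm + g ^ m * hm'
    obtain ⟨M, hM⟩ : ∃ M : ℕ, f ^ M * (f ^ j * a) = 0 := by
      let Q : Ideal A := LinearMap.ker (LinearMap.mulRight A (f ^ j * a))
      suffices hrad : f ∈ Q.radical by
        obtain ⟨M, hM⟩ := hrad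
        exact ⟨M, hM⟩
      refine (hG ▸ Ideal.span_le.2 fun g hg => ?_ : I ≤ _) hf
      exact hann g hg
    exact IsLocalization.mk'_eq_zero_iff (M := Submonoid.powers f) a (⟨f ^ i, i, rfl⟩ : Submonoid.powers f) |>.2
      ⟨(⟨f ^ (M + j), M + j, rfl⟩ : Submonoid.powers f), by show f ^ (M + j) * a = 0; rw [pow_add, mul_assoc]; exact hM⟩
  · obtain ⟨⟨p, q⟩, ⟨_, s, ⟨i, rfl⟩, rfl⟩, rfl⟩ := IsLocalization.exists_mk'_eq
      (Algebra.algebraMapSubmonoid (C × (A ⧸ K)) (Submonoid.powers f)) x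
    obtain ⟨b, rfl⟩ := Ideal.Quotient.mk_surjective q
    obtain ⟨a, L, ha⟩ := hsurj p
    refine ⟨IsLocalization.mk' _ ((f ^ n - c) * a * f ^ P + c * b * f ^ (P + L)) (⟨f ^ (n + P + L + i), _, rfl⟩ : Submonoid.powers f), ?_⟩
    apply ((IsLocalization.map_units (Localization (Algebra.algebraMapSubmonoid (C × (A ⧸ K)) (Submonoid.powers f)))
      (⟨algebraMap A (C × (A ⧸ K)) (f ^ (n + P + L + i)), _, ⟨_, rfl⟩, rfl⟩ :
        Algebra.algebraMapSubmonoid (C × (A ⧸ K)) (Submonoid.powers f)))).mul_left_inj.1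
    rw [← IsScalarTower.algebraMap_apply A (C × (A ⧸ K)), IsScalarTower.algebraMap_apply A (Localization.Away f),
      ← map_mul, IsLocalization.mk'_spec, ← IsScalarTower.algebraMap_apply, ← IsScalarTower.algebraMap_apply,
      IsScalarTower.algebraMap_apply A (C × (A ⧸ K)), IsScalarTower.algebraMap_apply A (C × (A ⧸ K)) _ (f ^ (n + P + L + i)),
      pow_add f (n + P + L) i, map_mul (algebraMap A (C × (A ⧸ K))), mul_comm (algebraMap A (C × (A ⧸ K)) (f ^ (n + P + L))),
      map_mul, ← mul_assoc, IsLocalization.mk'_spec, ← map_mul]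
    congr 1
    refine Prod.ext ?_ ?_
    · show algebraMap A C _ = p * algebraMap A C (f ^ (n + P + L))
      have hc0 : algebraMap A C c = 0 := hcJ
      simp only [map_add, map_mul, map_sub, hc0, map_pow, ha, pow_add]
      ring
    · show Ideal.Quotient.mk K _ = Ideal.Quotient.mk K b * Ideal.Quotient.mk K (f ^ (n + P + L))
      rw [← map_mul, Ideal.Quotient.eq]
      have : (f ^ n - c) * a * f ^ P + c * b * f ^ (P + L) - b * f ^ (n + P + L) =
          (a - b * f ^ L) * (f ^ P * (f ^ n - c)) := by rw [pow_add, pow_add, pow_add]; ring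
      rw [this]
      exact Ideal.mul_mem_left _ _ hK

end Groth.Agent.S9303
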