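import Groth.Statements.S9305
import Groth.Agent.Hensel.BranchCountStrict
-- import your own Groth.Agent.* helpers here

set_option autoImplicit false
universe u
open CAlg

namespace Groth.Agent.S9305

open TensorProduct IsLocalRing

/-- Minimal and maximal ideals correspond uniquely. -/
def Matched (W : Type u) [CommRing W] : Prop :=
  (∀ q ∈ minimalPrimes W, ∃! m : Ideal W, m.IsMaximal ∧ q ≤ m) ∧
    ∀ m : Ideal W, m.IsMaximal → ∃! q : Ideal W, q ∈ minimalPrimes W ∧ q ≤ m

theorem comap_mem {W T : Type u} [CommRing W] [CommRing T] (e : W ≃+* T) {q : Ideal T} (hq : q ∈ minimalPrimes T) :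
    q.comap e.toRingHom ∈ minimalPrimes W := by
  haveI := hq.1.1
  refine ⟨⟨Ideal.IsPrime.comap _, bot_le⟩, fun J hJ hle => ?_⟩
  haveI := hJ.1
  have h1 : q ≤ J.comap e.symm.toRingHom := hq.2 ⟨Ideal.IsPrime.comap _, bot_le⟩ fun x hx => by
    have := hle hx
    rw [Ideal.mem_comap] at this
    simpa using this
  intro x hx
  simpa using h1 hx

theorem Matched.of_ringEquiv {W T : Type u} [CommRing W] [CommRing T] (e : W ≃+* T) (h : Matched T) : Matched W := by
  have h2 : ∀ I : Ideal W, (I.comap e.symm.toRingHom).comap e.toRingHom = I := fun I => by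
    ext x; simp
  have hmax : ∀ m : Ideal W, m.IsMaximal → (m.comap e.symm.toRingHom).IsMaximal := fun m hm =>
    haveI := hm
    Ideal.comap_isMaximal_of_surjective _ e.symm.surjective
  refine ⟨fun q hq => ?_, fun m hm => ?_⟩
  · obtain ⟨m, ⟨hm, hle⟩, hu⟩ := h.1 _ (comap_mem e.symm hq)
    haveI := hm
    refine ⟨m.comap e.toRingHom, ⟨Ideal.comap_isMaximal_of_surjective _ e.surjective,
      h2 q ▸ Ideal.comap_mono hle⟩, fun m' hm' => ?_⟩
    rw [← h2 m', hu _ ⟨hmax _ hm'.1, Ideal.comap_mono hm'.2⟩]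
  · obtain ⟨q, ⟨hq, hle⟩, hu⟩ := h.2 _ (hmax m hm)
    refine ⟨q.comap e.toRingHom, ⟨comap_mem e hq, h2 m ▸ Ideal.comap_mono hle⟩, fun q' hq' => ?_⟩
    rw [← h2 q', hu _ ⟨comap_mem e.symm hq'.1, Ideal.comap_mono hq'.2⟩]

theorem eq_ker_of_le {T : Type u} [CommRing T] (M : Ideal T) [M.IsPrime] [IsDomain (Localization.AtPrime M)]
    {q : Ideal T} (hq : q ∈ minimalPrimes T) (hle : q ≤ M) :
    q = RingHom.ker (algebraMap T (Localization.AtPrime M)) := by
  haveI := hq.1.1
  haveI : (RingHom.ker (algebraMap T (Localization.AtPrime M))).IsPrime := RingHom.ker_isPrime _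
  have h : RingHom.ker (algebraMap T (Localization.AtPrime M)) ≤ q := fun x hx => by
    obtain ⟨c, hc⟩ := (IsLocalization.map_eq_zero_iff M.primeCompl _ x).1 hx
    exact (hq.1.1.mem_or_mem (hc ▸ q.zero_mem)).resolve_left fun h => c.2 (hle h)
  exact le_antisymm (hq.2 ⟨inferInstance, bot_le⟩ h) h

theorem matched_of_isIntegral (S T : Type u) [CommRing S] [HenselianLocalRing S] [CommRing T] [Algebra S T]
    [Algebra.IsIntegral S T] (hdom : ∀ (M : Ideal T) [M.IsMaximal], IsDomain (Localization.AtPrime M)) :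
    Matched T := by
  refine ⟨fun q hq => ?_, fun m hm => ?_⟩
  · haveI := hq.1.1
    haveI : IsLocalRing (T ⧸ q) := Hensel.isLocalRing_of_integral_domain S (T ⧸ q)
    refine ⟨(maximalIdeal (T ⧸ q)).comap (Ideal.Quotient.mk q),
      ⟨Ideal.comap_isMaximal_of_surjective _ Ideal.Quotient.mk_surjective, Ideal.mk_ker.ge.trans
        (Ideal.comap_mono bot_le)⟩, fun m hm => ?_⟩
    have hk : RingHom.ker (Ideal.Quotient.mk q) ≤ m := Ideal.mk_ker.trans_le hm.2
    haveI : (m.map (Ideal.Quotient.mk q)).IsMaximal := by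
      refine (Ideal.map_eq_top_or_isMaximal_of_surjective _ Ideal.Quotient.mk_surjective hm.1).resolve_left
        fun h => hm.1.ne_top ?_
      have := congrArg (Ideal.comap (Ideal.Quotient.mk q)) h
      rwa [Ideal.comap_map_of_surjective' _ Ideal.Quotient.mk_surjective, sup_eq_left.2 hk, Ideal.comap_top] at this
    rw [← eq_maximalIdeal (inferInstance : (m.map (Ideal.Quotient.mk q)).IsMaximal),
      Ideal.comap_map_of_surjective' _ Ideal.Quotient.mk_surjective, sup_eq_left.2 hk]
  · haveI := hm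
    haveI := hdom m
    obtain ⟨q, hq, hle⟩ := Ideal.exists_minimalPrimes_le (bot_le : (⊥ : Ideal T) ≤ m)
    exact ⟨q, ⟨hq, hle⟩, fun q' hq' => (eq_ker_of_le m hq'.1 hq'.2).trans (eq_ker_of_le m hq hle).symm⟩

open TensorProduct in
/-- Let A be a local ring with finitely many minimal primes, A' the integral closure of A_red in its
total ring of fractions and A^sh a strict henselization of A. In the ring A' ⊗_A A^sh, each minimal
prime lies in exactly one maximal ideal and each maximal ideal contains exactly one minimal prime. -/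
theorem result {A Ash : Type u} [CommRing A]
    [IsLocalRing A] (hfin : (minimalPrimes A).Finite) [CommRing Ash] [IsLocalRing Ash] [Algebra A Ash]
    [IsLocalHom (algebraMap A Ash)] [Hensel.IsStrictHenselization A Ash] :
    (∀ q ∈ minimalPrimes ((CAlg2.normRed A) ⊗[A] Ash),
        ∃! m : Ideal ((CAlg2.normRed A) ⊗[A] Ash), m.IsMaximal ∧ q ≤ m) ∧
      (∀ m : Ideal ((CAlg2.normRed A) ⊗[A] Ash), m.IsMaximal →
        ∃! q : Ideal ((CAlg2.normRed A) ⊗[A] Ash), q ∈ minimalPrimes ((CAlg2.normRed A) ⊗[A] Ash) ∧ q ≤ m) := by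
  classical
  haveI : HenselianLocalRing Ash := _root_.Hensel.IsStrictHenselization.henselian (R := A)
  haveI := Hensel.isIntegral_normRed A
  haveI := Hensel.isIntegral_brTensor (A := A) (S := Ash)
  refine Matched.of_ringEquiv (W := CAlg2.normRed A ⊗[A] Ash) (T := Hensel.brTensor A Ash) (Algebra.TensorProduct.comm A (CAlg2.normRed A) Ash).toRingEquiv
    (matched_of_isIntegral Ash _ fun M _ => ?_)
  obtain ⟨hMS, hqm, hqo⟩ := Hensel.comap_maximal_brTensor M
  haveI := hqm
  haveI := hqo
  obtain ⟨_, _⟩ := Hensel.normal_atPrime_normRed A hfin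
    (M.comap (Algebra.TensorProduct.includeRight : CAlg2.normRed A →ₐ[A] Hensel.brTensor A Ash).toRingHom)
  exact Hensel.isDomain_atPrime_strict (A := A) (S := Ash)
    (M.comap (Algebra.TensorProduct.includeRight : CAlg2.normRed A →ₐ[A] Hensel.brTensor A Ash).toRingHom) M hMS rfl

end Groth.Agent.S9305
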