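import Groth.Statements.S9310
import Groth.Agent.Cohen.Structure
import Groth.Agent.S11741
import Groth.Agent.ArtObs.Models

set_option autoImplicit false
universe u
open CAlg Groth.Agent

namespace Groth.Agent.S9310

/-- Let K be a field, A = K[[x_1, ..., x_n]], and y_1, ..., y_n ∈ A a regular system of parameters (n
elements generating the maximal ideal). Then the substitution map K[[y_1, ..., y_n]] → A is an
isomorphism: f ↦ f(y_1, ..., y_n) is a bijection of K[[x_1, ..., x_n]] onto itself. -/
theorem result (K : Type u) [Field K] (n : ℕ)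
    (y : Fin n → MvPowerSeries (Fin n) K)
    (hy : Ideal.span (Set.range y) = IsLocalRing.maximalIdeal (MvPowerSeries (Fin n) K)) :
    Function.Bijective (MvPowerSeries.subst y : MvPowerSeries (Fin n) K → MvPowerSeries (Fin n) K) := by
  classical
  let A := MvPowerSeries (Fin n) K
  haveI := Cohen.isRegularLocalRing_mvPowerSeries K n
  haveI : IsAdicComplete (IsLocalRing.maximalIdeal A) A := ArtKit.isAdicComplete_mvPowerSeries
  have hmem : ∀ i, y i ∈ IsLocalRing.maximalIdeal A := fun i => hy ▸ Ideal.subset_span ⟨i, rfl⟩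
  have hc : ∀ i, MvPowerSeries.constantCoeff (y i) = 0 := fun i => by
    by_contra h
    exact (IsLocalRing.mem_maximalIdeal _).1 (hmem i)
      (MvPowerSeries.isUnit_iff_constantCoeff.2 (isUnit_iff_ne_zero.2 h))
  have hs : MvPowerSeries.HasSubst y := MvPowerSeries.hasSubst_of_constantCoeff_zero hc
  let ψ : A →ₐ[K] A := MvPowerSeries.substAlgHom hs
  have hX : ∀ i, ψ (MvPowerSeries.X i) = y i := fun i => MvPowerSeries.substAlgHom_X hs i
  have hψ : ∀ i : Fin n, ψ (MvPowerSeries.X i) ∈ IsLocalRing.maximalIdeal A := fun i => by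
    rw [hX]; exact hmem i
  have hR : Function.Surjective ((IsLocalRing.residue A).comp (algebraMap K A)) := fun z => by
    obtain ⟨f, rfl⟩ := IsLocalRing.residue_surjective z
    refine ⟨MvPowerSeries.constantCoeff f, ?_⟩
    rw [RingHom.comp_apply, ← sub_eq_zero, ← map_sub, IsLocalRing.residue_eq_zero_iff]
    rw [IsLocalRing.mem_maximalIdeal, mem_nonunits_iff, MvPowerSeries.isUnit_iff_constantCoeff]
    simp [A, MvPowerSeries.algebraMap_apply]
  let v : Fin n → (IsLocalRing.maximalIdeal A).Cotangent :=
    fun i => (IsLocalRing.maximalIdeal A).toCotangent ⟨ψ (MvPowerSeries.X i), hψ i⟩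
  have htop : Submodule.span (IsLocalRing.ResidueField A) (Set.range v) = ⊤ := by
    rw [eq_top_iff]
    rintro z -
    obtain ⟨⟨m, hm⟩, rfl⟩ := (IsLocalRing.maximalIdeal A).toCotangent_surjective z
    have hm' := hm
    rw [← hy, Ideal.mem_span_range_iff_exists_fun] at hm'
    obtain ⟨c, hcsum⟩ := hm'
    have heq : (⟨m, hm⟩ : IsLocalRing.maximalIdeal A) = ∑ i, c i • ⟨ψ (MvPowerSeries.X i), hψ i⟩ := by
      refine Subtype.ext ?_
      rw [Submodule.coe_sum]
      simp [← hcsum, hX]
    rw [heq, map_sum]
    refine Submodule.sum_mem _ fun i _ => ?_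
    rw [map_smul, ← algebraMap_smul (IsLocalRing.ResidueField A) (c i)]
    exact Submodule.smul_mem _ _ (Submodule.subset_span ⟨i, rfl⟩)
  have hcard : Module.finrank (IsLocalRing.ResidueField A) (IsLocalRing.CotangentSpace A) = n := by
    refine le_antisymm ?_ ?_
    · have := finrank_range_le_card (R := IsLocalRing.ResidueField A) v
      rw [Set.finrank, htop, finrank_top, Fintype.card_fin] at this
      exact this
    · have h1 := IsRegularLocalRing.spanFinrank_maximalIdeal (R := A)
      rw [IsLocalRing.spanFinrank_maximalIdeal_eq_finrank_cotangentSpace] at h1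
      have h2 := ArtObs.dim_ps_ge (k := K) n
      rw [← h1] at h2
      exact_mod_cast h2
  have hli : LinearIndependent (IsLocalRing.ResidueField A) v :=
    linearIndependent_of_top_le_span_of_card_eq_finrank htop.ge (by rw [Fintype.card_fin]; exact hcard.symm)
  have := (S11741.result K A hR n ψ hψ hli htop).1 inferInstance
  rwa [MvPowerSeries.coe_substAlgHom] at this

end Groth.Agent.S9310
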