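import Groth.Statements.S9311
import Groth.Agent.KumFam.SubstInv
import Mathlib

set_option autoImplicit false
universe u
open CAlg MvPowerSeries

namespace Groth.Agent.S9311

/-- Let Λ be a Cohen ring (a complete discrete valuation ring whose maximal ideal is generated by a
prime number p), B = Λ[[x_1, ..., x_n]], and y_1, ..., y_n ∈ B with zero constant terms such that p,
y_1, ..., y_n is a regular system of parameters of B (these n + 1 elements generate the maximal
ideal). Then the substitution map Λ[[y_1, ..., y_n]] → B is an isomorphism: f ↦ f(y_1, ..., y_n) is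
a bijection of Λ[[x_1, ..., x_n]] onto itself. (The published statement allows the y_i to have
constant terms in pΛ, the substitution being defined through the (p, x)-adic topology of B; this row
asks the constant terms to vanish, the case in which substitution is defined coefficientwise with no
topology on Λ.) -/
theorem result (Λ : Type u) [CommRing Λ] [IsDomain Λ]
    [IsDiscreteValuationRing Λ] [IsAdicComplete (IsLocalRing.maximalIdeal Λ) Λ] (p : ℕ) (hp : p.Prime)
    (hm : IsLocalRing.maximalIdeal Λ = Ideal.span {(p : Λ)}) (n : ℕ)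
    (y : Fin n → MvPowerSeries (Fin n) Λ) (hy0 : ∀ i, MvPowerSeries.constantCoeff (y i) = 0)
    (hy : Ideal.span (insert (p : MvPowerSeries (Fin n) Λ) (Set.range y)) =
      IsLocalRing.maximalIdeal (MvPowerSeries (Fin n) Λ)) :
    Function.Bijective (MvPowerSeries.subst y : MvPowerSeries (Fin n) Λ → MvPowerSeries (Fin n) Λ) := by
  classical
  let M : Matrix (Fin n) (Fin n) Λ := Matrix.of fun i j => coeff (Finsupp.single j 1) (y i)
  have hlin : ∀ i, KumFam.VanishBelow 2 (y i - KumFam.linSubst M i) := by
    intro i d hd
    have hd' : d.degree = 0 ∨ d.degree = 1 := by omega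
    rcases hd' with h | h
    · rw [(Finsupp.degree_eq_zero_iff d).1 h]
      simp [KumFam.linSubst, hy0 i]
    · obtain ⟨j, rfl⟩ : ∃ j, d = Finsupp.single j 1 := by
        exact (Finsupp.sum_eq_one_iff d).1 h
      simp [KumFam.linSubst, coeff_X, M, Finset.sum_ite_eq', Finsupp.single_left_inj, eq_comm]
  refine KumFam.bijective_subst y M ?_ hlin
  have hX : ∀ k, (X k : MvPowerSeries (Fin n) Λ) ∈ Ideal.span (insert (p : MvPowerSeries (Fin n) Λ) (Set.range y)) := by
    intro k
    rw [hy, IsLocalRing.mem_maximalIdeal, mem_nonunits_iff]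
    intro hu
    simpa using (isUnit_constantCoeff _ hu)
  have hH : ∀ k, ∃ (g : MvPowerSeries (Fin n) Λ) (h : Fin n → MvPowerSeries (Fin n) Λ),
      X k = g * (p : MvPowerSeries (Fin n) Λ) + ∑ i, h i * y i := by
    intro k
    obtain ⟨g, z, hz, he⟩ := Ideal.mem_span_insert.1 (hX k)
    obtain ⟨h, rfl⟩ := (Ideal.mem_span_range_iff_exists_fun).1 hz
    exact ⟨g, h, he⟩
  choose g h hH using hH
  let H : Matrix (Fin n) (Fin n) Λ := Matrix.of fun k i => constantCoeff (h k i)
  let red := IsLocalRing.residue Λ
  have key : (H * M).map red = 1 := by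
    ext k j
    have h1 := congrArg (coeff (Finsupp.single j 1)) (hH k)
    rw [map_add, map_sum] at h1
    have h2 : ∀ i, coeff (Finsupp.single j 1) (h k i * y i) = constantCoeff (h k i) * M i j := by
      intro i
      rw [coeff_mul, Finsupp.antidiagonal_single, Finset.sum_map]
      simp [Finset.Nat.antidiagonal_succ, Finset.Nat.antidiagonal_zero, M, hy0 i]
    have hp0 : red (p : Λ) = 0 := by
      rw [IsLocalRing.residue_eq_zero_iff, hm]; exact Ideal.mem_span_singleton_self _
    have h3 : red (coeff (Finsupp.single j 1) (g k * (p : MvPowerSeries (Fin n) Λ))) = 0 := by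
      rw [← map_natCast (C : Λ →+* MvPowerSeries (Fin n) Λ), coeff_mul_C, map_mul, hp0, mul_zero]
    simp only [h2] at h1
    rw [Matrix.map_apply, Matrix.mul_apply]
    have h4 := congrArg red h1
    rw [map_add, h3, zero_add] at h4
    simp only [H, Matrix.of_apply]
    rw [← h4, coeff_X, Matrix.one_apply]
    simp [Finsupp.single_left_inj, apply_ite red, eq_comm]
  have hdet : IsUnit ((H * M).det) := by
    rw [← IsLocalRing.residue_ne_zero_iff_isUnit]
    have := congrArg Matrix.det key
    rw [Matrix.det_one, ← RingHom.mapMatrix_apply, ← RingHom.map_det] at this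
    rw [this]; exact one_ne_zero
  rw [Matrix.det_mul] at hdet
  exact isUnit_of_mul_isUnit_right hdet

end Groth.Agent.S9311
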