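import Groth.Statements.S9312
import Mathlib.Algebra.Polynomial.Lifts
import Mathlib.Algebra.MvPolynomial.Eval
import Mathlib.RingTheory.TensorProduct.Maps
import Mathlib.RingTheory.Ideal.Quotient.Operations

set_option autoImplicit false
universe u
open CAlg

namespace Groth.Agent.S9312

open scoped TensorProduct
open MvPolynomial in
/-- Invariant elements of polynomial rings have invariant coefficients. -/
lemma mem_range_map {B S : Type u} [CommRing B] [CommRing S] {G : Type u} (ι : B →+* S) (α : G → (S →+* S))
    (hfix : ∀ s, (∀ σ, α σ s = s) → s ∈ Set.range ι) {κ : Type u} (f : MvPolynomial κ S)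
    (hf : ∀ σ, map (α σ) f = f) : f ∈ Set.range (map (σ := κ) ι) := by
  refine mem_range_map_iff_coeffs_subset.2 ?_
  intro s hs
  obtain ⟨m, -, rfl⟩ := mem_coeffs_iff.1 hs
  exact hfix _ fun σ => by rw [← coeff_map, hf σ]

/-- The product over the conjugates descends to the fixed ring. -/
lemma exists_descent {B S : Type u} [CommRing B] [CommRing S] {G : Type u} [Group G] [Fintype G]
    (ι : B →+* S) (hι : Function.Injective ι) (α : G → (S →+* S))
    (hα : ∀ σ τ s, α (σ * τ) s = α σ (α τ s))
    (hfix : ∀ s, (∀ σ, α σ s = s) → s ∈ Set.range ι) (f : S) :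
    ∃ P : Polynomial B, P.Monic ∧
      P.map ι = ∏ σ : G, (Polynomial.X - Polynomial.C (α σ f)) := by
  have h : (∏ σ : G, (Polynomial.X - Polynomial.C (α σ f))) ∈ Polynomial.lifts ι := by
    rw [Polynomial.lifts_iff_coeff_lifts]
    intro k
    refine hfix _ fun τ => ?_
    rw [← Polynomial.coeff_map, Polynomial.map_prod]
    congr 1
    refine Fintype.prod_equiv (Equiv.mulLeft τ) _ _ fun σ => ?_
    simp [hα]
  obtain ⟨P, hP⟩ := (Polynomial.mem_lifts _).1 h
  refine ⟨P, Polynomial.monic_of_injective hι ?_, hP⟩
  rw [hP]
  exact Polynomial.monic_prod_of_monic _ _ fun σ _ => Polynomial.monic_X_sub_C _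

/-- Let a finite group G with n elements act on a ring R by ring automorphisms, with invariant ring R^G,
and let A be an algebra over R^G; G acts on A ⊗ R through the factor R. (1) For every G-invariant b
∈ A ⊗ R there is a monic polynomial over A whose image in (A ⊗ R)[T] is (T - b)^n. (2) For every a
in the kernel of A → A ⊗ R, all coefficients of (T - a)^n below degree n vanish, that is (T - a)^n =
T^n in A[T]. -/
theorem result (R G A : Type u) [CommRing R] [Group G] [Fintype G]
    [MulSemiringAction G R] [CommRing A] [Algebra (FixedPoints.subring R G) A] :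
    (∀ b : TensorProduct (FixedPoints.subring R G) A R,
      (∀ σ : G, Algebra.TensorProduct.map (AlgHom.id (FixedPoints.subring R G) A)
        (MulSemiringAction.toAlgHom (FixedPoints.subring R G) R σ) b = b) →
      ∃ P : Polynomial A, P.Monic ∧
        Polynomial.map (algebraMap A (TensorProduct (FixedPoints.subring R G) A R)) P =
          (Polynomial.X - Polynomial.C b) ^ Fintype.card G) ∧
    (∀ a : A, algebraMap A (TensorProduct (FixedPoints.subring R G) A R) a = 0 →
      ∀ i : ℕ, i < Fintype.card G → ((Polynomial.X - Polynomial.C a) ^ Fintype.card G).coeff i = 0) := by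
  classical
  let ι : (MvPolynomial A (FixedPoints.subring R G)) →+* (MvPolynomial A R) := MvPolynomial.map (FixedPoints.subring R G).subtype
  have hι : Function.Injective ι := MvPolynomial.map_injective _ Subtype.val_injective
  let α : G → ((MvPolynomial A R) →+* (MvPolynomial A R)) := fun σ => MvPolynomial.map (MulSemiringAction.toRingHom G R σ)
  have hα : ∀ σ τ s, α (σ * τ) s = α σ (α τ s) := fun σ τ s => by
    show _ = MvPolynomial.map _ (MvPolynomial.map _ s)
    rw [MvPolynomial.map_map]
    refine RingHom.congr_fun (congrArg (MvPolynomial.map (σ := A)) (RingHom.ext fun r => ?_)) s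
    exact mul_smul σ τ r
  have hfix : ∀ s, (∀ σ, α σ s = s) → s ∈ Set.range ι := fun s hs =>
    mem_range_map (FixedPoints.subring R G).subtype (fun σ : G => MulSemiringAction.toRingHom G R σ)
      (fun r hr => ⟨⟨r, fun σ => hr σ⟩, rfl⟩) s hs
  have hιfix : ∀ σ b, α σ (ι b) = ι b := fun σ b => by
    show MvPolynomial.map _ (MvPolynomial.map _ b) = _
    rw [MvPolynomial.map_map]
    refine RingHom.congr_fun (congrArg (MvPolynomial.map (σ := A)) (RingHom.ext fun r => ?_)) b
    exact r.2 σ
  let π : (MvPolynomial A (FixedPoints.subring R G)) →ₐ[(FixedPoints.subring R G)] A := MvPolynomial.aeval id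
  have hπ : Function.Surjective π.toRingHom := fun a => ⟨MvPolynomial.X a, MvPolynomial.aeval_X _ a⟩
  constructor
  · intro b hb
    let Ψ : (MvPolynomial A R) →+* A ⊗[(FixedPoints.subring R G)] R := MvPolynomial.eval₂Hom
      (Algebra.TensorProduct.includeRight (R := (FixedPoints.subring R G)) (A := A) (B := R)).toRingHom (fun a => a ⊗ₜ 1)
    have hsurj : Function.Surjective Ψ := fun z => by
      induction z with
      | zero => exact ⟨0, map_zero Ψ⟩
      | tmul a r => exact ⟨MvPolynomial.C r * MvPolynomial.X a, by simp [Ψ]⟩
      | add x y hx hy =>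
        obtain ⟨x, rfl⟩ := hx
        obtain ⟨y, rfl⟩ := hy
        exact ⟨x + y, map_add Ψ x y⟩
    obtain ⟨f, rfl⟩ := hsurj b
    obtain ⟨P, hPm, hP⟩ := exists_descent ι hι α hα hfix f
    refine ⟨P.map π.toRingHom, hPm.map _, ?_⟩
    have e1 : (algebraMap A (A ⊗[(FixedPoints.subring R G)] R)).comp π.toRingHom = Ψ.comp ι := by
      refine MvPolynomial.ringHom_ext (fun r => ?_) fun a => ?_
      · simp [π, ι, Ψ, Algebra.TensorProduct.algebraMap_apply]
        rw [Algebra.algebraMap_eq_smul_one, TensorProduct.smul_tmul, Algebra.smul_def, mul_one]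
        rfl
      · simp [π, ι, Ψ, Algebra.TensorProduct.algebraMap_apply]
    have e2 : ∀ σ : G, Ψ (α σ f) = Ψ f := fun σ => by
      have h : Ψ.comp (α σ) = ((Algebra.TensorProduct.map (AlgHom.id (FixedPoints.subring R G) A)
          (MulSemiringAction.toAlgHom (FixedPoints.subring R G) R σ)).toRingHom).comp Ψ := by
        refine MvPolynomial.ringHom_ext (fun r => ?_) fun a => ?_
        · simp [α, Ψ]
        · simp [α, Ψ]
      exact (RingHom.congr_fun h f).trans (hb σ)
    rw [Polynomial.map_map, e1, ← Polynomial.map_map, hP, Polynomial.map_prod]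
    simp only [Polynomial.map_sub, Polynomial.map_X, Polynomial.map_C, e2, Finset.prod_const, Finset.card_univ]
  · intro a ha i hi
    let J : Ideal (MvPolynomial A (FixedPoints.subring R G)) := RingHom.ker π.toRingHom
    let v : J → (MvPolynomial A R) := fun j => ι j
    let K : Ideal (MvPolynomial A R) := Ideal.span (Set.range v)
    -- the variable lies in the extended ideal
    have hK : (MvPolynomial.X a : (MvPolynomial A R)) ∈ K := by
      let f₀ : A →+* (MvPolynomial A R) ⧸ K := RingHom.liftOfSurjective π.toRingHom hπ
        ⟨(Ideal.Quotient.mk K).comp ι, fun j hj => RingHom.mem_ker.2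
          (Ideal.Quotient.eq_zero_iff_mem.2 (Ideal.subset_span ⟨⟨j, hj⟩, rfl⟩))⟩
      have hf₀ : ∀ z, f₀ (π.toRingHom z) = Ideal.Quotient.mk K (ι z) := fun z =>
        RingHom.liftOfRightInverse_comp_apply _ _ _ _ z
      let fA : A →ₐ[(FixedPoints.subring R G)] (MvPolynomial A R) ⧸ K :=
        { f₀ with
          commutes' := fun r => by
            show f₀ (algebraMap (FixedPoints.subring R G) A r) = _
            rw [← π.commutes r]
            refine (hf₀ _).trans ?_
            simp [ι]
            rfl }
      let fR : R →ₐ[(FixedPoints.subring R G)] (MvPolynomial A R) ⧸ K :=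
        { (Ideal.Quotient.mk K).comp (MvPolynomial.C (σ := A)) with commutes' := fun r => rfl }
      let φ := Algebra.TensorProduct.lift fA fR fun x y => mul_comm _ _
      have h := congrArg φ ha
      rw [map_zero] at h
      refine Ideal.Quotient.eq_zero_iff_mem.1 (Eq.trans ?_ h)
      show _ = φ (a ⊗ₜ (1 : R))
      rw [Algebra.TensorProduct.lift_tmul, map_one, mul_one]
      show _ = f₀ a
      refine Eq.trans ?_ ((hf₀ (MvPolynomial.X a)).symm.trans (congrArg f₀ (MvPolynomial.aeval_X id a)))
      simp [ι]
    obtain ⟨c, hc⟩ := Finsupp.mem_span_range_iff_exists_finsupp.1 hK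
    -- the generic combination
    let g : MvPolynomial J (MvPolynomial A R) := c.sum fun k b => MvPolynomial.C b * MvPolynomial.X k
    let β : G → (MvPolynomial J (MvPolynomial A R) →+* MvPolynomial J (MvPolynomial A R)) := fun σ => MvPolynomial.map (α σ)
    obtain ⟨P, -, hP⟩ := exists_descent (B := MvPolynomial J (MvPolynomial A (FixedPoints.subring R G)))
      (MvPolynomial.map (σ := J) ι) (MvPolynomial.map_injective _ hι) β
      (fun σ τ s => by
        show _ = MvPolynomial.map _ (MvPolynomial.map _ s)
        rw [MvPolynomial.map_map]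
        exact RingHom.congr_fun (congrArg (MvPolynomial.map (σ := J)) (RingHom.ext (hα σ τ))) s)
      (fun s hs => mem_range_map ι α hfix s (fun σ => hs σ)) g
    let h := P.coeff i
    have hh0 : MvPolynomial.constantCoeff h = 0 := by
      refine hι ?_
      rw [map_zero, ← MvPolynomial.constantCoeff_map]
      have e : (P.map (MvPolynomial.map ι)).map MvPolynomial.constantCoeff =
          (Polynomial.X : Polynomial (MvPolynomial A R)) ^ Fintype.card G := by
        rw [hP, Polynomial.map_prod]
        have hg : MvPolynomial.constantCoeff g = 0 := by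
          simp only [g, Finsupp.sum, map_sum, map_mul, MvPolynomial.constantCoeff_X, mul_zero,
            Finset.sum_const_zero]
        simp [β, MvPolynomial.constantCoeff_map, hg, Finset.prod_const]
      have := congrArg (fun q => q.coeff i) e
      simp only [Polynomial.coeff_map, Polynomial.coeff_X_pow, if_neg hi.ne] at this
      exact this
    let e₀ : MvPolynomial J (MvPolynomial A (FixedPoints.subring R G)) →+* (MvPolynomial A (FixedPoints.subring R G)) := MvPolynomial.eval₂Hom (RingHom.id (MvPolynomial A (FixedPoints.subring R G))) (fun j : J => (j : (MvPolynomial A (FixedPoints.subring R G))))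
    let ev : MvPolynomial J (MvPolynomial A R) →+* (MvPolynomial A R) := MvPolynomial.eval₂Hom (RingHom.id (MvPolynomial A R)) v
    have hJ : ∀ z, e₀ z - MvPolynomial.constantCoeff z ∈ J := fun z => by
      induction z using MvPolynomial.induction_on with
      | C b => simp [e₀]
      | add p q hp hq => convert J.add_mem hp hq using 1; simp only [map_add]; ring
      | mul_X p k _ => simp [e₀, J.mul_mem_left _ k.2]
    have e1 : ev.comp (MvPolynomial.map ι) = ι.comp e₀ :=
      MvPolynomial.ringHom_ext (fun r => by simp [ev, e₀]) fun j => by simp [ev, e₀, v]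
    have e2 : ∀ σ, ev (β σ g) = MvPolynomial.X a := fun σ => by
      have : ev.comp (β σ) = (α σ).comp ev :=
        MvPolynomial.ringHom_ext (fun r => by simp [ev, β]) fun j => by simp [ev, β, v, hιfix]
      refine (RingHom.congr_fun this g).trans ?_
      have hg : ev g = MvPolynomial.X a := by
        simp only [g, ev, map_finsuppSum, map_mul, MvPolynomial.eval₂Hom_C, MvPolynomial.eval₂Hom_X', RingHom.id_apply]
        exact hc
      rw [RingHom.comp_apply, hg]
      simp [α]
    have e3 : P.map e₀ = (Polynomial.X - Polynomial.C (MvPolynomial.X a : (MvPolynomial A (FixedPoints.subring R G)))) ^ Fintype.card G := by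
      refine Polynomial.map_injective ι hι ?_
      rw [Polynomial.map_map, ← e1, ← Polynomial.map_map, hP, Polynomial.map_prod]
      simp only [Polynomial.map_sub, Polynomial.map_X, Polynomial.map_C, e2, Finset.prod_const, Finset.card_univ,
        Polynomial.map_pow]
      simp [ι]
    have hmem := hJ h
    rw [hh0, sub_zero] at hmem
    have e4 := congrArg (fun q => q.coeff i) e3
    simp only [Polynomial.coeff_map] at e4
    rw [e4] at hmem
    have := RingHom.mem_ker.1 hmem
    rw [← Polynomial.coeff_map] at this
    simpa [π] using this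

end Groth.Agent.S9312
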