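import Groth.Statements.S9318
import Mathlib.RingTheory.AdicCompletion.Completeness
import Mathlib.RingTheory.AdicCompletion.Algebra

set_option autoImplicit false
universe u
open CAlg

namespace Groth.Agent.S9318

/-- Let `R → S` be a ring map and `𝔫 ⊆ S` a finitely generated ideal, and let `S^` be the `𝔫`-adic
completion of `S`. Then `R → S` is formally smooth for the `𝔫`-adic topology if and only if `R → S^`
is formally smooth for the adic topology of the extension of `𝔫` to `S^`. No Noetherian hypothesis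
is made on `S`. -/
theorem result {R S : Type u} [CommRing R] [CommRing S]
    [Algebra R S] (𝔫 : Ideal S) (h𝔫 : 𝔫.FG) :
    CAlgX.IsAdicFormallySmooth R S 𝔫 ↔
      CAlgX.IsAdicFormallySmooth R (AdicCompletion 𝔫 S) (𝔫.map (algebraMap S (AdicCompletion 𝔫 S))) := by
  let T := AdicCompletion 𝔫 S
  have hker : ∀ (n : ℕ) (x : T), AdicCompletion.evalₐ 𝔫 n x = 0 ↔ x ∈ (𝔫.map (algebraMap S T)) ^ n := by
    intro n x
    have h1 : x ∈ (AdicCompletion.eval 𝔫 S n).ker ↔ x ∈ (𝔫.map (algebraMap S T)) ^ n := by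
      rw [← AdicCompletion.pow_smul_top_eq_ker_eval h𝔫, Ideal.smul_top_eq_map, ← Ideal.map_pow, Submodule.restrictScalars_mem]
    rw [← h1, LinearMap.mem_ker]
    have hle : 𝔫 ^ n • (⊤ : Ideal S) = 𝔫 ^ n := by simp
    constructor
    · intro h
      rw [← AdicCompletion.factor_evalₐ_eq_eval 𝔫 x hle.ge, h, map_zero]
    · intro h
      rw [← AdicCompletion.factor_eval_eq_evalₐ 𝔫 x hle.le, h, map_zero]
  constructor
  · intro hS A _ _ J hJ ψ ⟨k, hk⟩
    obtain ⟨χ, hχ⟩ := hS A J hJ (ψ.comp (IsScalarTower.toAlgHom R S T)) ⟨k, fun x hx => hk _ (by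
      rw [← Ideal.map_pow]
      exact Ideal.mem_map_of_mem _ hx)⟩
    have hχk : 𝔫 ^ k ≤ J.comap χ.toRingHom := fun x hx => by
      rw [Ideal.mem_comap, ← Ideal.Quotient.eq_zero_iff_mem]
      show (Ideal.Quotient.mkₐ R J).comp χ x = 0
      rw [hχ]
      exact hk _ (by rw [← Ideal.map_pow]; exact Ideal.mem_map_of_mem _ hx)
    have hχ2 : ∀ x ∈ 𝔫 ^ (k * 2), χ x = 0 := fun x hx => by
      have : 𝔫 ^ (k * 2) ≤ (⊥ : Ideal A).comap χ.toRingHom := by
        rw [pow_mul]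
        refine (Ideal.pow_right_mono hχk 2).trans ((Ideal.le_comap_pow _ 2).trans ?_)
        rw [hJ]
      exact this hx
    let χ' : T →ₐ[R] A := (Ideal.Quotient.liftₐ (𝔫 ^ (k * 2)) χ hχ2).comp ((AdicCompletion.evalₐ 𝔫 (k * 2)).restrictScalars R)
    refine ⟨χ', AlgHom.ext fun x => ?_⟩
    obtain ⟨s, hs⟩ := Ideal.Quotient.mk_surjective (AdicCompletion.evalₐ 𝔫 (k * 2) x)
    have h2 : x - algebraMap S T s ∈ (𝔫.map (algebraMap S T)) ^ (k * 2) := by
      rw [← hker, map_sub, AlgHom.commutes, ← hs]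
      exact sub_self _
    have h3 : ψ x = ψ (algebraMap S T s) := by
      rw [← sub_eq_zero, ← map_sub]
      exact hk _ (Ideal.pow_le_pow_right (by omega) h2)
    rw [h3]
    show Ideal.Quotient.mk J (Ideal.Quotient.liftₐ (𝔫 ^ (k * 2)) χ hχ2 (AdicCompletion.evalₐ 𝔫 (k * 2) x)) = _
    rw [← hs]
    exact DFunLike.congr_fun hχ s
  · intro hT A _ _ J hJ ψ ⟨k, hk⟩
    let ψ' : T →ₐ[R] A ⧸ J := (Ideal.Quotient.liftₐ (𝔫 ^ k) ψ hk).comp ((AdicCompletion.evalₐ 𝔫 k).restrictScalars R)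
    obtain ⟨χ, hχ⟩ := hT A J hJ ψ' ⟨k, fun x hx => by
      show Ideal.Quotient.liftₐ (𝔫 ^ k) ψ hk (AdicCompletion.evalₐ 𝔫 k x) = 0
      rw [(hker k x).mpr hx, map_zero]⟩
    refine ⟨χ.comp (IsScalarTower.toAlgHom R S T), AlgHom.ext fun s => ?_⟩
    refine (DFunLike.congr_fun hχ (algebraMap S T s)).trans ?_
    show Ideal.Quotient.liftₐ (𝔫 ^ k) ψ hk (AdicCompletion.evalₐ 𝔫 k (algebraMap S T s)) = _
    rw [AlgHom.commutes]
    rfl

end Groth.Agent.S9318
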