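import Groth.Statements.S9315
import Mathlib

set_option autoImplicit false
universe u
open CAlg

namespace Groth.Agent.S9315

open IsLocalRing in
/-- Let `R → S` be a local homomorphism of local rings (no Noetherian hypothesis). Then `R → S` is
formally smooth for the adic topology of the maximal ideal of `S` if and only if the following
lifting property holds: for every local ring `A` with a local structure map `R → A`, every ideal `J`
of `A` of square zero such that some power of the maximal ideal of `A` is zero, and every local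
`R`-algebra homomorphism `ψ : S → A/J` inducing a bijection on residue fields, there is an
`R`-algebra homomorphism `S → A` lifting `ψ`. -/
theorem result {R S : Type u} [CommRing R] [CommRing S]
    [IsLocalRing R] [IsLocalRing S] [Algebra R S] [IsLocalHom (algebraMap R S)] :
    CAlgX.IsAdicFormallySmooth R S (maximalIdeal S) ↔
      ∀ (A : Type u) [CommRing A] [IsLocalRing A] [Algebra R A] [IsLocalHom (algebraMap R A)]
        (J : Ideal A), J ^ 2 = ⊥ → (∃ n : ℕ, maximalIdeal A ^ n = ⊥) →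
        ∀ [IsLocalRing (A ⧸ J)] (ψ : S →ₐ[R] A ⧸ J) [IsLocalHom ψ.toRingHom],
          Function.Bijective (ResidueField.map ψ.toRingHom) →
          ∃ χ : S →ₐ[R] A, (Ideal.Quotient.mkₐ R J).comp χ = ψ := by
  refine ⟨fun h A _ _ _ _ J hJ ⟨n, hn⟩ _ ψ _ _ => h A J hJ ψ ⟨n, fun x hx => ?_⟩, fun hS => ?_⟩
  · have h1 : (maximalIdeal S ^ n).map ψ.toRingHom ≤ (maximalIdeal A ^ n).map (Ideal.Quotient.mk J) := by
      rw [Ideal.map_pow, Ideal.map_pow, IsLocalRing.map_maximalIdeal_of_surjective _ Ideal.Quotient.mk_surjective]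
      refine Ideal.pow_right_mono (Ideal.map_le_iff_le_comap.2 fun y hy => ?_) n
      rw [Ideal.mem_comap, mem_maximalIdeal, mem_nonunits_iff]
      exact fun hu => (mem_maximalIdeal y).1 hy (isUnit_of_map_unit ψ.toRingHom y hu)
    have h2 := h1 (Ideal.mem_map_of_mem _ hx)
    rw [hn, Ideal.map_bot] at h2
    exact h2
  intro A _ _ J hJ2 ψ ⟨k, hk⟩
  rcases subsingleton_or_nontrivial A with hA | hA
  · haveI : Subsingleton (A ⧸ J) := Ideal.Quotient.mk_surjective.subsingleton
    exact ⟨{ toFun := fun _ => 0, map_one' := Subsingleton.elim _ _, map_mul' := fun _ _ => Subsingleton.elim _ _,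
             map_zero' := rfl, map_add' := fun _ _ => Subsingleton.elim _ _, commutes' := fun _ => Subsingleton.elim _ _ },
      AlgHom.ext fun _ => Subsingleton.elim _ _⟩
  let B : Subalgebra R A := ψ.range.comap (Ideal.Quotient.mkₐ R J)
  let J₀ : Ideal B := J.comap B.val
  haveI : Nontrivial B := B.val.toRingHom.domain_nontrivial
  have hJ02 : J₀ ^ 2 = ⊥ := le_bot_iff.1 <| by
    rw [pow_two, Ideal.mul_le]
    intro a ha b hb
    have h1 : a.1 * b.1 ∈ J ^ 2 := by rw [pow_two]; exact Ideal.mul_mem_mul ha hb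
    rw [hJ2, Submodule.mem_bot] at h1
    exact Submodule.mem_bot B |>.2 (Subtype.ext h1)
  let ι : B ⧸ J₀ →ₐ[R] A ⧸ J := Ideal.quotientMapₐ J B.val le_rfl
  have hι : Function.Injective ι := Ideal.quotientMap_injective' (H := le_rfl) (le_rfl : J.comap B.val.toRingHom ≤ J₀)
  have hrange : ∀ s, ∃ z, ι z = ψ s := fun s => by
    obtain ⟨a, ha⟩ := Ideal.Quotient.mk_surjective (ψ s)
    exact ⟨Ideal.Quotient.mk J₀ ⟨a, ⟨s, ha.symm⟩⟩, ha⟩
  choose z hz using hrange
  let ψ₀ : S →ₐ[R] B ⧸ J₀ :=
    { toFun := z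
      map_one' := hι (by rw [hz, map_one, map_one])
      map_mul' := fun a b => hι (by rw [hz, map_mul, map_mul, hz, hz])
      map_zero' := hι (by rw [hz, map_zero, map_zero])
      map_add' := fun a b => hι (by rw [hz, map_add, map_add, hz, hz])
      commutes' := fun r => hι (by rw [hz, AlgHom.commutes, AlgHom.commutes]) }
  have hψ₀ : Function.Surjective ψ₀ := fun w => by
    obtain ⟨⟨a, s, hs⟩, rfl⟩ := Ideal.Quotient.mk_surjective w
    exact ⟨s, hι ((hz s).trans hs)⟩
  haveI : Nontrivial (B ⧸ J₀) := Ideal.Quotient.nontrivial_iff.2 fun htop => by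
    rw [htop, Ideal.top_pow] at hJ02
    exact top_ne_bot hJ02
  haveI : IsLocalRing (B ⧸ J₀) := IsLocalRing.of_surjective' ψ₀.toRingHom hψ₀
  have hnil : IsNilpotent J₀ := ⟨2, hJ02⟩
  haveI : IsLocalRing B := IsLocalRing.of_isUnit_or_isUnit_one_sub_self fun b => by
    rw [← hnil.isUnit_quotient_mk_iff, ← hnil.isUnit_quotient_mk_iff, map_sub, map_one]
    exact IsLocalRing.isUnit_or_isUnit_one_sub_self _
  haveI : IsLocalHom ψ₀.toRingHom := IsLocalHom.of_surjective ψ₀.toRingHom hψ₀
  haveI : IsLocalHom (algebraMap R B) := ⟨fun r hr => by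
    have h1 := hr.map (Ideal.Quotient.mk J₀)
    rw [show Ideal.Quotient.mk J₀ (algebraMap R B r) = ψ₀.toRingHom (algebraMap R S r) from (ψ₀.commutes r).symm] at h1
    exact isUnit_of_map_unit _ _ (isUnit_of_map_unit _ _ h1)⟩
  obtain ⟨χ, hχ⟩ := hS B J₀ hJ02 ⟨k * 2, by
    rw [pow_mul]
    refine le_bot_iff.1 ((Ideal.pow_right_mono ?_ 2).trans hJ02.le)
    rw [← Ideal.mk_ker (I := J₀), RingHom.ker_eq_comap_bot, ← Ideal.map_le_iff_le_comap, Ideal.map_pow,
      IsLocalRing.map_maximalIdeal_of_surjective _ Ideal.Quotient.mk_surjective,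
      ← IsLocalRing.map_maximalIdeal_of_surjective ψ₀.toRingHom hψ₀, ← Ideal.map_pow, Ideal.map_le_iff_le_comap]
    exact fun x hx => hι ((hz x).trans ((hk x hx).trans (map_zero ι).symm))⟩ ψ₀
    ⟨RingHom.injective _, fun w => by
      obtain ⟨w, rfl⟩ := IsLocalRing.residue_surjective w
      obtain ⟨s, rfl⟩ := hψ₀ w
      exact ⟨residue S s, rfl⟩⟩
  exact ⟨B.val.comp χ, AlgHom.ext fun s => (congrArg ι (AlgHom.congr_fun hχ s)).trans (hz s)⟩

end Groth.Agent.S9315
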