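import Groth.Statements.S9317
import Groth.Agent.S9318
import Mathlib.RingTheory.AdicCompletion.Completeness
import Mathlib.RingTheory.AdicCompletion.Algebra

set_option autoImplicit false
universe u
open CAlg

namespace Groth.Agent.S9317

theorem exists_sub_mem {R : Type u} [CommRing R] (I : Ideal R) (hI : I.FG) (p : AdicCompletion I R) (N : ℕ) :
    ∃ r : R, p - algebraMap R (AdicCompletion I R) r ∈ (I ^ N).map (algebraMap R (AdicCompletion I R)) := by
  obtain ⟨r, hr⟩ := Ideal.Quotient.mk_surjective (AdicCompletion.evalₐ I N p)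
  refine ⟨r, ?_⟩
  set x := p - algebraMap R (AdicCompletion I R) r
  have h0 : AdicCompletion.evalₐ I N x = 0 := by
    rw [map_sub, AlgHom.commutes, ← hr]
    exact sub_self _
  have hle : I ^ N • (⊤ : Ideal R) = I ^ N := by simp
  have h1 : x ∈ (AdicCompletion.eval I R N).ker := by
    rw [LinearMap.mem_ker, ← AdicCompletion.factor_evalₐ_eq_eval I x hle.ge, h0, map_zero]
  rwa [← AdicCompletion.pow_smul_top_eq_ker_eval hI, Ideal.smul_top_eq_map, Submodule.restrictScalars_mem] at h1

theorem hom_ext {R C : Type u} [CommRing R] [CommRing C] (I : Ideal R) (hI : I.FG) (N : ℕ)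
    (f g : AdicCompletion I R →+* C) (hR : ∀ r, f (algebraMap R _ r) = g (algebraMap R _ r))
    (hf : ∀ r ∈ I ^ N, f (algebraMap R _ r) = 0) : f = g := by
  refine RingHom.ext fun p => ?_
  obtain ⟨r, hr⟩ := exists_sub_mem I hI p N
  have h1 : (I ^ N).map (algebraMap R (AdicCompletion I R)) ≤ RingHom.ker f :=
    Ideal.map_le_iff_le_comap.2 fun a ha => hf a ha
  have h2 : (I ^ N).map (algebraMap R (AdicCompletion I R)) ≤ RingHom.ker g :=
    Ideal.map_le_iff_le_comap.2 fun a ha => (hR a).symm.trans (hf a ha)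
  have e1 := h1 hr
  have e2 := h2 hr
  rw [RingHom.mem_ker, map_sub, sub_eq_zero] at e1 e2
  rw [e1, e2, hR]

/-- Let `R → S` be a ring map, let `𝔪 ⊆ R` and `𝔫 ⊆ S` be finitely generated ideals such that some power
of `𝔪` maps into `𝔫`, and let `R^`, `S^` be the `𝔪`-adic and `𝔫`-adic completions. Let `ψ : R^ → S^`
be a ring map whose composite with `R → R^` is the composite `R → S → S^` (there is exactly one such
map, the canonical one, since any such map is continuous for the adic topologies). Then `R → S` is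
formally smooth for the `𝔫`-adic topology if and only if `R^ → S^`, i.e. `S^` viewed as an
`R^`-algebra through `ψ`, is formally smooth for the adic topology of the extension of `𝔫` to `S^`. -/
theorem result {R S : Type u} [CommRing R] [CommRing S]
    [Algebra R S] (𝔪 : Ideal R) (𝔫 : Ideal S) (h𝔪 : 𝔪.FG) (h𝔫 : 𝔫.FG)
    (hc : ∃ c : ℕ, (𝔪 ^ c).map (algebraMap R S) ≤ 𝔫)
    (ψ : AdicCompletion 𝔪 R →+* AdicCompletion 𝔫 S)
    (hψ : ψ.comp (algebraMap R (AdicCompletion 𝔪 R)) =
      (algebraMap S (AdicCompletion 𝔫 S)).comp (algebraMap R S)) :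
    CAlgX.IsAdicFormallySmooth R S 𝔫 ↔
      letI : Algebra (AdicCompletion 𝔪 R) (AdicCompletion 𝔫 S) := ψ.toAlgebra
      CAlgX.IsAdicFormallySmooth (AdicCompletion 𝔪 R) (AdicCompletion 𝔫 S)
        (𝔫.map (algebraMap S (AdicCompletion 𝔫 S))) := by
  obtain ⟨c, hc⟩ := hc
  rw [S9318.result 𝔫 h𝔫]
  let P := AdicCompletion 𝔪 R
  let T := AdicCompletion 𝔫 S
  let 𝔑 : Ideal T := 𝔫.map (algebraMap S T)
  letI : Algebra P T := ψ.toAlgebra
  haveI : IsScalarTower R P T := IsScalarTower.of_algebraMap_eq fun r => by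
    rw [IsScalarTower.algebraMap_apply R S T]
    exact (RingHom.congr_fun hψ r).symm
  have hmap : ∀ k, ∀ r ∈ 𝔪 ^ (c * k), algebraMap R T r ∈ 𝔑 ^ k := fun k r hr => by
    rw [← Ideal.map_pow, IsScalarTower.algebraMap_apply R S T]
    refine Ideal.mem_map_of_mem _ (Ideal.pow_right_mono hc k ?_)
    rw [← Ideal.map_pow, ← pow_mul]
    exact Ideal.mem_map_of_mem _ hr
  have key : ∀ (A : Type u) [CommRing A] [Algebra R A] (J : Ideal A), J ^ 2 = ⊥ → ∀ (k : ℕ) (u : T →ₐ[R] A ⧸ J),
      (∀ x ∈ 𝔑 ^ k, u x = 0) → ∀ r ∈ 𝔪 ^ (c * k * 2), algebraMap R A r = 0 := by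
    intro A _ _ J hJ k u hu r hr
    have h1 : 𝔪 ^ (c * k) ≤ J.comap (algebraMap R A) := fun a ha => by
      rw [Ideal.mem_comap, ← Ideal.Quotient.eq_zero_iff_mem, Ideal.Quotient.mk_algebraMap, ← u.commutes]
      exact hu _ (hmap k a ha)
    have h2 : 𝔪 ^ (c * k * 2) ≤ (⊥ : Ideal A).comap (algebraMap R A) := by
      rw [pow_mul]
      refine (Ideal.pow_right_mono h1 2).trans ((Ideal.le_comap_pow _ 2).trans ?_)
      rw [hJ]
    exact h2 hr
  constructor
  · intro h A _ _ J hJ u ⟨k, hk⟩
    letI : Algebra R A := ((algebraMap P A).comp (algebraMap R P)).toAlgebra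
    haveI : IsScalarTower R P A := IsScalarTower.of_algebraMap_eq fun r => rfl
    let u' : T →ₐ[R] A ⧸ J := u.restrictScalars R
    obtain ⟨χ, hχ⟩ := h A J hJ u' ⟨k, hk⟩
    have heq : χ.toRingHom.comp (algebraMap P T) = algebraMap P A := by
      refine hom_ext 𝔪 h𝔪 (c * k * 2) _ _ (fun r => ?_) (fun r hr => ?_)
      · show χ (algebraMap P T (algebraMap R P r)) = _
        rw [← IsScalarTower.algebraMap_apply, AlgHom.commutes]
        rfl
      · show χ (algebraMap P T (algebraMap R P r)) = _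
        rw [← IsScalarTower.algebraMap_apply, AlgHom.commutes]
        exact key A J hJ k u' hk r hr
    exact ⟨{ χ.toRingHom with commutes' := fun p => RingHom.congr_fun heq p }, AlgHom.ext fun x => DFunLike.congr_fun hχ x⟩
  · intro h A _ _ J hJ u ⟨k, hk⟩
    have hk0 := key A J hJ k u hk
    letI : Algebra P A := ((Ideal.Quotient.lift _ (algebraMap R A) hk0).comp
      (AdicCompletion.evalₐ 𝔪 (c * k * 2)).toRingHom).toAlgebra
    haveI : IsScalarTower R P A := IsScalarTower.of_algebraMap_eq fun r => by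
      show _ = Ideal.Quotient.lift _ _ hk0 (AdicCompletion.evalₐ 𝔪 (c * k * 2) (algebraMap R P r))
      rw [AlgHom.commutes]
      rfl
    have heq : u.toRingHom.comp (algebraMap P T) = algebraMap P (A ⧸ J) := by
      refine hom_ext 𝔪 h𝔪 (c * k * 2) _ _ (fun r => ?_) (fun r hr => ?_)
      · show u (algebraMap P T (algebraMap R P r)) = _
        rw [← IsScalarTower.algebraMap_apply, AlgHom.commutes, ← IsScalarTower.algebraMap_apply]
      · show u (algebraMap P T (algebraMap R P r)) = _
        rw [← IsScalarTower.algebraMap_apply, AlgHom.commutes, ← Ideal.Quotient.mk_algebraMap, hk0 r hr, map_zero]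
    obtain ⟨χ, hχ⟩ := h A J hJ { u.toRingHom with commutes' := fun p => RingHom.congr_fun heq p } ⟨k, hk⟩
    exact ⟨χ.restrictScalars R, AlgHom.ext fun x => DFunLike.congr_fun hχ x⟩

end Groth.Agent.S9317
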