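import Groth.Statements.S9319
import Groth.Agent.FSField.Basic

set_option autoImplicit false
universe u v
open CAlg Groth.Agent
open scoped TensorProduct

namespace Groth.Agent.S9319

open TensorProduct in
theorem key (F : Type v) [Field F] [PerfectField F] (K L M : Type u) [Field K] [Field L]
    [Field M] [Algebra K L] [Algebra L M] [Algebra K M] [IsScalarTower K L M] [Algebra F K] :
    Function.Injective ((Algebra.H1Cotangent.map K K L M).liftBaseChange M) := by
  letI : Algebra F L := ((algebraMap K L).comp (algebraMap F K)).toAlgebra
  haveI : IsScalarTower F K L := .of_algebraMap_eq' rfl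
  letI : Algebra F M := ((algebraMap K M).comp (algebraMap F K)).toAlgebra
  haveI : IsScalarTower F K M := .of_algebraMap_eq' rfl
  haveI : Algebra.FormallySmooth F L := FSField.formallySmooth_of_perfectField F L
  -- `δ` of `L/K/F` is injective
  have hinj : Function.Injective (Algebra.H1Cotangent.δ F K L) := by
    rw [injective_iff_map_eq_zero]
    intro x hx
    obtain ⟨y, rfl⟩ := (Algebra.H1Cotangent.exact_map_δ F K L x).1 hx
    rw [Subsingleton.elim y 0, map_zero]
  -- naturality of `δ`
  let ι : L ⊗[K] Ω[K⁄F] →ₗ[L] M ⊗[K] Ω[K⁄F] :=
    AlgebraTensorModule.map (Algebra.linearMap L M) LinearMap.id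
  have hnat : ∀ x : Algebra.H1Cotangent K L,
      Algebra.H1Cotangent.δ F K M (Algebra.H1Cotangent.map K K L M x) =
        ι (Algebra.H1Cotangent.δ F K L x) := by
    rintro ⟨x, hx⟩
    obtain ⟨⟨y, hy⟩, rfl⟩ := Algebra.Extension.Cotangent.mk_surjective x
    have := Algebra.Generators.H1Cotangent.δ_eq_δAux (Algebra.Generators.self K L)
      (Algebra.Generators.self F K) ⟨y, hy⟩ hx
    let φ := (Algebra.Generators.defaultHom (Algebra.Generators.self K L)
      (Algebra.Generators.self K M))
    have h2 : ∀ z, Algebra.Generators.H1Cotangent.δAux F (Algebra.Generators.self K M)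
        (φ.toAlgHom z) =
        ι (Algebra.Generators.H1Cotangent.δAux F (Algebra.Generators.self K L) z) := by
      intro z
      induction z using MvPolynomial.induction_on with
      | C r =>
        simp [ι, Algebra.Generators.H1Cotangent.δAux_C]
      | add p q hp hq => simp only [map_add, hp, hq]
      | mul_X p i hp =>
        rw [map_mul, Algebra.Generators.H1Cotangent.δAux_mul, hp,
          Algebra.Generators.H1Cotangent.δAux_mul, Algebra.Generators.H1Cotangent.δAux_X,
          Algebra.Generators.Hom.toAlgHom_X]
        have hX : φ.val i = MvPolynomial.X (algebraMap L M i) := rfl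
        rw [hX, Algebra.Generators.H1Cotangent.δAux_X, smul_zero, smul_zero, zero_add, zero_add,
          ← algebraMap_smul (R := (Algebra.Generators.self K M).Ring) M
            (MvPolynomial.X (algebraMap L M i)),
          ← algebraMap_smul (R := (Algebra.Generators.self K L).Ring) L (MvPolynomial.X i),
          map_smul]
        simp [Algebra.Generators.algebraMap_apply]
    refine Eq.trans ?_ (congrArg ι this.symm)
    refine Eq.trans ?_ (h2 y)
    exact Algebra.Generators.H1Cotangent.δ_eq_δAux (Algebra.Generators.self K M)
      (Algebra.Generators.self F K) ⟨φ.toAlgHom y, _⟩ _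
  -- conclude
  let e : M ⊗[L] (L ⊗[K] Ω[K⁄F]) ≃ₗ[M] M ⊗[K] Ω[K⁄F] :=
    AlgebraTensorModule.cancelBaseChange K L M M Ω[K⁄F]
  have hcomp : ∀ z, Algebra.H1Cotangent.δ F K M
      ((Algebra.H1Cotangent.map K K L M).liftBaseChange M z) =
      e ((Algebra.H1Cotangent.δ F K L).baseChange M z) := by
    intro z
    induction z using TensorProduct.induction_on with
    | zero => simp
    | add a b ha hb => simp only [map_add, ha, hb]
    | tmul m x =>
      rw [LinearMap.liftBaseChange_tmul, map_smul, hnat, LinearMap.baseChange_tmul]
      generalize Algebra.H1Cotangent.δ F K L x = w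
      induction w using TensorProduct.induction_on with
      | zero => simp
      | add a b ha hb => simp only [map_add, smul_add, tmul_add, ha, hb]
      | tmul l ω =>
        simp [ι, e, smul_tmul', Algebra.smul_def, mul_comm]
  intro a b hab
  refine Module.Flat.lTensor_preserves_injective_linearMap (M := M) _ hinj (e.injective ?_)
  have := congrArg (Algebra.H1Cotangent.δ F K M) hab
  rwa [hcomp, hcomp] at this


open TensorProduct in
/-- For a tower of fields `K ⊆ L ⊆ M`, the first map of the Jacobi–Zariski sequence, from `H_1(L_{L/K})
⊗_L M` to `H_1(L_{M/K})`, is injective; here `H_1(L)` denotes the first homology of the naive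
cotangent complex and the map is the `M`-linear extension of the functoriality map. (The rest of the
six-term sequence is exact for any three rings, so for fields it is exact with a zero on the left.) -/
theorem result {K L M : Type u} [Field K] [Field L]
    [Field M] [Algebra K L] [Algebra L M] [Algebra K M] [IsScalarTower K L M] :
    Function.Injective ((Algebra.H1Cotangent.map K K L M).liftBaseChange M) := by
  obtain ⟨p, hp⟩ := CharP.exists K
  rcases CharP.char_is_prime_or_zero K p with hpp | rfl
  · haveI : Fact p.Prime := ⟨hpp⟩
    letI : Algebra (ZMod p) K := ZMod.algebra K p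
    exact key (ZMod p) K L M
  · haveI : CharZero K := CharP.charP_to_charZero K
    exact key ℚ K L M

end Groth.Agent.S9319
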