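import Groth.Statements.S9320
import Groth.Agent.S9319
import Groth.Agent.CartierEq.Basic
import Mathlib.RingTheory.Kaehler.JacobiZariski

set_option autoImplicit false
universe u
open CAlg

namespace Groth.Agent.S9320


section

variable {K : Type u} [Field K] {U V W : Type u} [AddCommGroup U] [Module K U] [AddCommGroup V] [Module K V]
  [AddCommGroup W] [Module K W]

/-- The index of a linear map. -/
noncomputable def ind (f : U →ₗ[K] V) : ℤ :=
  (Module.finrank K (LinearMap.ker f) : ℤ) - Module.finrank K (V ⧸ LinearMap.range f)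

theorem ind_comp (f : U →ₗ[K] V) (g : V →ₗ[K] W) [Module.Finite K (LinearMap.ker f)]
    [Module.Finite K (V ⧸ LinearMap.range f)] [Module.Finite K (LinearMap.ker g)]
    [Module.Finite K (W ⧸ LinearMap.range g)] :
    Module.Finite K (LinearMap.ker (g ∘ₗ f)) ∧ Module.Finite K (W ⧸ LinearMap.range (g ∘ₗ f)) ∧
      ind (g ∘ₗ f) = ind f + ind g := by
  let p : LinearMap.ker (g ∘ₗ f) →ₗ[K] LinearMap.ker g :=
    (f.comp (LinearMap.ker (g ∘ₗ f)).subtype).codRestrict _ fun x => x.2
  have hle : LinearMap.ker f ≤ LinearMap.ker (g ∘ₗ f) := LinearMap.ker_le_ker_comp f g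
  let e : LinearMap.ker p ≃ₗ[K] LinearMap.ker f :=
    { toFun := fun x => ⟨x.1.1, congrArg Subtype.val x.2⟩
      invFun := fun y => ⟨⟨y.1, hle y.2⟩, Subtype.ext y.2⟩
      map_add' := fun _ _ => rfl
      map_smul' := fun _ _ => rfl
      left_inv := fun _ => rfl
      right_inv := fun _ => rfl }
  haveI : Module.Finite K (LinearMap.ker p) := Module.Finite.equiv e.symm
  haveI : Module.Finite K (LinearMap.ker (g ∘ₗ f) ⧸ LinearMap.ker p) :=
    Module.Finite.equiv p.quotKerEquivRange.symm
  haveI h1 : Module.Finite K (LinearMap.ker (g ∘ₗ f)) := Module.Finite.of_submodule_quotient (LinearMap.ker p)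
  let q : (V ⧸ LinearMap.range f) →ₗ[K] W ⧸ LinearMap.range (g ∘ₗ f) :=
    (LinearMap.range f).mapQ (LinearMap.range (g ∘ₗ f)) g (by rintro _ ⟨x, rfl⟩; exact ⟨x, rfl⟩)
  let c : (W ⧸ LinearMap.range (g ∘ₗ f)) →ₗ[K] W ⧸ LinearMap.range g :=
    Submodule.factor (LinearMap.range_comp_le_range f g)
  have hc : LinearMap.range q = LinearMap.ker c := by
    ext x
    constructor
    · rintro ⟨y, rfl⟩
      obtain ⟨v, rfl⟩ := Submodule.Quotient.mk_surjective _ y
      exact (Submodule.Quotient.mk_eq_zero _).2 ⟨v, rfl⟩
    · intro hx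
      obtain ⟨w, rfl⟩ := Submodule.Quotient.mk_surjective _ x
      obtain ⟨v, rfl⟩ := (Submodule.Quotient.mk_eq_zero _).1 hx
      exact ⟨Submodule.Quotient.mk v, rfl⟩
  have hcs : Function.Surjective c := Submodule.factor_surjective _
  haveI : Module.Finite K (LinearMap.ker c) := hc ▸ (inferInstance : Module.Finite K (LinearMap.range q))
  haveI : Module.Finite K ((W ⧸ LinearMap.range (g ∘ₗ f)) ⧸ LinearMap.ker c) :=
    Module.Finite.equiv (c.quotKerEquivOfSurjective hcs).symm
  haveI h2 : Module.Finite K (W ⧸ LinearMap.range (g ∘ₗ f)) :=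
    Module.Finite.of_submodule_quotient (LinearMap.ker c)
  refine ⟨h1, h2, ?_⟩
  let r : LinearMap.ker g →ₗ[K] LinearMap.ker q :=
    ((LinearMap.range f).mkQ.comp (LinearMap.ker g).subtype).codRestrict _ fun v =>
      LinearMap.mem_ker.2 ((congrArg Submodule.Quotient.mk (LinearMap.mem_ker.1 v.2)).trans (Submodule.Quotient.mk_zero _))
  have hr : Function.Surjective r := by
    rintro ⟨y, hy⟩
    obtain ⟨v, rfl⟩ := Submodule.Quotient.mk_surjective _ y
    obtain ⟨x, hx⟩ := (Submodule.Quotient.mk_eq_zero _).1 hy
    refine ⟨⟨v - f x, by rw [LinearMap.mem_ker, map_sub, ← LinearMap.comp_apply, hx, sub_self]⟩, ?_⟩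
    apply Subtype.ext
    show Submodule.Quotient.mk (v - f x) = Submodule.Quotient.mk v
    rw [Submodule.Quotient.mk_sub,
      (Submodule.Quotient.mk_eq_zero _).2 (LinearMap.mem_range_self f x), sub_zero]
  have hrk : LinearMap.ker r = LinearMap.range p := by
    ext v
    constructor
    · intro hv
      obtain ⟨x, hx⟩ := (Submodule.Quotient.mk_eq_zero _).1 (congrArg Subtype.val hv)
      exact ⟨⟨x, show g (f x) = 0 by rw [hx]; exact v.2⟩, Subtype.ext hx⟩
    · rintro ⟨x, rfl⟩
      exact Subtype.ext ((Submodule.Quotient.mk_eq_zero _).2 ⟨x.1, rfl⟩)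
  have e1 := p.finrank_range_add_finrank_ker
  have e2 := q.finrank_range_add_finrank_ker
  have e3 := r.finrank_range_add_finrank_ker
  have e4 := c.finrank_range_add_finrank_ker
  rw [e.finrank_eq] at e1
  rw [LinearMap.range_eq_top.2 hr, finrank_top, hrk] at e3
  rw [LinearMap.range_eq_top.2 hcs, finrank_top, ← hc] at e4
  simp only [ind]
  omega

end

theorem h1map_comp.{u₁, u₂, u₃, u₄} (R : Type u₁) (S : Type u₂) (A : Type u₃) (B : Type u₄) [CommRing R]
    [CommRing S] [CommRing A] [CommRing B] [Algebra R S] [Algebra R A] [Algebra R B] [Algebra S B]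
    [Algebra A B] [IsScalarTower R S B] [IsScalarTower R A B] (x : Algebra.H1Cotangent R A) :
    Algebra.H1Cotangent.map R S A B x =
      Algebra.H1Cotangent.map R S B B (Algebra.H1Cotangent.map R R A B x) := by
  unfold Algebra.H1Cotangent.map
  rw [← Algebra.Extension.H1Cotangent.map_comp_apply, Algebra.Extension.H1Cotangent.map_eq]

open TensorProduct in
/-- The sequence of differentials for a finitely generated extension. -/
theorem first_step (k K K' : Type u) [Field k] [Field K] [Field K'] [Algebra k K] [Algebra k K']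
    [Algebra K K'] [IsScalarTower k K K'] [Algebra.EssFiniteType K K'] :
    Module.Finite K' (LinearMap.ker (KaehlerDifferential.mapBaseChange k K K')) ∧
    Module.Finite K' (Ω[K'⁄k] ⧸ LinearMap.range (KaehlerDifferential.mapBaseChange k K K')) ∧
    Module.Finite K' (LinearMap.ker ((Algebra.H1Cotangent.map k k K K').liftBaseChange K')) ∧
    Module.Finite K' (Algebra.H1Cotangent k K' ⧸
        LinearMap.range ((Algebra.H1Cotangent.map k k K K').liftBaseChange K')) ∧
    ind (KaehlerDifferential.mapBaseChange k K K') -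
      ind ((Algebra.H1Cotangent.map k k K K').liftBaseChange K') = -(Cardinal.toNat (Algebra.trdeg K K') : ℤ) := by
  obtain ⟨hΩ, hH, heq⟩ := CartierEq.cartier_equality K K'
  haveI := hΩ
  haveI := hH
  let δ := Algebra.H1Cotangent.δ k K K'
  let a := KaehlerDifferential.mapBaseChange k K K'
  let b := (Algebra.H1Cotangent.map k k K K').liftBaseChange K'
  let m := Algebra.H1Cotangent.map k K K' K'
  have ha1 : LinearMap.ker a = LinearMap.range δ :=
    (Algebra.H1Cotangent.exact_δ_mapBaseChange k K K').linearMap_ker_eq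
  have ea : (Ω[K'⁄k] ⧸ LinearMap.range a) ≃ₗ[K'] Ω[K'⁄K] :=
    (Submodule.quotEquivOfEq _ _
      (KaehlerDifferential.exact_mapBaseChange_map k K K').linearMap_ker_eq.symm).trans
      (LinearMap.quotKerEquivOfSurjective _ (KaehlerDifferential.map_surjective k K K'))
  have hb : Function.Injective b := S9319.result
  have hb2 : LinearMap.range b = LinearMap.ker m :=
    (Algebra.H1Cotangent.exact_liftBaseChange_map_of_flat k K K').linearMap_ker_eq.symm
  have hm : LinearMap.range m = LinearMap.ker δ :=
    (Algebra.H1Cotangent.exact_map_δ k K K').linearMap_ker_eq.symm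
  have eb : (Algebra.H1Cotangent k K' ⧸ LinearMap.range b) ≃ₗ[K'] LinearMap.ker δ :=
    ((Submodule.quotEquivOfEq _ _ hb2).trans m.quotKerEquivRange).trans (LinearEquiv.ofEq _ _ hm)
  haveI : Module.Finite K' (LinearMap.ker δ) := inferInstance
  refine ⟨ha1 ▸ (inferInstance : Module.Finite K' (LinearMap.range δ)), Module.Finite.equiv ea.symm,
    by rw [LinearMap.ker_eq_bot.2 hb]; infer_instance, Module.Finite.equiv eb.symm, ?_⟩
  have e1 := δ.finrank_range_add_finrank_ker
  simp only [ind]
  rw [ea.finrank_eq, eb.finrank_eq, LinearMap.ker_eq_bot.2 hb, finrank_bot, ha1]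
  omega

open TensorProduct in
/-- Passing to a larger finitely generated base field. -/
theorem second_step (k k' K' : Type u) [Field k] [Field k'] [Field K'] [Algebra k k'] [Algebra k K']
    [Algebra k' K'] [IsScalarTower k k' K'] [Algebra.EssFiniteType k k'] :
    Module.Finite K' (LinearMap.ker (KaehlerDifferential.map k k' K' K')) ∧
    Module.Finite K' (Ω[K'⁄k'] ⧸ LinearMap.range (KaehlerDifferential.map k k' K' K')) ∧
    Module.Finite K' (LinearMap.ker (Algebra.H1Cotangent.map k k' K' K')) ∧
    Module.Finite K' (Algebra.H1Cotangent k' K' ⧸ LinearMap.range (Algebra.H1Cotangent.map k k' K' K')) ∧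
    ind (KaehlerDifferential.map k k' K' K') - ind (Algebra.H1Cotangent.map k k' K' K') =
      (Cardinal.toNat (Algebra.trdeg k k') : ℤ) := by
  obtain ⟨hΩ, hH, heq⟩ := CartierEq.cartier_equality k k'
  haveI := hΩ
  haveI := hH
  let δ := Algebra.H1Cotangent.δ k k' K'
  let a := KaehlerDifferential.mapBaseChange k k' K'
  let b := (Algebra.H1Cotangent.map k k k' K').liftBaseChange K'
  let g := KaehlerDifferential.map k k' K' K'
  let m := Algebra.H1Cotangent.map k k' K' K'
  have hgs : Function.Surjective g := KaehlerDifferential.map_surjective k k' K'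
  have hg : LinearMap.ker g = LinearMap.range a :=
    (KaehlerDifferential.exact_mapBaseChange_map k k' K').linearMap_ker_eq
  have ha : LinearMap.ker a = LinearMap.range δ :=
    (Algebra.H1Cotangent.exact_δ_mapBaseChange k k' K').linearMap_ker_eq
  have hb : Function.Injective b := S9319.result
  have hm1 : LinearMap.ker m = LinearMap.range b :=
    (Algebra.H1Cotangent.exact_liftBaseChange_map_of_flat k k' K').linearMap_ker_eq
  have hm2 : LinearMap.ker δ = LinearMap.range m :=
    (Algebra.H1Cotangent.exact_map_δ k k' K').linearMap_ker_eq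
  have em : (Algebra.H1Cotangent k' K' ⧸ LinearMap.range m) ≃ₗ[K'] LinearMap.range δ :=
    (Submodule.quotEquivOfEq _ _ hm2.symm).trans δ.quotKerEquivRange
  haveI : Subsingleton (Ω[K'⁄k'] ⧸ LinearMap.range g) :=
    Submodule.Quotient.subsingleton_iff.2 (LinearMap.range_eq_top.2 hgs)
  refine ⟨hg ▸ (inferInstance : Module.Finite K' (LinearMap.range a)), inferInstance,
    hm1 ▸ (inferInstance : Module.Finite K' (LinearMap.range b)), Module.Finite.equiv em.symm, ?_⟩
  have e1 := a.finrank_range_add_finrank_ker
  have e2 : Module.finrank K' (K' ⊗[k'] Ω[k'⁄k]) = Module.finrank k' (Ω[k'⁄k]) := Module.finrank_baseChange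
  have e3 : Module.finrank K' (LinearMap.range b) = Module.finrank k' (Algebra.H1Cotangent k k') :=
    (LinearEquiv.ofInjective b hb).finrank_eq.symm.trans Module.finrank_baseChange
  rw [ha, e2] at e1
  simp only [ind]
  rw [Module.finrank_zero_of_subsingleton (M := Ω[K'⁄k'] ⧸ LinearMap.range g), hg, hm1, em.finrank_eq, e3]
  omega

open TensorProduct in
/-- Consider a commutative square of fields with maps `k → K`, `k → k'`, `k' → K'` and `K → K'`, where
`k'` is a finitely generated field extension of `k` and `K'` is a finitely generated field extension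
of `K`. Let `α : Ω_{K/k} ⊗_K K' → Ω_{K'/k'}` and `β : H_1(L_{K/k}) ⊗_K K' → H_1(L_{K'/k'})` be the
comparison maps (`H_1(L)` the first homology of the naive cotangent complex). Then the kernels and
cokernels of `α` and `β` are finite-dimensional `K'`-vector spaces, and the difference of
transcendence degrees trdeg_k(k') − trdeg_K(K') equals (dim Ker α + dim Coker β) − (dim Coker α +
dim Ker β). -/
theorem result {k k' K K' : Type u} [Field k] [Field k']
    [Field K] [Field K'] [Algebra k k'] [Algebra k K] [Algebra k K'] [Algebra k' K'] [Algebra K K']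
    [IsScalarTower k k' K'] [IsScalarTower k K K']
    [Algebra.EssFiniteType k k'] [Algebra.EssFiniteType K K'] :
    Module.Finite K' (LinearMap.ker ((KaehlerDifferential.map k k' K K').liftBaseChange K')) ∧
      Module.Finite K' (Ω[K'⁄k'] ⧸ LinearMap.range ((KaehlerDifferential.map k k' K K').liftBaseChange K')) ∧
      Module.Finite K' (LinearMap.ker ((Algebra.H1Cotangent.map k k' K K').liftBaseChange K')) ∧
      Module.Finite K' (Algebra.H1Cotangent k' K' ⧸ LinearMap.range ((Algebra.H1Cotangent.map k k' K K').liftBaseChange K')) ∧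
      ((Module.finrank K' (LinearMap.ker ((KaehlerDifferential.map k k' K K').liftBaseChange K')) : ℤ)
          - Module.finrank K' (Ω[K'⁄k'] ⧸ LinearMap.range ((KaehlerDifferential.map k k' K K').liftBaseChange K'))
          - Module.finrank K' (LinearMap.ker ((Algebra.H1Cotangent.map k k' K K').liftBaseChange K'))
          + Module.finrank K' (Algebra.H1Cotangent k' K' ⧸ LinearMap.range ((Algebra.H1Cotangent.map k k' K K').liftBaseChange K'))
        = (Cardinal.toNat (Algebra.trdeg k k') : ℤ) - Cardinal.toNat (Algebra.trdeg K K')) := by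
  obtain ⟨p1, p2, p3, p4, hp⟩ := first_step k K K'
  obtain ⟨q1, q2, q3, q4, hq⟩ := second_step k k' K'
  haveI := p1; haveI := p2; haveI := p3; haveI := p4
  haveI := q1; haveI := q2; haveI := q3; haveI := q4
  obtain ⟨a1, a2, ha⟩ := ind_comp (KaehlerDifferential.mapBaseChange k K K')
    (KaehlerDifferential.map k k' K' K')
  obtain ⟨b1, b2, hb⟩ := ind_comp ((Algebra.H1Cotangent.map k k K K').liftBaseChange K')
    (Algebra.H1Cotangent.map k k' K' K')
  have hα : (KaehlerDifferential.map k k' K K').liftBaseChange K' =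
      KaehlerDifferential.map k k' K' K' ∘ₗ KaehlerDifferential.mapBaseChange k K K' := by
    refine LinearMap.ext fun z => ?_
    induction z with
    | zero => simp
    | add x y hx hy => simp only [map_add, hx, hy]
    | tmul c w =>
      rw [LinearMap.liftBaseChange_tmul, LinearMap.comp_apply, KaehlerDifferential.mapBaseChange_tmul, map_smul]
      congr 1
      obtain ⟨v, rfl⟩ := KaehlerDifferential.linearCombination_surjective k K w
      induction v using Finsupp.induction_linear with
      | zero => simp
      | add x y hx hy => simp only [map_add, hx, hy]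
      | single a r => simp
  have hβ : (Algebra.H1Cotangent.map k k' K K').liftBaseChange K' =
      Algebra.H1Cotangent.map k k' K' K' ∘ₗ (Algebra.H1Cotangent.map k k K K').liftBaseChange K' := by
    refine LinearMap.ext fun z => ?_
    induction z with
    | zero => simp
    | add x y hx hy => simp only [map_add, hx, hy]
    | tmul c w =>
      rw [LinearMap.liftBaseChange_tmul, LinearMap.comp_apply, LinearMap.liftBaseChange_tmul, map_smul,
        h1map_comp k k' K K']
  rw [hα, hβ]
  refine ⟨a1, a2, b1, b2, ?_⟩
  simp only [ind] at ha hb hp hq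
  omega

end Groth.Agent.S9320
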