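import Groth.Statements.S9455
import Groth.Agent.NilSmooth.FlatQuot
import Groth.Agent.FSField.Basic

set_option autoImplicit false
universe u
open CAlg

namespace Groth.Agent.S9455

open scoped TensorProduct

set_option maxHeartbeats 1000000 in
theorem aux (Λ : Type u) [CommRing Λ] [IsDomain Λ]
    [IsDiscreteValuationRing Λ] [IsAdicComplete (IsLocalRing.maximalIdeal Λ) Λ] (p : ℕ)
    (hp : p.Prime) (hm : IsLocalRing.maximalIdeal Λ = Ideal.span {(p : Λ)}) (m : ℕ)
    [Algebra (ZMod (p ^ (m + 1))) (Λ ⧸ Ideal.span {((p : Λ) ^ (m + 1))})]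
    (Z : Type u) [CommRing Z] [IsDomain Z] [IsPrincipalIdealRing Z] [Algebra Z Λ] (e : Z ≃+* ℤ)
    (he : ∀ z, algebraMap Z Λ z = ((e z : ℤ) : Λ)) :
    Algebra.FormallySmooth (ZMod (p ^ (m + 1))) (Λ ⧸ Ideal.span {((p : Λ) ^ (m + 1))}) := by
  have hne : (p : Λ) ≠ 0 := fun h0 => by
    rw [h0, Ideal.span_singleton_eq_bot.2 rfl] at hm
    exact IsDiscreteValuationRing.not_a_field Λ hm
  have hcast : ∀ z : ℤ, (z : Λ) = 0 → z = 0 := by
    intro z hz
    obtain ⟨q, hq⟩ := CharP.exists Λ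
    rcases CharP.char_is_prime_or_zero Λ q with hqp | rfl
    · exfalso
      haveI := Fact.mk hqp
      by_cases h : q = p
      · exact hne (h ▸ CharP.cast_eq_zero Λ q)
      · have hcop := (Int.isCoprime_iff_nat_coprime (a := (q : ℤ)) (b := (p : ℤ))).2
          (by simpa using (Nat.coprime_primes hqp hp).2 h)
        obtain ⟨a, b, hab⟩ := hcop
        have h1 := congrArg (fun t : ℤ => (t : Λ)) hab
        push_cast at h1
        rw [CharP.cast_eq_zero Λ q, mul_zero, zero_add] at h1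
        have hmem : (p : Λ) ∈ IsLocalRing.maximalIdeal Λ := hm ▸ Ideal.subset_span rfl
        exact (IsLocalRing.maximalIdeal.isMaximal Λ).ne_top
          ((Ideal.eq_top_iff_one _).2 (h1 ▸ Ideal.mul_mem_left _ _ hmem))
    · have h0 := (CharP.intCast_eq_zero_iff Λ 0 z).1 hz
      simpa using h0
  haveI : Module.IsTorsionFree Z Λ := Module.isTorsionFree_iff_algebraMap_injective.2 <|
    (injective_iff_map_eq_zero _).2 fun z hz => e.injective ((hcast (e z) ((he z).symm.trans hz)).trans (map_zero e).symm)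
  haveI : Module.Flat Z Λ := inferInstance
  let I : Ideal Z := Ideal.span {(p : Z) ^ (m + 1)}
  let J : Ideal Z := Ideal.span {(p : Z)}
  have hIJ : Ideal.span {(p : Z) ^ (m + 1)} ≤ Ideal.span {(p : Z)} :=
    Ideal.span_singleton_le_span_singleton.2 (dvd_pow_self _ m.succ_ne_zero)
  haveI : Module.Flat (Z ⧸ I) (Λ ⧸ I.map (algebraMap Z Λ)) :=
    Groth.Agent.NilSmooth.flat_quotient_map Z Λ I
  haveI : J.IsMaximal := by
    refine PrincipalIdealRing.isMaximal_of_irreducible ?_
    have hirr : Irreducible ((p : ℤ)) := (Nat.prime_iff_prime_int.1 hp).irreducible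
    have := (MulEquiv.irreducible_iff e.symm.toMulEquiv).2 hirr
    rwa [show e.symm.toMulEquiv (p : ℤ) = (p : Z) from
      map_natCast e.symm p] at this
  letI : Field (Z ⧸ J) := Ideal.Quotient.field J
  let ψ : ZMod (p ^ (m + 1)) ≃+* (Z ⧸ I) := (Int.quotientSpanNatEquivZMod _).symm.trans
    (Ideal.quotientEquiv _ _ e.symm (by
      simp [I, Ideal.map_span]))
  haveI : NeZero (p ^ (m + 1)) := ⟨pow_ne_zero _ hp.ne_zero⟩
  haveI : Finite (Z ⧸ I) := Finite.of_equiv _ ψ.toEquiv
  haveI : Finite (Z ⧸ J) := Finite.of_surjective _ (Ideal.Quotient.factor_surjective hIJ)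
  have hmap : I.map (algebraMap Z Λ) = Ideal.span {((p : Λ) ^ (m + 1))} := by
    rw [Ideal.map_span, Set.image_singleton, map_pow, map_natCast]
  have hmapJ : J.map (algebraMap Z Λ) = IsLocalRing.maximalIdeal Λ := by
    rw [hm, Ideal.map_span, Set.image_singleton, map_natCast]
  have hle : I.map (algebraMap Z Λ) ≤ IsLocalRing.maximalIdeal Λ := hmapJ ▸ Ideal.map_mono hIJ
  let g : Z ⧸ J →+* IsLocalRing.ResidueField Λ :=
    Ideal.Quotient.lift J ((IsLocalRing.residue Λ).comp (algebraMap Z Λ)) fun x hx =>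
      Ideal.Quotient.eq_zero_iff_mem.2 (hmapJ ▸ Ideal.mem_map_of_mem _ hx)
  have hg : g.FormallySmooth := by
    letI := g.toAlgebra
    exact Groth.Agent.FSField.formallySmooth_of_perfectField (Z ⧸ J) (IsLocalRing.ResidueField Λ)
  have key : (algebraMap (Z ⧸ I) (Λ ⧸ I.map (algebraMap Z Λ))).FormallySmooth := by
    refine Groth.Agent.NilSmooth.formallySmooth_of_flat_nilpotent m (Ideal.Quotient.factor hIJ)
      (Ideal.Quotient.factor hle) g (Ideal.Quotient.factor_surjective hIJ) (Ideal.Quotient.factor_surjective hle)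
      (Ideal.Quotient.ringHom_ext (RingHom.ext fun r => rfl)) ?_ ?_ hg
    · rw [Ideal.Quotient.factor_ker, ← Ideal.map_pow, Ideal.span_singleton_pow]
      exact Ideal.map_quotient_self I
    · rw [Ideal.Quotient.factor_ker, Ideal.Quotient.factor_ker, Ideal.map_map, ← hmapJ, Ideal.map_map]
      congr 1
  have h := ((RingHom.FormallySmooth.of_bijective (f := ψ.toRingHom) ψ.bijective).comp key).comp
    (RingHom.FormallySmooth.of_bijective (f := (Ideal.quotEquivOfEq hmap).toRingHom)
    (Ideal.quotEquivOfEq hmap).bijective)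
  exact RingHom.formallySmooth_algebraMap.1 (by
    convert h using 1
    exact RingHom.ext_zmod _ _)

/-- If Λ is a Cohen ring (a complete discrete valuation ring with maximal ideal generated by a prime
number p) then Λ/p^nΛ is formally smooth over ℤ/p^nℤ for every n ≥ 1; the ℤ/p^nℤ-algebra structure
on Λ/p^nΛ is the unique one and is taken as a hypothesis. -/
theorem result (Λ : Type u) [CommRing Λ] [IsDomain Λ]
    [IsDiscreteValuationRing Λ] [IsAdicComplete (IsLocalRing.maximalIdeal Λ) Λ] (p : ℕ)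
    (hp : p.Prime) (hm : IsLocalRing.maximalIdeal Λ = Ideal.span {(p : Λ)}) (n : ℕ) (hn : 1 ≤ n)
    [Algebra (ZMod (p ^ n)) (Λ ⧸ Ideal.span {((p : Λ) ^ n)})] :
    Algebra.FormallySmooth (ZMod (p ^ n)) (Λ ⧸ Ideal.span {((p : Λ) ^ n)}) := by
  obtain ⟨m, rfl⟩ : ∃ m, n = m + 1 := ⟨n - 1, by omega⟩
  let e := MvPolynomial.isEmptyRingEquiv ℤ PEmpty.{u + 1}
  letI : Algebra (MvPolynomial PEmpty.{u + 1} ℤ) Λ := ((Int.castRingHom Λ).comp e.toRingHom).toAlgebra
  haveI : IsPrincipalIdealRing (MvPolynomial PEmpty.{u + 1} ℤ) :=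
    IsPrincipalIdealRing.of_surjective e.symm.toRingHom e.symm.surjective
  exact aux Λ p hp hm m _ e fun _ => rfl

end Groth.Agent.S9455
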