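import Groth.Statements.S9323
import Groth.Agent.S9455
import Groth.Agent.ArtPow.Basic

set_option autoImplicit false
open CAlg Groth.Agent

namespace Groth.Agent.S9323

/-- Let `Λ` be a Cohen ring (a complete discrete valuation ring whose maximal ideal is generated by a
prime number) and `n ≥ 0`. Then `ℤ → Λ[[x_1, …, x_n]]` is formally smooth for the adic topology of
the maximal ideal of the power series ring. (`Λ` is taken in the lowest universe, where `ℤ` lives.) -/
theorem result (Λ : Type) [CommRing Λ] [IsLocalRing Λ]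
    (hΛ : CAlg.IsCohenRing Λ) (n : ℕ) :
    CAlgX.IsAdicFormallySmooth ℤ (MvPowerSeries (Fin n) Λ)
      (IsLocalRing.maximalIdeal (MvPowerSeries (Fin n) Λ)) := by
  obtain ⟨hdom, hdvr, hc, p, hp, hm⟩ := hΛ
  haveI := hdom; haveI := hdvr; haveI := hc
  intro E _ _ J hJ ψ hψ
  obtain ⟨j, hj⟩ := hψ
  set m := j * 2 + 1 with hm'
  have hpm : (p : MvPowerSeries (Fin n) Λ) ∈ IsLocalRing.maximalIdeal (MvPowerSeries (Fin n) Λ) := by
    rw [IsLocalRing.mem_maximalIdeal]
    intro hu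
    have h1 : IsUnit ((p : Λ)) := by simpa using hu.map (MvPowerSeries.constantCoeff (σ := Fin n) (R := Λ))
    exact (IsLocalRing.mem_maximalIdeal _).1 (hm ▸ Ideal.subset_span rfl : (p : Λ) ∈ IsLocalRing.maximalIdeal Λ) h1
  have hX : ∀ i : Fin n, (MvPowerSeries.X i : MvPowerSeries (Fin n) Λ) ∈ IsLocalRing.maximalIdeal _ := fun i => by
    rw [IsLocalRing.mem_maximalIdeal]
    intro hu
    have h1 : IsUnit (0 : Λ) := by simpa using hu.map (MvPowerSeries.constantCoeff (σ := Fin n) (R := Λ))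
    exact not_isUnit_zero h1
  have hpE : ((p ^ m : ℕ) : E) = 0 := by
    have h1 : (p : E) ^ j ∈ J := by
      rw [← Ideal.Quotient.eq_zero_iff_mem, map_pow, map_natCast, ← map_natCast ψ, ← map_pow]
      exact hj _ (Ideal.pow_mem_pow hpm j)
    have h2 : (p : E) ^ (j * 2) = 0 := by
      rw [pow_mul]
      exact (Submodule.mem_bot E).mp (hJ ▸ Ideal.pow_mem_pow h1 2)
    rw [Nat.cast_pow, hm', pow_succ, h2, zero_mul]
  let L := Λ ⧸ Ideal.span {((p : Λ) ^ m)}
  have hpL : ((p ^ m : ℕ) : L) = 0 := by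
    rw [Nat.cast_pow, ← map_natCast (Ideal.Quotient.mk (Ideal.span {((p : Λ) ^ m)})), ← map_pow]
    exact Ideal.Quotient.eq_zero_iff_mem.2 (Ideal.subset_span rfl)
  letI : Algebra (ZMod (p ^ m)) E := ((Ideal.Quotient.lift (Ideal.span {((p ^ m : ℕ) : ℤ)}) (Int.castRingHom E)
    fun z hz => by
      obtain ⟨c, rfl⟩ := Ideal.mem_span_singleton'.1 hz
      rw [map_mul, map_natCast, hpE, mul_zero]).comp (Int.quotientSpanNatEquivZMod (p ^ m)).symm.toRingHom).toAlgebra
  letI : Algebra (ZMod (p ^ m)) L := ((Ideal.Quotient.lift (Ideal.span {((p ^ m : ℕ) : ℤ)}) (Int.castRingHom L)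
    fun z hz => by
      obtain ⟨c, rfl⟩ := Ideal.mem_span_singleton'.1 hz
      rw [map_mul, map_natCast, hpL, mul_zero]).comp (Int.quotientSpanNatEquivZMod (p ^ m)).symm.toRingHom).toAlgebra
  haveI : Algebra.FormallySmooth (ZMod (p ^ m)) L := Groth.Agent.S9455.result Λ p hp hm m (Nat.le_add_left 1 _)
  let w : L →+* E ⧸ J := Ideal.Quotient.lift _ (ψ.toRingHom.comp MvPowerSeries.C) fun x hx => by
    obtain ⟨c, rfl⟩ := Ideal.mem_span_singleton'.1 hx
    rw [RingHom.comp_apply, map_mul, map_pow, map_natCast, map_mul, map_pow, map_natCast, ← Nat.cast_pow,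
      ← map_natCast (Ideal.Quotient.mk J), hpE, map_zero, mul_zero]
  let wA : L →ₐ[ZMod (p ^ m)] E ⧸ J := { w with commutes' := fun r => RingHom.congr_fun (RingHom.ext_zmod
    (w.comp (algebraMap (ZMod (p ^ m)) L)) (algebraMap (ZMod (p ^ m)) (E ⧸ J))) r }
  let v₀ : L →ₐ[ZMod (p ^ m)] E := Algebra.FormallySmooth.lift J ⟨2, hJ⟩ wA
  have hv₀ : ∀ a, Ideal.Quotient.mk J (v₀ a) = w a := fun a => Algebra.FormallySmooth.mk_lift J ⟨2, hJ⟩ wA a
  letI : Algebra Λ E := (v₀.toRingHom.comp (Ideal.Quotient.mk _)).toAlgebra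
  choose c hc' using fun i : Fin n => Ideal.Quotient.mk_surjective (ψ (MvPowerSeries.X i))
  have hnil : ∀ i, IsNilpotent (c i) := fun i => ⟨j * 2, by
    have h1 : c i ^ j ∈ J := by
      rw [← Ideal.Quotient.eq_zero_iff_mem, map_pow, hc', ← map_pow]
      exact hj _ (Ideal.pow_mem_pow (hX i) j)
    rw [pow_mul]
    exact (Submodule.mem_bot E).mp (hJ ▸ Ideal.pow_mem_pow h1 2)⟩
  let χ : MvPowerSeries (Fin n) Λ →ₐ[Λ] E := ArtPow.evalNil c hnil
  let ψK : MvPowerSeries (Fin n) Λ →ₐ[Λ] E ⧸ J :=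
    { ψ.toRingHom with commutes' := fun a => (hv₀ (Ideal.Quotient.mk _ a)).symm }
  have hI : ((IsLocalRing.maximalIdeal (MvPowerSeries (Fin n) Λ)).map ψ.toRingHom) ^ j = ⊥ := by
    rw [← Ideal.map_pow, eq_bot_iff, Ideal.map_le_iff_le_comap]
    intro x hx
    exact hj x hx
  have heq : (Ideal.Quotient.mkₐ Λ J).comp χ = ψK := by
    refine ArtPow.algHom_ext (I := (IsLocalRing.maximalIdeal (MvPowerSeries (Fin n) Λ)).map ψ.toRingHom) hI
      (fun i => ?_) fun i => ?_
    · show Ideal.Quotient.mk J (χ (MvPowerSeries.X i)) = ψ (MvPowerSeries.X i)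
      rw [show χ (MvPowerSeries.X i) = c i from ArtPow.evalNil_X c hnil i, hc']
    · show Ideal.Quotient.mk J (χ (MvPowerSeries.X i)) ∈ _
      rw [show χ (MvPowerSeries.X i) = c i from ArtPow.evalNil_X c hnil i, hc']
      exact Ideal.mem_map_of_mem ψ.toRingHom (hX i)
  exact ⟨{ χ.toRingHom with commutes' := fun z => by simp }, AlgHom.ext fun x => DFunLike.congr_fun heq x⟩

end Groth.Agent.S9323
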