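import Groth.Statements.S9324
import Mathlib
import Groth.Agent.Hensel.PairBaseChange
import Groth.Agent.Hensel.PairHenselization
-- import your own Groth.Agent.* helpers here

set_option autoImplicit false
universe u
open Hensel

namespace Groth.Agent.S9324

open TensorProduct in
/-- Let `(A, I) → (B, J)` be a map of pairs, i.e. `I B ⊆ J`, such that `J` and `I B` have the same
radical, and suppose `A → B` is integral. Let `A^h` be a henselization of the pair `(A, I)`, `B^h` a
henselization of the pair `(B, J)`, and `φ : A^h → B^h` an `A`-algebra homomorphism (there is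
exactly one, by the universal property of `A^h`). Then the induced map `A^h ⊗_A B → B^h` is
bijective: henselization commutes with integral base change. -/
theorem result {A B Ah Bh : Type u} [CommRing A]
    [CommRing B] [CommRing Ah] [CommRing Bh] [Algebra A B] (I : Ideal A) (J : Ideal B)
    (hIJ : I.map (algebraMap A B) ≤ J) (hrad : J.radical = (I.map (algebraMap A B)).radical)
    [Algebra.IsIntegral A B] [Algebra A Ah] (hA : Hens2.IsPairHenselization A I Ah)
    [Algebra B Bh] [Algebra A Bh] [IsScalarTower A B Bh] (hB : Hens2.IsPairHenselization B J Bh)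
    (φ : Ah →ₐ[A] Bh) :
    Function.Bijective (Algebra.TensorProduct.productMap φ (IsScalarTower.toAlgHom A B Bh)) := by
  letI : Algebra B (Ah ⊗[A] B) := Algebra.TensorProduct.rightAlgebra
  have hT : Hens2.IsPairHenselization B J (Ah ⊗[A] B) :=
    Groth.Agent.Hensel.isPairHenselization_of_radical_eq hrad.symm
      (Groth.Agent.Hensel.isPairHenselization_tensor hA)
  obtain ⟨e⟩ := Groth.Agent.Hensel.algEquiv_of_isPairHenselization hT hB
  have h := (hT.2 Bh (J.map (algebraMap B Bh)) (algebraMap B Bh) hB.1 le_rfl).unique
    (y₁ := (Algebra.TensorProduct.productMap φ (IsScalarTower.toAlgHom A B Bh)).toRingHom)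
    (y₂ := e.toAlgHom.toRingHom)
    (RingHom.ext fun b => Algebra.TensorProduct.productMap_right_apply φ (IsScalarTower.toAlgHom A B Bh) b)
    (RingHom.ext e.toAlgHom.commutes)
  have h' : (Algebra.TensorProduct.productMap φ (IsScalarTower.toAlgHom A B Bh) : Ah ⊗[A] B → Bh) = e :=
    funext fun x => RingHom.congr_fun h x
  rw [h']
  exact e.bijective

end Groth.Agent.S9324
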