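import Groth.Statements.S9325
import Mathlib.RingTheory.Localization.Ideal

set_option autoImplicit false
universe u
open CAlg

namespace Groth.Agent.S9325

theorem aux {R C : Type u} [CommRing R] [CommRing C] (π : R →+* C) (hπ : Function.Surjective π) (I J : Ideal R)
    (hI : RingHom.ker π ≤ I) (hI' : I ≤ RingHom.ker π) (hIJ : I ≤ J) {c : ℕ} (f : Fin c → C)
    (hf : CAlgX.IsH1Regular f) (hspan : Ideal.span (Set.range f) = J.map π) {x : R} (hxI : x ∈ I)
    (hxJ : x ∈ J ^ 2) : x ∈ I * J := by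
  have hF : ∀ i, ∃ r ∈ J, π r = f i := fun i =>
    (Ideal.mem_map_iff_of_surjective π hπ).1 (hspan ▸ Ideal.subset_span ⟨i, rfl⟩)
  choose F hFJ hF using hF
  have hJ : J ≤ I ⊔ Ideal.span (Set.range F) := by
    intro j hj
    have : π j ∈ (Ideal.span (Set.range F)).map π := by
      rw [Ideal.map_span, ← Set.range_comp, show π ∘ F = f from funext hF, hspan]
      exact Ideal.mem_map_of_mem π hj
    obtain ⟨u, hu, huj⟩ := (Ideal.mem_map_iff_of_surjective π hπ).1 this
    rw [← sub_add_cancel j u]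
    exact Submodule.add_mem_sup (hI (by simp [RingHom.mem_ker, huj])) hu
  have hFJ' : Ideal.span (Set.range F) ≤ J := Ideal.span_le.2 (by rintro _ ⟨i, rfl⟩; exact hFJ i)
  have h1 : x ∈ I * J ⊔ Ideal.span (Set.range F) * Ideal.span (Set.range F) := by
    refine (show J ^ 2 ≤ _ from ?_) hxJ
    rw [pow_two]
    refine (Ideal.mul_mono hJ hJ).trans ?_
    rw [Ideal.sup_mul, Ideal.mul_sup, Ideal.mul_sup]
    refine sup_le (sup_le ((Ideal.mul_mono_right hIJ).trans le_sup_left)
      ((Ideal.mul_mono_right hFJ').trans le_sup_left)) (sup_le ?_ le_sup_right)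
    rw [mul_comm]
    exact (Ideal.mul_mono_right hFJ').trans le_sup_left
  obtain ⟨y, hy, z, hz, rfl⟩ := Submodule.mem_sup.1 h1
  obtain ⟨b, hb, hbz⟩ : ∃ b : Fin c → R, (∀ i, b i ∈ Ideal.span (Set.range F)) ∧ ∑ i, b i * F i = z := by
    clear h1 hxI hxJ
    refine Submodule.mul_induction_on hz (fun p hp q hq => ?_) ?_
    · obtain ⟨e, rfl⟩ := Ideal.mem_span_range_iff_exists_fun.1 hq
      exact ⟨fun i => p * e i, fun i => Ideal.mul_mem_right _ _ hp, by simp [Finset.mul_sum, mul_assoc]⟩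
    · rintro u v ⟨b, hb, rfl⟩ ⟨b', hb', rfl⟩
      exact ⟨b + b', fun i => add_mem (hb i) (hb' i), by simp [add_mul, Finset.sum_add_distrib]⟩
  have hz0 : π z = 0 := RingHom.mem_ker.1 (hI' (by
    have := sub_mem hxI (Ideal.mul_le_left (I := I) (J := J) hy |> fun h => h)
    simpa using this))
  have ht := hf (π ∘ b) (by rw [← hz0, ← hbz]; simp [map_sum, hF])
  obtain ⟨t, ht0, htb⟩ : ∃ t : Fin c → R, ∑ i, t i * F i = 0 ∧ π ∘ t = π ∘ b := by
    generalize π ∘ b = v at ht
    induction ht using Submodule.span_induction with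
    | mem v hv =>
      obtain ⟨i, j, rfl⟩ := hv
      refine ⟨Pi.single i (F j) - Pi.single j (F i), ?_, ?_⟩
      · simp [sub_mul, mul_sub, Finset.sum_sub_distrib, Pi.single_apply, mul_ite, mul_comm]
      · funext k; simp [Pi.single_apply, apply_ite π, hF]
    | zero => exact ⟨0, by simp, by funext k; simp⟩
    | add u v _ _ hu hv =>
      obtain ⟨t, ht, htu⟩ := hu
      obtain ⟨t', ht', htv⟩ := hv
      exact ⟨t + t', by simp [add_mul, Finset.sum_add_distrib, ht, ht'], by rw [← htu, ← htv]; funext k; simp⟩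
    | smul r u _ hu =>
      obtain ⟨t, ht, htu⟩ := hu
      obtain ⟨r, rfl⟩ := hπ r
      exact ⟨r • t, by simp [mul_assoc, ← Finset.mul_sum, ht], by rw [← htu]; funext k; simp⟩
  refine add_mem hy ?_
  rw [← hbz, show ∑ i, b i * F i = ∑ i, (b i - t i) * F i by simp [sub_mul, Finset.sum_sub_distrib, ht0]]
  refine Ideal.sum_mem _ fun i _ => Ideal.mul_mem_mul (hI ?_) (hFJ i)
  have := congrFun htb i
  simp only [Function.comp_apply] at this
  simp [RingHom.mem_ker, this]

/-- Let `A` be a ring and `I ⊆ J` ideals of `A` such that the ideal `J/I` of `A/I` is `H_1`-regular: for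
every prime `𝔮` of `A/I` containing `J/I` there is `g ∉ 𝔮` such that the extension of `J/I` to
`(A/I)_g` is generated by an `H_1`-regular sequence (a finite sequence all of whose linear relations
are combinations of the trivial ones). Then `I ∩ J² = I J`. -/
theorem result {A : Type u} [CommRing A] (I J : Ideal A)
    (hIJ : I ≤ J)
    (h : ∀ (𝔮 : Ideal (A ⧸ I)) [𝔮.IsPrime], J.map (Ideal.Quotient.mk I) ≤ 𝔮 →
      ∃ g : A ⧸ I, g ∉ 𝔮 ∧ ∃ (c : ℕ) (f : Fin c → Localization.Away g),
        CAlgX.IsH1Regular f ∧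
          Ideal.span (Set.range f) =
            (J.map (Ideal.Quotient.mk I)).map (algebraMap (A ⧸ I) (Localization.Away g))) :
    I ⊓ J ^ 2 = I * J := by
  refine le_antisymm (fun x hx => ?_) (le_inf Ideal.mul_le_left (by
    rw [pow_two]; exact Ideal.mul_mono_left hIJ))
  obtain ⟨hxI, hxJ⟩ := hx
  by_contra hx
  have hne : (I * J).colon {x} ≠ ⊤ := fun h => hx (by
    simpa using Submodule.mem_colon_singleton.1 (show (1 : A) ∈ (I * J).colon {x} by rw [h]; trivial))
  obtain ⟨P, hP, hle⟩ := Ideal.exists_le_maximal _ hne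
  haveI := hP.isPrime
  have key : ∀ a, a * x ∈ I * J → a ∈ P := fun a ha => hle (Submodule.mem_colon_singleton.2 ha)
  have hJP : J ≤ P := fun j hj => key j (by rw [mul_comm j x]; exact Ideal.mul_mem_mul hxI hj)
  let mk := Ideal.Quotient.mk I
  have hker : RingHom.ker mk ≤ P := by rw [Ideal.mk_ker]; exact hIJ.trans hJP
  haveI : (P.map mk).IsPrime := Ideal.map_isPrime_of_surjective Ideal.Quotient.mk_surjective hker
  obtain ⟨g, hg, c, f, hf, hspan⟩ := h (P.map mk) (Ideal.map_mono hJP)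
  obtain ⟨g₀, rfl⟩ := Ideal.Quotient.mk_surjective g
  let R := Localization.Away g₀
  let C := Localization.Away (mk g₀)
  let ψ : R →+* C := Localization.awayMap mk g₀
  have hψ : ∀ a, ψ (algebraMap A R a) = algebraMap (A ⧸ I) C (mk a) := fun a => by
    simp only [ψ, Localization.awayMap, IsLocalization.Away.map, IsLocalization.map_eq]
    rfl
  have hsurj : Function.Surjective ψ := by
    intro z
    obtain ⟨a, ⟨_, k, rfl⟩, rfl⟩ := IsLocalization.exists_mk'_eq (Submonoid.powers (mk g₀)) z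
    obtain ⟨a, rfl⟩ := Ideal.Quotient.mk_surjective a
    refine ⟨IsLocalization.mk' R a (⟨g₀ ^ k, k, rfl⟩ : Submonoid.powers g₀), ?_⟩
    refine IsLocalization.eq_mk'_iff_mul_eq.2 ?_
    simp only [← map_pow]
    rw [show Ideal.Quotient.mk I (g₀ ^ k) = mk (g₀ ^ k) from rfl, ← hψ, ← map_mul, IsLocalization.mk'_spec, hψ]
  have hk1 : I.map (algebraMap A R) ≤ RingHom.ker ψ := Ideal.map_le_iff_le_comap.2 fun a ha => by
    simp [RingHom.mem_ker, hψ, mk, Ideal.Quotient.eq_zero_iff_mem.2 ha]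
  have hk2 : RingHom.ker ψ ≤ I.map (algebraMap A R) := by
    intro z hz
    obtain ⟨a, s, rfl⟩ := IsLocalization.exists_mk'_eq (Submonoid.powers g₀) z
    rw [IsLocalization.mk'_mem_iff]
    have : algebraMap (A ⧸ I) C (mk a) = 0 := by
      rw [← hψ, ← IsLocalization.mk'_spec R a s, map_mul, RingHom.mem_ker.1 hz, zero_mul]
    obtain ⟨⟨_, m, rfl⟩, hm⟩ := (IsLocalization.map_eq_zero_iff (Submonoid.powers (mk g₀)) C _).1 this
    simp only [← map_pow, ← map_mul] at hm
    rw [IsLocalization.algebraMap_mem_map_algebraMap_iff (Submonoid.powers g₀)]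
    exact ⟨g₀ ^ m, ⟨m, rfl⟩, Ideal.Quotient.eq_zero_iff_mem.1 hm⟩
  have hmap : (J.map (algebraMap A R)).map ψ = (J.map mk).map (algebraMap (A ⧸ I) C) := by
    rw [Ideal.map_map, Ideal.map_map, show ψ.comp (algebraMap A R) = (algebraMap (A ⧸ I) C).comp mk from
      RingHom.ext hψ]
  have h2 := aux ψ hsurj (I.map (algebraMap A R)) (J.map (algebraMap A R)) hk2 hk1 (Ideal.map_mono hIJ) f hf
    (hspan.trans hmap.symm) (Ideal.mem_map_of_mem _ hxI) (by
      rw [← Ideal.map_pow]; exact Ideal.mem_map_of_mem _ hxJ)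
  rw [← Ideal.map_mul, IsLocalization.algebraMap_mem_map_algebraMap_iff (Submonoid.powers g₀)] at h2
  obtain ⟨_, ⟨k, rfl⟩, hk⟩ := h2
  exact hg (Ideal.mem_map_of_mem mk (hP.isPrime.mem_of_pow_mem k (key _ hk)))

end Groth.Agent.S9325
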