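import Groth.Statements.S9326
import Mathlib.Topology.Algebra.OpenSubgroup
import Mathlib.Topology.Algebra.Nonarchimedean.Basic
import Mathlib.Topology.GDelta.Basic
import Mathlib.Tactic.Abel
import Mathlib.Algebra.BigOperators.Intervals
import Mathlib.Topology.Algebra.IsUniformGroup.Basic

set_option autoImplicit false
universe u
open CAlg

namespace Groth.Agent.S9326

/-- Let `u : N → M` be a continuous homomorphism of topological abelian groups. Assume `M` is Hausdorff
and `N` is Hausdorff and complete, linearly topologized (every neighbourhood of zero contains an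
open subgroup) and first countable (zero has a countable basis of neighbourhoods). Then exactly one
of two things holds: `u` is an open map; or there is an open subgroup of `N` whose image is nowhere
dense in `M`. -/
theorem result {N M : Type u} [AddCommGroup N]
    [AddCommGroup M] [UniformSpace N] [IsUniformAddGroup N] [TopologicalSpace M]
    [IsTopologicalAddGroup M] [T2Space M] [T2Space N] [CompleteSpace N] [NonarchimedeanAddGroup N]
    [FirstCountableTopology N] (u : N →+ M) (hu : Continuous u) :
    Xor (IsOpenMap u) (∃ V : OpenAddSubgroup N, IsNowhereDense (u '' (V : Set N))) := by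
  classical
  by_cases h : ∃ V : OpenAddSubgroup N, IsNowhereDense (u '' (V : Set N))
  · refine Or.inr ⟨h, fun hopen => ?_⟩
    obtain ⟨V, hV⟩ := h
    have h1 : u '' (V : Set N) ⊆ interior (closure (u '' (V : Set N))) :=
      (hopen _ V.isOpen).subset_interior_iff.mpr subset_closure
    rw [hV] at h1
    exact h1 ⟨0, V.zero_mem, rfl⟩
  · refine Or.inl ⟨?_, h⟩
    push Not at h
    have hC : ∀ V : OpenAddSubgroup N, IsOpen (((V : AddSubgroup N).map u).topologicalClosure : Set M) := by
      intro V
      obtain ⟨z, hz⟩ := Set.nonempty_iff_ne_empty.mpr (h V)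
      refine AddSubgroup.isOpen_of_mem_nhds _ (g := z) ?_
      rw [AddSubgroup.topologicalClosure_coe, AddSubgroup.coe_map]
      exact mem_interior_iff_mem_nhds.mp hz
    obtain ⟨b, hb⟩ := (nhds (0 : N)).exists_antitone_basis
    have hsub : ∀ k, ∃ V : OpenAddSubgroup N, (V : Set N) ⊆ b k :=
      fun k => NonarchimedeanAddGroup.is_nonarchimedean _ (hb.mem k)
    choose W hW using hsub
    have hmain : ∀ V : OpenAddSubgroup N, closure (u '' (V : Set N)) ⊆ u '' (V : Set N) := by
      intro V y hy
      obtain ⟨Vs, hV0, hVsucc⟩ : ∃ Vs : ℕ → OpenAddSubgroup N, Vs 0 = V ∧ ∀ i, Vs (i + 1) = Vs i ⊓ W i :=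
        ⟨fun k => Nat.rec V (fun i Vi => Vi ⊓ W i) k, rfl, fun _ => rfl⟩
      have hVs : ∀ k : ℕ, (Vs (k + 1) : Set N) ⊆ SetLike.coe (Vs k) ∧ (Vs (k + 1) : Set N) ⊆ b k :=
        fun k => ⟨by rw [hVsucc]; intro x hx; exact hx.1, by rw [hVsucc]; intro x hx; exact hW k hx.2⟩
      have hanti : ∀ {i j : ℕ}, i ≤ j → SetLike.coe (Vs j) ⊆ SetLike.coe (Vs i) := by
        intro i j hij
        induction hij with
        | refl => exact subset_rfl
        | step _ ih => exact (hVs _).1.trans ih
      have hstep : ∀ k (z : M), z ∈ ((Vs k : AddSubgroup N).map u).topologicalClosure →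
          ∃ x ∈ Vs k, z - u x ∈ ((Vs (k + 1) : AddSubgroup N).map u).topologicalClosure := by
        intro k z hz
        have hopen := hC (Vs (k + 1))
        rw [← SetLike.mem_coe, AddSubgroup.topologicalClosure_coe, mem_closure_iff] at hz
        obtain ⟨_, hw, x, hx, rfl⟩ := hz _ (hopen.preimage (continuous_const.sub continuous_id : Continuous fun w : M => z - w))
          (by simpa using subset_closure (Set.mem_image_of_mem u (Vs (k + 1)).zero_mem))
        exact ⟨x, hx, hw⟩
      choose! f hf1 hf2 using hstep
      let r : ℕ → M := fun k => Nat.rec y (fun i ri => ri - u (f i ri)) k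
      have hr : ∀ k, r k ∈ ((Vs k : AddSubgroup N).map u).topologicalClosure := by
        intro k
        induction k with
        | zero =>
          show y ∈ (((Vs 0 : AddSubgroup N).map u).topologicalClosure : Set M)
          rw [hV0]
          rw [AddSubgroup.topologicalClosure_coe, AddSubgroup.coe_map]
          exact hy
        | succ k ih => exact hf2 k _ ih
      let x : ℕ → N := fun k => f k (r k)
      have hx : ∀ k, x k ∈ Vs k := fun k => hf1 k _ (hr k)
      have htail : ∀ i j, i ≤ j → ∑ l ∈ Finset.Ico i j, x l ∈ Vs i := fun i j hij =>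
        (Vs i : AddSubgroup N).sum_mem fun l hl => hanti (Finset.mem_Ico.mp hl).1 (hx l)
      have hcau : CauchySeq fun n => ∑ l ∈ Finset.range n, x l := by
        rw [cauchySeq_iff]
        intro U hU
        rw [uniformity_eq_comap_nhds_zero N, Filter.mem_comap] at hU
        obtain ⟨t, ht, htU⟩ := hU
        obtain ⟨k, -, hk⟩ := hb.toHasBasis.mem_iff.mp ht
        refine ⟨k + 1, fun i hi j hj => htU ?_⟩
        show (∑ l ∈ Finset.range j, x l) - ∑ l ∈ Finset.range i, x l ∈ t
        refine hk ((hVs k).2 ?_)
        rcases le_total i j with hij | hij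
        · rw [← Finset.sum_Ico_eq_sub _ hij]
          exact hanti hi (htail i j hij)
        · rw [← neg_sub, ← Finset.sum_Ico_eq_sub _ hij]
          exact neg_mem (hanti hj (htail j i hij) : _ ∈ (Vs (k + 1) : AddSubgroup N))
      obtain ⟨s, hs⟩ := cauchySeq_tendsto_of_complete hcau
      have hsV : s ∈ V := by
        refine (AddSubgroup.isClosed_of_isOpen (V : AddSubgroup N) V.isOpen).mem_of_tendsto hs (Filter.Eventually.of_forall fun n => ?_)
        rw [Finset.range_eq_Ico]
        exact (hV0 ▸ htail 0 n n.zero_le : _ ∈ V)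
      refine ⟨s, hsV, ?_⟩
      have hsum : ∀ n, u (∑ l ∈ Finset.range n, x l) = y - r n := by
        intro n
        induction n with
        | zero => simp [r]
        | succ n ih =>
          rw [Finset.sum_range_succ, map_add, ih]
          show y - r n + u (f n (r n)) = y - (r n - u (f n (r n)))
          abel
      have hr0 : Filter.Tendsto r Filter.atTop (nhds 0) := by
        rw [Filter.tendsto_def]
        intro U hU
        obtain ⟨C, hC0, hCclosed, hCU⟩ := exists_mem_nhds_isClosed_subset hU
        obtain ⟨k, -, hk⟩ := hb.toHasBasis.mem_iff.mp ((hu.tendsto' 0 0 (map_zero u)) hC0)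
        refine Filter.mem_atTop_sets.mpr ⟨k + 1, fun n hn => hCU ?_⟩
        have h1 := hr n
        rw [← SetLike.mem_coe, AddSubgroup.topologicalClosure_coe, AddSubgroup.coe_map] at h1
        refine closure_minimal ?_ hCclosed h1
        rintro _ ⟨w, hw, rfl⟩
        exact hk ((hVs k).2 (hanti hn hw))
      have h1 : Filter.Tendsto (fun n => u (∑ l ∈ Finset.range n, x l)) Filter.atTop (nhds (u s)) := (hu.tendsto s).comp hs
      have h2 : Filter.Tendsto (fun n => u (∑ l ∈ Finset.range n, x l)) Filter.atTop (nhds y) := by
        simp_rw [hsum]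
        simpa using tendsto_const_nhds.sub hr0
      exact tendsto_nhds_unique h1 h2
    refine isOpenMap_iff_nhds_le.mpr fun a => ?_
    intro U hU
    rw [Filter.mem_map] at hU
    have h0 : (fun v => a + v) ⁻¹' (u ⁻¹' U) ∈ nhds (0 : N) :=
      (continuous_const.add continuous_id).tendsto' 0 a (add_zero a) hU
    obtain ⟨V, hV⟩ := NonarchimedeanAddGroup.is_nonarchimedean _ h0
    have hVo := hC V
    rw [AddSubgroup.topologicalClosure_coe, AddSubgroup.coe_map] at hVo
    have himg : u '' (V : Set N) ∈ nhds (0 : M) :=
      Filter.mem_of_superset (hVo.mem_nhds (subset_closure ⟨0, V.zero_mem, map_zero u⟩)) (hmain V)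
    have hpre : (fun z => z - u a) ⁻¹' (u '' (V : Set N)) ∈ nhds (u a) :=
      (continuous_id.sub continuous_const).tendsto' (u a) 0 (sub_self _) himg
    refine Filter.mem_of_superset hpre ?_
    rintro z ⟨v, hv, e⟩
    have : u (a + v) = z := by simp only [map_add, e, add_sub_cancel]
    exact this ▸ hV hv

end Groth.Agent.S9326
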