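import Groth.Statements.S9330
import Mathlib
import Groth.Agent.Hensel.DirectLimit
import Groth.Agent.Hensel.PairBaseChange
-- import your own Groth.Agent.* helpers here

set_option autoImplicit false
universe u
open Hensel

namespace Groth.Agent.S9330

/-- Let `(A_i, I_i)` be a directed system of pairs (rings `A_i` with ideals `I_i`, the transition maps
sending `I_i` into `I_j`), with colimit ring `A` and `I ⊆ A` the ideal generated by (equivalently,
the union of) the images of the `I_i`. For each `i` let `B_i` be a henselization of the pair `(A_i,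
I_i)`, with the compatible transition maps `B_i → B_j` over `A_i → A_j` (these are the induced ones,
being unique), and give the colimit of the `B_i` the `A`-algebra structure induced by the maps `A_i
→ B_i`. Then `colim B_i`, with the extension of `I`, is a henselization of the pair `(A, I)`. (The
index set is taken in the universe of the rings; the statement fails for non-filtered colimits.) -/
theorem result {ι : Type u} [Preorder ι] [IsDirectedOrder ι] [Nonempty ι]
    (G : ι → Type u) [∀ i, CommRing (G i)] (f : ∀ i j : ι, i ≤ j → (G i →+* G j))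
    [DirectedSystem G (fun i j h => f i j h)] (I : ∀ i, Ideal (G i))
    (hI : ∀ (i j : ι) (h : i ≤ j), (I i).map (f i j h) ≤ I j)
    (B : ι → Type u) [∀ i, CommRing (B i)] [∀ i, Algebra (G i) (B i)]
    (hB : ∀ i, Hens2.IsPairHenselization (G i) (I i) (B i))
    (g : ∀ i j : ι, i ≤ j → (B i →+* B j)) [DirectedSystem B (fun i j h => g i j h)]
    (hg : ∀ (i j : ι) (h : i ≤ j), (g i j h).comp (algebraMap (G i) (B i)) = (algebraMap (G j) (B j)).comp (f i j h))
    [Algebra (DirectLimit G f) (DirectLimit B g)]
    (halg : ∀ (i : ι) (x : G i), algebraMap (DirectLimit G f) (DirectLimit B g) (DirectLimit.Ring.of G f i x) =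
      DirectLimit.Ring.of B g i (algebraMap (G i) (B i) x)) :
    Hens2.IsPairHenselization (DirectLimit G f) (⨆ i, (I i).map (DirectLimit.Ring.of G f i))
      (DirectLimit B g) := by
  classical
  let L := DirectLimit G f
  let M := DirectLimit B g
  let oG := DirectLimit.Ring.of G f
  let oB := DirectLimit.Ring.of B g
  refine ⟨?_, fun C _ J F hJ hF => ?_⟩
  · let g' := fun i j (h : i ≤ j) => (g i j h : B i → B j)
    let I' : ∀ i, Ideal (B i) := fun i => (I i).map (algebraMap (G i) (B i))
    haveI hM' : HenselianRing (Ring.DirectLimit B g') (⨆ i, (I' i).map (Ring.DirectLimit.of B g' i)) :=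
      Groth.Agent.Hensel.henselianRing_directLimit B g I' (fun i j h => by
        simp only [I', Ideal.map_map, hg]
        rw [← Ideal.map_map]
        exact Ideal.map_mono (hI i j h)) fun i => (hB i).1
    let ε : Ring.DirectLimit B g' ≃+* M := Ring.DirectLimit.ringEquiv B g
    have h := Groth.Agent.Hensel.henselianRing_of_ringEquiv ε (⨆ i, (I' i).map (Ring.DirectLimit.of B g' i))
    have he : (⨆ i, (I' i).map (Ring.DirectLimit.of B g' i)).map ε.toRingHom =
        (⨆ i, (I i).map (oG i)).map (algebraMap L M) := by
      rw [Ideal.map_iSup, Ideal.map_iSup]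
      refine iSup_congr fun i => ?_
      simp only [I', Ideal.map_map]
      refine congrArg (Ideal.map · (I i)) (RingHom.ext fun x => ?_)
      exact (Ring.DirectLimit.ringEquiv_of B g).trans (halg i x).symm
    rwa [he] at h
  · have hFi : ∀ i, (I i).map (F.comp (oG i)) ≤ J := fun i => by
      rw [← Ideal.map_map]
      exact (Ideal.map_mono (le_iSup (fun i => (I i).map (oG i)) i)).trans hF
    choose Γ hΓ hΓu using fun i => (hB i).2 C J (F.comp (oG i)) hJ (hFi i)
    have hcompat : ∀ i j h x, Γ j (g i j h x) = Γ i x := fun i j h x =>
      RingHom.congr_fun (hΓu i ((Γ j).comp (g i j h)) (RingHom.ext fun y => by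
        have h1 : Γ j (g i j h (algebraMap (G i) (B i) y)) = F (oG j (f i j h y)) := by
          rw [show g i j h (algebraMap (G i) (B i) y) = algebraMap (G j) (B j) (f i j h y) from
            RingHom.congr_fun (hg i j h) y]
          exact RingHom.congr_fun (hΓ j) _
        exact h1.trans (congrArg F (DirectLimit.Ring.of_f h y)))) x
    refine ⟨DirectLimit.Ring.lift B g C Γ hcompat, DirectLimit.Ring.hom_ext _ fun i => RingHom.ext fun x => ?_,
      fun Φ hΦ => DirectLimit.Ring.hom_ext _ fun i => ?_⟩
    · change DirectLimit.Ring.lift B g C Γ hcompat (algebraMap L M (oG i x)) = F (oG i x)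
      rw [halg, DirectLimit.Ring.lift_of]
      exact RingHom.congr_fun (hΓ i) x
    · rw [DirectLimit.Ring.lift_comp_of]
      refine hΓu i _ (RingHom.ext fun x => ?_)
      change Φ (oB i (algebraMap (G i) (B i) x)) = F (oG i x)
      rw [← halg]
      exact RingHom.congr_fun hΦ _

end Groth.Agent.S9330
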