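import Groth.Statements.S9333
import Mathlib

set_option autoImplicit false
set_option linter.style.haveILetI false
set_option backward.isDefEq.respectTransparency false
universe u
open CategoryTheory CategoryTheory.Limits
open QFin

namespace Groth.Agent.S9333

open AlgebraicGeometry CategoryTheory in
/-- Let f : X → S be locally of finite type, g : S' → S any morphism and X' = X ×_S S' with projections
g' : X' → X and f' : X' → S'. If x' ∈ X' maps to x ∈ X and x is closed in the fibre X_{f x}, then x'
is closed in the fibre X'_{f' x'}. -/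
theorem result {X S X' S' : Scheme.{u}} (f : X ⟶ S) [LocallyOfFiniteType f] (g : S' ⟶ S)
    (g' : X' ⟶ X) (f' : X' ⟶ S') (hsq : IsPullback g' f' f g) (x' : X')
    (hx : IsClosed ({f.asFiber (g'.base x')} : Set ↑(f.fiber (f.base (g'.base x'))))) :
    IsClosed ({f'.asFiber x'} : Set ↑(f'.fiber (f'.base x'))) := by
  have hz0 : ∀ (s : S) (z : ↥(f.fiber s)), f.fiberι s z = g' x' → IsClosed ({z} : Set ↥(f.fiber s)) := by
    intro s z hz
    obtain rfl : f (g' x') = s := by
      have h : f (f.fiberι s z) = s := Set.mem_singleton_iff.1 ((f.range_fiberι s).le ⟨z, rfl⟩)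
      rw [← hz]; exact h
    obtain rfl : z = f.asFiber (g' x') := (f.fiberι (f (g' x'))).isEmbedding.injective
      (hz.trans (f.fiberι_asFiber (g' x')).symm)
    exact hx
  have hsq2 := isPullback_fiberToSpecResidueField_of_isPullback hsq (f' x')
  set q := pullback.map f' (S'.fromSpecResidueField (f' x')) f (S.fromSpecResidueField (g (f' x'))) g'
    (Spec.map (g.residueFieldMap (f' x'))) g hsq.w.symm (by simp) with hqdef
  let v : ↥(f'.fiber (f' x')) := f'.asFiber x'
  let z : ↥(f.fiber (g (f' x'))) := q v
  have hzv : f.fiberι (g (f' x')) z = g' x' := by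
    have h : q ≫ f.fiberι (g (f' x')) = f'.fiberι (f' x') ≫ g' := pullback.lift_fst _ _ _
    exact (congrArg (fun k : _ ⟶ X => k v) h).trans (congrArg g' (f'.fiberι_asFiber x'))
  have hzc := hz0 _ z hzv
  haveI : LocallyOfFiniteType (f.fiberToSpecResidueField (g (f' x'))) :=
    MorphismProperty.pullback_snd _ _ inferInstance
  let c := (f.fiber (g (f' x'))).fromSpecResidueField z
  haveI : IsClosedImmersion c := isClosed_singleton_iff_isClosedImmersion.mp hzc
  haveI : IsFinite (c ≫ f.fiberToSpecResidueField (g (f' x'))) :=
    (isFinite_iff_locallyOfFiniteType_of_jacobsonSpace).mpr inferInstance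
  let P := pullback c q
  have hP := (IsPullback.of_hasPullback c q).flip.paste_horiz hsq2.flip
  haveI : IsFinite (pullback.snd c q ≫ f'.fiberToSpecResidueField (f' x')) :=
    MorphismProperty.of_isPullback hP.flip inferInstance
  have hPd : DiscreteTopology ↥P := by
    have hd := (pullback.snd c q ≫ f'.fiberToSpecResidueField (f' x')).isDiscrete_preimage_singleton default
    rw [show (pullback.snd c q ≫ f'.fiberToSpecResidueField (f' x')) ⁻¹' {default} = Set.univ from
      Set.eq_univ_iff_forall.2 fun p => Subsingleton.elim _ _] at hd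
    exact isDiscrete_univ_iff.1 hd
  obtain ⟨w, hw⟩ : v ∈ Set.range (pullback.snd c q) := by
    rw [Scheme.Pullback.range_snd, Scheme.range_fromSpecResidueField]
    exact rfl
  have := (pullback.snd c q).isClosedEmbedding.isClosedMap {w} (isClosed_discrete _)
  rw [Set.image_singleton, hw] at this
  exact this

end Groth.Agent.S9333
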