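import Groth.Statements.S9335
import Groth.Agent.FibrePts.Basic

set_option autoImplicit false
universe u
open QFin

namespace Groth.Agent.S9335

open AlgebraicGeometry CategoryTheory in
/-- If f : X → S is of finite type and s ∈ S, then f is quasi-finite at only finitely many points of the
fibre over s. -/
theorem result {X S : Scheme.{u}} (f : X ⟶ S) [LocallyOfFiniteType f] [QuasiCompact f] (s : S) :
    {x : ↑X | f.base x = s ∧ f.QuasiFiniteAt x}.Finite := by
  haveI : LocallyOfFiniteType (f.fiberToSpecResidueField s) :=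
    MorphismProperty.pullback_snd _ _ inferInstance
  haveI : IsLocallyNoetherian (f.fiber s) :=
    LocallyOfFiniteType.isLocallyNoetherian (f.fiberToSpecResidueField s)
  haveI : IsNoetherian (f.fiber s) := {}
  let T : Set ↑(f.fiber s) := {p | IsOpen ({p} : Set ↑(f.fiber s))}
  have hT : T.Finite := by
    have hc : IsCompact T := TopologicalSpace.NoetherianSpace.isCompact T
    obtain ⟨t, ht⟩ := hc.elim_finite_subcover (fun p : T => ({p.1} : Set ↑(f.fiber s))) (fun p => p.2)
      (fun p hp => Set.mem_iUnion.mpr ⟨⟨p, hp⟩, rfl⟩)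
    exact (t.finite_toSet.biUnion fun p _ => Set.finite_singleton _).subset ht
  refine (hT.image (f.fiberι s)).subset ?_
  rintro x ⟨hx, hq⟩
  subst hx
  exact ⟨f.asFiber x, Scheme.Hom.quasiFiniteAt_iff_isOpen_singleton_asFiber.mp hq, f.fiberι_asFiber x⟩

end Groth.Agent.S9335
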