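import Groth.Statements.S9336
import Groth.Agent.FibrePts.Basic

set_option autoImplicit false
universe u
open QFin

namespace Groth.Agent.S9336

open AlgebraicGeometry CategoryTheory in
/-- Let f : X → Y be surjective and g : Y → S locally of finite type. If g ∘ f is locally quasi-finite
(and locally of finite type), then g is locally quasi-finite. -/
theorem result {X Y S : Scheme.{u}} (f : X ⟶ Y) (g : Y ⟶ S) [Surjective f]
    [LocallyQuasiFinite (f ≫ g)] [LocallyOfFiniteType (f ≫ g)] [LocallyOfFiniteType g] :
    LocallyQuasiFinite g := by
  rw [locallyQuasiFinite_iff_isDiscrete_preimage_singleton]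
  intro s
  haveI : LocallyOfFiniteType (g.fiberToSpecResidueField s) :=
    MorphismProperty.pullback_snd _ _ inferInstance
  haveI : IsLocallyNoetherian (g.fiber s) :=
    LocallyOfFiniteType.isLocallyNoetherian (g.fiberToSpecResidueField s)
  haveI : DiscreteTopology (g.fiber s) := by
    refine FibrePts.discreteTopology_of_isClosed_singleton _ fun p => ?_
    obtain ⟨x, hx⟩ := f.surjective (g.fiberι s p)
    have hsy : g (g.fiberι s p) = s := (g.range_fiberι s).le ⟨p, rfl⟩
    generalize hy : g.fiberι s p = y at hx hsy
    subst hx hsy
    have hd : _root_.IsDiscrete ((f ≫ g) ⁻¹' {(f ≫ g) x}) := (f ≫ g).isDiscrete_preimage_singleton _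
    haveI : DiscreteTopology ((f ≫ g).fiber ((f ≫ g) x)) := by
      haveI := hd.to_subtype
      exact ((f ≫ g).fiberHomeo _).isEmbedding.discreteTopology
    have hfin : ((f ≫ g).residueFieldMap x).hom.Finite :=
      (FibrePts.isClosed_asFiber_iff (f ≫ g) x).mp (isClosed_discrete _)
    rw [Scheme.residueFieldMap_comp] at hfin
    have hg : (g.residueFieldMap (f x)).hom.Finite := by
      letI := (g.residueFieldMap (f x)).hom.toAlgebra
      letI := (f.residueFieldMap x).hom.toAlgebra
      letI := ((g.residueFieldMap (f x) ≫ f.residueFieldMap x).hom).toAlgebra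
      haveI : IsScalarTower (S.residueField (g (f x))) (Y.residueField (f x)) (X.residueField x) :=
        IsScalarTower.of_algebraMap_eq fun _ => rfl
      haveI : FiniteDimensional (S.residueField (g (f x))) (X.residueField x) := hfin
      exact FiniteDimensional.left (S.residueField (g (f x))) (Y.residueField (f x)) (X.residueField x)
    have := (FibrePts.isClosed_asFiber_iff g (f x)).mpr hg
    convert this using 2
    exact (g.fiberι _).isEmbedding.injective (hy.trans (g.fiberι_asFiber (f x)).symm)
  rw [← g.range_fiberι s, ← Set.image_univ]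
  exact (isDiscrete_univ_iff.mpr inferInstance).image (g.fiberι s).isEmbedding.toIsInducing

end Groth.Agent.S9336
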