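import Groth.Statements.S9337
import Groth.Agent.FtPtsLib.Basic

set_option autoImplicit false
universe u
open FtPts

namespace Groth.Agent.S9337

open AlgebraicGeometry CategoryTheory in
/-- Let k be a field and f : Spec k → S a morphism of schemes with image point u. Then f is locally of
finite type if and only if some affine open U ∋ u of S has u as a closed point and the residue field
of Spec k (that is, k) is finite over κ(u). -/
theorem result (S : Scheme.{u}) (k : Type u) [Field k] (f : Spec (CommRingCat.of k) ⟶ S) :
    LocallyOfFiniteType f ↔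
      ∃ U : S.Opens, IsAffineOpen U ∧ ∃ hu : f.base (IsLocalRing.closedPoint k) ∈ U,
        IsClosed ({⟨f.base (IsLocalRing.closedPoint k), hu⟩} : Set ↥U) ∧
          (f.residueFieldMap (IsLocalRing.closedPoint k)).hom.Finite := by
  set_option backward.isDefEq.respectTransparency false in
  let pt : Spec (CommRingCat.of k) := IsLocalRing.closedPoint k
  have h1 := Scheme.Hom.SpecMap_residueFieldMap_fromSpecResidueField f pt
  haveI : IsClosedImmersion ((Spec (CommRingCat.of k)).fromSpecResidueField pt) :=
    isClosed_singleton_iff_isClosedImmersion.1 (isClosed_discrete _)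
  haveI : Surjective ((Spec (CommRingCat.of k)).fromSpecResidueField pt) :=
    ⟨fun q => ⟨IsLocalRing.closedPoint _, (Scheme.fromSpecResidueField_apply pt _).trans (Subsingleton.elim (α := PrimeSpectrum k) _ _)⟩⟩
  haveI : IsIso ((Spec (CommRingCat.of k)).fromSpecResidueField pt) :=
    isIso_of_isClosedImmersion_of_surjective _
  constructor
  · intro hf
    obtain ⟨U, hU, hs, hcl⟩ := Groth.Agent.FtPtsLib.closedInAffine_of_specField k f
    refine ⟨U, hU, hs, hcl, ?_⟩
    have h2 : LocallyOfFiniteType (Spec.map (f.residueFieldMap pt) ≫ S.fromSpecResidueField (f pt)) := by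
      rw [h1]; infer_instance
    haveI := h2
    have h3 : LocallyOfFiniteType (Spec.map (f.residueFieldMap pt)) :=
      locallyOfFiniteType_of_comp _ (S.fromSpecResidueField (f pt))
    have h4 : (f.residueFieldMap pt).hom.FiniteType :=
      (HasRingHomProperty.Spec_iff (P := @LocallyOfFiniteType)).1 h3
    algebraize [(f.residueFieldMap pt).hom]
    exact RingHom.finite_algebraMap.2 (finite_of_finite_type_of_isJacobsonRing _ _)
  · rintro ⟨U, hU, hs, hcl, hfin⟩
    haveI := Groth.Agent.FtPtsLib.lft_of_closedInAffine (f pt) ⟨U, hU, hs, hcl⟩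
    haveI : LocallyOfFiniteType (Spec.map (f.residueFieldMap pt)) :=
      (HasRingHomProperty.Spec_iff (P := @LocallyOfFiniteType)).2 hfin.finiteType
    refine (MorphismProperty.cancel_left_of_respectsIso @LocallyOfFiniteType
      ((Spec (CommRingCat.of k)).fromSpecResidueField pt) f).1 ?_
    rw [← h1]; infer_instance

end Groth.Agent.S9337
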