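import Groth.Statements.S9340
import Groth.Agent.FtPtsLib.Basic

set_option autoImplicit false
universe u
open FtPts

namespace Groth.Agent.S9340

open AlgebraicGeometry CategoryTheory in
/-- A surjective morphism locally of finite type maps the set of finite type points of the source onto
the set of finite type points of the target. -/
theorem result {T S : Scheme.{u}} (f : T ⟶ S) [LocallyOfFiniteType f] [Surjective f] :
    f.base '' {t : ↑T | LocallyOfFiniteType (T.fromSpecResidueField t)} =
      {s : ↑S | LocallyOfFiniteType (S.fromSpecResidueField s)} := by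
  set_option backward.isDefEq.respectTransparency false in
  refine subset_antisymm (by rintro _ ⟨t, ht, rfl⟩; exact Groth.Agent.FtPtsLib.image_mem f t ht) fun s hs => ?_
  haveI : LocallyOfFiniteType (S.fromSpecResidueField s) := hs
  haveI : LocallyOfFiniteType (f.fiberι s) := MorphismProperty.pullback_fst _ _ inferInstance
  obtain ⟨t₀, ht₀⟩ := f.surjective s
  have hne : Nonempty (f.fiber s) := by
    have h : t₀ ∈ Set.range (f.fiberι s) := by rw [Scheme.Hom.range_fiberι]; exact ht₀
    exact ⟨h.choose⟩
  obtain ⟨p, -, hp⟩ := Groth.Agent.FtPtsLib.exists_mem_of_isLocallyClosed (S := f.fiber s) Set.univ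
    isOpen_univ.isLocallyClosed Set.univ_nonempty
  have ht := Groth.Agent.FtPtsLib.image_mem (f.fiberι s) p (Groth.Agent.FtPtsLib.lft_of_closedInAffine p hp)
  refine ⟨f.fiberι s p, ht, ?_⟩
  have h : f.fiberι s p ∈ Set.range (f.fiberι s) := ⟨p, rfl⟩
  rw [Scheme.Hom.range_fiberι] at h
  exact h

end Groth.Agent.S9340
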