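import Groth.Statements.S9343
import Groth.Agent.DomLib.Basic

set_option autoImplicit false
universe u
open Dom

namespace Groth.Agent.S9343

open AlgebraicGeometry CategoryTheory in
/-- The base change of a quasi-compact dominant morphism f : X → S along a morphism g : S' → S along
which generalizations lift is dominant. -/
theorem result {X S X' S' : Scheme.{u}} (f : X ⟶ S) [QuasiCompact f] [IsDominant f]
    (g : S' ⟶ S) (g' : X' ⟶ X) (f' : X' ⟶ S') (hsq : IsPullback g' f' f g) (hg : GeneralizingMap g.base) :
    IsDominant f' := by
  have h : Set.range f' = g ⁻¹' Set.range f := by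
    rw [← hsq.isoPullback_hom_snd, Scheme.Hom.comp_base, TopCat.coe_comp, Set.range_comp,
      Set.range_eq_univ.2 (show Function.Surjective hsq.isoPullback.hom from
        (Scheme.homeoOfIso hsq.isoPullback).surjective), Set.image_univ,
      Scheme.Pullback.range_snd]
  refine ⟨fun y => ?_⟩
  obtain ⟨x, hx⟩ := Groth.Agent.DomLib.exists_specializes f (f.denseRange (g y))
  obtain ⟨z, hz, hgz⟩ := hg hx
  exact hz.mem_closed isClosed_closure (subset_closure (h ▸ ⟨x, hgz.symm⟩))

end Groth.Agent.S9343
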