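import Groth.Statements.S9345
import Groth.Agent.DomLib.Basic

set_option autoImplicit false
universe u
open Dom

namespace Groth.Agent.S9345

open AlgebraicGeometry CategoryTheory in
/-- For a morphism f : X → S whose source has only finitely many irreducible components, the image of f
is dense exactly when it contains the generic point of each irreducible component of S, and then S
too has finitely many. -/
theorem result {X S : Scheme.{u}} (f : X ⟶ S)
    (hX : (irreducibleComponents (↑X : Type u)).Finite) :
    (IsDominant f ↔ ∀ s : ↑S, closure {s} ∈ irreducibleComponents (↑S : Type u) → s ∈ Set.range f.base) ∧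
      (IsDominant f → (irreducibleComponents (↑S : Type u)).Finite) := by
  classical
  have key : IsDominant f → ∀ s : ↑S, closure {s} ∈ irreducibleComponents (↑S : Type u) →
      ∃ Z, ∃ hZ : Z ∈ irreducibleComponents (↑X : Type u), f hZ.1.genericPoint = s := by
    intro hf s hs
    have hsub : Set.range f ⊆ ⋃ Z ∈ irreducibleComponents (↑X : Type u), closure (f '' Z) := by
      rintro _ ⟨x, rfl⟩
      exact Set.mem_biUnion (irreducibleComponent_mem_irreducibleComponents x)
        (subset_closure ⟨x, mem_irreducibleComponent, rfl⟩)
    have hcl := closure_minimal hsub (hX.isClosed_biUnion fun Z _ => isClosed_closure)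
    obtain ⟨Z, hZ, hsZ⟩ := Set.mem_iUnion₂.1 (hcl (f.denseRange s))
    refine ⟨Z, hZ, Groth.Agent.DomLib.eq_of_specializes_max hs ?_⟩
    rw [specializes_iff_mem_closure]
    refine closure_minimal ?_ isClosed_closure hsZ
    rintro _ ⟨z, hz, rfl⟩
    refine specializes_iff_mem_closure.1 (Specializes.map ?_ f.continuous)
    rw [specializes_iff_mem_closure, hZ.1.closure_genericPoint (isClosed_of_mem_irreducibleComponents _ hZ)]
    exact hz
  refine ⟨⟨fun hf s hs => ?_, fun H => ⟨fun y => ?_⟩⟩, fun hf => ?_⟩
  · obtain ⟨Z, hZ, h⟩ := key hf s hs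
    exact ⟨_, h⟩
  · obtain ⟨η, hη, hηy⟩ := Groth.Agent.DomLib.exists_max y
    exact hηy.mem_closed isClosed_closure (subset_closure (H η hη))
  · haveI : Finite (irreducibleComponents (↑X : Type u)) := hX.to_subtype
    refine (Set.finite_range fun Z : irreducibleComponents (↑X : Type u) =>
      closure ({f Z.2.1.genericPoint} : Set S)).subset fun W hW => ?_
    have hη := hW.1.closure_genericPoint (isClosed_of_mem_irreducibleComponents _ hW)
    obtain ⟨Z, hZ, h⟩ := key hf hW.1.genericPoint (hη.symm ▸ hW)
    exact ⟨⟨Z, hZ⟩, by change closure _ = W; rw [h, hη]⟩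

end Groth.Agent.S9345
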