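import Groth.Statements.S9346
import Mathlib

set_option autoImplicit false
universe u
open Dom

namespace Groth.Agent.S9346

open AlgebraicGeometry CategoryTheory in
/-- For a morphism f : X → Y between integral schemes, these six conditions coincide: (1) f is dominant;
(2) f sends the generic point of X to that of Y; (3) there exist affine opens U ⊆ X, V ⊆ Y with U
nonempty and U ⊆ f⁻¹V such that the induced ring map on sections is injective; (4) the same for all
such pairs; (5) for some x ∈ X the map of local rings O_{Y,f x} → O_{X,x} is injective; (6) the same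
for all x. -/
theorem result {X Y : Scheme.{u}} [AlgebraicGeometry.IsIntegral X] [AlgebraicGeometry.IsIntegral Y] (f : X ⟶ Y) :
    [IsDominant f,
      f.base (genericPoint ↑X) = genericPoint ↑Y,
      ∃ (U : X.Opens) (V : Y.Opens) (hUV : U ≤ f ⁻¹ᵁ V), IsAffineOpen U ∧ IsAffineOpen V ∧ (U : Set ↑X).Nonempty ∧
        Function.Injective (f.appLE V U hUV),
      ∀ (U : X.Opens) (V : Y.Opens) (hUV : U ≤ f ⁻¹ᵁ V), IsAffineOpen U → IsAffineOpen V → (U : Set ↑X).Nonempty →
        Function.Injective (f.appLE V U hUV),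
      ∃ x : ↑X, Function.Injective (f.stalkMap x),
      ∀ x : ↑X, Function.Injective (f.stalkMap x)].TFAE := by
  let η := genericPoint (X : Type u)
  let ξ := genericPoint (Y : Type u)
  have hξmem : ∀ {O : Y.Opens}, (O : Set Y).Nonempty → ξ ∈ O := fun {O} hO =>
    ((genericPoint_spec Y).mem_open_set_iff O.2).2 (by simpa using hO)
  have hηmem : ∀ {O : X.Opens}, (O : Set X).Nonempty → η ∈ O := fun {O} hO =>
    ((genericPoint_spec X).mem_open_set_iff O.2).2 (by simpa using hO)
  have hzero : ∀ (V : Y.Opens) (s : Γ(Y, V)) (U : X.Opens) (hUV : U ≤ f ⁻¹ᵁ V), (U : Set X).Nonempty →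
      f η = ξ → f.appLE V U hUV s = 0 → s = 0 := by
    intro V s U hUV hU h2 h0
    apply eq_zero_of_basicOpen_eq_bot
    rw [eq_bot_iff]
    intro y hy
    have h3 : ξ ∈ Y.basicOpen s := hξmem ⟨y, hy⟩
    have hb : U ⊓ f ⁻¹ᵁ Y.basicOpen s = X.basicOpen (f.appLE V U hUV s) := (Scheme.basicOpen_appLE f U V hUV s).symm
    rw [h0, Scheme.basicOpen_zero] at hb
    exact absurd (hb.le ⟨hηmem hU, show f η ∈ Y.basicOpen s from h2.symm ▸ h3⟩) id
  have hex : ∀ V : Y.Opens, IsAffineOpen V → (V : Set Y).Nonempty → f η ≠ ξ →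
      ∃ s : Γ(Y, V), s ≠ 0 ∧ f η ∉ Y.basicOpen s := by
    intro V hV hne h
    let O : Y.Opens := ⟨(closure {f η})ᶜ, isClosed_closure.isOpen_compl⟩
    have hξO : ξ ∈ O := by
      intro hc
      exact h (((genericPoint_spec Y).specializes (Set.mem_univ _)).antisymm (specializes_iff_mem_closure.2 hc)).eq.symm
    obtain ⟨s, hsO, hξs⟩ := hV.exists_basicOpen_le (V := O) ⟨ξ, hξO⟩ (hξmem hne)
    refine ⟨s, ?_, fun hmem => hsO hmem (subset_closure rfl)⟩
    rintro rfl
    rw [Scheme.basicOpen_zero] at hξs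
    exact hξs
  tfae_have 1 → 2 := fun h => by
    refine IsGenericPoint.eq ?_ (genericPoint_spec Y)
    have h2 := (genericPoint_spec X).image f.continuous
    rwa [Set.image_univ, f.denseRange.closure_range] at h2
  tfae_have 2 → 1 := fun h => ⟨fun y =>
    ((genericPoint_spec Y).specializes (Set.mem_univ y)).mem_closed isClosed_closure (subset_closure ⟨η, h⟩)⟩
  tfae_have 2 → 4 := fun h U V hUV _ _ hne => by
    rw [injective_iff_map_eq_zero]
    exact fun s hs => hzero V s U hUV hne h hs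
  tfae_have 4 → 3 := fun h => by
    obtain ⟨V, hV, hηV, -⟩ := exists_isAffineOpen_mem_and_subset (show f η ∈ (⊤ : Y.Opens) from trivial)
    obtain ⟨U, hU, hηU, hUV⟩ := exists_isAffineOpen_mem_and_subset (show η ∈ f ⁻¹ᵁ V from hηV)
    exact ⟨U, V, hUV, hU, hV, ⟨η, hηU⟩, h U V hUV hU hV ⟨η, hηU⟩⟩
  tfae_have 3 → 2 := by
    rintro ⟨U, V, hUV, hU, hV, hne, hinj⟩
    by_contra h
    obtain ⟨s, hs, hsη⟩ := hex V hV ⟨_, hUV hne.some_mem⟩ h
    refine hs (hinj (Eq.trans ?_ (map_zero _).symm))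
    apply eq_zero_of_basicOpen_eq_bot
    rw [eq_bot_iff]
    intro z hz
    have h1 : η ∈ X.basicOpen (f.appLE V U hUV s) := hηmem ⟨z, hz⟩
    rw [Scheme.basicOpen_appLE] at h1
    exact absurd h1.2 hsη
  tfae_have 2 → 6 := fun h x => by
    rw [injective_iff_map_eq_zero]
    intro a ha
    obtain ⟨V, hxV, s, rfl⟩ := Y.presheaf.germ_exist a
    rw [Scheme.Hom.germ_stalkMap_apply] at ha
    have h0 : f.app V s = 0 := germ_injective_of_isIntegral X x _ (ha.trans (map_zero _).symm)
    have hs : s = 0 := hzero V s (f ⁻¹ᵁ V) le_rfl ⟨x, hxV⟩ h (by rw [← Scheme.Hom.app_eq_appLE]; exact h0)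
    rw [hs, map_zero]
  tfae_have 6 → 5 := fun h => ⟨η, h η⟩
  tfae_have 5 → 2 := by
    rintro ⟨x, hinj⟩
    by_contra h
    obtain ⟨V, hV, hxV, -⟩ := exists_isAffineOpen_mem_and_subset (show f x ∈ (⊤ : Y.Opens) from trivial)
    obtain ⟨s, hs, hsη⟩ := hex V hV ⟨_, hxV⟩ h
    have h0 : f.app V s = 0 := by
      apply eq_zero_of_basicOpen_eq_bot
      rw [eq_bot_iff, ← Scheme.preimage_basicOpen]
      intro z hz
      exact absurd (hηmem (O := f ⁻¹ᵁ Y.basicOpen s) ⟨z, hz⟩) hsη
    have h1 : Y.presheaf.germ V (f x) hxV s = 0 := by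
      refine hinj ?_
      rw [map_zero, Scheme.Hom.germ_stalkMap_apply, h0, map_zero]
    exact hs (germ_injective_of_isIntegral Y (f x) hxV (h1.trans (map_zero _).symm))
  tfae_finish

end Groth.Agent.S9346
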