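import Groth.Statements.S9348
import Mathlib

set_option autoImplicit false
universe u
open Dom

namespace Groth.Agent.S9348

open AlgebraicGeometry CategoryTheory in
/-- Let f : X → Y be a morphism and g : Y' → Y open and surjective. If the base change f' : X ×_Y Y' →
Y' of f is quasi-compact, then so is f. -/
theorem result {X Y X' Y' : Scheme.{u}} (f : X ⟶ Y) (g : Y' ⟶ Y) [Surjective g]
    (hg : IsOpenMap g.base) (g' : X' ⟶ X) (f' : X' ⟶ Y') (hsq : IsPullback g' f' f g) [QuasiCompact f'] :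
    QuasiCompact f := by
  refine ⟨fun K hK hKc => ?_⟩
  obtain ⟨b, hb, hbfin, hcov⟩ := hKc.elim_finite_subcover_image
    (b := {W : Y'.Opens | IsAffineOpen W ∧ (W : Set Y') ⊆ g ⁻¹' K}) (c := fun W => g '' (W : Set Y'))
    (fun W _ => hg _ W.2) (fun y hy => by
      obtain ⟨y', rfl⟩ := g.surjective y
      obtain ⟨W, hW, hy'W, hWK⟩ := exists_isAffineOpen_mem_and_subset
        (show y' ∈ g ⁻¹ᵁ ⟨K, hK⟩ from hy)
      exact Set.mem_biUnion (show W ∈ {W : Y'.Opens | IsAffineOpen W ∧ (W : Set Y') ⊆ g ⁻¹' K} from ⟨hW, hWK⟩)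
        ⟨y', hy'W, rfl⟩)
  let W' : Set Y' := ⋃ W ∈ b, (W : Set Y')
  have hW'o : IsOpen W' := isOpen_biUnion fun W _ => W.2
  have hW'c : IsCompact W' := hbfin.isCompact_biUnion fun W hW => (hb hW).1.isCompact
  have hpre : IsCompact (f' ⁻¹' W') := QuasiCompact.isCompact_preimage (f := f') _ hW'o hW'c
  have heq : f ⁻¹' K = g' '' (f' ⁻¹' W') := by
    refine subset_antisymm (fun x hx => ?_) ?_
    · obtain ⟨W, hWb, y', hy', hgy⟩ := Set.mem_iUnion₂.1 (hcov hx)
      obtain ⟨z, hz1, hz2⟩ := Scheme.Pullback.exists_preimage_pullback (f := f) (g := g) x y' hgy.symm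
      refine ⟨hsq.isoPullback.inv z, ?_, ?_⟩
      · change f' (hsq.isoPullback.inv z) ∈ W'
        rw [← Scheme.Hom.comp_apply, hsq.isoPullback_inv_snd, hz2]
        exact Set.mem_biUnion hWb hy'
      · rw [← Scheme.Hom.comp_apply, hsq.isoPullback_inv_fst, hz1]
    · rintro _ ⟨z, hz, rfl⟩
      obtain ⟨W, hWb, hzW⟩ := Set.mem_iUnion₂.1 hz
      change f (g' z) ∈ K
      rw [← Scheme.Hom.comp_apply, hsq.w, Scheme.Hom.comp_apply]
      exact (hb hWb).2 hzW
  rw [heq]
  exact hpre.image g'.continuous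

end Groth.Agent.S9348
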