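import Groth.Statements.S9356
import Groth.Agent.DimFormula.Open

set_option autoImplicit false
universe u
open FibDim

namespace Groth.Agent.S9356
open Groth.Agent.Unibranch Groth.Agent.EquidimPt Groth.Agent.DimFormula TopologicalSpace

open AlgebraicGeometry CategoryTheory in
/-- Let f : X → S be locally of finite type and x ⤳ x' a nontrivial specialization of points of the
fibre X_s. Then dim_x(X_s) ≤ dim_{x'}(X_s) and dim O_{X_s,x} < dim O_{X_s,x'}. (The assertion on
transcendence degrees of residue fields is a separate statement.) -/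
theorem result {X S : Scheme.{u}} (f : X ⟶ S) [LocallyOfFiniteType f] (s : S)
    (x x' : ↑(f.fiber s)) (hsp : x ⤳ x') (hne : x ≠ x') :
    FlatMor.localDim ↑(f.fiber s) x ≤ FlatMor.localDim ↑(f.fiber s) x' ∧
      ringKrullDim ((f.fiber s).presheaf.stalk x) < ringKrullDim ((f.fiber s).presheaf.stalk x') := by
  refine ⟨?_, ?_⟩
  · exact le_iInf fun U => iInf_le_of_le ⟨U.1, hsp.mem_open U.1.2 U.2⟩ le_rfl
  · haveI : LocallyOfFiniteType (f.fiberToSpecResidueField s) :=
      MorphismProperty.pullback_snd (P := @LocallyOfFiniteType) _ _ inferInstance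
    haveI : IsLocallyNoetherian (f.fiber s) :=
      LocallyOfFiniteType.isLocallyNoetherian (f.fiberToSpecResidueField s)
    obtain ⟨a, ha, -, ζ, hζ, hζx, hage⟩ := exists_ringKrullDim_stalk x
    obtain ⟨a', ha', hale', -⟩ := exists_ringKrullDim_stalk x'
    obtain ⟨n, hn, g, hg, -, hgl⟩ := hage.trans (b := 1) (x := x')
      ⟨![x, x'], fun i => by fin_cases i; exact ⟨hsp, hne⟩, specializes_rfl, rfl⟩
    have := hale' n g hg hgl
    rw [ha, ha']
    exact_mod_cast (show a < a' by omega)

end Groth.Agent.S9356
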