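import Groth.Statements.S9360


set_option autoImplicit false
universe u
open SchDense

namespace Groth.Agent.S9360

open AlgebraicGeometry CategoryTheory in
/-- Let U ⊆ X be a reduced open subscheme. Then the scheme-theoretic closure of U in X is X if and only
if U is scheme-theoretically dense in X (for every open W the scheme-theoretic closure of U ∩ W in W
is W); and in that case X is reduced. -/
theorem result (X : Scheme.{u}) (U : X.Opens) [IsReduced (↑U : Scheme.{u})] :
    (IsSchemeTheoreticallyDominant U.ι ↔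
        ∀ W : X.Opens, IsSchemeTheoreticallyDominant (X.homOfLE (inf_le_right : U ⊓ W ≤ W))) ∧
      (IsSchemeTheoreticallyDominant U.ι → IsReduced X) := by
  have hle : ∀ Z : TopologicalSpace.Closeds X, (U : Set X) ⊆ Z →
      Scheme.IdealSheafData.vanishingIdeal Z ≤ U.ι.ker := by
    intro Z hZ
    refine Scheme.IdealSheafData.le_ofIdeals_iff.mpr ?_
    rintro ⟨V, hV : IsAffineOpen V⟩ s hs
    rw [RingHom.mem_ker]
    haveI : _root_.IsReduced Γ((U : Scheme.{u}), U.ι ⁻¹ᵁ V) := IsReduced.component_reduced _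
    rw [← basicOpen_eq_bot_iff, ← Scheme.preimage_basicOpen, ← le_bot_iff]
    intro x hx
    have hxV : U.ι x ∈ V := X.basicOpen_le s hx
    have hxZ : U.ι x ∈ (Z : Set X) := hZ x.2
    rw [Scheme.IdealSheafData.vanishingIdeal_ideal] at hs
    have h1 := (PrimeSpectrum.mem_vanishingIdeal _ _).1 hs (hV.primeIdealOf ⟨_, hxV⟩)
      (by change hV.fromSpec (hV.primeIdealOf ⟨_, hxV⟩) ∈ (Z : Set X); rw [hV.fromSpec_primeIdealOf]; exact hxZ)
    have h2 : hV.fromSpec (hV.primeIdealOf ⟨_, hxV⟩) ∈ X.basicOpen s := by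
      rw [hV.fromSpec_primeIdealOf]; exact hx
    have h3 : hV.primeIdealOf ⟨_, hxV⟩ ∈ hV.fromSpec ⁻¹ᵁ X.basicOpen s := h2
    rw [hV.fromSpec_preimage_basicOpen] at h3
    exact h3 h1
  have hkey : IsSchemeTheoreticallyDominant U.ι → Dense (U : Set X) ∧ IsReduced X := by
    intro h
    let Z : TopologicalSpace.Closeds X := ⟨closure (U : Set X), isClosed_closure⟩
    have hZ : Scheme.IdealSheafData.vanishingIdeal Z = ⊥ := le_bot_iff.1 ((hle Z subset_closure).trans h.ker_eq_bot.le)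
    have htop : Z = ⊤ := by
      ext1
      rw [← Scheme.IdealSheafData.coe_support_vanishingIdeal Z, hZ, Scheme.IdealSheafData.support_bot]
    have hnil : X.nilradical = ⊥ := by rw [← Scheme.IdealSheafData.vanishingIdeal_top, ← htop, hZ]
    refine ⟨fun x => (congrArg (fun C : TopologicalSpace.Closeds X => (x ∈ C)) htop).mpr trivial, ?_⟩
    refine ⟨fun W => ⟨fun t ht => X.IsSheaf.section_ext fun x hx => ?_⟩⟩
    obtain ⟨_, ⟨V, hV, rfl⟩, hxV, hVW : V ≤ W⟩ := X.isBasis_affineOpens.exists_subset_of_mem_open hx W.isOpen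
    refine ⟨V, hVW, hxV, ?_⟩
    have h0 : X.nilradical.ideal ⟨V, hV⟩ = ⊥ := by rw [hnil]; rfl
    have hmem : (X.presheaf.map (homOfLE hVW).op).hom t ∈ X.nilradical.ideal ⟨V, hV⟩ := by
      have := ht.map (X.presheaf.map (homOfLE hVW).op).hom
      simpa [Scheme.nilradical, Ideal.radical, IsNilpotent] using this
    rw [h0, Ideal.mem_bot] at hmem
    simpa using hmem
  refine ⟨⟨fun h W => ?_, fun h => ?_⟩, fun h => (hkey h).2⟩
  · obtain ⟨hd, hred⟩ := hkey h
    haveI := hred
    haveI : IsReduced (W : Scheme.{u}) := isReduced_of_isOpenImmersion W.ι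
    haveI : IsDominant (X.homOfLE (inf_le_right : U ⊓ W ≤ W)) := by
      refine ⟨?_⟩
      have h1 := hd.preimage W.ι.isOpenEmbedding.isOpenMap
      refine h1.mono ?_
      intro y hy
      refine ⟨⟨W.ι y, hy, y.2⟩, Subtype.ext ?_⟩
      change (X.homOfLE (inf_le_right : U ⊓ W ≤ W) ≫ W.ι) _ = _
      rw [Scheme.homOfLE_ι]
      rfl
    exact IsSchemeTheoreticallyDominant.of_isDominant _
  · haveI := h ⊤
    haveI : IsIso (X.homOfLE (inf_le_left : U ⊓ ⊤ ≤ U)) := by
      have : (U ⊓ ⊤ : X.Opens) = U := inf_top_eq U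
      refine ⟨X.homOfLE this.ge, ?_, ?_⟩ <;> rw [← cancel_mono (Scheme.Opens.ι _)] <;> simp
    have e : U.ι = inv (X.homOfLE (inf_le_left : U ⊓ ⊤ ≤ U)) ≫ X.homOfLE (inf_le_right : U ⊓ ⊤ ≤ ⊤) ≫ X.topIso.hom := by
      rw [IsIso.eq_inv_comp, Scheme.homOfLE_ι]
      exact (Scheme.homOfLE_ι _ _).symm
    rw [e]
    rw [isSchemeTheoreticallyDominant_iff, Scheme.Hom.ker_comp_of_isIso]
    exact (IsSchemeTheoreticallyDominant.ker_eq_bot (f := X.homOfLE _ ≫ X.topIso.hom))

end Groth.Agent.S9360
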