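import Groth.Statements.S9361
import Groth.Agent.ModPairProd.Adm

set_option autoImplicit false
universe u
open SchImage

namespace Groth.Agent.S9361

open AlgebraicGeometry CategoryTheory in
/-- Let f : X → Y be separated, V ⊆ Y a retrocompact open and s : V → X a section of f over V. If Y' ⊆ X
is the scheme-theoretic image of s, then Y' → Y is an isomorphism over V. -/
theorem result {X Y : Scheme.{u}} (f : X ⟶ Y) [IsSeparated f] (V : Y.Opens) [QuasiCompact V.ι]
    (s : (↑V : Scheme.{u}) ⟶ X) (hs : s ≫ f = V.ι) :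
    IsIso ((s.imageι ≫ f) ∣_ V) := by
  haveI : QuasiCompact (s ≫ f) := by rw [hs]; infer_instance
  haveI : QuasiCompact s := .of_comp s f
  haveI : IsSchemeTheoreticallyDominant s.toImage := ⟨ModPairProd.ker_toImage s⟩
  let g := s.imageι ≫ f
  let W := g ⁻¹ᵁ V
  let b := g ∣_ V
  let t := s.toImage ∣_ W
  have hgt : s.toImage ≫ g = V.ι := by rw [← Category.assoc, s.toImage_imageι, hs]
  have htop : s.toImage ⁻¹ᵁ W = ⊤ := by
    rw [← Scheme.Hom.comp_preimage, hgt]
    exact Scheme.Opens.ι_preimage_self V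
  have hcomp : t ≫ b ≫ V.ι = (s.toImage ⁻¹ᵁ W).ι ≫ V.ι := by
    rw [morphismRestrict_ι, morphismRestrict_ι_assoc, hgt]
  haveI : IsIso (s.toImage ⁻¹ᵁ W).ι := by rw [htop]; exact inferInstanceAs (IsIso (Scheme.topIso _).hom)
  have htb : t ≫ b = (s.toImage ⁻¹ᵁ W).ι := by rw [← cancel_mono V.ι, Category.assoc, hcomp]
  haveI : IsClosedImmersion (t ≫ b) := by rw [htb]; infer_instance
  haveI : IsSeparated b := inferInstance
  haveI : IsClosedImmersion t := IsClosedImmersion.of_comp t b
  haveI : IsSchemeTheoreticallyDominant t :=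
    IsSchemeTheoreticallyDominant.of_isPullback (f := s.toImage) (isPullback_morphismRestrict s.toImage W).flip
  haveI : IsIso t := IsClosedImmersion.isIso_iff_ker_eq_bot.mpr t.ker_eq_bot
  have hb : b = inv t ≫ (s.toImage ⁻¹ᵁ W).ι := by rw [IsIso.eq_inv_comp, htb]
  show IsIso b
  rw [hb]
  infer_instance

end Groth.Agent.S9361
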