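import Groth.Statements.S9362
import Groth.Agent.QC.Closure
import Groth.Agent.DerPush.Basic
-- import your own Groth.Agent.* helpers here

set_option autoImplicit false
universe u
open QCohSub

namespace Groth.Agent.S9362

open AlgebraicGeometry CategoryTheory in
/-- Let F be a quasi-coherent O_X-module and G ⊆ F an O_X-submodule. There is a quasi-coherent submodule
G' ⊆ G such that Hom(H, G') → Hom(H, G) is bijective for every quasi-coherent O_X-module H; in
particular G' is the largest quasi-coherent submodule of F contained in G (it is unique up to unique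
isomorphism over G). -/
theorem result (X : Scheme.{u}) (F G : X.Modules) (hF : Coh.IsQCoh F) (j : G ⟶ F) [Mono j] :
    ∃ (G' : X.Modules) (k : G' ⟶ G), Coh.IsQCoh G' ∧ Mono k ∧
      ∀ H : X.Modules, Coh.IsQCoh H → Function.Bijective (fun φ : H ⟶ G' => φ ≫ k) := by
  classical
  haveI := Groth.Agent.DerPush.isGrothendieckAbelian_modules X
  haveI : WellPowered.{u} X.Modules := inferInstance
  let ι := Shrink.{u} {P : Subobject F // ∃ h : P ≤ Subobject.mk j, Coh.IsQCoh (P : X.Modules)}
  let P : ι → Subobject F := fun i => ((equivShrink _).symm i).1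
  have hP : ∀ i, P i ≤ Subobject.mk j := fun i => ((equivShrink _).symm i).2.choose
  have hPq : ∀ i, Coh.IsQCoh (P i : X.Modules) := fun i => ((equivShrink _).symm i).2.choose_spec
  let d : (∐ fun i => (P i : X.Modules)) ⟶ G :=
    Limits.Sigma.desc fun i => Subobject.ofLEMk (P i) j (hP i)
  have hS : Coh.IsQCoh (∐ fun i => (P i : X.Modules)) :=
    Groth.Agent.QC.isQCoh_colimit (Discrete.functor fun i => (P i : X.Modules)) fun i => hPq i.as
  let I := Abelian.image (d ≫ j)
  have hI : Coh.IsQCoh I := Groth.Agent.QC.isQCoh_image hS hF _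
  have hfac : ∃ k : I ⟶ G, k ≫ j = Abelian.image.ι (d ≫ j) := by
    have h0 : Abelian.image.ι (d ≫ j) ≫ Limits.cokernel.π j = 0 := by
      rw [← cancel_epi (Abelian.factorThruImage (d ≫ j)), ← Category.assoc, Abelian.image.fac]
      simp
    exact ⟨Abelian.monoLift j _ h0, Abelian.monoLift_comp j _ h0⟩
  obtain ⟨k, hk⟩ := hfac
  have hmono : Mono k := mono_of_mono_fac hk
  refine ⟨I, k, hI, hmono, fun H hH => ⟨fun a b h => (cancel_mono k).mp h, fun ψ => ?_⟩⟩
  have hJ : Coh.IsQCoh (Abelian.image (ψ ≫ j)) := Groth.Agent.QC.isQCoh_image hH hF _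
  let J := Subobject.mk (Abelian.image.ι (ψ ≫ j))
  have hJle : J ≤ Subobject.mk j := by
    have h0 : Abelian.image.ι (ψ ≫ j) ≫ Limits.cokernel.π j = 0 := by
      rw [← cancel_epi (Abelian.factorThruImage (ψ ≫ j)), ← Category.assoc, Abelian.image.fac]
      simp
    exact Subobject.mk_le_mk_of_comm (Abelian.monoLift j _ h0) (Abelian.monoLift_comp j _ h0)
  have hJq : Coh.IsQCoh (J : X.Modules) :=
    Groth.Agent.QC.isQCoh_of_iso (Subobject.underlyingIso _).symm hJ
  let x : {P : Subobject F // ∃ h : P ≤ Subobject.mk j, Coh.IsQCoh (P : X.Modules)} :=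
    ⟨J, hJle, hJq⟩
  let i : ι := equivShrink _ x
  have hi : P i = J := by
    show ((equivShrink _).symm (equivShrink _ x)).1 = J
    rw [Equiv.symm_apply_apply]
  obtain ⟨l, hl⟩ : ∃ l : H ⟶ (P i : X.Modules), l ≫ (P i).arrow = ψ ≫ j :=
    ⟨Abelian.factorThruImage (ψ ≫ j) ≫ (Subobject.underlyingIso _).inv ≫
      Subobject.ofLE J (P i) hi.symm.le, by
      rw [Category.assoc, Category.assoc, Subobject.ofLE_arrow, Subobject.underlyingIso_arrow,
        Abelian.image.fac]⟩
  refine ⟨l ≫ Limits.Sigma.ι (fun i => (P i : X.Modules)) i ≫ Abelian.factorThruImage (d ≫ j), ?_⟩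
  rw [← cancel_mono j]
  show ((l ≫ Limits.Sigma.ι (fun i => (P i : X.Modules)) i ≫ Abelian.factorThruImage (d ≫ j)) ≫ k) ≫ j = ψ ≫ j
  rw [Category.assoc, hk, Category.assoc, Category.assoc, Abelian.image.fac,
    Limits.Sigma.ι_desc_assoc, Subobject.ofLEMk_comp, hl]

end Groth.Agent.S9362
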