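import Groth.Statements.S9364
import Groth.Agent.SyntLib.MorStd

set_option autoImplicit false
universe u
open Synt

namespace Groth.Agent.S9364

open AlgebraicGeometry CategoryTheory in
/-- Let f : X → S, x ∈ X and V ⊆ S an affine open neighbourhood of f x. Then f is syntomic at x if and
only if some affine open U ∋ x with f(U) ⊆ V has f|_U : U → V standard syntomic. -/
theorem result {X S : Scheme.{u}} (f : X ⟶ S) (x : X) (V : S.affineOpens)
    (hV : f.base x ∈ V.1) :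
    Synt.IsSyntomicAt f x ↔
      ∃ (U : X.affineOpens) (e : U.1 ≤ f ⁻¹ᵁ V.1), x ∈ U.1 ∧ Synt.IsStandardSyntomic (f.resLE V.1 U.1 e) := by
  constructor
  · rintro ⟨U₀, V₀, e₀, hx, hs⟩
    obtain ⟨U, hU, hxU, hle⟩ := exists_isAffineOpen_mem_and_subset
      (show x ∈ U₀.1 ⊓ f ⁻¹ᵁ V.1 from ⟨hx, hV⟩)
    have e : U ≤ f ⁻¹ᵁ V.1 := fun z hz => (hle hz).2
    have h1 := SyntLib.syn_appLE_of_le f U₀ V₀ e₀ hs ⟨U, hU⟩ V (fun z hz => (hle hz).1) e
    exact (SyntLib.exists_standard_chart f V ⟨U, hU⟩ e h1 x hxU).elim fun U' ⟨e', hxU', h⟩ => ⟨U', e', hxU', h⟩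
  · rintro ⟨U, e, hxU, h⟩
    exact ⟨U, V, e, hxU, SyntLib.syn_of_standard f V U e h⟩

end Groth.Agent.S9364
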