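import Groth.Statements.S9365
import Groth.Agent.SyntLib.MorStd

set_option autoImplicit false
universe u
open Synt

namespace Groth.Agent.S9365

open AlgebraicGeometry CategoryTheory in
/-- If f : X → S is flat, locally of finite presentation, and every fibre X_s → Spec κ(s) is syntomic
(X_s is a local complete intersection over κ(s)), then f is syntomic. -/
theorem result {X S : Scheme.{u}} (f : X ⟶ S) [Flat f] [LocallyOfFinitePresentation f]
    (hfib : ∀ s : S, Synt.IsSyntomicMor (f.fiberToSpecResidueField s)) :
    Synt.IsSyntomicMor f := by
  rw [SyntLib.isSyntomicMor_iff]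
  exact SyntLib.synMor_of_fibres f fun s => (SyntLib.isSyntomicMor_iff _).mp (hfib s)

end Groth.Agent.S9365
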