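import Groth.Statements.S9368
import Groth.Agent.SyntLib.CIMor

set_option autoImplicit false
universe u
open Synt

namespace Groth.Agent.S9368

open AlgebraicGeometry CategoryTheory in
/-- For X locally of finite type over a field k with structure morphism p, the following are equivalent:
(1) p is syntomic; (2) every x ∈ X has an affine open neighbourhood whose coordinate ring is a
global complete intersection over k; (3) each stalk O_{X,x} is a complete intersection ring over k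
(k-algebra structures induced by p). -/
theorem result (k : Type u) [Field k] (X : Scheme.{u}) (p : X ⟶ Spec (CommRingCat.of k)) [LocallyOfFiniteType p] :
    [Synt.IsSyntomicMor p,
      ∀ x : ↑X, ∃ U : X.affineOpens, x ∈ U.1 ∧
        letI := ((Scheme.ΓSpecIso (CommRingCat.of k)).inv ≫ p.appLE ⊤ U.1 le_top).hom.toAlgebra
        Synt.IsGlobalCI k Γ(X, U.1),
      ∀ x : ↑X,
        letI := ((Scheme.ΓSpecIso (CommRingCat.of k)).inv ≫ p.appLE ⊤ ⊤ le_top ≫ X.presheaf.germ ⊤ x trivial).hom.toAlgebra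
        Synt.IsCIOver k (X.presheaf.stalk x)].TFAE := by
  let K := CommRingCat.of k
  have hfld : IsField K := Field.toIsField k
  have happ : ∀ (U : X.affineOpens), ((Scheme.ΓSpecIso K).inv ≫ p.appLE ⊤ U.1 le_top).hom.FiniteType := fun U => by
    have h1 : (p.appLE ⊤ U.1 le_top).hom.FiniteType :=
      HasRingHomProperty.appLE @LocallyOfFiniteType p inferInstance ⟨⊤, isAffineOpen_top _⟩ U le_top
    exact RingHom.finiteType_respectsIso.2 _ (Scheme.ΓSpecIso K).symm.commRingCatIsoToRingEquiv h1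
  have hsyn : ∀ (U : X.affineOpens), SyntLib.SynMor p →
      SyntLib.Syn ((Scheme.ΓSpecIso K).inv ≫ p.appLE ⊤ U.1 le_top).hom := fun U h => by
    rw [SyntLib.SynMor, affineLocally_iff_affineOpens_le] at h
    exact SyntLib.syn_respectsIso.2 _ (Scheme.ΓSpecIso K).symm.commRingCatIsoToRingEquiv (h ⟨⊤, isAffineOpen_top _⟩ U le_top)
  tfae_have 1 → 2 := by
    intro h x
    rw [SyntLib.isSyntomicMor_iff] at h
    obtain ⟨_, ⟨U, hU, rfl⟩, hxU, -⟩ := X.isBasis_affineOpens.exists_subset_of_mem_open (Set.mem_univ x) isOpen_univ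
    have hs := hsyn ⟨U, hU⟩ h
    letI : Algebra k Γ(X, U) := ((Scheme.ΓSpecIso K).inv ≫ p.appLE ⊤ U le_top).hom.toAlgebra
    obtain ⟨g, hg, hG⟩ := (SyntLib.isLCIOver_of_isSyntomic (k := k) (T := Γ(X, U)) hs).2 (hU.primeIdealOf ⟨x, hxU⟩)
    have hxg : x ∈ X.basicOpen g := by
      have h2 : hU.primeIdealOf ⟨x, hxU⟩ ∈ hU.fromSpec ⁻¹ᵁ X.basicOpen g := by
        rw [hU.fromSpec_preimage_basicOpen]
        exact hg
      have h3 : hU.fromSpec (hU.primeIdealOf ⟨x, hxU⟩) ∈ X.basicOpen g := h2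
      rwa [hU.fromSpec_primeIdealOf ⟨x, hxU⟩] at h3
    refine ⟨⟨X.basicOpen g, hU.basicOpen g⟩, hxg, ?_⟩
    letI : Algebra k Γ(X, X.basicOpen g) := ((Scheme.ΓSpecIso K).inv ≫ p.appLE ⊤ (X.basicOpen g) le_top).hom.toAlgebra
    letI : Algebra Γ(X, U) Γ(X, X.basicOpen g) := (X.presheaf.map (homOfLE (X.basicOpen_le g)).op).hom.toAlgebra
    haveI : IsScalarTower k Γ(X, U) Γ(X, X.basicOpen g) := IsScalarTower.of_algebraMap_eq' (by
      show ((Scheme.ΓSpecIso K).inv ≫ p.appLE ⊤ (X.basicOpen g) le_top).hom =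
        ((Scheme.ΓSpecIso K).inv ≫ p.appLE ⊤ U le_top ≫ X.presheaf.map (homOfLE (X.basicOpen_le g)).op).hom
      rw [Scheme.Hom.appLE_map])
    haveI : IsLocalization.Away g Γ(X, X.basicOpen g) := hU.isLocalization_basicOpen g
    exact SyntLib.isGlobalCI_of_algEquiv
      ((IsLocalization.algEquiv (Submonoid.powers g) (Localization.Away g) Γ(X, X.basicOpen g)).restrictScalars k) hG
  tfae_have 2 → 1 := by
    intro h
    rw [SyntLib.isSyntomicMor_iff, HasRingHomProperty.iff_exists_appLE (P := SyntLib.SynMor.{u}) SyntLib.syn_awaySource]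
    intro x
    obtain ⟨U, hxU, hG⟩ := h x
    refine ⟨⟨⊤, isAffineOpen_top _⟩, U, hxU, le_top, ?_⟩
    have hft := happ U
    letI : Algebra k Γ(X, U.1) := ((Scheme.ΓSpecIso K).inv ≫ p.appLE ⊤ U.1 le_top).hom.toAlgebra
    haveI : Algebra.FiniteType k Γ(X, U.1) := hft
    have h1 : SyntLib.Syn ((Scheme.ΓSpecIso K).inv ≫ p.appLE ⊤ U.1 le_top).hom :=
      (SyntLib.isSyntomic_iff_forall_isCompleteIntersection k Γ(X, U.1)).mpr fun q => by
        haveI : Algebra.EssFiniteType Γ(X, U.1) (Localization.AtPrime q.asIdeal) :=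
          Algebra.EssFiniteType.of_isLocalization _ q.asIdeal.primeCompl
        haveI : Algebra.EssFiniteType k (Localization.AtPrime q.asIdeal) := Algebra.EssFiniteType.comp k Γ(X, U.1) _
        exact SyntLib.isCIOver_iff_isCompleteIntersection.mp (SyntLib.isCIOver_of_isGlobalCI hG q.asIdeal)
    have h2 := SyntLib.syn_respectsIso.2 _ (Scheme.ΓSpecIso K).commRingCatIsoToRingEquiv h1
    convert h2 using 1
    ext a
    simp
  tfae_have 1 ↔ 3 := by
    rw [SyntLib.isSyntomicMor_iff, SyntLib.synMor_field_iff hfld p]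
    refine forall_congr' fun x => ?_
    obtain ⟨_, ⟨U, hU, rfl⟩, hxU, -⟩ := X.isBasis_affineOpens.exists_subset_of_mem_open (Set.mem_univ x) isOpen_univ
    letI : Algebra k (X.presheaf.stalk x) :=
      ((Scheme.ΓSpecIso K).inv ≫ p.appLE ⊤ ⊤ le_top ≫ X.presheaf.germ ⊤ x trivial).hom.toAlgebra
    have hft := happ ⟨U, hU⟩
    letI : Algebra k Γ(X, U) := ((Scheme.ΓSpecIso K).inv ≫ p.appLE ⊤ U le_top).hom.toAlgebra
    haveI : Algebra.FiniteType k Γ(X, U) := hft
    letI : Algebra Γ(X, U) (X.presheaf.stalk x) := (X.presheaf.germ U x hxU).hom.toAlgebra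
    haveI : IsScalarTower k Γ(X, U) (X.presheaf.stalk x) := IsScalarTower.of_algebraMap_eq' (by
      show ((Scheme.ΓSpecIso K).inv ≫ p.appLE ⊤ ⊤ le_top ≫ X.presheaf.germ ⊤ x trivial).hom =
        ((Scheme.ΓSpecIso K).inv ≫ p.appLE ⊤ U le_top ≫ X.presheaf.germ U x hxU).hom
      rw [← Scheme.Hom.appLE_map p le_top (homOfLE (le_top : U ≤ ⊤)).op, Category.assoc, X.presheaf.germ_res])
    haveI : IsLocalization.AtPrime (X.presheaf.stalk x) (hU.primeIdealOf ⟨x, hxU⟩).asIdeal :=
      hU.isLocalization_stalk ⟨x, hxU⟩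
    haveI : Algebra.EssFiniteType Γ(X, U) (X.presheaf.stalk x) :=
      Algebra.EssFiniteType.of_isLocalization _ (hU.primeIdealOf ⟨x, hxU⟩).asIdeal.primeCompl
    haveI : Algebra.EssFiniteType k (X.presheaf.stalk x) := Algebra.EssFiniteType.comp k Γ(X, U) _
    exact SyntLib.isCIOver_iff_isCompleteIntersection.symm
  tfae_finish

end Groth.Agent.S9368
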