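import Groth.Statements.S9378
import Groth.Agent.ClSubLib.AnnIdeal
import Groth.Agent.PinchQC.Basic
import Groth.Agent.FpqcDescent.IdealGlue
-- import your own Groth.Agent.* helpers here

set_option autoImplicit false
set_option backward.isDefEq.respectTransparency false
set_option linter.style.haveILetI false
universe u
open QCohSub

namespace Groth.Agent.S9378

open TensorProduct in
theorem annihilator_map {A B : Type u} [CommRing A] [CommRing B] [Algebra A B]
    [Module.Flat A B] (M : Type u) [AddCommGroup M] [Module A M] [Module.Finite A M] :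
    Module.annihilator B (B ⊗[A] M) = (Module.annihilator A M).map (algebraMap A B) := by
  classical
  apply le_antisymm
  · intro b hb
    obtain ⟨n, m, hm⟩ := Module.Finite.exists_fin (R := A) (M := M)
    let f : A →ₗ[A] (Fin n → M) := LinearMap.pi fun i => LinearMap.toSpanSingleton A M (m i)
    have hker : Module.annihilator A M = LinearMap.ker f := by
      ext a
      rw [Module.mem_annihilator, LinearMap.mem_ker]
      refine ⟨fun h => funext fun i => h _, fun h x => ?_⟩
      have hx : x ∈ Submodule.span A (Set.range m) := hm ▸ trivial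
      induction hx using Submodule.span_induction with
      | mem y hy => obtain ⟨i, rfl⟩ := hy; exact congrFun h i
      | zero => simp
      | add y z _ _ hy hz => rw [smul_add, hy, hz, add_zero]
      | smul c y _ hy => rw [smul_comm, hy, smul_zero]
    have hex : Function.Exact (Module.annihilator A M).subtype f := by
      rw [LinearMap.exact_iff, Submodule.range_subtype, hker]
    have hex' := Module.Flat.lTensor_exact (R := A) B hex
    have h0 : f.lTensor B (b ⊗ₜ[A] (1 : A)) = 0 := by
      apply (TensorProduct.piRight A A B (fun _ : Fin n => M)).injective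
      rw [map_zero]
      funext i
      rw [LinearMap.lTensor_tmul, TensorProduct.piRight_apply,
        TensorProduct.piRightHom_tmul, Pi.zero_apply]
      have := Module.mem_annihilator.1 hb ((1 : B) ⊗ₜ[A] m i)
      rw [TensorProduct.smul_tmul', smul_eq_mul, mul_one] at this
      simpa [f] using this
    obtain ⟨z, hz⟩ := (hex' _).1 h0
    have hb' : b = Algebra.TensorProduct.rid A A B (b ⊗ₜ[A] (1 : A)) := by simp
    rw [hb', ← hz]
    clear hz
    induction z using TensorProduct.induction_on with
    | zero => simp
    | tmul x y =>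
      rw [LinearMap.lTensor_tmul, Submodule.subtype_apply, Algebra.TensorProduct.rid_tmul,
        Algebra.smul_def]
      exact Ideal.mul_mem_right _ _ (Ideal.mem_map_of_mem _ y.2)
    | add x y hx hy => rw [map_add, map_add]; exact add_mem hx hy
  · rw [Ideal.map_le_iff_le_comap]
    intro a ha
    rw [Ideal.mem_comap, Module.mem_annihilator]
    intro z
    induction z using TensorProduct.induction_on with
    | zero => simp
    | tmul x y =>
      rw [algebraMap_smul, TensorProduct.smul_tmul', TensorProduct.smul_tmul,
        Module.mem_annihilator.1 ha, TensorProduct.tmul_zero]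
    | add x y hx hy => rw [smul_add, hx, hy, add_zero]


open AlgebraicGeometry CategoryTheory Opposite in
/-- Let f : Y → X be flat and F a quasi-coherent O_X-module of finite type, where the ideal sheaf J
(given by annihilators on affine opens) defines the scheme-theoretic support of F. Then the inverse
image ideal sheaf of J along f cuts out the scheme-theoretic support of f^*F. -/
theorem result {Y X : Scheme.{u}} (f : Y ⟶ X) [Flat f] (F : X.Modules)
    (hq : Coh.IsQCoh F) (hft : CohB1.IsFT F) (J : X.IdealSheafData)
    (hJ : ∀ U : X.affineOpens, J.ideal U = Module.annihilator Γ(X, U.1) Γ(F, U.1)) :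
    ∀ V : Y.affineOpens, (J.comap f).ideal V =
      Module.annihilator Γ(Y, V.1) Γ((Scheme.Modules.pullback f).obj F, V.1) := by
  have hc : Coh.IsCoh ((Scheme.Modules.pullback f).obj F) := Groth.Agent.QC.isCoh_pullback f ⟨hq, hft⟩
  intro V
  suffices hK : J.comap f = ClSubLib.annIdeal ((Scheme.Modules.pullback f).obj F) hc.1 hc.2 by rw [hK]; rfl
  refine Scheme.IdealSheafData.ext_of_iSup_eq_top
    (fun i : {W : Y.affineOpens // ∃ U : X.affineOpens, W.1 ≤ f ⁻¹ᵁ U.1} => i.1) ?_ fun i => ?_
  · refine top_le_iff.1 fun y _ => ?_
    obtain ⟨U, hU, hyU, -⟩ := exists_isAffineOpen_mem_and_subset (X := X) (x := f y) (U := ⊤) trivial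
    obtain ⟨W, hW, hy, hWU⟩ := exists_isAffineOpen_mem_and_subset (X := Y) (x := y) (U := f ⁻¹ᵁ U) hyU
    exact TopologicalSpace.Opens.mem_iSup.2 ⟨⟨⟨W, hW⟩, ⟨U, hU⟩, hWU⟩, hy⟩
  · obtain ⟨W, U, hWU⟩ := i
    show (J.comap f).ideal W = Module.annihilator Γ(Y, W.1) Γ((Scheme.Modules.pullback f).obj F, W.1)
    rw [Groth.Agent.FpqcDescent.ideal_comap_appLE J f U W hWU, hJ U]
    letI : Algebra Γ(X, U.1) Γ(Y, W.1) := (f.appLE U.1 W.1 hWU).hom.toAlgebra
    haveI : Module.Flat Γ(X, U.1) Γ(Y, W.1) := Flat.flat_appLE f U.2 W.2 hWU
    haveI : Module.Finite Γ(X, U.1) Γ(F, U.1) := Groth.Agent.QC.finite_sections U.2 hft (hM := hq)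
    obtain ⟨e⟩ := Groth.Agent.PinchQC.pullback_sections f hq U.2 W.2 hWU
    rw [← e.annihilator_eq, annihilator_map]
    rfl

end Groth.Agent.S9378
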