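import Groth.Statements.S9379
import Groth.Agent.KoszulFib.FieldPoint

set_option autoImplicit false
universe u
open Synt

namespace Groth.Agent.S9379
open AlgebraicGeometry CategoryTheory

open AlgebraicGeometry CategoryTheory in
/-- For f : X → S locally of finite type, the set of points x at which the local ring of the fibre X_{f
x} is a complete intersection over κ(f x) is compatible with arbitrary base change: in a cartesian
square with base change f' : X' → S', g' : X' → X, the corresponding set for f' is the inverse image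
of the one for f. (The published statement adds that, for f flat and locally of finite presentation,
the set of points at which f is syntomic is compatible with base change in the same way; this row
states only the first assertion.) -/
theorem result {X S X' S' : Scheme.{u}} (f : X ⟶ S) [LocallyOfFiniteType f] (g : S' ⟶ S)
    (g' : X' ⟶ X) (f' : X' ⟶ S') (hsq : IsPullback g' f' f g) :
    {x' : ↑X' |
        letI := ((Scheme.ΓSpecIso (S'.residueField (f'.base x'))).inv ≫
            (f'.fiberToSpecResidueField (f'.base x')).appLE ⊤ ⊤ le_top ≫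
              (f'.fiber (f'.base x')).presheaf.germ ⊤ (f'.asFiber x') trivial).hom.toAlgebra
        Synt.IsCIOver (S'.residueField (f'.base x')) ((f'.fiber (f'.base x')).presheaf.stalk (f'.asFiber x'))} =
      g'.base ⁻¹' {x : ↑X |
        letI := ((Scheme.ΓSpecIso (S.residueField (f.base x))).inv ≫
            (f.fiberToSpecResidueField (f.base x)).appLE ⊤ ⊤ le_top ≫
              (f.fiber (f.base x)).presheaf.germ ⊤ (f.asFiber x) trivial).hom.toAlgebra
        Synt.IsCIOver (S.residueField (f.base x)) ((f.fiber (f.base x)).presheaf.stalk (f.asFiber x))} := by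
  have hfib : ∀ {X S : Scheme.{u}} (f : X ⟶ S) [LocallyOfFiniteType f] (x : X),
      @Synt.IsCIOver (S.residueField (f.base x)) _ ((f.fiber (f.base x)).presheaf.stalk (f.asFiber x)) _
        ((Scheme.ΓSpecIso (S.residueField (f.base x))).inv ≫
            (f.fiberToSpecResidueField (f.base x)).appLE ⊤ ⊤ le_top ≫
              (f.fiber (f.base x)).presheaf.germ ⊤ (f.asFiber x) trivial).hom.toAlgebra _ ↔
      Synt.IsKoszulAt (f.fiberToSpecResidueField (f.base x)) (f.asFiber x) := by
    intro X S f _ x
    let p := f.fiberToSpecResidueField (f.base x)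
    haveI : LocallyOfFiniteType p :=
      MorphismProperty.pullback_snd (P := @LocallyOfFiniteType) f (S.fromSpecResidueField (f.base x)) inferInstance
    let F := f.fiber (f.base x)
    let K := S.residueField (f.base x)
    obtain ⟨_, ⟨U, hU, rfl⟩, hxU, -⟩ :=
      F.isBasis_affineOpens.exists_subset_of_mem_open (Set.mem_univ (f.asFiber x)) isOpen_univ
    letI : Algebra K (F.presheaf.stalk (f.asFiber x)) :=
      ((Scheme.ΓSpecIso K).inv ≫ p.appLE ⊤ ⊤ le_top ≫ F.presheaf.germ ⊤ (f.asFiber x) trivial).hom.toAlgebra
    letI : Algebra K Γ(F, U) := ((Scheme.ΓSpecIso K).inv ≫ p.appLE ⊤ U le_top).hom.toAlgebra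
    haveI : Algebra.FiniteType K Γ(F, U) :=
      (RingHom.finiteType_respectsIso.cancel_left_isIso (Scheme.ΓSpecIso K).inv (p.appLE ⊤ U le_top)).mpr
        (HasRingHomProperty.appLE @LocallyOfFiniteType p inferInstance ⟨⊤, isAffineOpen_top _⟩ ⟨U, hU⟩ le_top)
    letI : Algebra Γ(F, U) (F.presheaf.stalk (f.asFiber x)) := (F.presheaf.germ U _ hxU).hom.toAlgebra
    haveI : IsScalarTower K Γ(F, U) (F.presheaf.stalk (f.asFiber x)) := IsScalarTower.of_algebraMap_eq' (by
      show ((Scheme.ΓSpecIso K).inv ≫ p.appLE ⊤ ⊤ le_top ≫ F.presheaf.germ ⊤ _ trivial).hom =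
        ((Scheme.ΓSpecIso K).inv ≫ p.appLE ⊤ U le_top ≫ F.presheaf.germ U _ hxU).hom
      rw [← Scheme.Hom.appLE_map p le_top (homOfLE (le_top : U ≤ ⊤)).op, Category.assoc, F.presheaf.germ_res])
    haveI : IsLocalization.AtPrime (F.presheaf.stalk (f.asFiber x)) (hU.primeIdealOf ⟨_, hxU⟩).asIdeal :=
      hU.isLocalization_stalk ⟨_, hxU⟩
    haveI : Algebra.EssFiniteType Γ(F, U) (F.presheaf.stalk (f.asFiber x)) :=
      Algebra.EssFiniteType.of_isLocalization _ (hU.primeIdealOf ⟨_, hxU⟩).asIdeal.primeCompl
    haveI : Algebra.EssFiniteType K (F.presheaf.stalk (f.asFiber x)) := Algebra.EssFiniteType.comp K Γ(F, U) _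
    exact (SyntLib.isCIOver_iff_isCompleteIntersection (k := K)).trans
      (KoszulFib.isKoszulAt_field_iff (Field.toIsField K) p _).symm
  have hmove : ∀ (y : S) (z : f.fiber y) (x : X), f.fiberι y z = x →
      (Synt.IsKoszulAt (f.fiberToSpecResidueField y) z ↔
        Synt.IsKoszulAt (f.fiberToSpecResidueField (f.base x)) (f.asFiber x)) := by
    intro y z x hzx
    obtain rfl : f.base x = y := by
      have : f.fiberι y z ∈ Set.range (f.fiberι y) := ⟨z, rfl⟩
      rw [f.range_fiberι, hzx] at this
      exact this
    obtain rfl : z = f.asFiber x := (f.fiberι _).isEmbedding.injective (hzx.trans (f.fiberι_asFiber x).symm)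
    exact Iff.rfl
  haveI : LocallyOfFiniteType f' := MorphismProperty.of_isPullback hsq inferInstance
  ext x'
  simp only [Set.mem_setOf_eq, Set.mem_preimage]
  rw [hfib f' x', hfib f (g'.base x')]
  let m := Limits.pullback.map f' (S'.fromSpecResidueField (f'.base x')) f (S.fromSpecResidueField (g (f'.base x')))
    g' (Spec.map (g.residueFieldMap (f'.base x'))) g hsq.w.symm (by simp)
  have hsq' := isPullback_fiberToSpecResidueField_of_isPullback hsq (f'.base x')
  let s := g (f'.base x')
  let p := f.fiberToSpecResidueField s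
  haveI : LocallyOfFiniteType p :=
    MorphismProperty.pullback_snd (P := @LocallyOfFiniteType) f (S.fromSpecResidueField s) inferInstance
  haveI : Flat p := inferInstanceAs (Flat (X := f.fiber s) (Y := Spec (CommRingCat.of (S.residueField s))) p)
  haveI : LocallyOfFinitePresentation p := KoszulFib.lfp_of_field p
  haveI : Flat (p ≫ 𝟙 (Spec (S.residueField s))) := by rw [Category.comp_id]; infer_instance
  haveI : LocallyOfFinitePresentation (p ≫ 𝟙 (Spec (S.residueField s))) := by rw [Category.comp_id]; infer_instance
  have hX : IsPullback m ((f'.fiberToSpecResidueField (f'.base x')) ≫ 𝟙 _) (p ≫ 𝟙 _)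
      (Spec.map (g.residueFieldMap (f'.base x'))) := by
    rw [Category.comp_id, Category.comp_id]; exact hsq'
  refine (KoszulFib.isKoszulAt_baseChange_iff p (𝟙 _) (IsPullback.of_vert_isIso ⟨by simp⟩) hX hsq'.w
    (f'.asFiber x')).trans ?_
  refine hmove s _ _ ?_
  show (m ≫ f.fiberι s) (f'.asFiber x') = _
  have : m ≫ f.fiberι s = f'.fiberι (f'.base x') ≫ g' := Limits.pullback.lift_fst _ _ _
  rw [this]
  show g'.base (f'.fiberι (f'.base x') (f'.asFiber x')) = g'.base x'
  exact congrArg g'.base (f'.fiberι_asFiber x')

end Groth.Agent.S9379
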