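import Groth.Statements.S9380
import Groth.Agent.RelSpecUP.Basic
import Mathlib.AlgebraicGeometry.QuasiAffine


set_option linter.style.haveILetI false
set_option backward.isDefEq.respectTransparency false

set_option autoImplicit false
universe u
open QAff

namespace Groth.Agent.S9380

open AlgebraicGeometry CategoryTheory in
/-- A quasi-compact quasi-separated morphism f : X → S is quasi-affine if and only if the canonical
S-morphism X → Spec_S(f_*O_X) (the one inducing the comparison map on direct-image algebras) exists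
as a quasi-compact open immersion. -/
theorem result {X S : Scheme.{u}} (f : X ⟶ S) [QuasiCompact f] [QuasiSeparated f] :
    MoreMor.IsQuasiAffineHom f ↔
      ∃ (c : X ⟶ (RelSpec.QCAlg.directImage f).spec) (e : c ≫ (RelSpec.QCAlg.directImage f).π = f),
        (RelSpec.QCAlg.directImage f).gammaMap = AffAlg.algHom (RelSpec.QCAlg.directImage f).π f c e ∧
          QuasiCompact c ∧ IsOpenImmersion c := by
  let A := RelSpec.QCAlg.directImage f
  have hγ : A.str ≫ 𝟙 _ = f.c := Category.comp_id _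
  obtain ⟨⟨c, e⟩, hc⟩ := (Groth.Agent.RelSpecUP.toAlg_bijective A f).2 ⟨𝟙 _, hγ⟩
  have hc' : inv A.gammaMap ≫ AffAlg.algHom A.π f c e = 𝟙 _ := congrArg Subtype.val hc
  have hcan : A.gammaMap = AffAlg.algHom A.π f c e := by
    rw [IsIso.inv_comp_eq, Category.comp_id] at hc'
    exact hc'.symm
  haveI hqc : QuasiCompact c := by
    haveI : QuasiCompact (c ≫ A.π) := by rw [e]; infer_instance
    exact QuasiCompact.of_comp c A.π
  -- the canonical map over an affine open
  have hpiece : ∀ (V : S.Opens) (hV : IsAffineOpen V),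
      (f ⁻¹ᵁ V).ι ≫ c = (f ⁻¹ᵁ V).toSpecΓ ≫ A.ι V hV := by
    intro V hV
    rw [Groth.Agent.S3569.ι_comp_eq_piece A.π f c e ⟨V, hV⟩, Groth.Agent.S3569.piece,
      Groth.Agent.RelSpecUP.ι_eq_fromSpec A V hV]
    rw [hcan, Groth.Agent.RelSpecUP.algHom_app]
  have hkey : IsOpenImmersion c ↔
      ∀ V : S.Opens, IsAffineOpen V → Scheme.IsQuasiAffine (f ⁻¹ᵁ V : Scheme.{u}) := by
    constructor
    · intro _ V hV
      haveI : CompactSpace (f ⁻¹ᵁ V : Scheme.{u}) :=
        isCompact_iff_compactSpace.1 (f.isCompact_preimage hV.isCompact)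
      haveI : IsOpenImmersion ((f ⁻¹ᵁ V).toSpecΓ ≫ A.ι V hV) := by rw [← hpiece]; infer_instance
      haveI : IsOpenImmersion (f ⁻¹ᵁ V).toSpecΓ := IsOpenImmersion.of_comp _ (A.ι V hV)
      exact Scheme.IsQuasiAffine.of_isImmersion (f ⁻¹ᵁ V).toSpecΓ
    · intro h
      let W : S.affineOpens → A.spec.Opens := fun V => A.π ⁻¹ᵁ V.1
      refine IsZariskiLocalAtTarget.of_iSup_eq_top (P := @IsOpenImmersion) W
        (by rw [← Scheme.Hom.preimage_iSup, iSup_affineOpens_eq_top, Scheme.Hom.preimage_top]) fun V => ?_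
      haveI := h V.1 V.2
      haveI : IsOpenImmersion ((f ⁻¹ᵁ V.1).toSpecΓ ≫ A.ι V.1 V.2) := by
        haveI : IsOpenImmersion (f ⁻¹ᵁ V.1).toSpecΓ := by
          unfold Scheme.Opens.toSpecΓ; infer_instance
        infer_instance
      have hr : IsOpenImmersion ((c ⁻¹ᵁ W V).ι ≫ c) := by
        have hW : c ⁻¹ᵁ W V = f ⁻¹ᵁ V.1 := by rw [← Scheme.Hom.comp_preimage, e]
        rw [hW, hpiece V.1 V.2]
        infer_instance
      haveI : IsOpenImmersion ((c ∣_ W V) ≫ (W V).ι) := by rw [morphismRestrict_ι]; exact hr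
      exact IsOpenImmersion.of_comp _ (W V).ι
  constructor
  · intro h
    exact ⟨c, e, hcan, hqc, hkey.2 h.2⟩
  · rintro ⟨c', e', hc'', -, hoi⟩
    refine ⟨inferInstance, ?_⟩
    have : (⟨c', e'⟩ : AffAlg.over A.π f) = ⟨c, e⟩ := by
      refine (Groth.Agent.RelSpecUP.toAlg_bijective A f).1 (Subtype.ext ?_)
      change inv A.gammaMap ≫ AffAlg.algHom A.π f c' e' = inv A.gammaMap ≫ AffAlg.algHom A.π f c e
      rw [← hc'', ← hcan]
    have hcc : c' = c := congrArg Subtype.val this
    refine hkey.1 ?_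
    rw [← hcc]
    exact hoi


end Groth.Agent.S9380
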