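import Groth.Statements.S9385
import Groth.Agent.RedKer.Basic
import Groth.Agent.Chow.Std
import Groth.Agent.S2266

set_option autoImplicit false
universe u
open SchDense

namespace Groth.Agent.S9385

open AlgebraicGeometry CategoryTheory TopologicalSpace in
theorem std_homOfLE {P : Scheme.{u}} (O W : P.Opens) [IsSchemeTheoreticallyDominant O.ι] [QuasiCompact O.ι] :
    IsSchemeTheoreticallyDominant (P.homOfLE (inf_le_right : O ⊓ W ≤ W)) := by
  refine IsSchemeTheoreticallyDominant.of_isPullback (pX := P.homOfLE (inf_le_left : O ⊓ W ≤ O)) (f := O.ι) (g := W.ι) ?_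
  refine IsOpenImmersion.isPullback _ _ _ _ (by simp) ?_
  ext x
  simp only [Scheme.Hom.mem_opensRange, TopologicalSpace.Opens.map_coe, Set.mem_preimage, SetLike.mem_coe]
  constructor
  · rintro ⟨y, hy⟩
    have hxO : W.ι x ∈ O := hy ▸ y.2
    exact ⟨⟨W.ι x, hxO, x.2⟩,
      W.ι.isOpenEmbedding.injective (congr($(P.homOfLE_ι (inf_le_right : O ⊓ W ≤ W)) ⟨W.ι x, hxO, x.2⟩))⟩
  · rintro ⟨⟨z, hz⟩, e⟩
    refine ⟨⟨z, hz.1⟩, ?_⟩
    rw [← e]
    exact (congr($(P.homOfLE_ι (inf_le_right : O ⊓ W ≤ W)) ⟨z, hz⟩)).symm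

open AlgebraicGeometry CategoryTheory TopologicalSpace in
theorem main {Z X : Scheme.{u}} (h : Z ⟶ X) [IsImmersion h] (hyp : QuasiCompact h ∨ IsReduced Z) :
    ∃ hI : IsOpenImmersion h.toImage,
      (∀ W : h.image.Opens, IsSchemeTheoreticallyDominant
          (h.image.homOfLE (inf_le_right : @Scheme.Hom.opensRange _ _ h.toImage hI ⊓ W ≤ W))) ∧
        DenseRange h.toImage.base := by
  rcases hyp with hqc | hred
  · refine ⟨inferInstance, fun W => ?_, h.toImage.denseRange⟩
    have hstd := Groth.Agent.Chow.isSchemeTheoreticallyDominant_toImage h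
    have : QuasiCompact (h.toImage ≫ h.imageι) := by rw [Scheme.Hom.toImage_imageι]; infer_instance
    have : QuasiCompact h.toImage := QuasiCompact.of_comp h.toImage h.imageι
    let O := h.toImage.opensRange
    have e : O.ι = h.toImage.isoOpensRange.inv ≫ h.toImage := (Scheme.Hom.isoOpensRange_inv_comp _).symm
    have : IsSchemeTheoreticallyDominant O.ι := by rw [e]; infer_instance
    have : QuasiCompact O.ι := by rw [e]; infer_instance
    exact std_homOfLE O W
  · have := (Groth.Agent.S2266.result h).1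
    have hrangeι : Set.range h.imageι = closure (Set.range h) := by
      rw [Scheme.Hom.imageι, Scheme.IdealSheafData.range_subschemeι]
      exact Groth.Agent.RedKer.support_ker h
    have htι : ∀ x, h.imageι (h.toImage x) = h x := fun x => congr($(h.toImage_imageι) x)
    let O : h.image.Opens := h.imageι ⁻¹ᵁ h.coborderRange
    have hrange : Set.range h.toImage = (O : Set h.image) := by
      refine Set.Subset.antisymm ?_ fun z hz => ?_
      · rintro _ ⟨x, rfl⟩
        show h.imageι (h.toImage x) ∈ h.coborderRange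
        rw [htι]
        exact subset_coborder ⟨x, rfl⟩
      · have hz' : h.imageι z ∈ coborder (Set.range h) ∩ closure (Set.range h) :=
          ⟨hz, hrangeι ▸ ⟨z, rfl⟩⟩
        rw [coborder_inter_closure] at hz'
        obtain ⟨x, hx⟩ := hz'
        exact ⟨x, h.imageι.isEmbedding.injective ((htι x).trans hx)⟩
    let l : Z ⟶ O.toScheme := IsOpenImmersion.lift O.ι h.toImage (by rw [Scheme.Opens.range_ι, hrange])
    have hl : l ≫ O.ι = h.toImage := IsOpenImmersion.lift_fac _ _ _
    have hlsurj : Function.Surjective l := fun z => by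
      obtain ⟨x, hx⟩ : O.ι z ∈ Set.range h.toImage := hrange.symm ▸ z.2
      exact ⟨x, O.ι.isOpenEmbedding.injective ((congr($hl x)).trans hx)⟩
    have : IsImmersion (l ≫ O.ι) := by rw [hl]; infer_instance
    have : IsImmersion l := IsImmersion.of_comp l O.ι
    have : IsClosedImmersion l := IsClosedImmersion.of_isPreimmersion l (by rw [hlsurj.range_eq]; exact isClosed_univ)
    have : Surjective l := ⟨hlsurj⟩
    have : IsIso l := isIso_of_isClosedImmersion_of_surjective l
    have hI : IsOpenImmersion h.toImage := by rw [← hl]; infer_instance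
    have hdense : DenseRange h.toImage.base := fun z => by
      rw [mem_closure_iff]
      intro U hU hzU
      obtain ⟨V, hV, rfl⟩ := h.imageι.isEmbedding.isInducing.isOpen_iff.1 hU
      obtain ⟨_, hy, x, rfl⟩ := mem_closure_iff.1 (show h.imageι z ∈ closure (Set.range h) from hrangeι ▸ ⟨z, rfl⟩) V hV hzU
      exact ⟨h.toImage x, show h.imageι (h.toImage x) ∈ V from (htι x).symm ▸ hy, x, rfl⟩
    refine ⟨hI, fun W => ?_, hdense⟩
    have : IsDominant (h.image.homOfLE (inf_le_right : h.toImage.opensRange ⊓ W ≤ W)) := ⟨fun w => by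
      rw [mem_closure_iff]
      intro U hU hwU
      obtain ⟨t, ht⟩ := hdense.exists_mem_open (W.ι.isOpenMap U hU) ⟨W.ι w, w, hwU, rfl⟩
      obtain ⟨u, hu, he⟩ := ht
      have hm : W.ι u ∈ h.toImage.opensRange ⊓ W := ⟨⟨t, he.symm⟩, u.2⟩
      refine ⟨u, hu, ⟨W.ι u, hm⟩, ?_⟩
      exact W.ι.isOpenEmbedding.injective
        (congr($(h.image.homOfLE_ι (inf_le_right : h.toImage.opensRange ⊓ W ≤ W)) ⟨W.ι u, hm⟩))⟩
    exact IsSchemeTheoreticallyDominant.of_isDominant _

open AlgebraicGeometry CategoryTheory in
/-- Let h : Z → X be an immersion, and suppose that either Z is reduced or h is quasi-compact. Write Z̄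
⊆ X for the scheme-theoretic image of h. Then Z → Z̄ is an open immersion identifying Z with a
scheme-theoretically dense (in the for-every-open sense) and topologically dense open subscheme of
Z̄. -/
theorem result {Z X : Scheme.{u}} (h : Z ⟶ X) [IsImmersion h]
    (hyp : QuasiCompact h ∨ IsReduced Z) :
    ∃ hI : IsOpenImmersion h.toImage,
      (∀ W : h.image.Opens, IsSchemeTheoreticallyDominant
          (h.image.homOfLE (inf_le_right : @Scheme.Hom.opensRange _ _ h.toImage hI ⊓ W ≤ W))) ∧
        DenseRange h.toImage.base := by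
  exact main h hyp

end Groth.Agent.S9385
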