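import Groth.Statements.S9391
import Mathlib.RingTheory.Localization.Integral
import Mathlib.RingTheory.Localization.LocalizationLocalization
import Mathlib.RingTheory.IntegralClosure.IsIntegralClosure.Basic

set_option autoImplicit false
universe u
open CAlg

namespace Groth.Agent.S9391

/-- A localization of an N-1 domain which is again a domain is N-1. -/
theorem result (R : Type u) [CommRing R] [IsDomain R] (M : Submonoid R)
    (S : Type u) [CommRing S] [IsDomain S] [Algebra R S] [IsLocalization M S]
    (h : CAlg.IsN1 R) : CAlg.IsN1 S := by
  classical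
  let K := FractionRing R
  have h0 : (0 : R) ∉ M := fun h0 => by
    have h1 := IsLocalization.map_units S (⟨0, h0⟩ : M)
    rw [map_zero] at h1
    exact not_isUnit_zero h1
  have hMle : M ≤ nonZeroDivisors R := fun x hx => mem_nonZeroDivisors_of_ne_zero fun h => h0 (h ▸ hx)
  letI : Algebra S K := (IsLocalization.lift (M := M) (S := S) (g := algebraMap R K) fun y =>
    IsLocalization.map_units K (⟨y.1, hMle y.2⟩ : nonZeroDivisors R)).toAlgebra
  haveI : IsScalarTower R S K := IsScalarTower.of_algebraMap_eq fun x => (IsLocalization.lift_eq _ x).symm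
  haveI : IsFractionRing S K := IsFractionRing.isFractionRing_of_isDomain_of_isLocalization M S K
  obtain ⟨G, hG⟩ := (Module.Finite.iff_fg (N := Subalgebra.toSubmodule (integralClosure R K))).1 h
  have hfg : (Subalgebra.toSubmodule (integralClosure S K)).FG := by
    refine ⟨G, le_antisymm (Submodule.span_le.2 fun g hg => ?_) fun x hx => ?_⟩
    · have hgi : g ∈ Subalgebra.toSubmodule (integralClosure R K) := hG ▸ Submodule.subset_span hg
      exact (show IsIntegral R g from hgi).tower_top
    · obtain ⟨m, hm⟩ := IsIntegral.exists_multiple_integral_of_isLocalization (M := M) (Rₘ := S) x hx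
      have hmx : m • x ∈ Submodule.span R (G : Set K) := by rw [hG]; exact hm
      have hmx' : m • x ∈ Submodule.span S (G : Set K) := Submodule.span_le_restrictScalars R S _ hmx
      obtain ⟨v, hv⟩ := IsLocalization.map_units S m
      have : x = (↑v⁻¹ : S) • (m • x) := by
        rw [Submonoid.smul_def, ← algebraMap_smul S (m : R) x, ← hv, ← mul_smul, Units.inv_mul, one_smul]
      rw [this]
      exact Submodule.smul_mem _ _ hmx'
  haveI : Module.Finite S (integralClosure S K) := Module.Finite.iff_fg.2 hfg
  exact Module.Finite.equiv ((FractionRing.algEquiv S K).symm.mapIntegralClosure).toLinearEquiv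

end Groth.Agent.S9391
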