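import Groth.Statements.S9393
import Mathlib.RingTheory.Localization.Integral
import Mathlib.RingTheory.Localization.LocalizationLocalization
import Mathlib.RingTheory.IntegralClosure.IsIntegralClosure.Basic
import Mathlib.RingTheory.Localization.Finiteness

set_option autoImplicit false
universe u
open CAlg

namespace Groth.Agent.S9393

/-- Being N-1 can be checked on a finite cover of Spec R by principal opens whose rings are N-1 domains. -/
theorem result (R : Type u) [CommRing R] [IsDomain R]
    {ι : Type u} [Finite ι] (f : ι → R) (hf : Ideal.span (Set.range f) = ⊤)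
    (Rf : ι → Type u) [∀ i, CommRing (Rf i)] [∀ i, IsDomain (Rf i)] [∀ i, Algebra R (Rf i)]
    [∀ i, IsLocalization.Away (f i) (Rf i)] (h : ∀ i, CAlg.IsN1 (Rf i)) : CAlg.IsN1 R := by
  classical
  let K := FractionRing R
  have main : ∀ i, ∃ G : Finset K, (∀ g ∈ G, IsIntegral R g) ∧
      ∀ x : K, IsIntegral R x → ∃ n : ℕ, f i ^ n • x ∈ Submodule.span R (G : Set K) := by
    intro i
    let M := Submonoid.powers (f i)
    have h0 : (0 : R) ∉ M := fun h0 => by
      have h1 := IsLocalization.map_units (Rf i) (⟨0, h0⟩ : M)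
      rw [map_zero] at h1
      exact not_isUnit_zero h1
    have hMle : M ≤ nonZeroDivisors R := fun x hx => mem_nonZeroDivisors_of_ne_zero fun h => h0 (h ▸ hx)
    letI : Algebra (Rf i) K := (IsLocalization.lift (M := M) (S := Rf i) (g := algebraMap R K) fun y =>
      IsLocalization.map_units K (⟨y.1, hMle y.2⟩ : nonZeroDivisors R)).toAlgebra
    haveI : IsScalarTower R (Rf i) K := IsScalarTower.of_algebraMap_eq fun x => (IsLocalization.lift_eq _ x).symm
    haveI : IsFractionRing (Rf i) K := IsFractionRing.isFractionRing_of_isDomain_of_isLocalization M (Rf i) K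
    haveI hfin : Module.Finite (Rf i) (integralClosure (Rf i) (FractionRing (Rf i))) := h i
    haveI : Module.Finite (Rf i) (integralClosure (Rf i) K) :=
      Module.Finite.equiv ((FractionRing.algEquiv (Rf i) K).mapIntegralClosure).toLinearEquiv
    obtain ⟨G₀, hG₀⟩ := (Module.Finite.iff_fg (N := Subalgebra.toSubmodule (integralClosure (Rf i) K))).1 inferInstance
    have hsc : ∀ g ∈ G₀, ∃ m : M, IsIntegral R (m • g) := fun g hg => by
      have hgi : g ∈ Subalgebra.toSubmodule (integralClosure (Rf i) K) := hG₀ ▸ Submodule.subset_span hg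
      exact IsIntegral.exists_multiple_integral_of_isLocalization (M := M) (Rₘ := Rf i) g hgi
    choose m hm using hsc
    refine ⟨G₀.attach.image fun g => m g.1 g.2 • g.1, fun g hg => ?_, fun x hx => ?_⟩
    · obtain ⟨g', -, rfl⟩ := Finset.mem_image.1 hg
      exact hm g'.1 g'.2
    · have hx' : x ∈ Submodule.span (Rf i) (G₀ : Set K) := by rw [hG₀]; exact hx.tower_top
      have hx'' : x ∈ Submodule.span (Rf i) ((G₀.attach.image fun g => m g.1 g.2 • g.1 : Finset K) : Set K) := by
        refine Submodule.span_le.2 (fun g hg => ?_) hx'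
        obtain ⟨v, hv⟩ := IsLocalization.map_units (Rf i) (m g hg)
        have : g = (↑v⁻¹ : Rf i) • (m g hg • g) := by
          rw [Submonoid.smul_def, ← algebraMap_smul (Rf i) ((m g hg : M) : R) g, ← hv, ← mul_smul, Units.inv_mul, one_smul]
        have hmem : m g hg • g ∈ ((G₀.attach.image fun g => m g.1 g.2 • g.1 : Finset K) : Set K) :=
          Finset.mem_coe.2 (Finset.mem_image.2 ⟨⟨g, hg⟩, Finset.mem_attach _ _, rfl⟩)
        rw [SetLike.mem_coe, this]
        exact Submodule.smul_mem _ _ (Submodule.subset_span hmem)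
      obtain ⟨t, ht⟩ := multiple_mem_span_of_mem_localization_span M (Rf i) _ x hx''
      obtain ⟨n, hn⟩ := t.2
      exact ⟨n, by rw [show f i ^ n = (t : R) from hn]; exact ht⟩
  choose G hG hGx using main
  haveI := Fintype.ofFinite ι
  refine (Module.Finite.iff_fg (N := Subalgebra.toSubmodule (integralClosure R K))).2
    ⟨Finset.univ.biUnion G, le_antisymm (Submodule.span_le.2 fun g hg => ?_) fun x hx => ?_⟩
  · obtain ⟨i, -, hi⟩ := Finset.mem_biUnion.1 hg
    exact hG i g hi
  · refine Submodule.mem_of_span_eq_top_of_smul_pow_mem _ (Set.range f) hf x fun r => ?_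
    obtain ⟨i, hi⟩ := r.2
    obtain ⟨n, hn⟩ := hGx i x hx
    refine ⟨n, ?_⟩
    rw [← hi]
    exact Submodule.span_mono (Finset.coe_subset.2 (Finset.subset_biUnion_of_mem G (Finset.mem_univ i))) hn

end Groth.Agent.S9393
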