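import Groth.Statements.S9395
import Mathlib.RingTheory.Localization.Integral
import Mathlib.RingTheory.Polynomial.Basic
import Mathlib.RingTheory.Localization.Submodule
import Mathlib.RingTheory.Noetherian.Basic
import Mathlib.RingTheory.Localization.Integer

set_option autoImplicit false
universe u
open CAlg

namespace Groth.Agent.S9395

/-- For a Noetherian domain R, if the Laurent polynomial ring R[X, 1/X] (the localization of R[X] away
from X) is N-1, then R is N-1. -/
theorem result (R : Type u) [CommRing R] [IsDomain R] [IsNoetherianRing R]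
    (S : Type u) [CommRing S] [IsDomain S] [Algebra (Polynomial R) S]
    [IsLocalization.Away (Polynomial.X : Polynomial R) S] (h : CAlg.IsN1 S) : CAlg.IsN1 R := by
  classical
  let K := FractionRing R
  let L := FractionRing S
  haveI : IsNoetherianRing (Polynomial R) := Polynomial.isNoetherianRing
  haveI : IsNoetherianRing S := IsLocalization.isNoetherianRing (Submonoid.powers (Polynomial.X : Polynomial R)) S inferInstance
  have hXpow : Submonoid.powers (Polynomial.X : Polynomial R) ≤ nonZeroDivisors (Polynomial R) :=
    powers_le_nonZeroDivisors_of_noZeroDivisors Polynomial.X_ne_zero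
  let φ : Polynomial R →+* L := (algebraMap S L).comp (algebraMap (Polynomial R) S)
  have hφ : Function.Injective φ := (IsFractionRing.injective S L).comp (IsLocalization.injective S hXpow)
  let g : R →+* L := φ.comp Polynomial.C
  have hg : Function.Injective g := hφ.comp Polynomial.C_injective
  let gK : K →+* L := IsFractionRing.lift hg
  have hgK : ∀ r : R, gK (algebraMap R K r) = g r := fun r => IsFractionRing.lift_algebraMap hg r
  let ι : Polynomial K →+* L := Polynomial.eval₂RingHom gK (φ Polynomial.X)
  have hcompat : ι.comp (Polynomial.mapRingHom (algebraMap R K)) = φ := by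
    refine Polynomial.ringHom_ext (fun r => ?_) ?_
    · simp [ι, hgK, g]
    · simp [ι]
  have hι : Function.Injective ι := by
    rw [injective_iff_map_eq_zero]
    intro p hp
    obtain ⟨b, hbp⟩ := IsLocalization.integerNormalization_map_to_map (nonZeroDivisors R) p
    have h0 : φ (IsLocalization.integerNormalization (nonZeroDivisors R) p) = 0 := by
      rw [← hcompat, RingHom.comp_apply, Polynomial.coe_mapRingHom, hbp, Algebra.smul_def, map_mul, hp, mul_zero]
    rw [hφ.eq_iff' (map_zero φ)] at h0
    rw [h0, Polynomial.map_zero] at hbp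
    rcases smul_eq_zero.mp hbp.symm with h | h
    · exact absurd h (nonZeroDivisors.ne_zero b.2)
    · exact h
  haveI : Module.Finite S (integralClosure S L) := h
  haveI : IsNoetherian S (integralClosure S L) := isNoetherian_of_isNoetherianRing_of_finite S _
  have hmem : ∀ r : integralClosure R K, gK r ∈ integralClosure S L := by
    rintro ⟨r, hr⟩
    obtain ⟨q, hq, hqr⟩ := hr
    refine ⟨q.map ((algebraMap (Polynomial R) S).comp Polynomial.C), hq.map _, ?_⟩
    rw [Polynomial.eval₂_map]
    have h1 : gK (Polynomial.eval₂ (algebraMap R K) r q) = 0 := by rw [hqr, map_zero]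
    rw [Polynomial.hom_eval₂] at h1
    have e : ((algebraMap S L).comp ((algebraMap (Polynomial R) S).comp Polynomial.C)) = gK.comp (algebraMap R K) :=
      RingHom.ext fun x => (hgK x).symm
    rw [e]
    exact h1
  let G : Set (integralClosure S L) := Set.range fun r : integralClosure R K => ⟨gK r, hmem r⟩
  obtain ⟨T, hTG, hT⟩ := (Submodule.fg_span_iff_fg_span_finset_subset (R := S) G).mp (IsNoetherian.noetherian _)
  have hT' : ∀ t ∈ T, ∃ r : integralClosure R K, (⟨gK r, hmem r⟩ : integralClosure S L) = t := fun t ht => hTG ht
  choose c hc using hT'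
  refine ⟨⟨T.attach.image fun t => c t.1 t.2, ?_⟩⟩
  rw [eq_top_iff]
  rintro r -
  have hr : (⟨gK r, hmem r⟩ : integralClosure S L) ∈ Submodule.span S (T : Set (integralClosure S L)) := by
    rw [← hT]; exact Submodule.subset_span ⟨r, rfl⟩
  rw [Submodule.mem_span_finset'] at hr
  obtain ⟨l, hl⟩ := hr
  have hl' := congrArg Subtype.val hl
  obtain ⟨⟨b, hb⟩, hbs⟩ := IsLocalization.exist_integer_multiples_of_finite (Submonoid.powers (Polynomial.X : Polynomial R)) fun i => l i
  obtain ⟨N, rfl⟩ := hb
  choose p hp using hbs
  have e : ι (Polynomial.X ^ N * Polynomial.C (r : K)) =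
      ι (∑ i, (p i).map (algebraMap R K) * Polynomial.C ((c i.1 i.2 : integralClosure R K) : K)) := by
    have hφp : ∀ q, ι (Polynomial.map (algebraMap R K) q) = φ q := fun q => RingHom.congr_fun hcompat q
    rw [map_sum, map_mul, map_pow]
    simp only [map_mul, hφp]
    simp only [ι, Polynomial.coe_eval₂RingHom, Polynomial.eval₂_C, Polynomial.eval₂_X]
    rw [show gK (r : K) = _ from hl'.symm, AddSubmonoidClass.coe_finsetSum, Finset.mul_sum]
    refine Finset.sum_congr rfl fun i _ => ?_
    show φ Polynomial.X ^ N * ((l i • i.1 : integralClosure S L) : L) = φ (p i) * gK _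
    rw [SetLike.val_smul, Algebra.smul_def, ← mul_assoc, ← congrArg Subtype.val (hc i.1 i.2)]
    congr 1
    simp only [φ, RingHom.comp_apply, hp, Submonoid.smul_def]
    rw [Algebra.smul_def, map_mul, map_pow, map_pow]
  have e' := congrArg (Polynomial.eval 1) (hι e)
  simp only [Polynomial.eval_mul, Polynomial.eval_pow, Polynomial.eval_X, one_pow, one_mul, Polynomial.eval_C,
    Polynomial.eval_finsetSum] at e'
  have : r = ∑ i, (p i).eval 1 • c i.1 i.2 := by
    apply Subtype.ext
    rw [e', AddSubmonoidClass.coe_finsetSum]
    refine Finset.sum_congr rfl fun i _ => ?_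
    rw [SetLike.val_smul, Algebra.smul_def, Polynomial.eval_one_map]

  rw [this]
  exact sum_mem fun i _ => Submodule.smul_mem _ _ (Submodule.subset_span (Finset.mem_image.mpr ⟨i, Finset.mem_attach _ _, rfl⟩))

end Groth.Agent.S9395
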