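import Groth.Statements.S9396
import Groth.Agent.Nagata.Descend
import Groth.Agent.Nagata.PowerSeries

set_option autoImplicit false
universe u
open CAlg

namespace Groth.Agent.S9396

/-- If R is a Noetherian N-2 (Japanese) domain, then the power series ring R[[X]] is an N-2 domain. (R
is not assumed integrally closed.) -/
theorem result (R : Type u) [CommRing R] [IsDomain R] [IsNoetherianRing R]
    (h : CAlg.IsN2 R) : CAlg.IsN2 (PowerSeries R) := by
  let K := FractionRing R
  let A' := integralClosure R K
  haveI : Module.Finite R A' := Nagata.isN1_of_isN2 h
  haveI : IsIntegrallyClosed A' := integralClosure.isIntegrallyClosedOfFiniteExtension K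
  haveI : IsNoetherianRing A' := IsNoetherianRing.of_finite R A'
  haveI : FaithfulSMul R A' := (faithfulSMul_iff_algebraMap_injective _ _).mpr fun a b hab =>
    IsFractionRing.injective R K (congrArg Subtype.val hab)
  letI : Algebra (PowerSeries R) (PowerSeries A') := (PowerSeries.map (algebraMap R A')).toAlgebra
  haveI : Module.Finite (PowerSeries R) (PowerSeries A') := Nagata.finite_powerSeries rfl
  haveI : FaithfulSMul (PowerSeries R) (PowerSeries A') := (faithfulSMul_iff_algebraMap_injective _ _).mpr
    (PowerSeries.map_injective _ (FaithfulSMul.algebraMap_injective R A'))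
  exact Nagata.isN2_of_finite_extension (C := PowerSeries A') (Nagata.isN2_powerSeries (Nagata.isN2_of_finite h))

end Groth.Agent.S9396
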