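import Groth.Statements.S9397
import Groth.Agent.Nagata.Cover

set_option autoImplicit false
universe u
open CAlg

namespace Groth.Agent.S9397

/-- A ring R is universally Japanese provided that each R-algebra of finite type which is a domain is
N-1. -/
theorem result (R : Type u) [CommRing R]
    (h : ∀ (S : Type u) [CommRing S] [IsDomain S] [Algebra R S], Algebra.FiniteType R S → CAlg.IsN1 S) :
    CAlg.IsUniversallyJapanese R := by
  intro S _ _ _ hS L _ _ _ _ hfd
  classical
  haveI : Algebra.FiniteType R S := hS
  let K := FractionRing S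
  haveI : FiniteDimensional K L := hfd
  letI : Algebra R L := ((algebraMap S L).comp (algebraMap R S)).toAlgebra
  haveI : IsScalarTower R S L := IsScalarTower.of_algebraMap_eq fun _ => rfl
  haveI : Algebra.IsAlgebraic S L := (IsFractionRing.comap_isAlgebraic_iff (A := S) (K := K) (C := L)).mpr
    (Algebra.IsAlgebraic.of_finite K L)
  let b := Module.finBasis K L
  obtain ⟨y, hy, hint⟩ := Algebra.IsAlgebraic.exists_integral_multiples S (Finset.univ.image b)
  let S1 := Algebra.adjoin S (((Finset.univ.image b).image (y • ·) : Finset L) : Set L)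
  haveI : Module.Finite S S1 := Module.Finite.iff_fg.mpr (fg_adjoin_of_finite (Finset.finite_toSet _) fun z hz => by
    obtain ⟨w, hw, rfl⟩ := Finset.mem_image.mp hz
    exact hint w hw)
  haveI : Algebra.FiniteType R S1 := Algebra.FiniteType.trans (S := S) hS inferInstance
  haveI : FaithfulSMul S1 L := (faithfulSMul_iff_algebraMap_injective _ _).mpr Subtype.val_injective
  have hy0 : algebraMap S K y ≠ 0 := fun h0 => hy (IsFractionRing.injective S K (h0.trans (map_zero _).symm))
  haveI : IsFractionRing S1 L := IsFractionRing.of_field S1 L fun z => by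
    rw [← b.sum_repr z]
    obtain ⟨d, hd⟩ := IsLocalization.exist_integer_multiples (nonZeroDivisors S) Finset.univ
      (fun i => b.repr z i / algebraMap S K y)
    choose a ha using fun i => hd i (Finset.mem_univ i)
    refine ⟨∑ i, algebraMap S S1 (a i) * ⟨y • b i, Algebra.subset_adjoin (by simp)⟩, algebraMap S S1 d, ?_⟩
    have hd0 : algebraMap S L (d : S) ≠ 0 := by
      rw [IsScalarTower.algebraMap_apply S K L]
      exact (map_ne_zero _).mpr fun h0 => nonZeroDivisors.coe_ne_zero d (IsFractionRing.injective S K (h0.trans (map_zero _).symm))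
    rw [map_sum, ← IsScalarTower.algebraMap_apply S S1 L, Finset.sum_div]
    refine Finset.sum_congr rfl fun i _ => ?_
    rw [map_mul, ← IsScalarTower.algebraMap_apply S S1 L, show algebraMap S1 L ⟨y • b i, _⟩ = y • b i from rfl, eq_div_iff hd0,
      IsScalarTower.algebraMap_apply S K L (a i), ha i, Algebra.smul_def, Algebra.smul_def, Algebra.smul_def, map_mul, map_div₀,
      ← IsScalarTower.algebraMap_apply S K L, ← IsScalarTower.algebraMap_apply S K L]
    have hy1 : algebraMap S L y ≠ 0 := by rw [IsScalarTower.algebraMap_apply S K L]; exact (map_ne_zero _).mpr hy0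
    field_simp
  haveI : Module.Finite S1 (integralClosure S1 (FractionRing S1)) := h S1 inferInstance
  haveI : Module.Finite S1 (integralClosure S1 L) := Module.Finite.equiv
    ((integralClosure S1 (FractionRing S1)).equivMapOfInjective (FractionRing.algEquiv S1 L).toAlgHom (FractionRing.algEquiv S1 L).injective |>.trans
      (Subalgebra.equivOfEq _ _ (integralClosure_map_algEquiv (FractionRing.algEquiv S1 L)))).toLinearEquiv
  haveI : Module.Finite S (integralClosure S1 L) := Module.Finite.trans S1 _
  let g : integralClosure S1 L →ₗ[S] integralClosure S L :=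
    { toFun := fun z => ⟨z, isIntegral_trans (A := S1) (z : L) z.2⟩
      map_add' := fun _ _ => rfl
      map_smul' := fun _ _ => rfl }
  exact Module.Finite.of_surjective g fun z => ⟨⟨z, (z.2 : IsIntegral S (z : L)).tower_top⟩, rfl⟩

end Groth.Agent.S9397
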