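import Groth.Statements.S9401
import Groth.Agent.Nagata.Reduced
import Groth.Agent.SmoothRed.Basic

set_option autoImplicit false
universe u
open CAlg
open scoped TensorProduct

namespace Groth.Agent.S9401

theorem descend {R' S' : Type u} [CommRing R'] [CommRing S'] [Algebra R' S'] [Module.FaithfullyFlat R' S']
    [IsNoetherianRing S'] (L : Type u) [CommRing L] [Algebra R' L]
    (hfin : Module.Finite S' (integralClosure S' (S' ⊗[R'] L))) : Module.Finite R' (integralClosure R' L) := by
  haveI := hfin
  haveI : IsNoetherian S' (integralClosure S' (S' ⊗[R'] L)) := isNoetherian_of_isNoetherianRing_of_finite S' _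
  let C := integralClosure R' L
  let θ : S' ⊗[R'] C →ₐ[S'] S' ⊗[R'] L := Algebra.TensorProduct.map (AlgHom.id S' S') C.val
  have hθ : Function.Injective θ := Module.Flat.lTensor_preserves_injective_linearMap C.val.toLinearMap Subtype.val_injective
  have hmem : ∀ z, θ z ∈ integralClosure S' (S' ⊗[R'] L) := fun z => by
    induction z with
    | zero => rw [map_zero]; exact zero_mem _
    | add a b ha hb => rw [map_add]; exact add_mem ha hb
    | tmul s c =>
      have h1 : IsIntegral S' ((1 : S') ⊗ₜ[R'] (c : L)) :=
        ((c.2 : IsIntegral R' (c : L)).map (Algebra.TensorProduct.includeRight : L →ₐ[R'] S' ⊗[R'] L)).tower_top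
      have h2 : θ (s ⊗ₜ c) = s • ((1 : S') ⊗ₜ[R'] (c : L)) := by
        simp [θ, TensorProduct.smul_tmul']
      rw [h2]
      exact Subalgebra.smul_mem _ h1 s
  let g : S' ⊗[R'] C →ₗ[S'] integralClosure S' (S' ⊗[R'] L) :=
    θ.toLinearMap.codRestrict (integralClosure S' (S' ⊗[R'] L)).toSubmodule hmem
  haveI : Module.Finite S' (S' ⊗[R'] C) := Module.Finite.of_injective g fun a b h => hθ (congrArg Subtype.val h)
  exact Module.Finite.of_finite_tensorProduct_of_faithfullyFlat S'

/-- The Nagata property descends along smooth ring maps that are surjective on spectra. -/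
theorem result (R : Type u) [CommRing R] (S : Type u)
    [CommRing S] [Algebra R S] [Algebra.Smooth R S]
    (hs : Function.Surjective (PrimeSpectrum.comap (algebraMap R S))) (hS : CAlg.IsNagata S) :
    CAlg.IsNagata R := by
  haveI := hS.1
  haveI : Module.FaithfullyFlat R S := Module.FaithfullyFlat.of_comap_surjective hs
  have hN : IsNoetherianRing R := by
    have h1 : IsNoetherian S (S ⊗[R] R) :=
      isNoetherian_of_linearEquiv (Algebra.TensorProduct.rid R S S).symm.toLinearEquiv
    exact Submodule.IsNoetherian.of_isNoetherian_tensorProduct_of_faithfullyFlat h1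
  refine ⟨hN, fun p hp => ?_⟩
  have hS' : CAlg.IsNagata ((R ⧸ p) ⊗[R] S) := Nagata.isNagata_of_surjective
    (Algebra.TensorProduct.includeRight (R := R) (A := R ⧸ p) (B := S)).toRingHom
    (Algebra.TensorProduct.includeRight_surjective _ Ideal.Quotient.mk_surjective) hS
  haveI := hS'.1
  intro L _ _ _ _ hfd
  let R' := R ⧸ p
  let S' := R' ⊗[R] S
  let K := FractionRing R'
  haveI : FiniteDimensional K L := hfd
  haveI : Algebra.EssFiniteType R' K := Algebra.EssFiniteType.of_isLocalization K (nonZeroDivisors R')
  haveI : Algebra.EssFiniteType R' L := Algebra.EssFiniteType.comp R' K L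
  haveI : Algebra.Smooth L (L ⊗[R'] S') := inferInstance
  haveI : IsReduced (L ⊗[R'] S') := SmoothRed.isReduced_of_field L (L ⊗[R'] S')
  haveI : IsReduced (S' ⊗[R'] L) := isReduced_of_injective (Algebra.TensorProduct.comm R' S' L)
    (Algebra.TensorProduct.comm R' S' L).injective
  exact descend (S' := S') L (Nagata.finite_closure_reduced (W := S' ⊗[R'] L) hS')

end Groth.Agent.S9401
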