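import Groth.Statements.S9403
import Mathlib.RingTheory.Kaehler.Basic
import Mathlib.RingTheory.Filtration
import Mathlib.Tactic.LinearCombination

set_option autoImplicit false
universe u
open CAlg

namespace Groth.Agent.S9403

/-- Let R → S be a ring map with S a Noetherian local ring which is an algebra over the rationals, and f
∈ S such that some S-linear form on the module of differentials of S over R sends df to 1 (df spans
a free direct summand of rank one). Then f is a nonzerodivisor of S. (The published statement asks
only that S·df be a direct summand of the module of differentials, which also holds for the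
rationals with a square-zero element adjoined, where f is a zero divisor; this row asks for an
S-linear form on the differentials sending df to 1, as the published proof uses.) -/
theorem result (R : Type u) [CommRing R]
    (S : Type u) [CommRing S] [IsLocalRing S] [IsNoetherianRing S] [Algebra R S] [Algebra ℚ S]
    (f : S) (θ : Ω[S⁄R] →ₗ[S] S) (hθ : θ (KaehlerDifferential.D R S f) = 1) : f ∈ nonZeroDivisors S := by
  rw [mem_nonZeroDivisors_iff_right]
  intro g hg
  by_cases hu : IsUnit f
  · exact hu.mul_left_eq_zero.1 hg
  have hstep : ∀ j : ℕ, ∃ h : S, g = f ^ j * h ∧ h * f ^ (j + 1) = 0 := by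
    intro j
    induction j with
    | zero => exact ⟨g, by simp, by simpa using hg⟩
    | succ j ih =>
      obtain ⟨h, hgh, h0⟩ := ih
      have h1 := congrArg (fun t => θ (KaehlerDifferential.D R S t)) h0
      simp only [Derivation.leibniz, Derivation.leibniz_pow, map_add, map_zero, map_nsmul, map_smul, hθ, Nat.add_sub_cancel, smul_eq_mul, mul_one, nsmul_eq_mul] at h1
      have hc : IsUnit ((j + 1 : ℕ) : S) := by
        rw [← map_natCast (algebraMap ℚ S)]
        exact (IsUnit.mk0 _ (by positivity)).map _
      obtain ⟨c, hc⟩ := hc.exists_left_inv
      have h2 : g = f ^ (j + 1) * (-(c * θ (KaehlerDifferential.D R S h))) := by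
        linear_combination hgh + c * h1 - h * f ^ j * hc
      exact ⟨_, h2, by rw [mul_comm, pow_succ', mul_assoc, ← h2, mul_comm, hg]⟩
  have h1 : g ∈ ⨅ j : ℕ, Ideal.span ({f} : Set S) ^ j := by
    rw [Submodule.mem_iInf]
    intro j
    obtain ⟨h, hgh, -⟩ := hstep j
    rw [Ideal.span_singleton_pow, Ideal.mem_span_singleton]
    exact ⟨h, hgh⟩
  rwa [Ideal.iInf_pow_eq_bot_of_isLocalRing _ (fun h => hu (Ideal.span_singleton_eq_top.1 h)), Ideal.mem_bot] at h1

end Groth.Agent.S9403
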