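import Groth.Statements.S9404
import Mathlib.RingTheory.Ideal.GoingUp
import Mathlib.RingTheory.Flat.Basic
import Mathlib.FieldTheory.PurelyInseparable.Basic
import Mathlib.RingTheory.IntegralClosure.IsIntegralClosure.Basic

set_option autoImplicit false
universe u
open CAlg

namespace Groth.Agent.S9404

open TensorProduct in
/-- For local homomorphisms of local rings A → B and A → C with A → C integral, if the residue field of
C or that of B is purely inseparable over the residue field of A, then B ⊗_A C is local and both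
structure maps into it are local. -/
theorem result (A : Type u) [CommRing A]
    [IsLocalRing A] (B : Type u) [CommRing B] [IsLocalRing B] [Algebra A B]
    [IsLocalHom (algebraMap A B)] (C : Type u) [CommRing C] [IsLocalRing C] [Algebra A C]
    [IsLocalHom (algebraMap A C)] [Algebra.IsIntegral A C]
    (h : IsPurelyInseparable (IsLocalRing.ResidueField A) (IsLocalRing.ResidueField C) ∨
      IsPurelyInseparable (IsLocalRing.ResidueField A) (IsLocalRing.ResidueField B)) :
    IsLocalRing (B ⊗[A] C) ∧
      IsLocalHom (Algebra.TensorProduct.includeLeft : B →ₐ[A] B ⊗[A] C).toRingHom ∧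
      IsLocalHom (Algebra.TensorProduct.includeRight : C →ₐ[A] B ⊗[A] C).toRingHom := by
  classical
  let FA := IsLocalRing.ResidueField A
  let FB := IsLocalRing.ResidueField B
  let FC := IsLocalRing.ResidueField C
  haveI : Nontrivial (B ⊗[A] C) := by
    let φ : B ⊗[A] C →ₐ[A] FB ⊗[FA] FC := Algebra.TensorProduct.lift
      (((Algebra.TensorProduct.includeLeft : FB →ₐ[FA] FB ⊗[FA] FC).restrictScalars A).comp
        (IsScalarTower.toAlgHom A B FB))
      (((Algebra.TensorProduct.includeRight : FC →ₐ[FA] FB ⊗[FA] FC).restrictScalars A).comp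
        (IsScalarTower.toAlgHom A C FC))
      (fun _ _ => Commute.all _ _)
    haveI : Nontrivial (FB ⊗[FA] FC) :=
      (Algebra.TensorProduct.includeLeft_injective (S := FA) (A := FB) (B := FC)
        (algebraMap FA FC).injective).nontrivial
    exact φ.toRingHom.domain_nontrivial
  let fB : B →+* B ⊗[A] C := (Algebra.TensorProduct.includeLeft : B →ₐ[A] B ⊗[A] C).toRingHom
  let fC : C →+* B ⊗[A] C := (Algebra.TensorProduct.includeRight : C →ₐ[A] B ⊗[A] C).toRingHom
  have hA : ∀ a : A, fB (algebraMap A B a) = fC (algebraMap A C a) := fun a => by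
    show (Algebra.TensorProduct.includeLeft : B →ₐ[A] B ⊗[A] C) (algebraMap A B a) =
      (Algebra.TensorProduct.includeRight : C →ₐ[A] B ⊗[A] C) (algebraMap A C a)
    rw [AlgHom.commutes, AlgHom.commutes]
  have hmB : ∀ m : Ideal (B ⊗[A] C), m.IsMaximal → m.comap fB = IsLocalRing.maximalIdeal B := by
    intro m hm
    exact IsLocalRing.eq_maximalIdeal (Ideal.isMaximal_comap_of_isIntegral_of_isMaximal
      (R := B) m)
  have hmC : ∀ m : Ideal (B ⊗[A] C), m.IsMaximal → m.comap fC = IsLocalRing.maximalIdeal C := by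
    intro m hm
    haveI : (m.comap fC).IsPrime := inferInstance
    refine IsLocalRing.eq_maximalIdeal
      (Ideal.isMaximal_of_isIntegral_of_isMaximal_comap (R := A) (m.comap fC) ?_)
    have e : (m.comap fC).comap (algebraMap A C) = (m.comap fB).comap (algebraMap A B) := by
      ext a; simp only [Ideal.mem_comap, hA]
    rw [e, hmB m hm, IsLocalRing.maximalIdeal_comap]
    exact IsLocalRing.maximalIdeal.isMaximal A
  let q := ringExpChar FA
  let Q := (B ⊗[A] C) ⧸ Ideal.jacobson (⊥ : Ideal (B ⊗[A] C))
  let π : B ⊗[A] C →+* Q := Ideal.Quotient.mk _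
  haveI : Nontrivial Q := Ideal.Quotient.nontrivial_iff.mpr
    (fun h => bot_ne_top (Ideal.jacobson_eq_top_iff.mp h))
  have hBm : ∀ b ∈ IsLocalRing.maximalIdeal B, π (fB b) = 0 := fun b hb =>
    Ideal.Quotient.eq_zero_iff_mem.mpr (by
      rw [Ideal.jacobson, Ideal.mem_sInf]
      rintro m ⟨-, hm⟩
      exact (SetLike.ext_iff.mp (hmB m hm) b).mpr hb)
  have hCm : ∀ c ∈ IsLocalRing.maximalIdeal C, π (fC c) = 0 := fun c hc =>
    Ideal.Quotient.eq_zero_iff_mem.mpr (by
      rw [Ideal.jacobson, Ideal.mem_sInf]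
      rintro m ⟨-, hm⟩
      exact (SetLike.ext_iff.mp (hmC m hm) c).mpr hc)
  let χ : FA →+* Q := Ideal.Quotient.lift (IsLocalRing.maximalIdeal A)
    ((π.comp fB).comp (algebraMap A B))
    (fun a ha => hBm _ ((SetLike.ext_iff.mp
      (IsLocalRing.maximalIdeal_comap (algebraMap A B)) a).mpr ha))
  haveI : ExpChar FA q := inferInstance
  haveI : ExpChar Q q := expChar_of_injective_ringHom χ.injective q
  -- key: the result from a leg along which every element has a `q`-power
  have fin : ∀ {U : Type u} [CommRing U] [IsLocalRing U] (f : U →+* B ⊗[A] C),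
      (∀ m : Ideal (B ⊗[A] C), m.IsMaximal → m.comap f = IsLocalRing.maximalIdeal U) →
      (∀ x, ∃ n u, π x ^ q ^ n = π (f u)) → IsLocalRing (B ⊗[A] C) := by
    intro U _ _ f hf hx
    obtain ⟨m, hm⟩ := Ideal.exists_maximal (B ⊗[A] C)
    refine IsLocalRing.of_unique_max_ideal ⟨m, hm, fun m' hm' => ?_⟩
    have key : ∀ (M : Ideal (B ⊗[A] C)), M.IsMaximal → ∀ x n u, π x ^ q ^ n = π (f u) →
        (x ∈ M ↔ u ∈ IsLocalRing.maximalIdeal U) := by
      intro M hM x n u he
      rw [← map_pow, Ideal.Quotient.eq] at he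
      have : x ^ q ^ n - f u ∈ M := Ideal.mem_sInf.mp he ⟨bot_le, hM⟩
      rw [← hf M hM, Ideal.mem_comap]
      constructor
      · intro hxM
        have h1 : x ^ q ^ n ∈ M :=
          M.pow_mem_of_mem hxM _ (pow_pos (expChar_pos FA q) n)
        have := M.sub_mem h1 this
        rwa [sub_sub_cancel] at this
      · intro hu
        have := M.add_mem this hu
        rw [sub_add_cancel] at this
        exact hM.isPrime.mem_of_pow_mem _ this
    ext x
    obtain ⟨n, u, he⟩ := hx x
    rw [key m hm x n u he, key m' hm' x n u he]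
  have pow_up : ∀ {U : Type u} [CommRing U] (f : U →+* B ⊗[A] C) x n u k,
      π x ^ q ^ n = π (f u) → π x ^ q ^ (n + k) = π (f (u ^ q ^ k)) := by
    intro U _ f x n u k he
    rw [pow_add, pow_mul, he, ← map_pow π, ← map_pow f]
  refine ⟨?_, ⟨fun b hb => ?_⟩, ⟨fun c hc => ?_⟩⟩
  · rcases h with h | h
    · refine fin fB hmB fun x => ?_
      induction x using TensorProduct.induction_on with
      | zero => exact ⟨0, 0, by simp⟩
      | tmul b c =>
        obtain ⟨n, r, hr⟩ := IsPurelyInseparable.pow_mem FA q (IsLocalRing.residue C c)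
        obtain ⟨a, rfl⟩ := IsLocalRing.residue_surjective r
        have hc : π (fC (c ^ q ^ n)) = π (fB (algebraMap A B a)) := by
          rw [hA, ← sub_eq_zero, ← map_sub π, ← map_sub fC]
          refine hCm _ ((IsLocalRing.residue_eq_zero_iff _).mp ?_)
          rw [map_sub, map_pow, ← hr]
          exact sub_self _
        refine ⟨n, b ^ q ^ n * algebraMap A B a, ?_⟩
        have e : b ⊗ₜ[A] c = fB b * fC c := by
          show b ⊗ₜ[A] c = (b ⊗ₜ[A] (1 : C)) * ((1 : B) ⊗ₜ[A] c)
          rw [Algebra.TensorProduct.tmul_mul_tmul, mul_one, one_mul]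
        rw [e, map_mul π, mul_pow, map_mul fB, map_mul π, ← hc, map_pow fB, map_pow fC,
          map_pow π, map_pow π]
      | add x y hx hy =>
        obtain ⟨n, u, hu⟩ := hx
        obtain ⟨k, v, hv⟩ := hy
        refine ⟨n + k, u ^ q ^ k + v ^ q ^ n, ?_⟩
        rw [map_add π, add_pow_expChar_pow, pow_up fB x n u k hu,
          show n + k = k + n from Nat.add_comm n k, pow_up fB y k v n hv, map_add fB, map_add π]
    · refine fin fC hmC fun x => ?_
      induction x using TensorProduct.induction_on with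
      | zero => exact ⟨0, 0, by simp⟩
      | tmul b c =>
        obtain ⟨n, r, hr⟩ := IsPurelyInseparable.pow_mem FA q (IsLocalRing.residue B b)
        obtain ⟨a, rfl⟩ := IsLocalRing.residue_surjective r
        have hb : π (fB (b ^ q ^ n)) = π (fC (algebraMap A C a)) := by
          rw [← hA, ← sub_eq_zero, ← map_sub π, ← map_sub fB]
          refine hBm _ ((IsLocalRing.residue_eq_zero_iff _).mp ?_)
          rw [map_sub, map_pow, ← hr]
          exact sub_self _
        refine ⟨n, algebraMap A C a * c ^ q ^ n, ?_⟩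
        have e : b ⊗ₜ[A] c = fB b * fC c := by
          show b ⊗ₜ[A] c = (b ⊗ₜ[A] (1 : C)) * ((1 : B) ⊗ₜ[A] c)
          rw [Algebra.TensorProduct.tmul_mul_tmul, mul_one, one_mul]
        rw [e, map_mul π, mul_pow, map_mul fC, map_mul π, ← hb, map_pow fB, map_pow fC,
          map_pow π, map_pow π]
      | add x y hx hy =>
        obtain ⟨n, u, hu⟩ := hx
        obtain ⟨k, v, hv⟩ := hy
        refine ⟨n + k, u ^ q ^ k + v ^ q ^ n, ?_⟩
        rw [map_add π, add_pow_expChar_pow, pow_up fC x n u k hu,
          show n + k = k + n from Nat.add_comm n k, pow_up fC y k v n hv, map_add fC, map_add π]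
  · obtain ⟨m, hm⟩ := Ideal.exists_maximal (B ⊗[A] C)
    by_contra hb'
    refine hm.ne_top (Ideal.eq_top_of_isUnit_mem m ?_ hb)
    exact (SetLike.ext_iff.mp (hmB m hm) b).mpr hb'
  · obtain ⟨m, hm⟩ := Ideal.exists_maximal (B ⊗[A] C)
    by_contra hc'
    refine hm.ne_top (Ideal.eq_top_of_isUnit_mem m ?_ hc)
    exact (SetLike.ext_iff.mp (hmC m hm) c).mpr hc'

end Groth.Agent.S9404
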