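import Groth.Statements.S9409
import Groth.Agent.FlatDepth.Regular
import Mathlib

set_option autoImplicit false
universe u
open CAlg
open scoped TensorProduct

namespace Groth.Agent.S9409

/-- Let k be a field written as a directed union of subfields k_i (given as fields mapping to k whose
images form a directed family covering k) and A a Noetherian k-algebra. Geometric regularity of A
over every one of the k_i implies that A is also geometrically regular as a k-algebra. -/
theorem result (k : Type u) [Field k] {ι : Type u}
    (K : ι → Type u) [∀ i, Field (K i)] [∀ i, Algebra (K i) k]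
    (hdir : ∀ i j, ∃ l, Set.range (algebraMap (K i) k) ⊆ Set.range (algebraMap (K l) k) ∧
      Set.range (algebraMap (K j) k) ⊆ Set.range (algebraMap (K l) k))
    (hcov : ∀ x : k, ∃ i, x ∈ Set.range (algebraMap (K i) k))
    (A : Type u) [CommRing A] [Algebra k A] [IsNoetherianRing A] [∀ i, Algebra (K i) A]
    [∀ i, IsScalarTower (K i) k A] (h : ∀ i, CAlg.IsGeometricallyRegular (K i) A) :
    CAlg.IsGeometricallyRegular k A := by
  classical
  intro L _ _ hL
  haveI := hL
  let n := Module.finrank k L
  let b := Module.finBasis k L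
  let consts : Finset k := (Finset.univ.image fun p : (Fin n × Fin n) × Fin n => b.repr (b p.1.1 * b p.1.2) p.2) ∪
    Finset.univ.image fun j : Fin n => b.repr 1 j
  have hbound : ∀ s : Finset k, ∃ i, ∀ x ∈ s, x ∈ Set.range (algebraMap (K i) k) := by
    intro s
    induction s using Finset.induction_on with
    | empty => exact ⟨(hcov 0).choose, by simp⟩
    | insert x s _ ih =>
      obtain ⟨i, hi⟩ := ih
      obtain ⟨j, hj⟩ := hcov x
      obtain ⟨l, hil, hjl⟩ := hdir i j
      refine ⟨l, fun y hy => ?_⟩
      rcases Finset.mem_insert.1 hy with rfl | hy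
      · exact hjl hj
      · exact hil (hi y hy)
  obtain ⟨i, hi⟩ := hbound consts
  letI : Algebra (K i) L := ((algebraMap k L).comp (algebraMap (K i) k)).toAlgebra
  haveI : IsScalarTower (K i) k L := IsScalarTower.of_algebraMap_eq fun _ => rfl
  let S₀ : Submodule (K i) L := Submodule.span (K i) (Set.range b)
  have hmem : ∀ x : L, (∀ j, b.repr x j ∈ Set.range (algebraMap (K i) k)) → x ∈ S₀ := by
    intro x hx
    rw [← b.sum_repr x]
    refine Submodule.sum_mem _ fun j _ => ?_
    obtain ⟨c, hc⟩ := hx j
    rw [← hc, algebraMap_smul]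
    exact S₀.smul_mem c (Submodule.subset_span ⟨j, rfl⟩)
  have hone : (1 : L) ∈ S₀ := hmem _ fun j => hi _ (Finset.mem_union_right _
    (Finset.mem_image.2 ⟨j, Finset.mem_univ _, rfl⟩))
  have hmul : ∀ x y, x ∈ S₀ → y ∈ S₀ → x * y ∈ S₀ := by
    intro x y hx hy
    induction hx using Submodule.span_induction with
    | mem x hx =>
      obtain ⟨p, rfl⟩ := hx
      induction hy using Submodule.span_induction with
      | mem y hy =>
        obtain ⟨q, rfl⟩ := hy
        exact hmem _ fun j => hi _ (Finset.mem_union_left _
          (Finset.mem_image.2 ⟨((p, q), j), Finset.mem_univ _, rfl⟩))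
      | zero => simp
      | add a c _ _ ha hc => rw [mul_add]; exact S₀.add_mem ha hc
      | smul r a _ ha => rw [mul_smul_comm]; exact S₀.smul_mem r ha
    | zero => simp
    | add a c _ _ ha hc => rw [add_mul]; exact S₀.add_mem ha hc
    | smul r a _ ha => rw [smul_mul_assoc]; exact S₀.smul_mem r ha
  let S : Subalgebra (K i) L := S₀.toSubalgebra hone hmul
  have hlin : LinearIndependent (K i) b :=
    b.linearIndependent.restrict_scalars (R := K i) (K := k) (fun r s hrs =>
      (algebraMap (K i) k).injective (by simpa [Algebra.smul_def] using hrs))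
  let bS : Module.Basis (Fin n) (K i) S :=
    (Module.Basis.span hlin).map (LinearEquiv.ofEq _ _ rfl)
  have hbS : ∀ j, ((bS j : S) : L) = b j := fun j => Module.Basis.coe_span_apply hlin j
  haveI : Module.Finite (K i) S := Module.Finite.of_basis bS
  letI : Field S := fieldOfFiniteDimensional (K i) S
  haveI : IsRegularRing (S ⊗[K i] A) := h i S inferInstance
  let ψ : A ⊗[K i] S →ₐ[A] A ⊗[k] L :=
    Algebra.TensorProduct.lift (Algebra.TensorProduct.includeLeft : A →ₐ[A] A ⊗[k] L)
      (((Algebra.TensorProduct.includeRight : L →ₐ[k] A ⊗[k] L).restrictScalars (K i)).comp S.val)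
      fun _ _ => Commute.all _ _
  have hψ : ψ.toLinearMap = ((bS.baseChange A).equiv (b.baseChange A) (Equiv.refl _)).toLinearMap := by
    refine (bS.baseChange A).ext fun j => ?_
    rw [LinearEquiv.coe_coe, Module.Basis.equiv_apply, Module.Basis.baseChange_apply,
      Module.Basis.baseChange_apply, Equiv.refl_apply, ← hbS j]
    exact (Algebra.TensorProduct.lift_tmul _ _ (fun _ _ => Commute.all _ _) _ _).trans (by rw [map_one, one_mul]; rfl)
  have hbij : Function.Bijective ψ := by
    have : ⇑ψ = ⇑((bS.baseChange A).equiv (b.baseChange A) (Equiv.refl _)) := congrArg DFunLike.coe hψ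
    rw [this]
    exact LinearEquiv.bijective _
  exact Groth.Agent.FlatDepth.isRegularRing_of_equiv _ _
    (((Algebra.TensorProduct.comm (K i) S A).toRingEquiv.trans (AlgEquiv.ofBijective ψ hbij).toRingEquiv).trans
      (Algebra.TensorProduct.comm k A L).toRingEquiv) inferInstance

end Groth.Agent.S9409
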