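import Groth.Statements.S9414
import Groth.Agent.S9178
import Mathlib.RingTheory.Jacobson.Ring
import Mathlib.RingTheory.Kaehler.Basic
import Mathlib.FieldTheory.IsAlgClosed.Basic

set_option autoImplicit false
universe u
open CAlg Groth.Agent

namespace Groth.Agent.S9414

open TensorProduct in
/-- For an algebraically closed field k, a finite type k-algebra S and a maximal ideal m of S with
residue field κ = S/m, the κ-vector spaces κ ⊗_S Ω_{S/k} and m/m² have the same dimension. -/
theorem result (k : Type u) [Field k]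
    [IsAlgClosed k] (S : Type u) [CommRing S] [Algebra k S] [Algebra.FiniteType k S]
    (m : Ideal S) [m.IsMaximal] :
    Module.finrank (S ⧸ m) ((S ⧸ m) ⊗[S] Ω[S⁄k]) = Module.finrank (S ⧸ m) m.Cotangent := by
  let : Field (S ⧸ m) := Ideal.Quotient.field m
  have : Algebra.FiniteType k (S ⧸ m) := inferInstance
  have : Module.Finite k (S ⧸ m) := finite_of_finite_type_of_isJacobsonRing _ _
  have hbij : Function.Bijective (algebraMap k (S ⧸ m)) := IsAlgClosed.algebraMap_bijective_of_isIntegral
  have hk : RingHom.ker (algebraMap k (S ⧸ m)) = ⊥ := (RingHom.injective_iff_ker_eq_bot _).1 hbij.1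
  have hex := S9178.result k S (S ⧸ m) hbij.2 (by rw [hk]; exact bot_le)
  have hinj : Function.Injective (KaehlerDifferential.kerCotangentToTensor k S (S ⧸ m)) := by
    rw [injective_iff_map_eq_zero]
    intro x hx
    obtain ⟨y, rfl⟩ := (hex x).1 hx
    obtain ⟨⟨y, hy⟩, rfl⟩ := Ideal.toCotangent_surjective _ y
    have hy0 : y = 0 := by simpa [hk] using hy
    subst hy0
    exact map_zero ((Ideal.mapCotangent _ _ _ _).comp (Ideal.toCotangent _))
  have hsur : Function.Surjective (KaehlerDifferential.kerCotangentToTensor k S (S ⧸ m)) := by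
    intro x
    have hsub : Subsingleton (Ω[(S ⧸ m)⁄k]) := KaehlerDifferential.subsingleton_of_surjective k (S ⧸ m) hbij.2
    exact (KaehlerDifferential.exact_kerCotangentToTensor_mapBaseChange k S (S ⧸ m) Ideal.Quotient.mk_surjective x).1 (Subsingleton.elim _ _)
  have hker : RingHom.ker (algebraMap S (S ⧸ m)) = m := Ideal.mk_ker
  let a : m.Cotangent →ₗ[S] (RingHom.ker (algebraMap S (S ⧸ m))).Cotangent := Ideal.mapCotangent m _ (AlgHom.id S S) hker.ge
  let b : (RingHom.ker (algebraMap S (S ⧸ m))).Cotangent →ₗ[S] m.Cotangent := Ideal.mapCotangent _ m (AlgHom.id S S) hker.le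
  have hab : ∀ x, a (b x) = x := fun x => by
    obtain ⟨x, rfl⟩ := Ideal.toCotangent_surjective _ x
    rfl
  have hba : ∀ x, b (a x) = x := fun x => by
    obtain ⟨x, rfl⟩ := Ideal.toCotangent_surjective _ x
    rfl
  have hf : Function.Bijective ((KaehlerDifferential.kerCotangentToTensor k S (S ⧸ m)).comp a) :=
    ⟨hinj.comp (Function.LeftInverse.injective hba), hsur.comp (Function.RightInverse.surjective hab)⟩
  let f : m.Cotangent →ₗ[S ⧸ m] ((S ⧸ m) ⊗[S] Ω[S⁄k]) :=
    { toFun := (KaehlerDifferential.kerCotangentToTensor k S (S ⧸ m)).comp a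
      map_add' := map_add _
      map_smul' := fun c x => by
        obtain ⟨c, rfl⟩ := Ideal.Quotient.mk_surjective c
        rw [RingHom.id_apply, ← Ideal.Quotient.algebraMap_eq, algebraMap_smul, algebraMap_smul, map_smul] }
  exact (LinearEquiv.ofBijective f hf).finrank_eq.symm

end Groth.Agent.S9414
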