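import Groth.Statements.S9415
import Groth.Agent.S2451
import Mathlib.RingTheory.Smooth.Kaehler
import Mathlib.RingTheory.Smooth.Basic

set_option autoImplicit false
universe u
open CAlg Groth.Agent

namespace Groth.Agent.S9415

/-- Let R be a Noetherian local algebra over a field k whose residue field κ is a finitely generated,
separable (that is, geometrically reduced) field extension of k. Then the map from m/m² (m the
maximal ideal, realised as the kernel of R → κ) to κ ⊗_R Ω_{R/k} sending the class of x to 1 ⊗ dx is
injective. -/
theorem result (k : Type u) [Field k] (R : Type u)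
    [CommRing R] [IsLocalRing R] [IsNoetherianRing R] [Algebra k R]
    [Algebra.EssFiniteType k (IsLocalRing.ResidueField R)]
    [Algebra.IsGeometricallyReduced k (IsLocalRing.ResidueField R)] :
    Function.Injective
      (KaehlerDifferential.kerCotangentToTensor k R (IsLocalRing.ResidueField R)) := by
  let K := IsLocalRing.ResidueField R
  have hf : Function.Surjective (algebraMap R K) := IsLocalRing.residue_surjective
  haveI : Algebra.FormallySmooth k K := S2451.result.mpr inferInstance
  let φ := (IsScalarTower.toAlgHom k R K).kerSquareLift
  have hφ : Function.Surjective φ := fun z => by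
    obtain ⟨x, rfl⟩ := hf z
    exact ⟨Ideal.Quotient.mk _ x, rfl⟩
  have hnil : IsNilpotent (RingHom.ker φ.toRingHom) := ⟨2, by
    erw [AlgHom.ker_kerSquareLift, Ideal.cotangentIdeal_square]; rfl⟩
  obtain ⟨g, hg⟩ : ∃ g, φ.comp g = AlgHom.id k K :=
    ⟨Algebra.FormallySmooth.liftOfSurjective (AlgHom.id k K) φ hφ hnil, Algebra.FormallySmooth.comp_liftOfSurjective _ _ _ _⟩
  obtain ⟨l, hl⟩ := (retractionKerCotangentToTensorEquivSection (R := k) (P := R) (S := K) hf).symm ⟨g, hg⟩
  exact Function.LeftInverse.injective fun x => LinearMap.congr_fun hl x

end Groth.Agent.S9415
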