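import Groth.Statements.S9416
import Mathlib.FieldTheory.IntermediateField.Adjoin.Basic
import Mathlib.RingTheory.IntegralClosure.IntegrallyClosed
import Mathlib.RingTheory.Derivation.Basic
import Mathlib.Algebra.CharP.Algebra
import Mathlib.Algebra.CharP.Lemmas
import Mathlib.FieldTheory.Finite.Basic
import Mathlib.Tactic.LinearCombination
import Mathlib.Tactic.FieldSimp
import Mathlib.Data.Nat.Prime.Factorial

set_option autoImplicit false
universe u
open CAlg

namespace Groth.Agent.S9416

/-- The bound on the coefficients. -/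
theorem exists_bound (R K : Type*) [CommRing R] [IsDomain R] [Field K] [Algebra R K] [IsFractionRing R K]
    (p : ℕ) [Fact p.Prime] [CharP K p] (D : Derivation ℤ K K)
    (hD : ∀ r : R, ∃ s : R, D (algebraMap R K r) = algebraMap R K s) (a : K) (ha : D a ≠ 0) (k : ℕ) :
    ∃ U : R, U ≠ 0 ∧ ∀ c : ℕ → K, (∑ i ∈ Finset.range p, c i ^ p * a ^ i) ∈ (algebraMap R K).range →
      ∀ i < p, p ≤ i + k → c i ^ p * algebraMap R K U ∈ (algebraMap R K).range := by
  have hinj : Function.Injective (algebraMap R K) := IsFractionRing.injective R K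
  obtain ⟨⟨u, v⟩, huv⟩ := IsLocalization.surj (nonZeroDivisors R) (D a)
  obtain ⟨⟨α, β⟩, hab⟩ := IsLocalization.surj (nonZeroDivisors R) a
  simp only at huv hab
  have hv : algebraMap R K v ≠ 0 := IsFractionRing.to_map_ne_zero_of_mem_nonZeroDivisors v.2
  have hu : u ≠ 0 := fun h => by
    rw [h, map_zero] at huv; exact (mul_ne_zero ha hv) huv
  have huK : algebraMap R K u ≠ 0 := fun h => hu (hinj (by rw [h, map_zero]))
  let q : K := algebraMap R K v / algebraMap R K u
  have hEa : q * D a = 1 := by
    simp only [q]; rw [← huv]; field_simp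
  -- stability of the fractions with denominator a power of `u`
  have hstep : ∀ (z : K) (m : ℕ), z * algebraMap R K u ^ m ∈ (algebraMap R K).range →
      q * D z * algebraMap R K u ^ (m + 2) ∈ (algebraMap R K).range := by
    rintro z m ⟨r, hr⟩
    obtain ⟨s, hs⟩ := hD r
    obtain ⟨t, ht⟩ := hD u
    refine ⟨v * (s * u) - (m : R) * v * r * t, ?_⟩
    have hz : D z * algebraMap R K u ^ m + z * ((m : K) * algebraMap R K u ^ (m - 1) * algebraMap R K t) =
        algebraMap R K s := by
      rw [← hs, hr, D.leibniz, D.leibniz_pow, ht, smul_eq_mul, smul_eq_mul, smul_eq_mul, nsmul_eq_mul]; ring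
    simp only [map_sub, map_mul, map_natCast, q]
    rw [← hz, hr]
    rcases m.eq_zero_or_pos with rfl | hm
    · simp; field_simp
    · obtain ⟨m, rfl⟩ : ∃ m', m = m' + 1 := ⟨m - 1, by omega⟩
      rw [Nat.add_sub_cancel]
      field_simp
      ring
  induction k with
  | zero => exact ⟨1, one_ne_zero, fun c _ i hi hk => absurd hk (by omega)⟩
  | succ k ih =>
    obtain ⟨U, hU0, hU⟩ := ih
    by_cases hkp : p ≤ k
    · exact ⟨U, hU0, fun c hc i hi _ => hU c hc i hi (by omega)⟩
    let j := p - (k + 1)
    refine ⟨U * (u ^ (2 * j) * (β : R) ^ p), mul_ne_zero hU0 (mul_ne_zero (pow_ne_zero _ hu)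
      (pow_ne_zero _ (nonZeroDivisors.coe_ne_zero β))), fun c hc i hi hik => ?_⟩
    rcases (show p ≤ i + k ∨ i = j by omega) with h | rfl
    · rw [map_mul, ← mul_assoc]
      exact mul_mem (hU c hc i hi h) ⟨_, rfl⟩
    let F : ℕ → K := fun l => ∑ i ∈ Finset.range p, c i ^ p * ((i.descFactorial l : ℕ) : K) * a ^ (i - l)
    have hFsucc : ∀ l, q * D (F l) = F (l + 1) := fun l => by
      simp only [F, map_sum, Finset.mul_sum]
      refine Finset.sum_congr rfl fun i _ => ?_
      rw [D.leibniz, D.leibniz, D.leibniz_pow (a := c i), D.map_natCast, D.leibniz_pow]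
      simp only [smul_eq_mul, nsmul_eq_mul, CharP.cast_eq_zero, zero_mul, mul_zero, add_zero, zero_add]
      rw [Nat.descFactorial_succ, Nat.cast_mul, Nat.sub_sub]
      linear_combination (c i ^ p * (i.descFactorial l : K) * ((i - l : ℕ) : K) * a ^ (i - (l + 1))) * hEa
    have hF : ∀ l, F l * algebraMap R K u ^ (2 * l) ∈ (algebraMap R K).range := fun l => by
      induction l with
      | zero => simpa [F] using hc
      | succ l ih => rw [← hFsucc, show 2 * (l + 1) = 2 * l + 2 by ring]; exact hstep _ _ ih
    have hkey : c j ^ p * (j.factorial : K) * algebraMap R K (U * (u ^ (2 * j) * (β : R) ^ p)) ∈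
        (algebraMap R K).range := by
      have hsplit : c j ^ p * (j.factorial : K) = F j -
          ∑ i ∈ (Finset.range p).erase j, c i ^ p * ((i.descFactorial j : ℕ) : K) * a ^ (i - j) := by
        simp only [F]
        rw [← Finset.add_sum_erase _ _ (Finset.mem_range.2 hi), Nat.descFactorial_self, Nat.sub_self, pow_zero,
          mul_one, add_sub_cancel_right]
      rw [hsplit, sub_mul, Finset.sum_mul ((Finset.range p).erase j)]
      refine sub_mem ?_ (sum_mem fun i hi' => ?_)
      · rw [show U * (u ^ (2 * j) * (β : R) ^ p) = u ^ (2 * j) * (U * (β : R) ^ p) by ring, map_mul, map_pow, ← mul_assoc]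
        exact mul_mem (hF j) ⟨_, rfl⟩
      · obtain ⟨hij, hi'⟩ := Finset.mem_erase.1 hi'
        rcases lt_or_gt_of_ne hij with h | h
        · rw [Nat.descFactorial_of_lt h]; simp
        · obtain ⟨e, he⟩ : ∃ e, p = (i - j) + e := ⟨p - (i - j), by have := Finset.mem_range.1 hi'; omega⟩
          have hb : a ^ (i - j) * algebraMap R K ((β : R) ^ p) ∈ (algebraMap R K).range := by
            refine ⟨α ^ (i - j) * (β : R) ^ e, ?_⟩
            rw [he, map_pow, map_mul, map_pow, map_pow, ← hab, pow_add, mul_pow]; ring
          rw [map_mul, map_mul, show c i ^ p * ((i.descFactorial j : ℕ) : K) * a ^ (i - j) *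
              (algebraMap R K U * (algebraMap R K (u ^ (2 * j)) * algebraMap R K ((β : R) ^ p))) =
              (c i ^ p * algebraMap R K U) * (((i.descFactorial j : ℕ) : K) * algebraMap R K (u ^ (2 * j))) *
                (a ^ (i - j) * algebraMap R K ((β : R) ^ p)) by ring]
          exact mul_mem (mul_mem (hU c hc i (Finset.mem_range.1 hi') (by omega))
            (mul_mem (natCast_mem _ _) ⟨_, rfl⟩)) hb
    obtain ⟨n, hn⟩ : ∃ n : ℕ, (n : K) * (j.factorial : K) = 1 := ⟨j.factorial ^ (p - 2), by
      have hp : p.Prime := Fact.out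
      have hcop : j.factorial.Coprime p := ((hp.coprime_iff_not_dvd).2 fun h => by
        have := (Nat.Prime.dvd_factorial hp).1 h; omega).symm
      have h2 := Nat.ModEq.pow_totient hcop
      rw [Nat.totient_prime hp] at h2
      rw [← Nat.cast_mul, ← pow_succ, show p - 2 + 1 = p - 1 by have := hp.two_le; omega]
      exact ((CharP.natCast_eq_natCast K p).2 h2).trans Nat.cast_one⟩
    have := mul_mem (natCast_mem (algebraMap R K).range n) hkey
    rwa [← mul_assoc, mul_comm (c j ^ p), ← mul_assoc, hn, one_mul] at this

/-- Suppose R is a normal Noetherian domain whose field of fractions K has prime characteristic p > 0, D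
a derivation of K preserving R, and a ∈ K with D(a) ≠ 0. For a field L generated over K by an
element x with x^p = a, the integral closure of R in L is module-finite over R. -/
theorem result (R : Type u) [CommRing R]
    [IsDomain R] [IsNoetherianRing R] [IsIntegrallyClosed R] (K : Type u) [Field K] [Algebra R K]
    [IsFractionRing R K] (p : ℕ) [Fact p.Prime] [CharP K p] (D : Derivation ℤ K K)
    (hD : ∀ r : R, ∃ s : R, D (algebraMap R K r) = algebraMap R K s) (a : K) (ha : D a ≠ 0)
    (L : Type u) [Field L] [Algebra K L] [Algebra R L] [IsScalarTower R K L] (x : L)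
    (hx : x ^ p = algebraMap K L a) (hgen : IntermediateField.adjoin K {x} = ⊤) :
    Module.Finite R (integralClosure R L) := by
  classical
  haveI : CharP L p := charP_of_injective_algebraMap (algebraMap K L).injective p
  obtain ⟨U, hU0, hU⟩ := exists_bound R K p D hD a ha p
  have hp : p.Prime := Fact.out
  have hinjL : Function.Injective (algebraMap R L) := by
    rw [IsScalarTower.algebraMap_eq R K L]; exact (algebraMap K L).injective.comp (IsFractionRing.injective R K)
  let N : Submodule R L := Submodule.span R (Set.range fun i : Fin p => x ^ (i : ℕ))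
  have key : ∀ y : integralClosure R L, algebraMap R L U * (y : L) ∈ N := by
    rintro ⟨y, hy⟩
    have hint : IsIntegral K x := ⟨Polynomial.X ^ p - Polynomial.C a, Polynomial.monic_X_pow_sub_C a hp.ne_zero, by simp [hx]⟩
    have htop : Algebra.adjoin K {x} = ⊤ := by
      rw [← IntermediateField.adjoin_simple_toSubalgebra_of_isAlgebraic hint.isAlgebraic, hgen,
        IntermediateField.top_toSubalgebra]
    obtain ⟨P, hP⟩ : ∃ P : Polynomial K, Polynomial.aeval x P = y := by
      have := htop ▸ (Algebra.mem_top : y ∈ (⊤ : Subalgebra K L))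
      rwa [Algebra.adjoin_singleton_eq_range_aeval] at this
    have hm : (Polynomial.X ^ p - Polynomial.C a).Monic := Polynomial.monic_X_pow_sub_C a hp.ne_zero
    let Q := P %ₘ (Polynomial.X ^ p - Polynomial.C a)
    have hQ : Polynomial.aeval x Q = y := by
      simp [Q, Polynomial.modByMonic_eq_sub_mul_div, hx, hP]
    have hQdeg : Q.natDegree < p := by
      have := Polynomial.natDegree_modByMonic_lt P hm (fun h => by
        have := congrArg Polynomial.natDegree h
        rw [Polynomial.natDegree_X_pow_sub_C, Polynomial.natDegree_one] at this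
        exact hp.ne_zero this)
      rwa [Polynomial.natDegree_X_pow_sub_C] at this
    rw [Polynomial.aeval_eq_sum_range' hQdeg] at hQ
    have hpow : y ^ p = algebraMap K L (∑ i ∈ Finset.range p, Q.coeff i ^ p * a ^ i) := by
      rw [← hQ, sum_pow_char, map_sum]
      refine Finset.sum_congr rfl fun i _ => ?_
      rw [Algebra.smul_def, mul_pow, ← pow_mul, mul_comm i p, pow_mul, hx, map_mul, map_pow, map_pow]
    have hc : (∑ i ∈ Finset.range p, Q.coeff i ^ p * a ^ i) ∈ (algebraMap R K).range := by
      have hi : IsIntegral R (y ^ p) := IsIntegral.pow hy p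
      rw [hpow] at hi
      replace hi := (isIntegral_algHom_iff (IsScalarTower.toAlgHom R K L) (algebraMap K L).injective).1 hi
      exact IsIntegrallyClosed.algebraMap_eq_of_integral hi
    have hcoef : ∀ i < p, ∃ r, algebraMap R K r = Q.coeff i * algebraMap R K U := fun i hi => by
      refine IsIntegrallyClosed.algebraMap_eq_of_integral (IsIntegral.of_pow hp.pos ?_)
      obtain ⟨r, hr⟩ := mul_mem (hU (fun i => Q.coeff i) hc i hi (by omega))
        (show algebraMap R K U ^ (p - 1) ∈ (algebraMap R K).range from ⟨U ^ (p - 1), map_pow _ _ _⟩)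
      rw [mul_pow, show Q.coeff i ^ p * algebraMap R K U ^ p =
        Q.coeff i ^ p * algebraMap R K U * algebraMap R K U ^ (p - 1) by
          rw [mul_assoc, ← pow_succ', Nat.sub_add_cancel hp.pos], ← hr]
      exact isIntegral_algebraMap
    show algebraMap R L U * y ∈ N
    rw [← hQ, Finset.mul_sum]
    refine Submodule.sum_mem _ fun i hi => ?_
    obtain ⟨r, hr⟩ := hcoef i (Finset.mem_range.1 hi)
    rw [Algebra.smul_def, ← mul_assoc, IsScalarTower.algebraMap_apply R K L, ← map_mul, mul_comm _ (Q.coeff i), ← hr,
      ← IsScalarTower.algebraMap_apply, ← Algebra.smul_def]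
    exact Submodule.smul_mem _ _ (Submodule.subset_span ⟨⟨i, Finset.mem_range.1 hi⟩, rfl⟩)
  let f : integralClosure R L →ₗ[R] N :=
    LinearMap.codRestrict N ((LinearMap.mulLeft R (algebraMap R L U)).comp (integralClosure R L).val.toLinearMap) key
  haveI : Module.Finite R N := Module.Finite.span_of_finite R (Set.finite_range _)
  exact Module.Finite.of_injective f fun s t h =>
    Subtype.ext (mul_left_cancel₀ (fun h0 => hU0 (hinjL (by rw [h0, map_zero]))) (congrArg Subtype.val h))

end Groth.Agent.S9416
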