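import Groth.Statements.S9417
import Groth.Agent.SyntLib.Tensor

set_option autoImplicit false
universe u
open CAlg

open Groth.Agent
namespace Groth.Agent.S9417

open TensorProduct in
/-- Let (A_i) be a directed system of A₀-algebras with colimit A (given by compatible maps A_i → A which
are jointly surjective and whose kernels die in the system), and B₀ → C₀ a homomorphism of
A₀-algebras with C₀ of finite type over B₀. If the base change of B₀ → C₀ along B₀ → B₀ ⊗_{A₀} A is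
finite (module-finite), then already its base change along B₀ → B₀ ⊗_{A₀} A_i is finite for some
index i. -/
theorem result {ι : Type u} [Preorder ι] [IsDirected ι (· ≤ ·)] [Nonempty ι]
    (A₀ : Type u) [CommRing A₀] (G : ι → Type u) [∀ i, CommRing (G i)] [∀ i, Algebra A₀ (G i)]
    (f : ∀ i j, i ≤ j → (G i →ₐ[A₀] G j)) (A : Type u) [CommRing A] [Algebra A₀ A]
    (g : ∀ i, G i →ₐ[A₀] A) (hg : ∀ i j (h : i ≤ j), (g j).comp (f i j h) = g i)
    (hsurj : ∀ a : A, ∃ i, ∃ x : G i, g i x = a)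
    (hker : ∀ i (x : G i), g i x = 0 → ∃ j, ∃ h : i ≤ j, f i j h x = 0)
    (B₀ : Type u) [CommRing B₀] [Algebra A₀ B₀] (C₀ : Type u) [CommRing C₀] [Algebra A₀ C₀]
    [Algebra B₀ C₀] [IsScalarTower A₀ B₀ C₀] [Algebra.FiniteType B₀ C₀]
    (h : Module.Finite (B₀ ⊗[A₀] A) ((B₀ ⊗[A₀] A) ⊗[B₀] C₀)) :
    ∃ i, Module.Finite (B₀ ⊗[A₀] G i) ((B₀ ⊗[A₀] G i) ⊗[B₀] C₀) := by
  classical
  have hs := SyntLib.isStageSystem_baseChange A₀ G f A g hg hsurj hker B₀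
  obtain ⟨i₀⟩ := ‹Nonempty ι›
  obtain ⟨T, hT⟩ := (Algebra.FiniteType.out : (⊤ : Subalgebra B₀ C₀).FG)
  haveI := h
  have hint : ∀ c : C₀, ∃ (d : ℕ) (a : Fin d → B₀ ⊗[A₀] A),
      (1 : B₀ ⊗[A₀] A) ⊗ₜ[B₀] (c ^ d) + ∑ k : Fin d, a k ⊗ₜ[B₀] (c ^ (k : ℕ)) = 0 := fun c => by
    obtain ⟨P, hPm, hP⟩ := Algebra.IsIntegral.isIntegral (R := B₀ ⊗[A₀] A) ((1 : B₀ ⊗[A₀] A) ⊗ₜ[B₀] c)
    refine ⟨P.natDegree, fun k => P.coeff k, ?_⟩
    have h1 : Polynomial.aeval ((1 : B₀ ⊗[A₀] A) ⊗ₜ[B₀] c) P = 0 := hP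
    rw [Polynomial.aeval_eq_sum_range, Finset.sum_range_succ, hPm.coeff_natDegree, one_smul] at h1
    rw [← h1, add_comm, Finset.sum_range]
    simp [Algebra.TensorProduct.tmul_pow, TensorProduct.smul_tmul']
  choose d a ha using hint
  obtain ⟨i, ψ, hψ, hi⟩ := hs.lift i₀ (T.biUnion fun c => Finset.univ.image (a c))
  choose! y hy using hi
  obtain ⟨j, χ, hχ, hj⟩ := hs.killTensors (M := C₀) i
    (T.image fun c => (1 : B₀ ⊗[A₀] G i) ⊗ₜ[B₀] (c ^ d c) + ∑ k : Fin (d c), y (a c k) ⊗ₜ[B₀] (c ^ (k : ℕ))) (fun z hz => by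
      obtain ⟨c, hc, rfl⟩ := Finset.mem_image.1 hz
      rw [map_add, map_sum, LinearMap.rTensor_tmul, AlgHom.toLinearMap_apply, map_one]
      refine Eq.trans ?_ (ha c)
      congr 1
      exact Finset.sum_congr rfl fun k _ => by
        rw [LinearMap.rTensor_tmul, AlgHom.toLinearMap_apply,
          hy _ (Finset.mem_biUnion.2 ⟨c, hc, Finset.mem_image_of_mem _ (Finset.mem_univ k)⟩)])
  refine ⟨j, ?_⟩
  haveI : Algebra.IsIntegral (B₀ ⊗[A₀] G j) ((B₀ ⊗[A₀] G j) ⊗[B₀] C₀) := by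
    refine ⟨fun z => ?_⟩
    let F : C₀ →ₐ[B₀] (B₀ ⊗[A₀] G j) ⊗[B₀] C₀ := Algebra.TensorProduct.includeRight
    let Rg := ((integralClosure (B₀ ⊗[A₀] G j) ((B₀ ⊗[A₀] G j) ⊗[B₀] C₀)).restrictScalars B₀).comap F
    have hle : Algebra.adjoin B₀ (T : Set C₀) ≤ Rg := Algebra.adjoin_le fun c hc => by
      have h0 := hj _ (Finset.mem_image_of_mem _ hc)
      refine ⟨Polynomial.X ^ d c + ∑ k : Fin (d c), Polynomial.C (χ (y (a c k))) * Polynomial.X ^ (k : ℕ),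
        Polynomial.monic_X_pow_add ((Polynomial.degree_sum_fin_lt fun k => χ (y (a c k)))), ?_⟩
      show Polynomial.aeval ((1 : B₀ ⊗[A₀] G j) ⊗ₜ[B₀] c) _ = 0
      simpa [Algebra.TensorProduct.tmul_pow, map_sum, map_add] using h0
    induction z using TensorProduct.induction_on with
    | zero => exact isIntegral_zero
    | add u v hu hv => exact hu.add hv
    | tmul r c =>
      have h1 : IsIntegral (B₀ ⊗[A₀] G j) ((1 : B₀ ⊗[A₀] G j) ⊗ₜ[B₀] c) :=
        hle (hT ▸ Algebra.mem_top : c ∈ Algebra.adjoin B₀ (T : Set C₀))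
      have h2 := h1.smul r
      rwa [TensorProduct.smul_tmul', smul_eq_mul, mul_one] at h2
  exact Algebra.IsIntegral.finite

end Groth.Agent.S9417
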