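import Groth.Statements.S9418
import Groth.Agent.SyntLib.Tensor

set_option autoImplicit false
universe u
open CAlg

open Groth.Agent
namespace Groth.Agent.S9418

open TensorProduct in
/-- Let (A_i) be a directed system of A₀-algebras with colimit A (given by compatible maps A_i → A which
are jointly surjective and whose kernels die in the system), and B₀ → C₀ a homomorphism of
A₀-algebras with C₀ of finite type over B₀. If the base change of B₀ → C₀ along B₀ → B₀ ⊗_{A₀} A is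
surjective, then already its base change along B₀ → B₀ ⊗_{A₀} A_i is surjective for some index i. -/
theorem result {ι : Type u} [Preorder ι] [IsDirected ι (· ≤ ·)] [Nonempty ι]
    (A₀ : Type u) [CommRing A₀] (G : ι → Type u) [∀ i, CommRing (G i)] [∀ i, Algebra A₀ (G i)]
    (f : ∀ i j, i ≤ j → (G i →ₐ[A₀] G j)) (A : Type u) [CommRing A] [Algebra A₀ A]
    (g : ∀ i, G i →ₐ[A₀] A) (hg : ∀ i j (h : i ≤ j), (g j).comp (f i j h) = g i)
    (hsurj : ∀ a : A, ∃ i, ∃ x : G i, g i x = a)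
    (hker : ∀ i (x : G i), g i x = 0 → ∃ j, ∃ h : i ≤ j, f i j h x = 0)
    (B₀ : Type u) [CommRing B₀] [Algebra A₀ B₀] (C₀ : Type u) [CommRing C₀] [Algebra A₀ C₀]
    [Algebra B₀ C₀] [IsScalarTower A₀ B₀ C₀] [Algebra.FiniteType B₀ C₀]
    (h : Function.Surjective (algebraMap (B₀ ⊗[A₀] A) ((B₀ ⊗[A₀] A) ⊗[B₀] C₀))) :
    ∃ i, Function.Surjective (algebraMap (B₀ ⊗[A₀] G i) ((B₀ ⊗[A₀] G i) ⊗[B₀] C₀)) := by
  classical
  have hs := SyntLib.isStageSystem_baseChange A₀ G f A g hg hsurj hker B₀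
  obtain ⟨i₀⟩ := ‹Nonempty ι›
  obtain ⟨T, hT⟩ := (Algebra.FiniteType.out : (⊤ : Subalgebra B₀ C₀).FG)
  choose a ha using fun c : C₀ => h (1 ⊗ₜ c)
  obtain ⟨i, ψ, hψ, hi⟩ := hs.lift i₀ (T.image a)
  choose! y hy using hi
  obtain ⟨j, χ, hχ, hj⟩ := hs.killTensors (M := C₀) i
    (T.image fun c => y (a c) ⊗ₜ (1 : C₀) - 1 ⊗ₜ c) (fun z hz => by
      obtain ⟨c, hc, rfl⟩ := Finset.mem_image.1 hz
      rw [map_sub, LinearMap.rTensor_tmul, LinearMap.rTensor_tmul, AlgHom.toLinearMap_apply, AlgHom.toLinearMap_apply,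
        hy _ (Finset.mem_image_of_mem _ hc), map_one, sub_eq_zero]
      exact ha c)
  refine ⟨j, fun z => ?_⟩
  let F : C₀ →ₐ[B₀] (B₀ ⊗[A₀] G j) ⊗[B₀] C₀ := Algebra.TensorProduct.includeRight
  let Rg := ((Algebra.ofId (B₀ ⊗[A₀] G j) ((B₀ ⊗[A₀] G j) ⊗[B₀] C₀)).range.restrictScalars B₀).comap F
  have hle : Algebra.adjoin B₀ (T : Set C₀) ≤ Rg := Algebra.adjoin_le fun c hc => by
    have h0 := hj _ (Finset.mem_image_of_mem _ hc)
    rw [map_sub, LinearMap.rTensor_tmul, LinearMap.rTensor_tmul, AlgHom.toLinearMap_apply, AlgHom.toLinearMap_apply,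
      map_one, sub_eq_zero] at h0
    exact ⟨χ (y (a c)), h0⟩
  induction z using TensorProduct.induction_on with
  | zero => exact ⟨0, map_zero _⟩
  | add u v hu hv =>
    obtain ⟨p, hp⟩ := hu
    obtain ⟨q, hq⟩ := hv
    exact ⟨p + q, by rw [map_add, hp, hq]⟩
  | tmul r c =>
    obtain ⟨b, hb⟩ := hle (hT ▸ Algebra.mem_top : c ∈ Algebra.adjoin B₀ (T : Set C₀))
    refine ⟨r * b, ?_⟩
    have hb' : algebraMap (B₀ ⊗[A₀] G j) ((B₀ ⊗[A₀] G j) ⊗[B₀] C₀) b = 1 ⊗ₜ c := hb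
    rw [map_mul, hb', Algebra.TensorProduct.algebraMap_apply, Algebra.TensorProduct.tmul_mul_tmul, one_mul]
    simp

end Groth.Agent.S9418
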