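import Groth.Statements.S9419
import Groth.Agent.SyntLib.Tensor

set_option autoImplicit false
universe u
open CAlg

open Groth.Agent
attribute [local instance] Algebra.TensorProduct.rightAlgebra
set_option maxHeartbeats 800000
namespace Groth.Agent.S9419

open TensorProduct in
/-- Let (A_i) be a directed system of A₀-algebras with colimit A (given by compatible maps A_i → A which
are jointly surjective and whose kernels die in the system), and B₀ → C₀ a homomorphism of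
A₀-algebras with C₀ of finite type over B₀. If the base change of B₀ → C₀ along B₀ → B₀ ⊗_{A₀} A is
unramified (formally unramified and of finite type), then already its base change along B₀ → B₀
⊗_{A₀} A_i is unramified for some index i. -/
theorem result {ι : Type u} [Preorder ι] [IsDirected ι (· ≤ ·)] [Nonempty ι]
    (A₀ : Type u) [CommRing A₀] (G : ι → Type u) [∀ i, CommRing (G i)] [∀ i, Algebra A₀ (G i)]
    (f : ∀ i j, i ≤ j → (G i →ₐ[A₀] G j)) (A : Type u) [CommRing A] [Algebra A₀ A]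
    (g : ∀ i, G i →ₐ[A₀] A) (hg : ∀ i j (h : i ≤ j), (g j).comp (f i j h) = g i)
    (hsurj : ∀ a : A, ∃ i, ∃ x : G i, g i x = a)
    (hker : ∀ i (x : G i), g i x = 0 → ∃ j, ∃ h : i ≤ j, f i j h x = 0)
    (B₀ : Type u) [CommRing B₀] [Algebra A₀ B₀] (C₀ : Type u) [CommRing C₀] [Algebra A₀ C₀]
    [Algebra B₀ C₀] [IsScalarTower A₀ B₀ C₀] [Algebra.FiniteType B₀ C₀]
    (h : Algebra.Unramified (B₀ ⊗[A₀] A) ((B₀ ⊗[A₀] A) ⊗[B₀] C₀)) :
    ∃ i, Algebra.Unramified (B₀ ⊗[A₀] G i) ((B₀ ⊗[A₀] G i) ⊗[B₀] C₀) := by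
  classical
  have hs := SyntLib.isStageSystem_baseChange A₀ G f A g hg hsurj hker B₀
  obtain ⟨i₀⟩ := ‹Nonempty ι›
  obtain ⟨T, hT⟩ := (Algebra.FiniteType.out : (⊤ : Subalgebra B₀ C₀).FG)
  haveI := h
  let D₀ := KaehlerDifferential.D B₀ C₀
  have hdie : ∀ c : C₀, (1 : B₀ ⊗[A₀] A) ⊗ₜ[B₀] D₀ c = 0 := fun c =>
    (KaehlerDifferential.tensorKaehlerEquivBase B₀ (B₀ ⊗[A₀] A) C₀ ((B₀ ⊗[A₀] A) ⊗[B₀] C₀)).injective
      (Subsingleton.elim _ _)
  obtain ⟨j, χ, hχ, hj⟩ := hs.killTensors (M := KaehlerDifferential B₀ C₀) i₀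
    (T.image fun c => (1 : B₀ ⊗[A₀] G i₀) ⊗ₜ[B₀] D₀ c) (fun z hz => by
      obtain ⟨c, hc, rfl⟩ := Finset.mem_image.1 hz
      rw [LinearMap.rTensor_tmul, AlgHom.toLinearMap_apply, map_one]
      exact hdie c)
  refine ⟨j, ⟨⟨subsingleton_of_forall_eq 0 fun w => ?_⟩, inferInstance⟩⟩
  let E := KaehlerDifferential.tensorKaehlerEquivBase B₀ (B₀ ⊗[A₀] G j) C₀ ((B₀ ⊗[A₀] G j) ⊗[B₀] C₀)
  let D := KaehlerDifferential.D (B₀ ⊗[A₀] G j) ((B₀ ⊗[A₀] G j) ⊗[B₀] C₀)
  have hgen : ∀ c ∈ T, D ((1 : B₀ ⊗[A₀] G j) ⊗ₜ[B₀] c) = 0 := fun c hc => by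
    have h0 := hj _ (Finset.mem_image_of_mem _ hc)
    rw [LinearMap.rTensor_tmul, AlgHom.toLinearMap_apply, map_one] at h0
    have h1 := congrArg E h0
    rw [map_zero, KaehlerDifferential.tensorKaehlerEquivBase_tmul, one_smul, KaehlerDifferential.map_D] at h1
    exact h1
  have hD : ∀ z, D z = 0 := by
    intro z
    induction z using TensorProduct.induction_on with
    | zero => exact map_zero D
    | add u v hu hv => rw [map_add, hu, hv, add_zero]
    | tmul r c =>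
      rw [show r ⊗ₜ[B₀] c = r • ((1 : B₀ ⊗[A₀] G j) ⊗ₜ[B₀] c) by
        rw [TensorProduct.smul_tmul', smul_eq_mul, mul_one], Derivation.map_smul]
      have hc : c ∈ Algebra.adjoin B₀ (T : Set C₀) := hT ▸ Algebra.mem_top
      suffices D ((1 : B₀ ⊗[A₀] G j) ⊗ₜ[B₀] c) = 0 by rw [this, smul_zero]
      induction hc using Algebra.adjoin_induction with
      | mem x hx => exact hgen x hx
      | algebraMap b =>
        rw [show (1 : B₀ ⊗[A₀] G j) ⊗ₜ[B₀] algebraMap B₀ C₀ b = algebraMap (B₀ ⊗[A₀] G j) _ (algebraMap B₀ (B₀ ⊗[A₀] G j) b) by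
          rw [Algebra.TensorProduct.algebraMap_apply, Algebra.algebraMap_self, RingHom.id_apply,
            Algebra.algebraMap_eq_smul_one, Algebra.algebraMap_eq_smul_one, TensorProduct.tmul_smul, TensorProduct.smul_tmul']]
        exact D.map_algebraMap _
      | add x y _ _ hx hy => rw [TensorProduct.tmul_add, map_add, hx, hy, add_zero]
      | mul x y _ _ hx hy =>
        rw [show (1 : B₀ ⊗[A₀] G j) ⊗ₜ[B₀] (x * y) = (1 ⊗ₜ x) * (1 ⊗ₜ y) by
          rw [Algebra.TensorProduct.tmul_mul_tmul, one_mul], D.leibniz, hx, hy, smul_zero, smul_zero, add_zero]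
  have hw : w ∈ Submodule.span ((B₀ ⊗[A₀] G j) ⊗[B₀] C₀) (Set.range D) := by
    rw [KaehlerDifferential.span_range_derivation]; trivial
  induction hw using Submodule.span_induction with
  | mem x hx => obtain ⟨z, rfl⟩ := hx; exact hD z
  | zero => rfl
  | add x y _ _ hx hy => rw [hx, hy, add_zero]
  | smul r x _ hx => rw [hx, smul_zero]

end Groth.Agent.S9419
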