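import Groth.Statements.S9420
import Groth.Agent.SyntLib.Tensor
import Groth.Agent.S9418

set_option autoImplicit false
universe u
open CAlg

open Groth.Agent
namespace Groth.Agent.S9420

open TensorProduct in
/-- Let (A_i) be a directed system of A₀-algebras with colimit A (given by compatible maps A_i → A which
are jointly surjective and whose kernels die in the system), and B₀ → C₀ a homomorphism of
A₀-algebras with C₀ of finite presentation over B₀. If the base change of B₀ → C₀ along B₀ → B₀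
⊗_{A₀} A is an isomorphism (bijective), then already its base change along B₀ → B₀ ⊗_{A₀} A_i is an
isomorphism for some index i. -/
theorem result {ι : Type u} [Preorder ι] [IsDirected ι (· ≤ ·)] [Nonempty ι]
    (A₀ : Type u) [CommRing A₀] (G : ι → Type u) [∀ i, CommRing (G i)] [∀ i, Algebra A₀ (G i)]
    (f : ∀ i j, i ≤ j → (G i →ₐ[A₀] G j)) (A : Type u) [CommRing A] [Algebra A₀ A]
    (g : ∀ i, G i →ₐ[A₀] A) (hg : ∀ i j (h : i ≤ j), (g j).comp (f i j h) = g i)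
    (hsurj : ∀ a : A, ∃ i, ∃ x : G i, g i x = a)
    (hker : ∀ i (x : G i), g i x = 0 → ∃ j, ∃ h : i ≤ j, f i j h x = 0)
    (B₀ : Type u) [CommRing B₀] [Algebra A₀ B₀] (C₀ : Type u) [CommRing C₀] [Algebra A₀ C₀]
    [Algebra B₀ C₀] [IsScalarTower A₀ B₀ C₀] [Algebra.FinitePresentation B₀ C₀]
    (h : Function.Bijective (algebraMap (B₀ ⊗[A₀] A) ((B₀ ⊗[A₀] A) ⊗[B₀] C₀))) :
    ∃ i, Function.Bijective (algebraMap (B₀ ⊗[A₀] G i) ((B₀ ⊗[A₀] G i) ⊗[B₀] C₀)) := by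
  classical
  have hs := SyntLib.isStageSystem_baseChange A₀ G f A g hg hsurj hker B₀
  obtain ⟨i₀⟩ := ‹Nonempty ι›
  obtain ⟨T, hT⟩ := (Algebra.FiniteType.out : (⊤ : Subalgebra B₀ C₀).FG)
  obtain ⟨i, hi⟩ : ∃ i, Function.Surjective (algebraMap (B₀ ⊗[A₀] G i) ((B₀ ⊗[A₀] G i) ⊗[B₀] C₀)) :=
    S9418.result A₀ G f A g hg hsurj hker B₀ C₀ h.2
  let p := Algebra.ofId (B₀ ⊗[A₀] G i) ((B₀ ⊗[A₀] G i) ⊗[B₀] C₀)
  obtain ⟨S, hS⟩ := Algebra.FinitePresentation.ker_fG_of_surjective (f := p) hi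
  obtain ⟨j, χ, hχ, hj⟩ := hs.kill i S fun x hx => by
    have hx' : algebraMap (B₀ ⊗[A₀] G i) ((B₀ ⊗[A₀] G i) ⊗[B₀] C₀) x = 0 :=
      (hS ▸ Submodule.subset_span hx : x ∈ RingHom.ker p.toRingHom)
    refine h.1 (Eq.trans ?_ (map_zero _).symm)
    have h2 := congrArg ((Algebra.TensorProduct.map (AlgHom.id B₀ B₀) (g i)).toLinearMap.rTensor C₀) hx'
    rw [map_zero, Algebra.TensorProduct.algebraMap_apply, LinearMap.rTensor_tmul] at h2
    exact h2
  have hker' : RingHom.ker p.toRingHom ≤ RingHom.ker χ.toRingHom := by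
    rw [← hS]
    exact Submodule.span_le.2 fun x hx => hj x hx
  let e : ((B₀ ⊗[A₀] G i) ⊗[B₀] C₀) →+* B₀ ⊗[A₀] G j :=
    (RingHom.liftOfSurjective p.toRingHom hi) ⟨χ.toRingHom, hker'⟩
  have he : ∀ x, e (algebraMap (B₀ ⊗[A₀] G i) _ x) = χ x := fun x =>
    RingHom.liftOfRightInverse_comp_apply p.toRingHom _ _ _ x
  let β : C₀ →ₐ[B₀] B₀ ⊗[A₀] G j :=
    { e.comp (Algebra.TensorProduct.includeRight : C₀ →ₐ[B₀] (B₀ ⊗[A₀] G i) ⊗[B₀] C₀).toRingHom with
      commutes' := fun b => by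
        show e (Algebra.TensorProduct.includeRight (R := B₀) (A := B₀ ⊗[A₀] G i) (algebraMap B₀ C₀ b)) = _
        rw [AlgHom.commutes, IsScalarTower.algebraMap_apply B₀ (B₀ ⊗[A₀] G i) ((B₀ ⊗[A₀] G i) ⊗[B₀] C₀), he,
          AlgHom.commutes] }
  let L : (B₀ ⊗[A₀] G j) ⊗[B₀] C₀ →ₐ[B₀ ⊗[A₀] G j] B₀ ⊗[A₀] G j :=
    Algebra.TensorProduct.lift (AlgHom.id _ _) β fun _ _ => Commute.all _ _
  have hβ : ∀ c, algebraMap (B₀ ⊗[A₀] G j) ((B₀ ⊗[A₀] G j) ⊗[B₀] C₀) (β c) = 1 ⊗ₜ c := fun c => by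
    obtain ⟨x, hx⟩ := hi (1 ⊗ₜ c)
    have h1 : β c = χ x := by
      show e (1 ⊗ₜ c) = χ x
      rw [← hx, he]
    rw [h1, Algebra.TensorProduct.algebraMap_apply]
    have h2 := congrArg (χ.toLinearMap.rTensor C₀) hx
    rw [Algebra.TensorProduct.algebraMap_apply, LinearMap.rTensor_tmul, LinearMap.rTensor_tmul,
      AlgHom.toLinearMap_apply, AlgHom.toLinearMap_apply, map_one] at h2
    exact h2
  refine ⟨j, fun x x' hxx => ?_, fun z => ?_⟩
  · have h1 := congrArg L hxx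
    rwa [AlgHom.commutes, AlgHom.commutes] at h1
  induction z using TensorProduct.induction_on with
  | zero => exact ⟨0, map_zero _⟩
  | add u v hu hv =>
    obtain ⟨p, hp⟩ := hu
    obtain ⟨q, hq⟩ := hv
    exact ⟨p + q, by rw [map_add, hp, hq]⟩
  | tmul r c =>
    refine ⟨r * β c, ?_⟩
    rw [map_mul, hβ, Algebra.TensorProduct.algebraMap_apply, Algebra.TensorProduct.tmul_mul_tmul, one_mul]
    simp

end Groth.Agent.S9420
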