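import Groth.Statements.S9421
import Groth.Agent.SyntLib.SmoothColimit

set_option autoImplicit false
universe u
open CAlg Groth.Agent TensorProduct

namespace Groth.Agent.S9421

open TensorProduct in
/-- Let (A_i) be a directed system of A₀-algebras with colimit A (given by compatible maps A_i → A which
are jointly surjective and whose kernels die in the system), and B₀ → C₀ a homomorphism of
A₀-algebras with C₀ of finite presentation over B₀. If the base change of B₀ → C₀ along B₀ → B₀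
⊗_{A₀} A is étale, then already its base change along B₀ → B₀ ⊗_{A₀} A_i is étale for some index i. -/
theorem result {ι : Type u} [Preorder ι] [IsDirected ι (· ≤ ·)] [Nonempty ι]
    (A₀ : Type u) [CommRing A₀] (G : ι → Type u) [∀ i, CommRing (G i)] [∀ i, Algebra A₀ (G i)]
    (f : ∀ i j, i ≤ j → (G i →ₐ[A₀] G j)) (A : Type u) [CommRing A] [Algebra A₀ A]
    (g : ∀ i, G i →ₐ[A₀] A) (hg : ∀ i j (h : i ≤ j), (g j).comp (f i j h) = g i)
    (hsurj : ∀ a : A, ∃ i, ∃ x : G i, g i x = a)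
    (hker : ∀ i (x : G i), g i x = 0 → ∃ j, ∃ h : i ≤ j, f i j h x = 0)
    (B₀ : Type u) [CommRing B₀] [Algebra A₀ B₀] (C₀ : Type u) [CommRing C₀] [Algebra A₀ C₀]
    [Algebra B₀ C₀] [IsScalarTower A₀ B₀ C₀] [Algebra.FinitePresentation B₀ C₀]
    (h : Algebra.Etale (B₀ ⊗[A₀] A) ((B₀ ⊗[A₀] A) ⊗[B₀] C₀)) :
    ∃ i, Algebra.Etale (B₀ ⊗[A₀] G i) ((B₀ ⊗[A₀] G i) ⊗[B₀] C₀) := by
  classical
  have hR : ∀ (R : Type u) [CommRing R] [Algebra B₀ R] (n : ℕ) (φ : MvPolynomial (Fin n) B₀ →ₐ[B₀] C₀) (r : ℕ)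
      (G₀ : Fin r → MvPolynomial (Fin n) B₀), Function.Surjective φ → RingHom.ker φ.toRingHom = Ideal.span (Set.range G₀) →
      Nonempty ((MvPolynomial (Fin n) R ⧸ Ideal.span (Set.range fun t => MvPolynomial.map (algebraMap B₀ R) (G₀ t))) ≃ₐ[R]
        (R ⊗[B₀] C₀)) := by
    intro R _ _ n φ r G₀ hφ hk
    have hψ : Function.Surjective (SyntLib.fibrePresOf R φ) := SyntLib.fibrePresOf_surjective R φ hφ
    have hker : RingHom.ker (SyntLib.fibrePresOf R φ).toRingHom =
        Ideal.span (Set.range fun t => MvPolynomial.map (algebraMap B₀ R) (G₀ t)) := by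
      rw [SyntLib.ker_fibrePresOf R φ hφ, hk, Ideal.map_span, ← Set.range_comp]
      rfl
    exact ⟨(Ideal.quotientEquivAlgOfEq R hker.symm).trans (Ideal.quotientKerAlgEquivOfSurjective hψ)⟩
  let π : ∀ i, B₀ ⊗[A₀] G i →ₐ[B₀] B₀ ⊗[A₀] A := fun i => Algebra.TensorProduct.map (AlgHom.id B₀ B₀) (g i)
  have hg' : ∀ i j (hij : i ≤ j) x, g j (f i j hij x) = g i x := fun i j hij x => AlgHom.congr_fun (hg i j hij) x
  have liftA : ∀ (s : Finset A) (i : ι), ∃ j, i ≤ j ∧ ∀ a ∈ s, ∃ y, g j y = a := by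
    intro s
    induction s using Finset.induction_on with
    | empty => exact fun i => ⟨i, le_rfl, by simp⟩
    | @insert a s _ ih =>
      intro i
      obtain ⟨j, hij, hj⟩ := ih i
      obtain ⟨l, x, hx⟩ := hsurj a
      obtain ⟨k, hjk, hlk⟩ := directed_of (· ≤ ·) j l
      refine ⟨k, hij.trans hjk, fun a' ha' => ?_⟩
      rcases Finset.mem_insert.1 ha' with rfl | ha'
      · exact ⟨f l k hlk x, (hg' l k hlk x).trans hx⟩
      · obtain ⟨y, hy⟩ := hj a' ha'
        exact ⟨f j k hjk y, (hg' j k hjk y).trans hy⟩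
  have killA : ∀ (m : ℕ) (i : ι) (x : Fin m → G i), (∀ t, g i (x t) = 0) →
      ∃ (j : ι) (χ : G i →ₐ[A₀] G j), (g j).comp χ = g i ∧ ∀ t, χ (x t) = 0 := by
    intro m
    induction m with
    | zero => exact fun i _ _ => ⟨i, AlgHom.id A₀ (G i), AlgHom.comp_id _, fun t => t.elim0⟩
    | succ m ih =>
      intro i x hx
      obtain ⟨j, χ, hχ, hj⟩ := ih i (fun t => x t.castSucc) fun t => hx _
      obtain ⟨k, hjk, hk⟩ := hker j (χ (x (Fin.last m))) (by
        rw [← AlgHom.comp_apply, hχ]; exact hx _)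
      refine ⟨k, (f j k hjk).comp χ, by rw [← AlgHom.comp_assoc, hg, hχ], fun t => ?_⟩
      induction t using Fin.lastCases with
      | last => exact hk
      | cast t => rw [AlgHom.comp_apply, hj, map_zero]
  have kill1 : ∀ (i : ι) (t : B₀ ⊗[A₀] G i), π i t = 0 → ∃ (j : ι) (χ : G i →ₐ[A₀] G j), (g j).comp χ = g i ∧
      Algebra.TensorProduct.map (AlgHom.id B₀ B₀) χ t = 0 := by
    intro i t ht
    obtain ⟨S, rfl⟩ := TensorProduct.exists_finset t
    let ev : (A →₀ A₀) →ₗ[A₀] A := Finsupp.linearCombination A₀ id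
    have hev : Function.Surjective ev := fun a => ⟨Finsupp.single a 1, by simp [ev]⟩
    have hexact : Function.Exact (LinearMap.ker ev).subtype ev := LinearMap.exact_subtype_ker_map ev
    have hex := lTensor_exact (R := A₀) (M := (LinearMap.ker ev : Submodule A₀ (A →₀ A₀))) (N := A →₀ A₀) (P := A) (f := (LinearMap.ker ev).subtype) (g := ev) B₀ hexact hev
    let T : B₀ ⊗[A₀] (A →₀ A₀) := ∑ p ∈ S, p.1 ⊗ₜ Finsupp.single (g i p.2) 1
    have hT : ev.lTensor B₀ T = 0 := by
      rw [← ht]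
      simp [T, π, ev, map_sum]
    obtain ⟨u, hu⟩ := (hex T).1 hT
    obtain ⟨U, rfl⟩ := TensorProduct.exists_finset u
    obtain ⟨j, hij, hj⟩ := liftA (S.image (fun p => g i p.2) ∪ U.biUnion fun p => p.2.1.support) i
    let σ : A → G j := fun a => if ha : ∃ y, g j y = a then ha.choose else 0
    have hσ : ∀ a, (∃ y, g j y = a) → g j (σ a) = a := fun a ha => by
      simp only [σ, dif_pos ha]
      exact ha.choose_spec
    let Φ : (A →₀ A₀) →ₗ[A₀] G j := Finsupp.linearCombination A₀ σ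
    let e₁ := S.equivFin.symm
    let e₂ := U.equivFin.symm
    obtain ⟨k, χ, hχ, hk⟩ := killA (S.card + U.card) j
      (Fin.append (fun t => f i j hij (e₁ t).1.2 - σ (g i (e₁ t).1.2)) fun t => Φ (e₂ t).1.2.1) (fun t => by
        refine Fin.addCases (fun t => ?_) (fun t => ?_) t
        · rw [Fin.append_left, map_sub, hg', hσ _ (hj _ (Finset.mem_union_left _ (Finset.mem_image_of_mem _ (e₁ t).2))),
            sub_self]
        · rw [Fin.append_right]
          have h0 : ev (e₂ t).1.2.1 = 0 := (e₂ t).1.2.2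
          rw [← h0]
          simp only [Φ, ev, Finsupp.linearCombination_apply, Finsupp.sum, map_sum, map_smul]
          refine Finset.sum_congr rfl fun a ha => ?_
          rw [hσ a (hj a (Finset.mem_union_right _ (Finset.mem_biUnion.2 ⟨_, (e₂ t).2, ha⟩)))]
          rfl)
    refine ⟨k, χ.comp (f i j hij), by rw [← AlgHom.comp_assoc, hχ, hg], ?_⟩
    have h1 : Algebra.TensorProduct.map (AlgHom.id B₀ B₀) (χ.comp (f i j hij)) (∑ p ∈ S, p.1 ⊗ₜ[A₀] p.2) =
        (χ.toLinearMap ∘ₗ Φ).lTensor B₀ T := by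
      simp only [T, map_sum, Algebra.TensorProduct.map_tmul, LinearMap.lTensor_tmul, AlgHom.coe_id, id_eq]
      refine Finset.sum_congr rfl fun p hp => congrArg (p.1 ⊗ₜ[A₀] ·) ?_
      have := hk (Fin.castAdd _ (S.equivFin ⟨p, hp⟩))
      rw [Fin.append_left, map_sub, sub_eq_zero] at this
      simpa [Φ, e₁] using this
    rw [h1, ← hu]
    simp only [map_sum, LinearMap.lTensor_tmul]
    refine Finset.sum_eq_zero fun p hp => ?_
    have := hk (Fin.natAdd _ (U.equivFin ⟨p, hp⟩))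
    rw [Fin.append_right] at this
    simp only [e₂, Equiv.symm_apply_apply] at this
    simp [this]
  have hs : SyntLib.IsStageSystem (fun i => B₀ ⊗[A₀] G i) π := by
    constructor
    · intro i s
      have hx : ∀ (x : B₀ ⊗[A₀] A), ∃ s : Finset A, ∀ j, (∀ a ∈ s, ∃ y, g j y = a) → ∃ y, π j y = x := fun x => by
        obtain ⟨S, rfl⟩ := TensorProduct.exists_finset x
        refine ⟨S.image Prod.snd, fun j hj => ?_⟩
        choose! y hy using hj
        refine ⟨∑ p ∈ S, p.1 ⊗ₜ y p.2, ?_⟩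
        simp only [π, map_sum, Algebra.TensorProduct.map_tmul, AlgHom.coe_id, id_eq]
        exact Finset.sum_congr rfl fun p hp => by rw [hy _ (Finset.mem_image_of_mem _ hp)]
      choose sx hsx using hx
      obtain ⟨j, hij, hj⟩ := liftA (s.biUnion sx) i
      refine ⟨j, Algebra.TensorProduct.map (AlgHom.id B₀ B₀) (f i j hij), ?_, fun x hx' =>
        hsx x j fun a ha => hj a (Finset.mem_biUnion.2 ⟨x, hx', ha⟩)⟩
      rw [← Algebra.TensorProduct.map_comp, AlgHom.id_comp, hg]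
    · intro i s
      have key : ∀ (s : Finset (B₀ ⊗[A₀] G i)), (∀ x ∈ s, π i x = 0) → ∃ (j : ι) (χ : G i →ₐ[A₀] G j),
          (g j).comp χ = g i ∧ ∀ x ∈ s, Algebra.TensorProduct.map (AlgHom.id B₀ B₀) χ x = 0 := by
        intro s
        induction s using Finset.induction_on with
        | empty => exact fun _ => ⟨i, AlgHom.id A₀ (G i), AlgHom.comp_id _, by simp⟩
        | @insert x s _ ih =>
          intro hz
          obtain ⟨j, χ, hχ, hj⟩ := ih fun y hy => hz y (Finset.mem_insert_of_mem hy)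
          obtain ⟨k, η, hη, hk⟩ := kill1 j (Algebra.TensorProduct.map (AlgHom.id B₀ B₀) χ x) (by
            rw [← AlgHom.comp_apply]
            simp only [π]
            rw [← Algebra.TensorProduct.map_comp, AlgHom.id_comp, hχ]
            exact hz x (Finset.mem_insert_self _ _))
          refine ⟨k, η.comp χ, by rw [← AlgHom.comp_assoc, hη, hχ], fun y hy => ?_⟩
          rw [show AlgHom.id B₀ B₀ = (AlgHom.id B₀ B₀).comp (AlgHom.id B₀ B₀) from rfl,
            Algebra.TensorProduct.map_comp, AlgHom.comp_apply]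
          rcases Finset.mem_insert.1 hy with rfl | hy
          · exact hk
          · rw [hj y hy, map_zero]
      intro hz
      obtain ⟨j, χ, hχ, hj⟩ := key s hz
      refine ⟨j, Algebra.TensorProduct.map (AlgHom.id B₀ B₀) χ, ?_, hj⟩
      simp only [π]
      rw [← Algebra.TensorProduct.map_comp, AlgHom.id_comp, hχ]
  obtain ⟨n, φ, hφ, hfg⟩ := Algebra.FinitePresentation.out (R := B₀) (A := C₀)
  obtain ⟨r, G₀, hG₀⟩ := Submodule.fg_iff_exists_fin_generating_family.1 hfg
  obtain ⟨e'⟩ := hR (B₀ ⊗[A₀] A) n φ r G₀ hφ hG₀.symm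
  obtain ⟨i₀⟩ := ‹Nonempty ι›
  haveI := h.1
  obtain ⟨j, ψ, hψ, hj⟩ := hs.exists_formallySmooth G₀ i₀ (Algebra.FormallySmooth.of_equiv e'.symm)
  obtain ⟨k, χ, hχ, hk⟩ := hs.exists_formallyUnramified G₀ j (Algebra.FormallyUnramified.of_equiv e'.symm)
  obtain ⟨ek⟩ := hR (B₀ ⊗[A₀] G k) n φ r G₀ hφ hG₀.symm
  haveI := hj k χ hχ
  haveI := hk
  haveI := Algebra.FormallySmooth.of_equiv ek
  haveI := Algebra.FormallyUnramified.of_equiv ek
  haveI : Algebra.FormallyEtale (B₀ ⊗[A₀] G k) ((B₀ ⊗[A₀] G k) ⊗[B₀] C₀) := .of_formallyUnramified_and_formallySmooth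
  exact ⟨k, ⟨inferInstance, inferInstance⟩⟩

end Groth.Agent.S9421
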