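import Groth.Statements.S9425
import Mathlib.RingTheory.Etale.Basic

set_option autoImplicit false
universe u
open CAlg

namespace Groth.Agent.S9425

/-- A directed colimit of formally étale R-algebras is formally étale over R. The colimit is encoded by
compatible R-algebra maps S_i → S which are jointly surjective and whose kernels die further along
the system. -/
theorem result {ι : Type u} [Preorder ι] [IsDirected ι (· ≤ ·)] [Nonempty ι]
    (R : Type u) [CommRing R] (G : ι → Type u) [∀ i, CommRing (G i)] [∀ i, Algebra R (G i)]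
    (f : ∀ i j, i ≤ j → (G i →ₐ[R] G j)) (S : Type u) [CommRing S] [Algebra R S]
    (g : ∀ i, G i →ₐ[R] S) (hg : ∀ i j (h : i ≤ j), (g j).comp (f i j h) = g i)
    (hsurj : ∀ s : S, ∃ i, ∃ x : G i, g i x = s)
    (hker : ∀ i (x : G i), g i x = 0 → ∃ j, ∃ h : i ≤ j, f i j h x = 0)
    (h : ∀ i, Algebra.FormallyEtale R (G i)) : Algebra.FormallyEtale R S := by
  classical
  refine Algebra.FormallyEtale.iff_comp_bijective.mpr fun B _ _ I hI => ⟨?_, ?_⟩
  · intro β₁ β₂ hβ
    refine AlgHom.ext fun s => ?_
    obtain ⟨i, x, rfl⟩ := hsurj s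
    have hbij := (Algebra.FormallyEtale.iff_comp_bijective.mp (h i)) I hI
    have : β₁.comp (g i) = β₂.comp (g i) := hbij.1 (by
      show (Ideal.Quotient.mkₐ R I).comp (β₁.comp (g i)) = (Ideal.Quotient.mkₐ R I).comp (β₂.comp (g i))
      rw [← AlgHom.comp_assoc, ← AlgHom.comp_assoc]
      exact congrArg (fun φ : S →ₐ[R] B ⧸ I => φ.comp (g i)) hβ)
    exact AlgHom.congr_fun this x
  · intro α
    choose β hβ using fun i => ((Algebra.FormallyEtale.iff_comp_bijective.mp (h i)) I hI).2 (α.comp (g i))
    have hcompat : ∀ i j (hij : i ≤ j), (β j).comp (f i j hij) = β i := fun i j hij =>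
      ((Algebra.FormallyEtale.iff_comp_bijective.mp (h i)) I hI).1 (by
        show (Ideal.Quotient.mkₐ R I).comp ((β j).comp (f i j hij)) = (Ideal.Quotient.mkₐ R I).comp (β i)
        have h1 : (Ideal.Quotient.mkₐ R I).comp (β j) = α.comp (g j) := hβ j
        have h2 : (Ideal.Quotient.mkₐ R I).comp (β i) = α.comp (g i) := hβ i
        rw [← AlgHom.comp_assoc, h1, h2, AlgHom.comp_assoc, hg])
    have hwd : ∀ i j (x : G i) (y : G j), g i x = g j y → β i x = β j y := by
      intro i j x y hxy
      obtain ⟨k, hik, hjk⟩ := exists_ge_ge i j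
      have h0 : g k (f i k hik x - f j k hjk y) = 0 := by
        rw [map_sub, ← AlgHom.comp_apply, hg, ← AlgHom.comp_apply, hg, hxy, sub_self]
      obtain ⟨l, hkl, hl⟩ := hker k _ h0
      have h1 : β k (f i k hik x - f j k hjk y) = 0 := by
        rw [← hcompat k l hkl, AlgHom.comp_apply, hl, map_zero]
      rw [map_sub, sub_eq_zero, ← AlgHom.comp_apply, hcompat, ← AlgHom.comp_apply, hcompat] at h1
      exact h1
    choose i x hix using hsurj
    have hval : ∀ (j : ι) (y : G j), β (i (g j y)) (x (g j y)) = β j y := fun j y => hwd _ _ _ _ (hix _)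
    let βS : S →ₐ[R] B :=
      { toFun := fun s => β (i s) (x s)
        map_one' := by
          obtain ⟨j⟩ := ‹Nonempty ι›
          rw [← map_one (g j), hval, map_one]
        map_mul' := fun a b => by
          obtain ⟨k, hak, hbk⟩ := exists_ge_ge (i a) (i b)
          have : a * b = g k (f _ k hak (x a) * f _ k hbk (x b)) := by
            rw [map_mul, ← AlgHom.comp_apply, hg, ← AlgHom.comp_apply, hg, hix, hix]
          rw [hwd _ k (x (a * b)) (f _ k hak (x a) * f _ k hbk (x b)) ((hix _).trans this), map_mul,
            ← AlgHom.comp_apply, hcompat, ← AlgHom.comp_apply, hcompat]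
        map_zero' := by
          obtain ⟨j⟩ := ‹Nonempty ι›
          rw [← map_zero (g j), hval, map_zero]
        map_add' := fun a b => by
          obtain ⟨k, hak, hbk⟩ := exists_ge_ge (i a) (i b)
          have : a + b = g k (f _ k hak (x a) + f _ k hbk (x b)) := by
            rw [map_add, ← AlgHom.comp_apply, hg, ← AlgHom.comp_apply, hg, hix, hix]
          rw [hwd _ k (x (a + b)) (f _ k hak (x a) + f _ k hbk (x b)) ((hix _).trans this), map_add,
            ← AlgHom.comp_apply, hcompat, ← AlgHom.comp_apply, hcompat]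
        commutes' := fun r => by
          obtain ⟨j⟩ := ‹Nonempty ι›
          show β (i (algebraMap R S r)) (x (algebraMap R S r)) = algebraMap R B r
          rw [← (g j).commutes r, hval, AlgHom.commutes] }
    refine ⟨βS, AlgHom.ext fun s => ?_⟩
    show Ideal.Quotient.mk I (β (i s) (x s)) = α s
    conv_rhs => rw [← hix s]
    exact AlgHom.congr_fun (hβ (i s)) (x s)

end Groth.Agent.S9425
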