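import Groth.Statements.S9428
import Mathlib.RingTheory.Etale.Basic
import Mathlib.RingTheory.Ideal.Quotient.Operations

set_option autoImplicit false
universe u
open CAlg

namespace Groth.Agent.S9428

/-- If R → S is formally étale and J ⊆ S is an ideal with R → S/J surjective, I ⊆ R its kernel (the
preimage of J), then R/I^n → S/J^n is bijective for all n. (The published statement adds that the
associated graded rings are then isomorphic, which follows from these bijections.) -/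
theorem result (R : Type u) [CommRing R] (S : Type u)
    [CommRing S] [Algebra R S] [Algebra.FormallyEtale R S] (J : Ideal S)
    (hJ : Function.Surjective (algebraMap R (S ⧸ J))) (n : ℕ) :
    Function.Bijective (Ideal.quotientMap (J ^ n) (algebraMap R S)
      (le_of_le_of_eq (Ideal.le_comap_pow (algebraMap R S) n) rfl :
        (J.comap (algebraMap R S)) ^ n ≤ (J ^ n).comap (algebraMap R S))) := by
  set I := J.comap (algebraMap R S) with hI
  set Φ := Ideal.quotientMap (J ^ n) (algebraMap R S) (le_of_le_of_eq (Ideal.le_comap_pow (algebraMap R S) n) rfl : I ^ n ≤ (J ^ n).comap (algebraMap R S))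
  rcases Nat.eq_zero_or_pos n with rfl | hn
  · have h1 : Subsingleton (R ⧸ I ^ 0) := Ideal.Quotient.subsingleton_iff.2 (by simp)
    have h2 : Subsingleton (S ⧸ J ^ 0) := Ideal.Quotient.subsingleton_iff.2 (by simp)
    exact ⟨fun a b _ => Subsingleton.elim _ _, fun b => ⟨0, Subsingleton.elim _ _⟩⟩
  let K : Ideal (R ⧸ I ^ n) := I.map (Ideal.Quotient.mk (I ^ n))
  have hKn : K ^ n = ⊥ := by rw [← Ideal.map_pow, Ideal.map_quotient_self]
  let π : (R ⧸ I ^ n) →ₐ[R] S ⧸ J :=
    { Ideal.Quotient.lift (I ^ n) (algebraMap R (S ⧸ J)) (fun a ha => by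
        rw [IsScalarTower.algebraMap_apply R S (S ⧸ J), Ideal.Quotient.algebraMap_eq, Ideal.Quotient.eq_zero_iff_mem]
        exact (Ideal.pow_le_self (I := I) (Nat.pos_iff_ne_zero.1 hn) ha : a ∈ I)) with
      commutes' := fun r => rfl }
  have hπ : Function.Surjective π := fun y => by
    obtain ⟨r, rfl⟩ := hJ y
    exact ⟨Ideal.Quotient.mk _ r, rfl⟩
  have hkerπ : RingHom.ker π = K := by
    ext x
    obtain ⟨r, rfl⟩ := Ideal.Quotient.mk_surjective x
    show algebraMap R (S ⧸ J) r = 0 ↔ _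
    rw [IsScalarTower.algebraMap_apply R S (S ⧸ J), Ideal.Quotient.algebraMap_eq, Ideal.Quotient.eq_zero_iff_mem,
      Ideal.mem_quotient_iff_mem (Ideal.pow_le_self (Nat.pos_iff_ne_zero.1 hn))]
    rfl
  obtain ⟨g, hg⟩ : ∃ g : S →ₐ[R] R ⧸ I ^ n, π.comp g = Ideal.Quotient.mkₐ R J := by
    have hnil : IsNilpotent (RingHom.ker (π : (R ⧸ I ^ n) →+* S ⧸ J)) := ⟨n, by rw [show RingHom.ker (π : (R ⧸ I ^ n) →+* S ⧸ J) = K from hkerπ, hKn, Ideal.zero_eq_bot]⟩
    exact ⟨Algebra.FormallySmooth.liftOfSurjective (Ideal.Quotient.mkₐ R J) π hπ hnil, Algebra.FormallySmooth.comp_liftOfSurjective _ _ hπ hnil⟩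
  have hgJ : ∀ x ∈ J, g x ∈ K := fun x hx => hkerπ ▸ (RingHom.mem_ker.2 ((AlgHom.congr_fun hg x).trans (Ideal.Quotient.eq_zero_iff_mem.2 hx)))
  have hgn : J ^ n ≤ RingHom.ker g := by
    intro x hx
    have h1 : g x ∈ K ^ n := by
      have h2 : J.map g.toRingHom ≤ K := Ideal.map_le_iff_le_comap.2 hgJ
      have h3 := Ideal.mem_map_of_mem g.toRingHom hx
      rw [Ideal.map_pow] at h3
      exact Ideal.pow_right_mono h2 n h3
    rwa [hKn, Ideal.mem_bot] at h1
  let g' : (S ⧸ J ^ n) →ₐ[R] R ⧸ I ^ n := Ideal.Quotient.liftₐ (J ^ n) g (fun a ha => hgn ha)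
  refine Function.bijective_iff_has_inverse.2 ⟨g', fun x => ?_, fun y => ?_⟩
  · obtain ⟨r, rfl⟩ := Ideal.Quotient.mk_surjective x
    exact g.commutes r
  · obtain ⟨s, rfl⟩ := Ideal.Quotient.mk_surjective y
    let Φₐ : (R ⧸ I ^ n) →ₐ[R] S ⧸ J ^ n := { Φ with commutes' := fun r => rfl }
    have hL : IsNilpotent (J.map (Ideal.Quotient.mk (J ^ n))) := ⟨n, by rw [← Ideal.map_pow, Ideal.map_quotient_self, Ideal.zero_eq_bot]⟩
    refine AlgHom.congr_fun (Algebra.FormallyUnramified.lift_unique _ hL (Φₐ.comp g) (Ideal.Quotient.mkₐ R (J ^ n)) (AlgHom.ext fun s => ?_)) s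
    obtain ⟨r, hr⟩ := Ideal.Quotient.mk_surjective (g s)
    have h1 := AlgHom.congr_fun hg s
    rw [AlgHom.comp_apply, ← hr] at h1
    have h2 : algebraMap R S r - s ∈ J := Ideal.Quotient.eq.1 ((IsScalarTower.algebraMap_apply R S (S ⧸ J) r).symm.trans h1)
    show Ideal.Quotient.mk _ (Φ (g s)) = Ideal.Quotient.mk _ (Ideal.Quotient.mk (J ^ n) s)
    rw [← hr, Ideal.Quotient.eq]
    show Ideal.Quotient.mk (J ^ n) (algebraMap R S r) - Ideal.Quotient.mk (J ^ n) s ∈ _
    rw [← map_sub]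
    exact Ideal.mem_map_of_mem _ h2

end Groth.Agent.S9428
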