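import Groth.Statements.S9431
import Groth.Agent.SmoothModel.Basic
import Groth.Agent.RegLocus.J0

set_option autoImplicit false
universe u
open CAlg Groth.Agent

namespace Groth.Agent.S9431

theorem exists_model (F : Type u) [CommRing F] [IsNoetherianRing F] (K : Type u) [Field K]
    [Algebra F K] (s : Finset K) (hs : ∀ x : K, ∃ a ∈ Algebra.adjoin F (s : Set K),
      ∃ b ∈ Algebra.adjoin F (s : Set K), x = a / b) [Algebra.FormallySmooth F K] :
    ∃ A : Subalgebra F K, (s : Set K) ⊆ A ∧ Algebra.Smooth F A := by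
  set A₀ := Algebra.adjoin F (s : Set K)
  have : Algebra.FiniteType F A₀ := A₀.fg_iff_finiteType.1 (Subalgebra.fg_adjoin_finset s)
  have : Algebra.FinitePresentation F A₀ := Algebra.FinitePresentation.of_finiteType.1 inferInstance
  have : IsFractionRing A₀ K := IsFractionRing.of_field A₀ K fun x => by
    obtain ⟨a, ha, b, hb, hx⟩ := hs x
    exact ⟨⟨a, ha⟩, ⟨b, hb⟩, hx⟩
  have hP : (⊥ : Ideal A₀).IsPrime := Ideal.isPrime_bot
  have : IsLocalization.AtPrime K (⊥ : Ideal A₀) := by
    have hM : (⊥ : Ideal A₀).primeCompl = nonZeroDivisors A₀ := by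
      ext x
      simp [Ideal.primeCompl, mem_nonZeroDivisors_iff_ne_zero]
    show IsLocalization (⊥ : Ideal A₀).primeCompl K
    rw [hM]
    infer_instance
  have : Algebra.IsSmoothAt F (⊥ : Ideal A₀) :=
    Algebra.FormallySmooth.of_equiv
      ((IsLocalization.algEquiv (⊥ : Ideal A₀).primeCompl K
        (Localization.AtPrime (⊥ : Ideal A₀))).restrictScalars F)
  obtain ⟨f, hf, hsm⟩ := Algebra.IsSmoothAt.exists_notMem_smooth F (⊥ : Ideal A₀)
  have hf0 : (f : K) ≠ 0 := fun h => hf (Ideal.mem_bot.2 (Subtype.ext h))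
  let g : Localization.Away f →ₐ[F] K :=
    IsLocalization.Away.liftAlgHom (f := A₀.val) f (isUnit_iff_ne_zero.2 hf0)
  have hg : ∀ a : A₀, g (algebraMap A₀ _ a) = a := fun a =>
    IsLocalization.Away.lift_eq (g := (A₀.val : A₀ →+* K)) f (isUnit_iff_ne_zero.2 hf0) a
  have hginj : Function.Injective g := by
    rw [injective_iff_map_eq_zero]
    intro x hx
    obtain ⟨n, a, ha⟩ := IsLocalization.Away.surj f x
    have h := congrArg g ha
    rw [map_mul, hx, zero_mul, hg] at h
    have ha0 : a = 0 := Subtype.ext h.symm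
    rw [ha0, map_zero] at ha
    exact ((IsLocalization.Away.algebraMap_isUnit f).pow n).mul_left_eq_zero.1 ha
  have hle : A₀ ≤ g.range := fun x hx => ⟨_, hg ⟨x, hx⟩⟩
  let e : Localization.Away f ≃ₐ[F] g.range := AlgEquiv.ofInjective g hginj
  exact ⟨g.range, fun x hx => hle (Algebra.subset_adjoin hx), Algebra.Smooth.of_equiv e⟩


/-- For a separable (geometrically reduced) field extension K/k, every finite subset of K lies in a
k-subalgebra of K which is smooth over k; in particular K is a filtered colimit of smooth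
k-algebras. -/
theorem result (k : Type u) [Field k]
    (K : Type u) [Field K] [Algebra k K] [Algebra.IsGeometricallyReduced k K] (E : Finset K) :
    ∃ A : Subalgebra k K, (↑E : Set K) ⊆ (A : Set K) ∧ Algebra.Smooth k A := by
  classical
  let L := IntermediateField.adjoin k (E : Set K)
  haveI : Algebra.EssFiniteType k L :=
    IntermediateField.essFiniteType_iff.2 (IntermediateField.fg_adjoin_finset E)
  haveI : Algebra.IsGeometricallyReduced k L :=
    Algebra.IsGeometricallyReduced.of_injective L.val L.val.injective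
  haveI : Algebra.FormallySmooth k L :=
    RegLocus.formallySmooth_of_isGeometricallyReduced k L
  let s : Finset L := Finset.image
    (fun e : {x // x ∈ E} => (⟨e.1, IntermediateField.subset_adjoin k _ e.2⟩ : L)) E.attach
  let A₀ := Algebra.adjoin k (s : Set L)
  have hcl : ∀ x : L, ∃ a ∈ A₀, ∃ b ∈ A₀, x = a / b := by
    intro x
    obtain ⟨a, ha, b, hb, hx⟩ := IntermediateField.mem_adjoin_iff_div.1 x.2
    have hmap : Algebra.adjoin k (E : Set K) = A₀.map L.val := by
      rw [AlgHom.map_adjoin]
      congr 1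
      ext y
      constructor
      · intro hy
        exact ⟨⟨y, IntermediateField.subset_adjoin k _ hy⟩,
          Finset.mem_coe.2 (Finset.mem_image.2 ⟨⟨y, hy⟩, Finset.mem_attach _ _, rfl⟩), rfl⟩
      · rintro ⟨z, hz, rfl⟩
        obtain ⟨e, -, rfl⟩ := Finset.mem_image.1 (Finset.mem_coe.1 hz)
        exact e.2
    rw [hmap] at ha hb
    obtain ⟨a', ha', rfl⟩ := ha
    obtain ⟨b', hb', rfl⟩ := hb
    exact ⟨a', ha', b', hb', Subtype.ext (by simpa using hx)⟩
  obtain ⟨A, hsub, hA⟩ := exists_model k L s hcl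
  refine ⟨A.map L.val, fun e he => ?_, ?_⟩
  · exact ⟨_, hsub (Finset.mem_coe.2 (Finset.mem_image.2 ⟨⟨e, he⟩, Finset.mem_attach _ _, rfl⟩)), rfl⟩
  · exact Algebra.Smooth.of_equiv (A.equivMapOfInjective L.val L.val.injective)

end Groth.Agent.S9431
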