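import Groth.Statements.S9433
import Mathlib.RingTheory.Unramified.LocalStructure
import Mathlib.RingTheory.Flat.FaithfullyFlat.Algebra
import Mathlib.RingTheory.Etale.Locus
import Mathlib.RingTheory.Smooth.Flat

set_option autoImplicit false
universe u
open CAlg

namespace Groth.Agent.S9433

/-- Let R → S be a local homomorphism of local rings with S the localization of an étale R-algebra at a
prime, inducing an isomorphism of residue fields. Then for some t in the maximal ideal of R the maps
R/t^nR → S/t^nS are bijective for all n ≥ 1. -/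
theorem result (R : Type u) [CommRing R] [IsLocalRing R] (T : Type u) [CommRing T] [Algebra R T]
    [Algebra.Etale R T] (q : Ideal T) [q.IsPrime] (S : Type u) [CommRing S] [IsLocalRing S]
    [Algebra T S] [IsLocalization.AtPrime S q] [Algebra R S] [IsScalarTower R T S]
    [IsLocalHom (algebraMap R S)]
    (hres : Function.Bijective (IsLocalRing.ResidueField.map (algebraMap R S))) :
    ∃ t ∈ IsLocalRing.maximalIdeal R, ∀ n : ℕ, 1 ≤ n →
      Function.Bijective (Ideal.quotientMap ((Ideal.span {t ^ n}).map (algebraMap R S))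
        (algebraMap R S) Ideal.le_comap_map) := by
  haveI : Algebra.FormallyEtale R T := inferInstance
  haveI : Algebra.IsEtaleAt R q :=
    Algebra.FormallyEtale.comp R T (Localization.AtPrime q)
  obtain ⟨g, hgq, hstd⟩ := Algebra.IsEtaleAt.exists_isStandardEtale (R := R) q
  obtain ⟨P⟩ := hstd.nonempty_standardEtalePresentation
  have hgu : IsUnit (algebraMap T S g) := IsLocalization.map_units S (⟨g, hgq⟩ : q.primeCompl)
  let ψ₀ : Localization.Away g →+* S := IsLocalization.Away.lift g hgu
  have hψ₀ : ∀ z, ψ₀ (algebraMap T _ z) = algebraMap T S z := IsLocalization.Away.lift_eq g hgu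
  let ψ : Localization.Away g →ₐ[R] S :=
    { ψ₀ with
      commutes' := fun r => by
        show ψ₀ (algebraMap R (Localization.Away g) r) = algebraMap R S r
        rw [IsScalarTower.algebraMap_apply R T (Localization.Away g), hψ₀, ← IsScalarTower.algebraMap_apply] }
  obtain ⟨a', ha'⟩ := hres.2 (IsLocalRing.residue S (ψ P.x))
  obtain ⟨a, rfl⟩ := IsLocalRing.residue_surjective a'
  rw [IsLocalRing.ResidueField.map_residue, ← sub_eq_zero, ← map_sub, IsLocalRing.residue_eq_zero_iff] at ha'
  set y := algebraMap R S a - ψ P.x with hy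
  obtain ⟨k, hk⟩ := (P.P.f.map (algebraMap R S)).binomExpansion (ψ P.x) y
  have h0 : Polynomial.aeval (ψ P.x) P.P.f = 0 := (P.hasMap.map ψ).1
  have hd : IsUnit (Polynomial.aeval (ψ P.x) P.P.f.derivative) := (P.hasMap.map ψ).isUnit_derivative_f
  rw [hy, add_sub_cancel, Polynomial.derivative_map, Polynomial.eval_map, Polynomial.eval_map,
    Polynomial.eval₂_at_apply, Polynomial.eval_map, ← Polynomial.aeval_def, ← Polynomial.aeval_def, h0,
    zero_add, ← hy] at hk
  set t := Polynomial.eval a P.P.f with ht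
  have hu : IsUnit (Polynomial.aeval (ψ P.x) P.P.f.derivative + k * y) := by
    by_contra hn
    have h := Ideal.sub_mem _ ((IsLocalRing.mem_maximalIdeal _).2 hn) (Ideal.mul_mem_left _ k ha')
    rw [add_sub_cancel_right] at h
    exact (IsLocalRing.mem_maximalIdeal _).1 h hd
  have hyt : y * (Polynomial.aeval (ψ P.x) P.P.f.derivative + k * y) = algebraMap R S t := by
    rw [hk]; ring
  have htm : t ∈ IsLocalRing.maximalIdeal R := by
    have : algebraMap R S t ∈ IsLocalRing.maximalIdeal S := hyt ▸ Ideal.mul_mem_right _ _ ha'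
    exact fun h => (IsLocalRing.mem_maximalIdeal _).1 this (h.map _)
  set I : Ideal S := (Ideal.span {t}).map (algebraMap R S) with hI
  have hyI : y ∈ I := by
    rw [show y = algebraMap R S t * ↑hu.unit⁻¹ by rw [← hyt, mul_assoc, IsUnit.mul_val_inv, mul_one]]
    exact Ideal.mul_mem_right _ _ (Ideal.mem_map_of_mem _ (Ideal.mem_span_singleton_self t))
  have hrep : ∀ z : S, ∃ r : R, z - algebraMap R S r ∈ I := by
    let π : R →+* S ⧸ I := (Ideal.Quotient.mk I).comp (algebraMap R S)
    suffices h : Function.Surjective π by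
      intro z
      obtain ⟨r, hr⟩ := h (Ideal.Quotient.mk I z)
      exact ⟨r, Ideal.Quotient.eq.1 hr.symm⟩
    have hunit : ∀ r, IsUnit (π r) → Nontrivial (S ⧸ I) → IsUnit r := fun r hr hn => by
      by_contra h
      have h1 : algebraMap R S r ∈ IsLocalRing.maximalIdeal S := fun hu' =>
        h ((isUnit_map_iff (algebraMap R S) r).1 hu')
      haveI : IsLocalHom (Ideal.Quotient.mk I) := IsLocalHom.of_surjective _ Ideal.Quotient.mk_surjective
      exact (IsLocalRing.mem_maximalIdeal _).1 h1 ((isUnit_map_iff (Ideal.Quotient.mk I) _).1 hr)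
    haveI : Nontrivial (S ⧸ I) := Ideal.Quotient.nontrivial_iff.2 fun htop => by
      have hle : I ≤ IsLocalRing.maximalIdeal S := by
        rw [hI, Ideal.map_le_iff_le_comap, Ideal.span_singleton_le_iff_mem, Ideal.mem_comap]
        exact fun h => (IsLocalRing.mem_maximalIdeal _).1 htm ((isUnit_map_iff (algebraMap R S) t).1 h)
      exact (IsLocalRing.maximalIdeal.isMaximal S).ne_top (top_le_iff.1 (htop ▸ hle))
    have hx : Ideal.Quotient.mk I (ψ P.x) = π a :=
      (Ideal.Quotient.eq.2 (by rw [← neg_sub, ← hy]; exact neg_mem hyI))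
    have hpoly : ∀ p : Polynomial R, Ideal.Quotient.mk I (Polynomial.aeval (ψ P.x) p) = π (p.eval a) := fun p => by
      rw [Polynomial.aeval_def, Polynomial.hom_eval₂, hx]
      exact Polynomial.eval₂_at_apply π a
    have hloc : ∀ w : Localization.Away g, ∃ r, π r = Ideal.Quotient.mk I (ψ w) := fun w => by
      obtain ⟨p, n, hpn⟩ := P.exists_mul_aeval_x_g_pow_eq_aeval_x w
      have h1 := congrArg (fun z => Ideal.Quotient.mk I (ψ z)) hpn
      simp only [map_mul, map_pow, ← Polynomial.aeval_algHom_apply, hpoly] at h1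
      have hgunit : IsUnit (π (P.P.g.eval a)) := hpoly P.P.g ▸ (P.hasMap.map ψ).2.map _
      obtain ⟨v, hv⟩ := hunit _ hgunit inferInstance
      refine ⟨p.eval a * ↑(v⁻¹) ^ n, ?_⟩
      rw [← hv] at h1
      rw [map_mul, map_pow, ← h1, mul_assoc, ← mul_pow, ← map_mul, Units.mul_inv, map_one, one_pow, mul_one]
    intro z
    obtain ⟨z, rfl⟩ := Ideal.Quotient.mk_surjective z
    obtain ⟨s₁, s₂, rfl⟩ := IsLocalization.exists_mk'_eq q.primeCompl z
    obtain ⟨r₁, h₁⟩ := hloc (algebraMap T _ s₁)
    obtain ⟨r₂, h₂⟩ := hloc (algebraMap T _ (s₂ : T))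
    have hval : ∀ s, ψ (algebraMap T _ s) = algebraMap T S s := hψ₀
    rw [hval] at h₁ h₂
    obtain ⟨v, hv⟩ := hunit r₂ (h₂ ▸ (IsLocalization.map_units S s₂).map _) inferInstance
    refine ⟨r₁ * ↑v⁻¹, ?_⟩
    have := congrArg (Ideal.Quotient.mk I) (IsLocalization.mk'_spec S s₁ s₂)
    rw [map_mul, ← h₁, ← h₂, ← hv] at this
    rw [map_mul, ← this, mul_assoc, ← map_mul, Units.mul_inv, map_one, mul_one]
  haveI : Module.Flat T S := IsLocalization.flat S q.primeCompl
  haveI : Module.Flat R S := Module.Flat.trans R T S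
  haveI : Module.FaithfullyFlat R S := Module.FaithfullyFlat.of_flat_of_isLocalHom
  refine ⟨t, htm, fun n _ => ⟨Ideal.quotientMap_injective' (Ideal.comap_map_eq_self_of_faithfullyFlat _).le, ?_⟩⟩
  intro z
  obtain ⟨z, rfl⟩ := Ideal.Quotient.mk_surjective z
  suffices ∀ m : ℕ, ∀ z : S, ∃ r : R, z - algebraMap R S r ∈ (Ideal.span {t ^ m}).map (algebraMap R S) by
    obtain ⟨r, hr⟩ := this n z
    refine ⟨Ideal.Quotient.mk _ r, ?_⟩
    rw [Ideal.quotientMap_mk, eq_comm, Ideal.Quotient.eq]
    exact hr
  intro m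
  induction m with
  | zero => exact fun z => ⟨0, by simp [Ideal.map_top]⟩
  | succ m ih =>
      intro z
      obtain ⟨r, hr⟩ := ih z
      rw [Ideal.map_span, Set.image_singleton, Ideal.mem_span_singleton] at hr
      obtain ⟨w, hw⟩ := hr
      obtain ⟨r', hr'⟩ := hrep w
      rw [hI, Ideal.map_span, Set.image_singleton, Ideal.mem_span_singleton] at hr'
      obtain ⟨w', hw'⟩ := hr'
      refine ⟨r + t ^ m * r', ?_⟩
      rw [Ideal.map_span, Set.image_singleton, Ideal.mem_span_singleton]
      refine ⟨w', ?_⟩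
      rw [map_add, map_mul, map_pow, map_pow] at *
      linear_combination hw + algebraMap R S t ^ m * hw'

end Groth.Agent.S9433
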