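import Groth.Statements.S9434
import Groth.Agent.SplitAlg.Basic
import Mathlib.RingTheory.Unramified.LocalStructure

set_option autoImplicit false
universe u
open CAlg Groth.Agent

namespace Groth.Agent.S9434

/-- Let R → S be a local homomorphism of local rings with S the localization of an étale R-algebra at a
prime. Then there is a finite, finitely presented, faithfully flat R-algebra S' such that for every
maximal ideal m' of S' the structure map R → S'_{m'} factors through some R-algebra map S → S'_{m'}. -/
theorem result (R : Type u) [CommRing R] [IsLocalRing R] (T : Type u) [CommRing T] [Algebra R T]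
    [Algebra.Etale R T] (q : Ideal T) [q.IsPrime] (S : Type u) [CommRing S] [IsLocalRing S]
    [Algebra T S] [IsLocalization.AtPrime S q] [Algebra R S] [IsScalarTower R T S]
    [IsLocalHom (algebraMap R S)] :
    ∃ (S' : Type u) (_ : CommRing S') (_ : Algebra R S'),
      Module.Finite R S' ∧ Algebra.FinitePresentation R S' ∧ Module.FaithfullyFlat R S' ∧
        ∀ (m' : Ideal S') [m'.IsMaximal], Nonempty (S →ₐ[R] Localization.AtPrime m') := by
  haveI : Algebra.IsEtaleAt R q := Algebra.FormallyEtale.comp R T (Localization.AtPrime q)
  obtain ⟨g, hg, hstd⟩ := Algebra.IsEtaleAt.exists_isStandardEtale (R := R) q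
  haveI := hstd
  obtain ⟨S', _, _, h1, h2, h3, h4⟩ := SplitAlg.exists_cover R (Localization.Away g)
  haveI : Module.FinitePresentation R S' := Module.finitePresentation_of_projective R S'
  refine ⟨S', inferInstance, inferInstance, h1, inferInstance, h3, fun m' hm' => ?_⟩
  haveI : (q.map (algebraMap T (Localization.Away g))).IsPrime :=
    IsLocalization.isPrime_of_isPrime_disjoint (Submonoid.powers g) _ q inferInstance (Set.disjoint_left.2 fun x hx hxq => by
      obtain ⟨k, rfl⟩ := hx
      exact hg (Ideal.IsPrime.mem_of_pow_mem inferInstance k hxq))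
  have hqT : (q.map (algebraMap T (Localization.Away g))).comap (algebraMap T (Localization.Away g)) = q :=
    IsLocalization.comap_map_of_isPrime_disjoint (Submonoid.powers g) _ inferInstance (Set.disjoint_left.2 fun x hx hxq => by
      obtain ⟨k, rfl⟩ := hx
      exact hg (Ideal.IsPrime.mem_of_pow_mem inferInstance k hxq))
  have hqR : q.under R = IsLocalRing.maximalIdeal R := by
    rw [Ideal.under, ← IsLocalization.AtPrime.comap_maximalIdeal S q, Ideal.comap_comap,
      ← IsScalarTower.algebraMap_eq R T S]
    exact ((IsLocalRing.local_hom_TFAE (algebraMap R S)).out 0 4).mp (inferInstance : IsLocalHom (algebraMap R S))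
  haveI : Algebra.IsIntegral R S' := Algebra.IsIntegral.of_finite R S'
  have hmR : m'.under R = IsLocalRing.maximalIdeal R :=
    IsLocalRing.eq_maximalIdeal (Ideal.isMaximal_comap_of_isIntegral_of_isMaximal (R := R) m')
  obtain ⟨g', hg', φ, hφ⟩ := h4 (q.map (algebraMap T (Localization.Away g))) m' (by
    rw [hmR, ← hqR, ← Ideal.under_under (B := T) (q.map (algebraMap T (Localization.Away g)))]
    exact congrArg (Ideal.under R) hqT.symm)
  let l : Localization.Away g' →ₐ[R] Localization.AtPrime m' :=
    IsLocalization.liftAlgHom (M := Submonoid.powers g') (f := IsScalarTower.toAlgHom R S' (Localization.AtPrime m'))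
      fun y => by
        obtain ⟨_, k, rfl⟩ := y
        exact IsLocalization.map_units (Localization.AtPrime m')
          (⟨g' ^ k, fun h => hg' (Ideal.IsPrime.mem_of_pow_mem inferInstance k h)⟩ : m'.primeCompl)
  let ψ : T →ₐ[R] Localization.AtPrime m' := (l.comp φ).comp (IsScalarTower.toAlgHom R T (Localization.Away g))
  refine ⟨IsLocalization.liftAlgHom (M := q.primeCompl) (f := ψ) fun y => ?_⟩
  have hy : φ (algebraMap T (Localization.Away g) y) ∉ m'.map (algebraMap S' (Localization.Away g')) := fun h => by
    have h' : algebraMap T (Localization.Away g) y ∈ q.map (algebraMap T (Localization.Away g)) := by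
      rw [← hφ]; exact h
    have h'' : (y : T) ∈ (q.map (algebraMap T (Localization.Away g))).comap (algebraMap T (Localization.Away g)) := h'
    rw [hqT] at h''
    exact y.2 h''
  change IsUnit (l (φ (algebraMap T (Localization.Away g) y)))
  obtain ⟨⟨a, b⟩, hab⟩ := IsLocalization.surj (Submonoid.powers g') (φ (algebraMap T (Localization.Away g) y))
  have ha : a ∉ m' := fun ha => hy <| (Ideal.unit_mul_mem_iff_mem _ (IsLocalization.map_units _ b)).1 (by
    rw [mul_comm, hab]; exact Ideal.mem_map_of_mem _ ha)
  have h := congrArg l hab
  have hl : ∀ x, l (algebraMap S' _ x) = algebraMap S' (Localization.AtPrime m') x := fun x => IsLocalization.lift_eq _ x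
  rw [map_mul, hl, hl] at h
  exact isUnit_of_mul_isUnit_left (h.symm ▸ IsLocalization.map_units (Localization.AtPrime m') (⟨a, ha⟩ : m'.primeCompl))

end Groth.Agent.S9434
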