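import Groth.Statements.S9435
-- import your own Groth.Agent.* helpers here
import Mathlib

set_option autoImplicit false
universe u
open CAlg

namespace Groth.Agent.S9435

/-- Given a prime p of a ring R and a finite separable extension L of κ(p), there is an étale R-algebra
R' with a prime p' over p whose residue field is κ(p)-isomorphic to L. Stated through an R-algebra
map ψ : R' → L whose image generates the field L: its kernel is such a prime p' and the induced
κ(p') → L is then an isomorphism over κ(p). -/
theorem result (R : Type u) [CommRing R]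
    (p : Ideal R) [p.IsPrime] (L : Type u) [Field L] [Algebra p.ResidueField L] [Algebra R L]
    [IsScalarTower R p.ResidueField L] [Module.Finite p.ResidueField L]
    [Algebra.IsSeparable p.ResidueField L] :
    ∃ (R' : Type u) (_ : CommRing R') (_ : Algebra R R') (_ : Algebra.Etale R R') (ψ : R' →ₐ[R] L),
      Subfield.closure (Set.range ψ) = ⊤ := by
  classical
  let pb := Field.powerBasisOfFiniteOfSeparable p.ResidueField L
  set g := minpoly p.ResidueField pb.gen with hgdef
  let A := R ⧸ p
  -- common denominator
  obtain ⟨s, hs⟩ := IsLocalization.exist_integer_multiples (nonZeroDivisors A) (Finset.range g.natDegree) (fun i => g.coeff i)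
  obtain ⟨t, ht⟩ := Ideal.Quotient.mk_surjective (s : A)
  have htp : t ∉ p := fun h => nonZeroDivisors.coe_ne_zero s (by rw [← ht, Ideal.Quotient.eq_zero_iff_mem.2 h])
  set τ : p.ResidueField := algebraMap R p.ResidueField t with hτdef
  have hτ : τ ≠ 0 := fun h => htp (Ideal.algebraMap_residueField_eq_zero.1 h)
  have hco : ∀ i ∈ Finset.range g.natDegree, ∃ r : R, algebraMap R p.ResidueField r = τ * g.coeff i := fun i hi => by
    obtain ⟨a, ha⟩ := hs i hi
    obtain ⟨r, rfl⟩ := Ideal.Quotient.mk_surjective a
    refine ⟨r, ?_⟩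
    rw [hτdef, IsScalarTower.algebraMap_apply R A p.ResidueField r, IsScalarTower.algebraMap_apply R A p.ResidueField t,
      Ideal.Quotient.algebraMap_eq, ha, ht, Algebra.smul_def]
  choose r hr using hco
  set θ : L := algebraMap p.ResidueField L τ * pb.gen
  set h := g.scaleRoots τ with hhdef
  have hgm : g.Monic := minpoly.monic pb.isIntegral_gen
  have hlift : h ∈ Polynomial.lifts (algebraMap R p.ResidueField) := by
    rw [Polynomial.lifts_iff_coeff_lifts]
    intro i
    rw [hhdef, Polynomial.coeff_scaleRoots]
    rcases lt_trichotomy i g.natDegree with hi | hi | hi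
    · refine ⟨r i (Finset.mem_range.2 hi) * t ^ (g.natDegree - i - 1), ?_⟩
      rw [map_mul, map_pow, hr, mul_comm τ (g.coeff i), mul_assoc, ← hτdef, ← pow_succ', Nat.sub_add_cancel (Nat.sub_pos_of_lt hi)]
    · exact ⟨1, by rw [hi, hgm.coeff_natDegree, map_one, Nat.sub_self, pow_zero, mul_one]⟩
    · exact ⟨0, by rw [Polynomial.coeff_eq_zero_of_natDegree_lt hi, map_zero, zero_mul]⟩
  obtain ⟨F, hF, -, hFm⟩ := Polynomial.lifts_and_degree_eq_and_monic hlift ((Polynomial.monic_scaleRoots_iff τ).2 hgm)
  have hθ : Polynomial.aeval θ h = 0 := by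
    rw [hhdef]
    exact Polynomial.scaleRoots_aeval_eq_zero (minpoly.aeval _ _)
  have hh : minpoly p.ResidueField θ ∣ h := minpoly.dvd _ _ hθ
  have hdeg : (minpoly p.ResidueField θ).natDegree = g.natDegree := by
    rw [hgdef, ← IntermediateField.adjoin.finrank (Algebra.IsIntegral.isIntegral θ),
      ← IntermediateField.adjoin.finrank pb.isIntegral_gen]
    have : IntermediateField.adjoin p.ResidueField {θ} = IntermediateField.adjoin p.ResidueField {pb.gen} := by
      refine le_antisymm (IntermediateField.adjoin_simple_le_iff.2 (mul_mem (IntermediateField.algebraMap_mem _ _)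
        (IntermediateField.mem_adjoin_simple_self _ _))) (IntermediateField.adjoin_simple_le_iff.2 ?_)
      have h1 : pb.gen = algebraMap p.ResidueField L τ⁻¹ * θ := by
        simp only [θ, ← mul_assoc, ← map_mul, inv_mul_cancel₀ hτ, map_one, one_mul]
      rw [h1]
      exact mul_mem (IntermediateField.algebraMap_mem _ _) (IntermediateField.mem_adjoin_simple_self _ _)
    rw [this]
  have hheq : h = minpoly p.ResidueField θ := (Polynomial.eq_of_monic_of_dvd_of_natDegree_le
    (minpoly.monic (Algebra.IsIntegral.isIntegral θ)) ((Polynomial.monic_scaleRoots_iff τ).2 hgm) hh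
    (by rw [hdeg, hhdef, Polynomial.natDegree_scaleRoots]))
  let P : StandardEtalePair R := ⟨F, hFm, F.derivative, 1, 0, 1, by ring⟩
  have hmap : P.HasMap θ := by
    constructor
    · change Polynomial.aeval θ F = 0
      rw [← Polynomial.aeval_map_algebraMap p.ResidueField, hF, hθ]
    · change IsUnit (Polynomial.aeval θ F.derivative)
      rw [← Polynomial.aeval_map_algebraMap p.ResidueField, ← Polynomial.derivative_map, hF, hheq, isUnit_iff_ne_zero]
      exact (Algebra.IsSeparable.isSeparable p.ResidueField θ).aeval_derivative_ne_zero (minpoly.aeval _ _)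
  refine ⟨P.Ring, inferInstance, inferInstance, inferInstance, P.lift θ hmap, top_le_iff.1 fun z _ => ?_⟩
  set C := Subfield.closure (Set.range (P.lift θ hmap))
  have hR : ∀ a : R, algebraMap R L a ∈ C := fun a => Subfield.subset_closure ⟨algebraMap R _ a, (P.lift θ hmap).commutes a⟩
  have hk : ∀ c : p.ResidueField, algebraMap p.ResidueField L c ∈ C := fun c => by
    obtain ⟨a, b, -, rfl⟩ := IsFractionRing.div_surjective A c
    obtain ⟨a, rfl⟩ := Ideal.Quotient.mk_surjective a
    obtain ⟨b, rfl⟩ := Ideal.Quotient.mk_surjective b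
    rw [map_div₀]
    have e : ∀ a : R, algebraMap p.ResidueField L (algebraMap A p.ResidueField (Ideal.Quotient.mk p a)) = algebraMap R L a :=
      fun a => by rw [← Ideal.Quotient.algebraMap_eq, ← IsScalarTower.algebraMap_apply R A p.ResidueField, ← IsScalarTower.algebraMap_apply R p.ResidueField L]
    rw [e, e]
    exact div_mem (hR a) (hR b)
  have hθC : θ ∈ C := Subfield.subset_closure ⟨P.X, P.lift_X θ hmap⟩
  have hgen : pb.gen ∈ C := by
    have h1 : pb.gen = algebraMap p.ResidueField L τ⁻¹ * θ := by
      simp only [θ, ← mul_assoc, ← map_mul, inv_mul_cancel₀ hτ, map_one, one_mul]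
    rw [h1]
    exact mul_mem (hk _) hθC
  have hz : z ∈ Algebra.adjoin p.ResidueField {pb.gen} := pb.adjoin_gen_eq_top ▸ Algebra.mem_top
  induction hz using Algebra.adjoin_induction with
  | mem x hx => exact (Set.mem_singleton_iff.1 hx) ▸ hgen
  | algebraMap c => exact hk c
  | add x y _ _ hx hy => exact add_mem (hx trivial) (hy trivial)
  | mul x y _ _ hx hy => exact mul_mem (hx trivial) (hy trivial)

end Groth.Agent.S9435
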