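import Groth.Statements.S9439
import Groth.Agent.RegLoc.Order
import Groth.Agent.AdicBasics.Dimension
import Mathlib.RingTheory.Ideal.GoingDown
import Mathlib.RingTheory.DiscreteValuationRing.TFAE
import Mathlib.RingTheory.AdicCompletion.Noetherian

set_option autoImplicit false
universe u
open CAlg Groth.Agent

namespace Groth.Agent.S9439

/-- Let R be a Noetherian local ring, R^ its completion and p a prime with R_p a discrete valuation ring
and with R^/pR^ reduced (p analytically unramified: the completion of R/p, which is R^/pR^, is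
reduced). Then the localization of R^ at any associated prime of R^/pR^ is a discrete valuation
ring. -/
theorem result
    (R : Type u) [CommRing R] [IsLocalRing R] [IsNoetherianRing R] (p : Ideal R) [p.IsPrime]
    [IsDomain (Localization.AtPrime p)] [IsDiscreteValuationRing (Localization.AtPrime p)]
    (hp : IsReduced (AdicCompletion (IsLocalRing.maximalIdeal R) R ⧸
      p.map (algebraMap R (AdicCompletion (IsLocalRing.maximalIdeal R) R))))
    (q : Ideal (AdicCompletion (IsLocalRing.maximalIdeal R) R)) [q.IsPrime]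
    (hq : q ∈ associatedPrimes (AdicCompletion (IsLocalRing.maximalIdeal R) R)
      (AdicCompletion (IsLocalRing.maximalIdeal R) R ⧸
        p.map (algebraMap R (AdicCompletion (IsLocalRing.maximalIdeal R) R)))) :
    ∃ _ : IsDomain (Localization.AtPrime q), IsDiscreteValuationRing (Localization.AtPrime q) := by
  classical
  set Â := AdicCompletion (IsLocalRing.maximalIdeal R) R
  set J := p.map (algebraMap R Â) with hJdef
  have hJ : J.IsRadical := (Ideal.isRadical_iff_quotient_reduced J).2 hp
  haveI : Module.Flat R Â := inferInstance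
  -- `q` is a minimal prime over `J`
  have hJq : J ≤ q := by
    have h := hq.annihilator_le
    rwa [Submodule.annihilator_top, Ideal.annihilator_quotient] at h
  have hmin : ∀ Q : Ideal Â, Q.IsPrime → J ≤ Q → Q ≤ q → Q = q := by
    intro Q hQ hJQ hQq
    obtain ⟨x, hx⟩ := ((isAssociatedPrime_iff_exists_injective_linearMap q (Â ⧸ J)).1 hq).2
    have key : ∀ y ∈ q, y • x (Ideal.Quotient.mk q 1) = 0 := fun y hy => by
      rw [← map_smul, Algebra.smul_def, Ideal.Quotient.algebraMap_eq, ← map_mul, mul_one, Ideal.Quotient.eq_zero_iff_mem.2 hy, map_zero]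
    obtain ⟨w, hw⟩ := Ideal.Quotient.mk_surjective (x (Ideal.Quotient.mk q 1))
    have hwJ : w ∉ J := fun h => q.ne_top_iff_one.1 (Ideal.IsPrime.ne_top ‹_›)
      (Ideal.Quotient.eq_zero_iff_mem.1 (hx (by rw [← hw, Ideal.Quotient.eq_zero_iff_mem.2 h, map_zero])))
    obtain ⟨P, ⟨hP, hJP⟩, hwP⟩ : ∃ P : Ideal Â, (P.IsPrime ∧ J ≤ P) ∧ w ∉ P := by
      by_contra hne
      push Not at hne
      refine hwJ ?_
      rw [← hJ.radical, Ideal.radical_eq_sInf]
      exact (Submodule.mem_sInf).2 fun P ⟨h1, h2⟩ => hne P ⟨h2, h1⟩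
    have hqP : q ≤ P := fun y hy => by
      have h := key y hy
      rw [← hw, Algebra.smul_def, Ideal.Quotient.algebraMap_eq, ← map_mul, Ideal.Quotient.eq_zero_iff_mem] at h
      exact (hP.mem_or_mem (hJP h)).resolve_right hwP
    -- `w` can be chosen outside every prime between
    by_contra hne
    have hQ0 : ∀ y ∈ q, y ∈ Q ∨ w ∈ Q := fun y hy => by
      have h := key y hy
      rw [← hw, Algebra.smul_def, Ideal.Quotient.algebraMap_eq, ← map_mul, Ideal.Quotient.eq_zero_iff_mem] at h
      exact hQ.mem_or_mem (hJQ h)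
    by_cases hwQ : w ∈ Q
    · exact hwP (hqP (hQq hwQ))
    · exact hne (le_antisymm hQq fun y hy => (hQ0 y hy).resolve_right hwQ)
  have hcomap : q.under R = p := by
    obtain ⟨P, hPq, hP, hPp⟩ := Ideal.exists_ideal_le_liesOver_of_le (p := p) (q := q.under R) q
      (Ideal.le_comap_of_map_le hJq)
    rw [← hmin P hP (Ideal.map_le_iff_le_comap.2 hPp.over.le) hPq]
    exact hPp.over.symm
  let S := Localization.AtPrime q
  have hJS : J.map (algebraMap Â S) = IsLocalRing.maximalIdeal S := by
    have h1 : (J.map (algebraMap Â S)).radical = IsLocalRing.maximalIdeal S := by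
      refine le_antisymm ?_ ?_
      · refine (Ideal.IsPrime.radical_le_iff (IsLocalRing.maximalIdeal.isMaximal S).isPrime).2 ?_
        rw [← Localization.AtPrime.map_eq_maximalIdeal]
        exact Ideal.map_mono hJq
      · rw [Ideal.radical_eq_sInf]
        refine le_sInf fun P ⟨hJP, hP⟩ => ?_
        have hPq : P.comap (algebraMap Â S) ≤ q := ((IsLocalization.AtPrime.orderIsoOfPrime S q) ⟨P, hP⟩).2.2
        have h2 := hmin _ (hP.comap _) (Ideal.le_comap_of_map_le hJP) hPq
        rw [← Localization.AtPrime.map_eq_maximalIdeal, Ideal.map_le_iff_le_comap, h2]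
    rw [← h1, ← IsLocalization.map_radical q.primeCompl, hJ.radical]
  -- `p` becomes principal in `S`
  have hprin : (IsLocalRing.maximalIdeal S).IsPrincipal := by
    obtain ⟨ϖ, hϖ⟩ := IsPrincipalIdealRing.principal (IsLocalRing.maximalIdeal (Localization.AtPrime p))
    obtain ⟨a, s, rfl⟩ := IsLocalization.exists_mk'_eq p.primeCompl ϖ
    have hu : ∀ y : p.primeCompl, IsUnit (algebraMap R S y) := fun y => by
      rw [IsScalarTower.algebraMap_apply R Â S]
      exact IsLocalization.map_units S (⟨algebraMap R Â y, fun h => y.2 (hcomap ▸ h)⟩ : q.primeCompl)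
    let f : Localization.AtPrime p →+* S := IsLocalization.lift hu
    refine ⟨f (IsLocalization.mk' _ a s), ?_⟩
    rw [← hJS, hJdef, Ideal.map_map, ← IsScalarTower.algebraMap_eq R Â S,
      ← IsLocalization.lift_comp (S := Localization.AtPrime p) hu, ← Ideal.map_map,
      Localization.AtPrime.map_eq_maximalIdeal, hϖ, Ideal.submodule_span_eq, Ideal.map_span, Set.image_singleton]
  -- dimension at least one
  have hdim : ¬ ringKrullDim S ≤ 0 := fun h => by
    have h0 : q.height = 0 := by
      rw [IsLocalization.AtPrime.ringKrullDim_eq_height q S] at h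
      exact le_antisymm (by exact_mod_cast h) zero_le
    have hp0 : p ∈ minimalPrimes R := by
      refine ⟨⟨inferInstance, bot_le⟩, fun P hP hPp => ?_⟩
      haveI := hP.1
      obtain ⟨Q, hQq, hQ, hQP⟩ := Ideal.exists_ideal_le_liesOver_of_le (p := P) (q := q.under R) q (hPp.trans hcomap.ge)
      have : q ≤ Q := (Ideal.height_eq_zero_iff.1 h0).2 ⟨hQ, bot_le⟩ hQq
      rw [← hcomap, hQP.over]
      exact Ideal.comap_mono this
    haveI : Ring.KrullDimLE 0 (Localization.AtPrime p) := Ring.krullDimLE_iff.2 (by
      rw [IsLocalization.AtPrime.ringKrullDim_eq_height p, Ideal.height_eq_zero_iff.2 hp0]; rfl)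
    exact IsDiscreteValuationRing.not_isField (Localization.AtPrime p) Ring.KrullDimLE.isField_of_isDomain
  haveI : IsNoetherianRing S := IsLocalization.isNoetherianRing q.primeCompl S inferInstance
  haveI : IsRegularLocalRing S := by
    refine IsRegularLocalRing.of_spanFinrank_maximalIdeal_le S ?_
    obtain ⟨t, ht⟩ := hprin
    have h1 : (IsLocalRing.maximalIdeal S).spanFinrank ≤ 1 := by
      rw [ht]; exact (Submodule.spanFinrank_span_le_ncard_of_finite (Set.finite_singleton t)).trans (by simp)
    refine le_trans (by exact_mod_cast h1 : ((IsLocalRing.maximalIdeal S).spanFinrank : WithBot ℕ∞) ≤ 1) ?_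
    rw [IsLocalization.AtPrime.ringKrullDim_eq_height q S] at hdim ⊢
    exact_mod_cast Order.one_le_iff_pos.2 (pos_iff_ne_zero.2 fun h0 => hdim (by rw [h0]; rfl))
  haveI : IsDomain S := RegLoc.isDomain S
  refine ⟨this, ((IsDiscreteValuationRing.TFAE S fun hf => hdim ?_).out 0 4).2 hprin⟩
  exact (ringKrullDim_eq_zero_of_isField hf).le

end Groth.Agent.S9439
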