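import Groth.Statements.S9441
import Groth.Agent.SyntLib.Spread
import Groth.Agent.SyntLib.Regular
import Groth.Agent.Hensel.SmoothQuotientLift
import Groth.Agent.KoszulLib.Kinds

set_option autoImplicit false
universe u
open Synt TensorProduct KaehlerDifferential

namespace Groth.Agent.S9441

/-- For a relative global complete intersection S = R[x_1, …, x_n]/(f_1, …, f_c) and a prime q of S, the
map R → S is smooth at q if and only if some c × c minor of the Jacobian matrix (∂f_j/∂x_i), taken
on c distinct variables, has image outside q. -/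
theorem result (R : Type u) [CommRing R] (n c : ℕ)
    (F : Fin c → MvPolynomial (Fin n) R) (hF : Synt.IsRelGCI R n c F)
    (q : Ideal (Synt.RelGCIRing R n c F)) [q.IsPrime] :
    Algebra.IsSmoothAt R q ↔ ∃ I : Fin c ↪ Fin n,
      Ideal.Quotient.mk (Ideal.span (Set.range F))
        (Matrix.det (Matrix.of fun j i => MvPolynomial.pderiv (I i) (F j))) ∉ q := by
  classical
  let P := MvPolynomial (Fin n) R
  let J : Ideal P := Ideal.span (Set.range F)
  let S := P ⧸ J
  constructor
  · intro hsm
    haveI : Algebra.FormallySmooth R (Localization.AtPrime q) := hsm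
    let z : Ideal P := q.comap (Ideal.Quotient.mk J)
    have hJz : J ≤ z := fun x hx => by
      show Ideal.Quotient.mk J x ∈ q
      rw [Ideal.Quotient.eq_zero_iff_mem.2 hx]; exact q.zero_mem
    let Pz := Localization.AtPrime z
    let Sq := Localization.AtPrime q
    have hM : Submonoid.map (Ideal.Quotient.mk J) z.primeCompl = q.primeCompl := by
      ext s
      refine ⟨?_, fun hs => ?_⟩
      · rintro ⟨x, hx, rfl⟩; exact hx
      · obtain ⟨x, rfl⟩ := Ideal.Quotient.mk_surjective s
        exact ⟨x, hs, rfl⟩
    let φ₀ : Pz →+* Sq := IsLocalization.map (M := z.primeCompl) (S := Pz) (T := q.primeCompl) Sq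
      (Ideal.Quotient.mk J) (hM ▸ Submonoid.le_comap_map _)
    letI : Algebra Pz Sq := φ₀.toAlgebra
    have hφ₀ : ∀ x, algebraMap Pz Sq (algebraMap P Pz x) = algebraMap S Sq (Ideal.Quotient.mk J x) := fun x =>
      IsLocalization.map_eq _ x
    haveI : IsScalarTower R Pz Sq := IsScalarTower.of_algebraMap_eq fun r => by
      rw [IsScalarTower.algebraMap_apply R P Pz, hφ₀, IsScalarTower.algebraMap_apply R S Sq]
      rfl
    haveI : IsScalarTower P Pz Sq := IsScalarTower.of_algebraMap_eq fun x => by
      rw [hφ₀, IsScalarTower.algebraMap_apply P S Sq]; rfl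
    have hsurj : Function.Surjective (algebraMap Pz Sq) := fun y => by
      obtain ⟨b, ⟨s, hs⟩, rfl⟩ := IsLocalization.exists_mk'_eq q.primeCompl y
      obtain ⟨b, rfl⟩ := Ideal.Quotient.mk_surjective b
      obtain ⟨s, rfl⟩ := Ideal.Quotient.mk_surjective s
      refine ⟨IsLocalization.mk' Pz b (⟨s, hs⟩ : z.primeCompl), ?_⟩
      show φ₀ _ = _
      rw [IsLocalization.map_mk']
    let f : Fin c → Pz := fun j => algebraMap P Pz (F j)
    let K := RingHom.ker (algebraMap Pz Sq)
    have hK : K = Ideal.span (Set.range f) := by
      refine (IsLocalization.ker_map (S := Pz) Sq (Ideal.Quotient.mk J) hM).trans ?_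
      rw [Ideal.mk_ker, Ideal.map_span, ← Set.range_comp]
      rfl
    haveI : Algebra.FormallyEtale P Pz := Algebra.FormallyEtale.of_isLocalization z.primeCompl
    haveI : Algebra.FormallySmooth R Pz := Algebra.FormallySmooth.comp R P Pz
    obtain ⟨l, hl⟩ := (Algebra.FormallySmooth.iff_split_injection (R := R) (P := Pz) (A := Sq) hsurj).1 inferInstance
    have hfK : ∀ j, f j ∈ K := fun j => hK ▸ Ideal.subset_span (Set.mem_range_self j)
    let w : Fin c → K.Cotangent := fun j => K.toCotangent ⟨f j, hfK j⟩
    let Δ : Derivation R P ((Sq) ⊗[Pz] Ω[Pz⁄R]) :=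
      { toFun := fun x => (1 : Sq) ⊗ₜ[Pz] KaehlerDifferential.D R Pz (algebraMap P Pz x)
        map_add' := fun x y => by rw [map_add, map_add, TensorProduct.tmul_add]
        map_smul' := fun r x => by
          rw [RingHom.id_apply, Algebra.smul_def, map_mul, ← IsScalarTower.algebraMap_apply, ← Algebra.smul_def,
            Derivation.map_smul, TensorProduct.tmul_smul]
        map_one_eq_zero' := by
          show (1 : Sq) ⊗ₜ[Pz] KaehlerDifferential.D R Pz (algebraMap P Pz 1) = 0
          rw [map_one, Derivation.map_one_eq_zero, TensorProduct.tmul_zero]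
        leibniz' := fun x y => by
          show (1 : Sq) ⊗ₜ[Pz] KaehlerDifferential.D R Pz (algebraMap P Pz (x * y)) = _
          rw [map_mul, Derivation.leibniz, TensorProduct.tmul_add, TensorProduct.tmul_smul, TensorProduct.tmul_smul,
            algebraMap_smul, algebraMap_smul]
          rfl }
    have hexp : ∀ x, Δ x = ∑ i, MvPolynomial.pderiv i x • Δ (MvPolynomial.X i) := by
      intro x
      induction x using MvPolynomial.induction_on with
      | C a =>
        rw [← MvPolynomial.algebraMap_eq, Derivation.map_algebraMap]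
        simp
      | add x y hx hy => simp only [map_add, add_smul, Finset.sum_add_distrib, ← hx, ← hy]
      | mul_X x j hx =>
        have h1 : ∀ i, MvPolynomial.pderiv i (x * MvPolynomial.X j) • Δ (MvPolynomial.X i) =
            MvPolynomial.X j • (MvPolynomial.pderiv i x • Δ (MvPolynomial.X i)) +
              (if i = j then x • Δ (MvPolynomial.X i) else 0) := fun i => by
          rw [Derivation.leibniz, smul_eq_mul, smul_eq_mul, MvPolynomial.pderiv_X, add_smul, add_comm, mul_smul, mul_smul]
          congr 1
          by_cases h : i = j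
          · subst h; simp
          · simp [h, Pi.single_eq_of_ne (Ne.symm h)]
        rw [Finset.sum_congr rfl fun i _ => h1 i, Finset.sum_add_distrib, ← Finset.smul_sum, ← hx,
          Finset.sum_ite_eq' Finset.univ j, if_pos (Finset.mem_univ j), Derivation.leibniz, add_comm]
    have hspan : ∀ y : K.Cotangent, ∃ b : Fin c → Pz, y = ∑ j, b j • w j := by
      intro y
      obtain ⟨⟨x, hx⟩, rfl⟩ := Ideal.toCotangent_surjective K y
      obtain ⟨b, rfl⟩ := Ideal.mem_span_range_iff_exists_fun.1 (hK ▸ hx)
      refine ⟨b, ?_⟩
      simp only [w, ← map_smul, ← map_sum]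
      congr 1
      exact Subtype.ext (by simp [smul_eq_mul])
    choose L hL using fun i => hspan (l ((1 : Sq) ⊗ₜ[Pz] KaehlerDifferential.D R Pz (algebraMap P Pz (MvPolynomial.X i))))
    let M : Matrix (Fin c) (Fin n) Pz := Matrix.of fun j i => algebraMap P Pz (MvPolynomial.pderiv i (F j))
    have hw : ∀ j, w j = ∑ k, (M * Matrix.of L) j k • w k := by
      intro j
      have h1 := LinearMap.congr_fun hl (w j)
      simp only [LinearMap.comp_apply, LinearMap.id_apply] at h1
      rw [KaehlerDifferential.kerCotangentToTensor_toCotangent,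
        show (1 : Sq) ⊗ₜ[Pz] KaehlerDifferential.D R Pz (f j) = Δ (F j) from rfl, hexp, map_sum] at h1
      have h2 : ∀ i, l (MvPolynomial.pderiv i (F j) • Δ (MvPolynomial.X i)) = ∑ k, (M j i * L i k) • w k := fun i => by
        rw [← algebraMap_smul Pz (MvPolynomial.pderiv i (F j)), map_smul,
          show l (Δ (MvPolynomial.X i)) = ∑ k, L i k • w k from hL i, Finset.smul_sum]
        exact Finset.sum_congr rfl fun k _ => smul_smul _ _ _
      rw [Finset.sum_congr rfl fun i _ => h2 i, Finset.sum_comm] at h1
      rw [← h1]
      exact Finset.sum_congr rfl fun k _ => by rw [← Finset.sum_smul]; rfl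
    have hreg : RingTheory.Sequence.IsWeaklyRegular Pz (List.ofFn f) := by
      have := (SyntLib.relGCI_regular hF z hJz).1.toIsWeaklyRegular
      rwa [List.map_ofFn] at this
    have hh1 : CAlgX.IsH1Regular f :=
      KoszulLib.isH1Regular_of_acyclic (KoszulLib.acyclic_of_isWeaklyRegular' hreg)
    have hML : ∀ j k, (M * Matrix.of L) j k - (if j = k then 1 else 0) ∈ K := by
      intro j k
      let b : Fin c → Pz := fun k => (M * Matrix.of L) j k - if j = k then 1 else 0
      have h0 : ∑ k, b k • w k = 0 := by
        simp only [b, sub_smul, Finset.sum_sub_distrib, ite_smul, one_smul, zero_smul, Finset.sum_ite_eq,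
          Finset.mem_univ, if_true]
        rw [← hw j, sub_self]
      simp only [w, ← map_smul, ← map_sum, Ideal.toCotangent_eq_zero] at h0
      have h0' : ∑ k, b k * f k ∈ Ideal.span (Set.range f) ^ 2 := by
        rw [← hK]
        simpa [smul_eq_mul] using h0
      obtain ⟨d, hd, hbd⟩ := SyntLib.exists_coeff_of_mem_sq f h0'
      have h1 := KoszulLib.trivRel_coord (KoszulLib.h1_iff.1 hh1 (b - d) (by
        simp only [Pi.sub_apply, sub_mul, Finset.sum_sub_distrib, ← hbd, sub_self])) k
      have h2 := add_mem h1 (hd k)
      rw [Pi.sub_apply, sub_add_cancel] at h2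
      exact hK ▸ h2
    let κ := q.ResidueField
    let ρ : Pz →+* κ := (IsLocalRing.residue Sq).comp (algebraMap Pz Sq)
    let Mb := M.map ρ
    have hone : Mb * (Matrix.of L).map ρ = 1 := by
      simp only [Mb]
      rw [← Matrix.map_mul]
      refine Matrix.ext fun j k => ?_
      rw [Matrix.map_apply, Matrix.one_apply]
      have h3 : ρ ((M * Matrix.of L) j k - if j = k then 1 else 0) = 0 := by
        show IsLocalRing.residue Sq (algebraMap Pz Sq _) = 0
        rw [show algebraMap Pz Sq _ = 0 from hML j k, map_zero]
      rw [map_sub, sub_eq_zero] at h3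
      rw [h3]; split_ifs <;> simp
    have hspanκ : ⊤ ≤ Submodule.span κ (Set.range Mb.col) := by
      intro v _
      rw [← Matrix.range_mulVecLin]
      exact ⟨((Matrix.of L).map ρ).mulVec v, by rw [Matrix.mulVecLin_apply, Matrix.mulVec_mulVec, hone, Matrix.one_mulVec]⟩
    obtain ⟨ι, a, ha, hsp, hli⟩ := exists_linearIndependent' κ Mb.col
    let bas := Module.Basis.mk hli (hsp ▸ hspanκ)
    haveI : Finite ι := Module.Finite.finite_basis bas
    haveI := Fintype.ofFinite ι
    have hcard : Fintype.card ι = c := by
      rw [← Module.finrank_eq_card_basis bas, Module.finrank_pi, Fintype.card_fin]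
    let e := (Fintype.equivFinOfCardEq hcard).symm
    refine ⟨⟨a ∘ e, ha.comp e.injective⟩, fun hdet => ?_⟩
    have hli' : LinearIndependent κ (Mb.submatrix id (a ∘ e)).col := by
      exact hli.comp e e.injective
    have hunit := (Matrix.linearIndependent_cols_iff_isUnit.1 hli')
    rw [Matrix.isUnit_iff_isUnit_det, show Mb.submatrix id (a ∘ e) =
      (Matrix.of fun j i => MvPolynomial.pderiv (a (e i)) (F j)).map (ρ.comp (algebraMap P Pz)) from rfl,
      ← RingHom.mapMatrix_apply, ← RingHom.map_det] at hunit
    refine hunit.ne_zero ?_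
    show IsLocalRing.residue Sq (algebraMap Pz Sq (algebraMap P Pz _)) = 0
    rw [hφ₀, IsLocalRing.residue_eq_zero_iff, IsLocalization.AtPrime.to_map_mem_maximal_iff Sq q]
    exact hdet
  · rintro ⟨I, hI⟩
    let D : P := Matrix.det (Matrix.of fun j i => MvPolynomial.pderiv (I i) (F j))
    let T := Localization.Away D
    haveI : Algebra.Smooth R P := ⟨inferInstance, inferInstance⟩
    haveI : Algebra.Smooth R T := Algebra.Smooth.comp R P T
    haveI : Algebra.FormallyEtale P T := Algebra.FormallyEtale.of_isLocalization (Submonoid.powers D)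
    choose L hL using fun k : Fin c => Hensel.exists_derivation_extend (A := R) (P := P) (Q := T) (MvPolynomial.pderiv (I k))
    let h : Fin c → T := fun j => algebraMap P T (F j)
    have hsmooth : Algebra.Smooth R (T ⧸ Ideal.span (Set.range h)) := by
      refine Hensel.smooth_quotient_of_idempotent h 1 (one_mul 1) (Matrix.one_mulVec h) L ?_
      rw [mul_one, sub_self, add_zero, show (Matrix.of fun i k => L k (h i)) =
        (Matrix.of fun j i => MvPolynomial.pderiv (I i) (F j)).map (algebraMap P T) from Matrix.ext fun i k => hL k (F i),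
        ← RingHom.mapMatrix_apply, ← RingHom.map_det]
      exact (IsLocalization.Away.algebraMap_isUnit D).map _
    let HT := J.map (algebraMap P T)
    have hHT : HT = Ideal.span (Set.range h) := by
      show (Ideal.span (Set.range F)).map (algebraMap P T) = _
      rw [Ideal.map_span, ← Set.range_comp]; rfl
    haveI : Algebra.Smooth R (T ⧸ HT) := Algebra.Smooth.of_equiv (Ideal.quotientEquivAlgOfEq R hHT.symm)
    let M := Algebra.algebraMapSubmonoid S (Submonoid.powers D)
    have hM : M = Submonoid.powers (Ideal.Quotient.mk J D) := Submonoid.map_powers _ D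
    haveI : IsLocalization (Submonoid.powers (Ideal.Quotient.mk J D)) (T ⧸ HT) :=
      hM ▸ (inferInstanceAs (IsLocalization M (T ⧸ HT)))
    haveI : IsScalarTower R S (T ⧸ HT) := IsScalarTower.of_algebraMap_eq (R := R) (S := S) (A := T ⧸ HT) fun x => by
      show Ideal.Quotient.mk HT (algebraMap R T x) = Ideal.Quotient.mk HT (algebraMap P T (algebraMap R P x))
      rw [← IsScalarTower.algebraMap_apply]
    haveI : Algebra.Smooth R (Localization.Away (Ideal.Quotient.mk J D)) := Algebra.Smooth.of_equiv
      ((IsLocalization.algEquiv (Submonoid.powers (Ideal.Quotient.mk J D)) (T ⧸ HT)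
        (Localization.Away (Ideal.Quotient.mk J D))).restrictScalars R)
    obtain ⟨q', hq', -, -, ⟨e⟩⟩ := SyntLib.exists_away_prime (R := R) (Ideal.Quotient.mk J D) q hI
    haveI : Algebra.FormallyEtale (Localization.Away (Ideal.Quotient.mk J D)) (Localization.AtPrime q') :=
      Algebra.FormallyEtale.of_isLocalization q'.primeCompl
    haveI : Algebra.FormallySmooth R (Localization.AtPrime q') :=
      Algebra.FormallySmooth.comp R (Localization.Away (Ideal.Quotient.mk J D)) (Localization.AtPrime q')
    exact Algebra.FormallySmooth.of_equiv e.symm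

end Groth.Agent.S9441
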