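import Groth.Statements.S9445
import Mathlib.RingTheory.Etale.Basic
import Mathlib.RingTheory.Kaehler.Basic

set_option autoImplicit false
universe u
open CAlg
open scoped TensorProduct

namespace Groth.Agent.S9445

/-- Lifts of formally étale algebras, with ring homomorphisms. -/
theorem exists_lift {S S' Q : Type u} [CommRing S] [CommRing S'] [CommRing Q] [Algebra S S']
    [Algebra.FormallySmooth S S'] (g : Q →+* S') (hg : Function.Surjective g) (hn : IsNilpotent (RingHom.ker g))
    (r : S →+* Q) (hr : g.comp r = algebraMap S S') :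
    ∃ φ : S' →+* Q, g.comp φ = RingHom.id S' ∧ φ.comp (algebraMap S S') = r := by
  letI : Algebra S Q := r.toAlgebra
  let gA : Q →ₐ[S] S' := { g with commutes' := RingHom.congr_fun hr }
  let φ : S' →ₐ[S] Q := Algebra.FormallySmooth.liftOfSurjective (AlgHom.id S S') gA hg hn
  exact ⟨φ.toRingHom, RingHom.ext (Algebra.FormallySmooth.liftOfSurjective_apply (AlgHom.id S S') gA hg hn),
    φ.comp_algebraMap⟩

theorem lift_unique {S S' Q C : Type u} [CommRing S] [CommRing S'] [CommRing Q] [CommRing C] [Algebra S S']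
    [Algebra.FormallyUnramified S S'] (g : Q →+* C) (hn : IsNilpotent (RingHom.ker g)) (a b : S' →+* Q)
    (hab : a.comp (algebraMap S S') = b.comp (algebraMap S S')) (h : g.comp a = g.comp b) : a = b := by
  letI : Algebra S Q := (a.comp (algebraMap S S')).toAlgebra
  let aA : S' →ₐ[S] Q := { a with commutes' := fun _ => rfl }
  let bA : S' →ₐ[S] Q := { b with commutes' := fun x => (RingHom.congr_fun hab x).symm }
  exact congrArg AlgHom.toRingHom
    (Algebra.FormallyUnramified.ext' g hn aA bA (RingHom.congr_fun h) : aA = bA)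

open TensorProduct in
/-- For ring maps R → S → S' with S → S' formally étale and k ≥ 0, let J' ⊆ S' ⊗_R S' be the kernel of
multiplication and I ⊆ S' ⊗_R S its preimage under the map induced by S → S' (I is the kernel of S'
⊗_R S → S', and (S' ⊗_R S)/I^{k+1} is S' ⊗_S P^k_{S/R}); then (S' ⊗_R S)/I^{k+1} → (S' ⊗_R
S')/J'^{k+1} is bijective. (The consequence S' ⊗_S Ω_{S/R} ≅ Ω_{S'/R} is Mathlib's
KaehlerDifferential.isBaseChange_of_formallyEtale.) -/
theorem result (R : Type u) [CommRing R]
    (S : Type u) [CommRing S] [Algebra R S] (S' : Type u) [CommRing S'] [Algebra R S']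
    [Algebra S S'] [IsScalarTower R S S'] [Algebra.FormallyEtale S S'] (k : ℕ) :
    Function.Bijective (Ideal.quotientMap (KaehlerDifferential.ideal R S' ^ (k + 1))
      (Algebra.TensorProduct.map (AlgHom.id S' S') (IsScalarTower.toAlgHom R S S')).toRingHom
      (Ideal.le_comap_pow
        (Algebra.TensorProduct.map (AlgHom.id S' S') (IsScalarTower.toAlgHom R S S')).toRingHom
        (K := KaehlerDifferential.ideal R S') (k + 1))) := by
  set ι : S' ⊗[R] S →ₐ[R] S' ⊗[R] S' :=
    Algebra.TensorProduct.map (AlgHom.id R S') (IsScalarTower.toAlgHom R S S') with hι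
  let m : S' ⊗[R] S' →ₐ[R] S' := Algebra.TensorProduct.lmul' R
  let I : Ideal (S' ⊗[R] S) := (KaehlerDifferential.ideal R S').comap ι.toRingHom
  have hIle : I ^ (k + 1) ≤ (KaehlerDifferential.ideal R S' ^ (k + 1)).comap ι.toRingHom :=
    Ideal.le_comap_pow ι.toRingHom (K := KaehlerDifferential.ideal R S') (k + 1)
  -- the target as an `S`-algebra through the right factor
  let Q := (S' ⊗[R] S) ⧸ I ^ (k + 1)
  let Q' := (S' ⊗[R] S') ⧸ KaehlerDifferential.ideal R S' ^ (k + 1)
  let r : S →ₐ[R] Q := (Ideal.Quotient.mkₐ R _).comp Algebra.TensorProduct.includeRight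
  let g₀ : Q →+* S' := Ideal.Quotient.lift _ (m.comp ι).toRingHom fun x hx =>
    (Ideal.pow_le_self k.succ_ne_zero) (hIle hx)
  let g : Q →+* S' := g₀
  have hg : Function.Surjective g := fun x => ⟨Ideal.Quotient.mk _ (x ⊗ₜ 1), by
    show m (ι (x ⊗ₜ 1)) = x
    simp [m, hι]⟩
  have hnil : IsNilpotent (RingHom.ker g) := by
    refine ⟨k + 1, ?_⟩
    have hle : RingHom.ker g ≤ I.map (Ideal.Quotient.mk (I ^ (k + 1))) := fun q hq => by
      obtain ⟨z, rfl⟩ := Ideal.Quotient.mk_surjective q
      exact Ideal.mem_map_of_mem _ hq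
    rw [Ideal.zero_eq_bot, ← le_bot_iff]
    refine (Ideal.pow_right_mono hle (k + 1)).trans ?_
    rw [← Ideal.map_pow, Ideal.map_quotient_self]
  obtain ⟨φ₀, hφg, hφr⟩ := exists_lift (S := S) g hg hnil r.toRingHom (RingHom.ext fun s => by
    show m (ι (1 ⊗ₜ s)) = algebraMap S S' s
    simp [m, hι])
  let φ : S' →ₐ[R] Q :=
    { φ₀ with
      commutes' := fun x => by
        show φ₀ (algebraMap R S' x) = _
        rw [IsScalarTower.algebraMap_apply R S S', ← RingHom.comp_apply, hφr]
        exact r.commutes x }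
  let ψ : S' ⊗[R] S' →ₐ[R] Q := Algebra.TensorProduct.lift
    ((Ideal.Quotient.mkₐ R _).comp Algebra.TensorProduct.includeLeft) φ (fun _ _ => .all _ _)
  -- the two composites
  have hψι : ∀ z, ψ (ι z) = Ideal.Quotient.mk _ z := fun z => by
    induction z using TensorProduct.induction_on with
    | zero => simp
    | tmul a s =>
      rw [hι, Algebra.TensorProduct.map_tmul, Algebra.TensorProduct.lift_tmul]
      show Ideal.Quotient.mk _ (a ⊗ₜ 1) * φ (algebraMap S S' s) = _
      rw [show φ (algebraMap S S' s) = r s from RingHom.congr_fun hφr s]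
      show Ideal.Quotient.mk _ (a ⊗ₜ 1) * Ideal.Quotient.mk _ (1 ⊗ₜ s) = _
      rw [← map_mul, Algebra.TensorProduct.tmul_mul_tmul, one_mul, mul_one]
    | add x y hx hy => rw [map_add, map_add, map_add, hx, hy]
  let f : Q →+* Q' := Ideal.quotientMap _ ι.toRingHom hIle
  let q₁ : S' →+* Q' := f.comp φ₀
  let q₂ : S' →+* Q' :=
    (Ideal.Quotient.mk _).comp (Algebra.TensorProduct.includeRight (R := R) (A := S') (B := S')).toRingHom
  let m' : Q' →+* S' := Ideal.Quotient.lift _ m.toRingHom fun x hx => (Ideal.pow_le_self k.succ_ne_zero) hx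
  have hm' : IsNilpotent (RingHom.ker m') := by
    refine ⟨k + 1, ?_⟩
    have hle : RingHom.ker m' ≤ (KaehlerDifferential.ideal R S').map (Ideal.Quotient.mk _) := fun q hq => by
      obtain ⟨z, rfl⟩ := Ideal.Quotient.mk_surjective q
      exact Ideal.mem_map_of_mem _ hq
    rw [Ideal.zero_eq_bot, ← le_bot_iff]
    refine (Ideal.pow_right_mono hle (k + 1)).trans ?_
    rw [← Ideal.map_pow, Ideal.map_quotient_self]
  have hq : q₁ = q₂ := lift_unique (S := S) m' hm' q₁ q₂ (RingHom.ext fun s => by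
    show f (φ₀ (algebraMap S S' s)) = Ideal.Quotient.mk _ (1 ⊗ₜ algebraMap S S' s)
    rw [show φ₀ (algebraMap S S' s) = r.toRingHom s from RingHom.congr_fun hφr s]
    show Ideal.Quotient.mk _ (ι (1 ⊗ₜ s)) = _
    simp [hι]) (RingHom.ext fun x => by
    show m' (f (φ₀ x)) = m ((1 : S') ⊗ₜ x)
    have h1 : ∀ w, m' (f w) = g w := fun w => by
      obtain ⟨z, rfl⟩ := Ideal.Quotient.mk_surjective w
      rfl
    rw [h1]
    refine (RingHom.congr_fun hφg x).trans ?_
    simp [m])
  have hfψ : ∀ z, f (ψ z) = Ideal.Quotient.mk _ z := fun z => by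
    induction z using TensorProduct.induction_on with
    | zero => simp
    | tmul a x =>
      rw [Algebra.TensorProduct.lift_tmul, map_mul]
      show Ideal.Quotient.mk _ (ι (a ⊗ₜ 1)) * q₁ x = _
      rw [hq]
      show Ideal.Quotient.mk _ (ι (a ⊗ₜ 1)) * Ideal.Quotient.mk _ ((1 : S') ⊗ₜ x) = _
      rw [← map_mul]
      simp [hι]
    | add x y hx hy => rw [map_add, map_add, map_add, hx, hy]
  have hker : ∀ z ∈ KaehlerDifferential.ideal R S' ^ (k + 1), ψ z = 0 := fun z hz => by
    have hJ : ∀ w ∈ KaehlerDifferential.ideal R S', ψ w ∈ RingHom.ker g := fun w hw => by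
      show g (ψ w) = 0
      rw [show g (ψ w) = m' (f (ψ w)) from ?_, hfψ]
      · exact hw
      obtain ⟨z, hz⟩ := Ideal.Quotient.mk_surjective (ψ w)
      rw [← hz]; rfl
    have h2 := (Ideal.map_le_iff_le_comap.2 (fun w hw => hJ w hw) : (KaehlerDifferential.ideal R S').map ψ.toRingHom ≤ RingHom.ker g)
    have h3 := Ideal.pow_right_mono h2 (k + 1) ((Ideal.map_pow ψ.toRingHom _ _).le (Ideal.mem_map_of_mem _ hz))
    have h4 : RingHom.ker g ^ (k + 1) = ⊥ := by
      show RingHom.ker g ^ (k + 1) = (0 : Ideal Q)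
      have hle : RingHom.ker g ≤ I.map (Ideal.Quotient.mk (I ^ (k + 1))) := fun q hq => by
        obtain ⟨z, rfl⟩ := Ideal.Quotient.mk_surjective q
        exact Ideal.mem_map_of_mem _ hq
      rw [Ideal.zero_eq_bot, ← le_bot_iff]
      refine (Ideal.pow_right_mono hle (k + 1)).trans ?_
      rw [← Ideal.map_pow, Ideal.map_quotient_self]
    rw [h4] at h3
    exact Ideal.mem_bot.1 h3
  have hfbij : Function.Bijective f := by
    refine ⟨(injective_iff_map_eq_zero _).2 fun w hw => ?_, fun w => ?_⟩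
    · obtain ⟨z, rfl⟩ := Ideal.Quotient.mk_surjective w
      have : ι z ∈ KaehlerDifferential.ideal R S' ^ (k + 1) := Ideal.Quotient.eq_zero_iff_mem.1 hw
      rw [← hψι, hker _ this]
    · obtain ⟨z, rfl⟩ := Ideal.Quotient.mk_surjective w
      exact ⟨ψ z, hfψ z⟩
  exact hfbij

end Groth.Agent.S9445
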