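import Groth.Statements.S9446
import Mathlib.RingTheory.Smooth.IntegralClosure
import Mathlib.RingTheory.TensorProduct.DirectLimitFG
import Mathlib.LinearAlgebra.TensorProduct.Vanishing

set_option autoImplicit false
universe u
open CAlg
open TensorProduct

namespace Groth.Agent.S9446

/-- If S is ind-smooth over R (every R-algebra map into S from a finitely presented R-algebra factors
through a smooth R-algebra) then for every R-algebra B the canonical map S ⊗_R A → A', from the base
change of the integral closure A of R in B to the integral closure A' of S in S ⊗_R B, is bijective. -/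
theorem result (R : Type u) [CommRing R] (S : Type u)
    [CommRing S] [Algebra R S] (hS : Smoothing.IndSmooth R S) (B : Type u) [CommRing B]
    [Algebra R B] : Function.Bijective (TensorProduct.toIntegralClosure R S B) := by
  classical
  -- lifting the vanishing of an element to a smooth stage
  have L : ∀ (A : Type u) [CommRing A] [Algebra R A] (_ : Algebra.FinitePresentation R A) (f : A →ₐ[R] S)
      (M : Type u) [AddCommGroup M] [Module R M] (z : A ⊗[R] M), LinearMap.rTensor M f.toLinearMap z = 0 →
      ∃ (C : Type u) (_ : CommRing C) (_ : Algebra R C) (_ : Algebra.Smooth R C) (g : A →ₐ[R] C) (h : C →ₐ[R] S),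
        h.comp g = f ∧ LinearMap.rTensor M g.toLinearMap z = 0 := by
    intro A _ _ hA f M _ _ z hz
    obtain ⟨T, hT⟩ := TensorProduct.exists_finset z
    let P : Submodule R S := Submodule.span R ((fun p : A × M => f p.1) '' T)
    have hP : P.FG := Submodule.fg_span ((T.finite_toSet).image _)
    have hmem : ∀ p : T, f p.1.1 ∈ P := fun p => Submodule.subset_span ⟨p.1, p.2, rfl⟩
    let t : P ⊗[R] M := ∑ p : T, (⟨f p.1.1, hmem p⟩ : P) ⊗ₜ p.1.2
    have ht : LinearMap.rTensor M P.subtype t = 0 := by
      rw [← hz, hT, map_sum, map_sum, ← Finset.sum_coe_sort T]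
      rfl
    obtain ⟨Q, hPQ, hQ, hQt⟩ := TensorProduct.eq_zero_of_fg_of_subtype_eq_zero hP ht
    obtain ⟨n, q, hq⟩ := Submodule.fg_iff_exists_fin_generating_family.1 hQ
    let m : T ⊕ Fin n → Q := Sum.elim (fun p => ⟨f p.1.1, hPQ (hmem p)⟩)
      (fun i => ⟨q i, hq ▸ Submodule.subset_span ⟨i, rfl⟩⟩)
    have hm : Submodule.span R (Set.range m) = ⊤ := by
      refine eq_top_iff.2 fun x _ => ?_
      have hx : (x : S) ∈ Submodule.span R (Q.subtype '' Set.range m) := by
        refine Submodule.span_mono ?_ (hq ▸ x.2 : (x : S) ∈ Submodule.span R (Set.range q))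
        rintro _ ⟨i, rfl⟩
        exact ⟨m (Sum.inr i), ⟨_, rfl⟩, rfl⟩
      rw [← Submodule.map_span] at hx
      obtain ⟨y, hy, hyx⟩ := hx
      exact Subtype.ext hyx ▸ hy
    let nn : T ⊕ Fin n → M := Sum.elim (fun p => p.1.2) (fun _ => 0)
    have hsum : ∑ i, m i ⊗ₜ[R] nn i = 0 := by
      simp only [t, map_sum, LinearMap.rTensor_tmul] at hQt
      simpa [m, nn, Fintype.sum_sum_type] using! hQt
    obtain ⟨k, a, y, hay, ham⟩ := TensorProduct.vanishesTrivially_of_sum_tmul_eq_zero R hm hsum
    let mt : T ⊕ Fin n → MvPolynomial (Fin n) A := Sum.elim (fun p => MvPolynomial.C p.1.1) MvPolynomial.X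
    let J : Ideal (MvPolynomial (Fin n) A) := Ideal.span (Set.range fun j => ∑ i, a i j • mt i)
    have hJfg : J.FG := Submodule.fg_span (Set.finite_range _)
    haveI := hA
    haveI : Algebra.FinitePresentation R (MvPolynomial (Fin n) A) := Algebra.FinitePresentation.trans R A _
    haveI hA' : Algebra.FinitePresentation R (MvPolynomial (Fin n) A ⧸ J) :=
      Algebra.FinitePresentation.quotient hJfg
    let ev : MvPolynomial (Fin n) A →ₐ[R] S :=
      { MvPolynomial.eval₂Hom f.toRingHom q with
        commutes' := fun r => by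
          show MvPolynomial.eval₂ f.toRingHom q (algebraMap R (MvPolynomial (Fin n) A) r) = _
          rw [IsScalarTower.algebraMap_apply R A (MvPolynomial (Fin n) A), MvPolynomial.algebraMap_eq,
            MvPolynomial.eval₂_C]
          exact f.commutes r }
    have hmt : ∀ i, ev (mt i) = (m i : S) := by
      rintro (p | i)
      · exact MvPolynomial.eval₂_C _ _ _
      · exact MvPolynomial.eval₂_X _ _ _
    have hJ : ∀ x ∈ J, ev x = 0 := by
      intro x hx
      refine (Ideal.span_le.2 ?_ : J ≤ RingHom.ker ev.toRingHom) hx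
      rintro _ ⟨j, rfl⟩
      show ev (∑ i, a i j • mt i) = 0
      have h := congrArg Q.subtype (ham j)
      simp only [map_sum, map_zero, map_smul, Submodule.coe_subtype] at h
      simpa [map_sum, map_smul, hmt] using h
    let f' : (MvPolynomial (Fin n) A ⧸ J) →ₐ[R] S := Ideal.Quotient.liftₐ J ev hJ
    let ι : A →ₐ[R] MvPolynomial (Fin n) A ⧸ J :=
      (Ideal.Quotient.mkₐ R J).comp (IsScalarTower.toAlgHom R A (MvPolynomial (Fin n) A))
    have hzero : LinearMap.rTensor M ι.toLinearMap z = 0 := by
      have e : ∀ i, (Ideal.Quotient.mk J (mt i)) ⊗ₜ[R] nn i = ∑ j, (Ideal.Quotient.mk J (a i j • mt i)) ⊗ₜ[R] y j := by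
        intro i
        rw [hay, tmul_sum]
        refine Finset.sum_congr rfl fun j _ => ?_
        rw [← Ideal.Quotient.mkₐ_eq_mk R, map_smul, tmul_smul, smul_tmul']
      calc LinearMap.rTensor M ι.toLinearMap z = ∑ i, (Ideal.Quotient.mk J (mt i)) ⊗ₜ[R] nn i := by
            rw [hT, map_sum, ← Finset.sum_coe_sort T, Fintype.sum_sum_type]
            simp only [nn, Sum.elim_inl, Sum.elim_inr, tmul_zero, Finset.sum_const_zero, add_zero]
            rfl
        _ = 0 := by
            simp only [e]
            rw [Finset.sum_comm]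
            refine Finset.sum_eq_zero fun j _ => ?_
            rw [← sum_tmul, ← map_sum, Ideal.Quotient.eq_zero_iff_mem.2 (Ideal.subset_span (Set.mem_range_self j)), zero_tmul]
    obtain ⟨C, _, _, hC, g, h, hgh⟩ := hS _ hA' f'
    refine ⟨C, ‹_›, ‹_›, hC, g.comp ι, h, ?_, ?_⟩
    · ext x
      show h (g (Ideal.Quotient.mk J (MvPolynomial.C x))) = f x
      rw [← AlgHom.comp_apply, hgh]
      exact MvPolynomial.eval₂_C _ _ _
    · rw [AlgHom.comp_toLinearMap, LinearMap.rTensor_comp_apply, hzero, map_zero]
  -- every element comes from a finitely presented stage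
  have L0 : ∀ (M : Type u) [AddCommGroup M] [Module R M] (x : S ⊗[R] M), ∃ (n : ℕ) (f : MvPolynomial (Fin n) R →ₐ[R] S)
      (z : MvPolynomial (Fin n) R ⊗[R] M), LinearMap.rTensor M f.toLinearMap z = x := by
    intro M _ _ x
    obtain ⟨T, hT⟩ := TensorProduct.exists_finset x
    let e := T.equivFin
    refine ⟨_, MvPolynomial.aeval fun i => (e.symm i).1.1, ∑ i, MvPolynomial.X i ⊗ₜ (e.symm i).1.2, ?_⟩
    rw [map_sum, hT, ← Finset.sum_coe_sort T, ← e.symm.sum_comp]
    simp
  have comm : ∀ (C : Type u) [CommRing C] [Algebra R C] (h : C →ₐ[R] S) (w : C ⊗[R] integralClosure R B),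
      ((TensorProduct.toIntegralClosure R S B (LinearMap.rTensor _ h.toLinearMap w) : integralClosure S (S ⊗[R] B)) : S ⊗[R] B) =
        LinearMap.rTensor B h.toLinearMap (TensorProduct.toIntegralClosure R C B w : C ⊗[R] B) := by
    intro C _ _ h w
    induction w with
    | zero => simp
    | tmul c b => simp [TensorProduct.toIntegralClosure]
    | add u v hu hv => simp only [map_add, AddMemClass.coe_add, hu, hv]
  refine ⟨(injective_iff_map_eq_zero _).2 fun w hw => ?_, ?_⟩
  · obtain ⟨n, f, z, rfl⟩ := L0 _ w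
    have h0 : LinearMap.rTensor B f.toLinearMap (TensorProduct.toIntegralClosure R (MvPolynomial (Fin n) R) B z : _ ⊗[R] B) = 0 := by
      rw [← comm, hw]; rfl
    obtain ⟨C, _, _, _, g, h, hgh, hg⟩ := L _ inferInstance f B _ h0
    have hw' : LinearMap.rTensor _ g.toLinearMap z = 0 := by
      refine TensorProduct.toIntegralClosure_bijective_of_smooth.1 (a₂ := 0) ?_
      rw [map_zero]
      refine Subtype.ext ?_
      rw [ZeroMemClass.coe_zero, ← hg]
      clear hw h0 hg
      induction z with
      | zero => simp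
      | tmul c b => simp [TensorProduct.toIntegralClosure]
      | add u v hu hv => simp only [map_add, AddMemClass.coe_add, hu, hv]
    rw [← hgh, AlgHom.comp_toLinearMap, LinearMap.rTensor_comp_apply, hw', map_zero]
  · rintro ⟨x, hx⟩
    obtain ⟨p, hp, hpx⟩ := hx
    rw [← Polynomial.aeval_def] at hpx
    obtain ⟨n, f₁, z, hz⟩ := L0 B x
    -- lift the coefficients as well
    let f : MvPolynomial (Fin p.natDegree) (MvPolynomial (Fin n) R) →ₐ[R] S :=
      { MvPolynomial.eval₂Hom f₁.toRingHom (fun i : Fin p.natDegree => p.coeff i) with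
        commutes' := fun r => by
          show MvPolynomial.eval₂ f₁.toRingHom _ (algebraMap R (MvPolynomial _ (MvPolynomial (Fin n) R)) r) = _
          rw [IsScalarTower.algebraMap_apply R (MvPolynomial (Fin n) R) (MvPolynomial _ (MvPolynomial (Fin n) R)), MvPolynomial.algebraMap_eq,
            MvPolynomial.eval₂_C]
          exact f₁.commutes r }
    let A := MvPolynomial (Fin p.natDegree) (MvPolynomial (Fin n) R)
    let z' : A ⊗[R] B := LinearMap.rTensor B (IsScalarTower.toAlgHom R (MvPolynomial (Fin n) R) A).toLinearMap z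
    let pol : Polynomial A := Polynomial.X ^ p.natDegree + ∑ i : Fin p.natDegree, Polynomial.C (MvPolynomial.X i) * Polynomial.X ^ (i : ℕ)
    let F : A ⊗[R] B →ₐ[R] S ⊗[R] B := Algebra.TensorProduct.map f (AlgHom.id R B)
    have hF : ∀ u, F u = LinearMap.rTensor B f.toLinearMap u := fun u => rfl
    have hz' : F z' = x := by
      rw [hF, ← hz, ← LinearMap.rTensor_comp_apply]
      refine congrArg (fun l => LinearMap.rTensor B l z) (LinearMap.ext fun c => ?_)
      show MvPolynomial.eval₂ f₁.toRingHom _ (MvPolynomial.C c) = _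
      exact MvPolynomial.eval₂_C _ _ _
    let v : A ⊗[R] B := Polynomial.aeval z' pol
    have hv : LinearMap.rTensor B f.toLinearMap v = 0 := by
      rw [← hF, ← hpx]
      conv_rhs => rw [hp.as_sum]
      simp only [v, pol, map_add, map_sum, map_mul, map_pow, Polynomial.aeval_X, Polynomial.aeval_C, hz']
      rw [← Fin.sum_univ_eq_sum_range (fun i => algebraMap S (S ⊗[R] B) (p.coeff i) * x ^ i) p.natDegree]
      refine congrArg _ (Finset.sum_congr rfl fun i _ => ?_)
      congr 1
      show F ((MvPolynomial.X i : A) ⊗ₜ 1) = (p.coeff i) ⊗ₜ 1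
      simp only [F, Algebra.TensorProduct.map_tmul, map_one]
      exact congrArg (· ⊗ₜ[R] (1 : B)) (MvPolynomial.eval₂_X _ _ _)
    haveI : Algebra.FinitePresentation R A := Algebra.FinitePresentation.trans R (MvPolynomial (Fin n) R) A
    obtain ⟨C, _, _, _, g, h, hgh, hg⟩ := L A inferInstance f B v hv
    let G : A ⊗[R] B →ₐ[R] C ⊗[R] B := Algebra.TensorProduct.map g (AlgHom.id R B)
    have hint : IsIntegral C (G z') := by
      refine ⟨pol.map g.toRingHom, Polynomial.Monic.map _ ?_, ?_⟩
      · exact Polynomial.monic_X_pow_add ((Polynomial.degree_sum_fin_lt _).trans_le le_rfl)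
      · rw [Polynomial.eval₂_map]
        refine Eq.trans ?_ (show G v = 0 from hg)
        show _ = G.toRingHom (Polynomial.eval₂ (algebraMap A (A ⊗[R] B)) z' pol)
        rw [Polynomial.hom_eval₂]
        refine congrArg (fun φ => Polynomial.eval₂ φ _ pol) (RingHom.ext fun c => ?_)
        simp [G]
    obtain ⟨w, hw⟩ := TensorProduct.toIntegralClosure_bijective_of_smooth.2 (⟨G z', hint⟩ : integralClosure C (C ⊗[R] B))
    refine ⟨LinearMap.rTensor _ h.toLinearMap w, Subtype.ext ?_⟩
    rw [comm, hw]
    show LinearMap.rTensor B h.toLinearMap (LinearMap.rTensor B g.toLinearMap z') = x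
    rw [← LinearMap.rTensor_comp_apply, ← AlgHom.comp_toLinearMap, hgh]
    exact hz'

end Groth.Agent.S9446
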