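import Groth.Statements.S9447
import Groth.Agent.S0585

set_option autoImplicit false
universe u
open CAlg Groth.Agent

namespace Groth.Agent.S9447

open TensorProduct in
/-- Formal smoothness descends along faithfully flat base change: for R → S arbitrary and R → R'
faithfully flat, the R-algebra S is formally smooth exactly when the R'-algebra R' ⊗_R S is formally
smooth. No finiteness hypothesis on S. -/
theorem result (R : Type u) [CommRing R]
    (S : Type u) [CommRing S] [Algebra R S] (R' : Type u) [CommRing R'] [Algebra R R']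
    [Module.FaithfullyFlat R R'] :
    Algebra.FormallySmooth R S ↔ Algebra.FormallySmooth R' (R' ⊗[R] S) := by
  refine ⟨fun h => inferInstance, fun h => ?_⟩
  letI : Algebra R' (S ⊗[R] R') := Algebra.TensorProduct.rightAlgebra
  haveI : IsScalarTower R R' (S ⊗[R] R') := Algebra.TensorProduct.right_isScalarTower
  let e : R' ⊗[R] S ≃ₐ[R'] S ⊗[R] R' :=
    AlgEquiv.ofRingEquiv (f := (Algebra.TensorProduct.comm R R' S).toRingEquiv) fun x => by simp [RingHom.algebraMap_toAlgebra]
  haveI hB : Algebra.FormallySmooth R' (S ⊗[R] R') := (Algebra.FormallySmooth.iff_of_equiv e).mp h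
  haveI : Module.Projective (S ⊗[R] R') ((S ⊗[R] R') ⊗[S] Ω[S⁄R]) :=
    Module.Projective.of_equiv (KaehlerDifferential.tensorKaehlerEquiv R R' S (S ⊗[R] R')).symm
  refine ⟨S0585.result S (S ⊗[R] R') Ω[S⁄R], ?_⟩
  haveI : Subsingleton (R' ⊗[R] Algebra.H1Cotangent R S) :=
    (Algebra.tensorH1CotangentOfFlat R S R').toEquiv.subsingleton
  exact Module.FaithfullyFlat.lTensor_reflects_triviality R R' (Algebra.H1Cotangent R S)

end Groth.Agent.S9447
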