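import Groth.Statements.S9448
import Groth.Agent.EtaleCrit.Basic
import Groth.Agent.CartierEq.Basic
import Mathlib

set_option autoImplicit false
universe u
open Unram

namespace Groth.Agent.S9448

/-- For a field k and a finite type algebra A over the polynomial ring k[x_1, …, x_n] (the variables
mapping to a_1, …, a_n), the structure map is étale if and only if (a) the local rings of A at all
maximal ideals have dimension n and (b) da_1, …, da_n generate the module of differentials of A over
k. -/
theorem result (k : Type u) [Field k] (n : ℕ)
    (A : Type u) [CommRing A] [Algebra k A] [Algebra (MvPolynomial (Fin n) k) A]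
    [IsScalarTower k (MvPolynomial (Fin n) k) A] [Algebra.FiniteType (MvPolynomial (Fin n) k) A] :
    Algebra.Etale (MvPolynomial (Fin n) k) A ↔
      (∀ (m : Ideal A) [m.IsMaximal], ringKrullDim (Localization.AtPrime m) = n) ∧
        Submodule.span A (Set.range fun i : Fin n =>
          KaehlerDifferential.D k A (algebraMap (MvPolynomial (Fin n) k) A (MvPolynomial.X i))) = ⊤ := by
  classical
  let P := MvPolynomial (Fin n) k
  haveI : Algebra.FiniteType k A := Algebra.FiniteType.trans (S := P) inferInstance inferInstance
  haveI : IsNoetherianRing A := Algebra.FiniteType.isNoetherianRing k A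
  let b := (KaehlerDifferential.mvPolynomialBasis k (Fin n)).baseChange A
  have hb : ∀ i, KaehlerDifferential.mapBaseChange k P A (b i) =
      KaehlerDifferential.D k A (algebraMap P A (MvPolynomial.X i)) := fun i => by
    rw [Module.Basis.baseChange_apply, KaehlerDifferential.mapBaseChange_tmul, one_smul,
      KaehlerDifferential.mvPolynomialBasis_apply, KaehlerDifferential.map_D]
  constructor
  · intro h
    refine ⟨fun m _ => ?_, ?_⟩
    · let M := m.comap (algebraMap P A)
      haveI : M.IsMaximal := by
        letI := Ideal.Quotient.field m
        haveI : Module.Finite k (A ⧸ m) := finite_of_finite_type_of_isJacobsonRing _ _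
        haveI : Algebra.IsIntegral P (A ⧸ m) := Algebra.IsIntegral.tower_top (R := k)
        haveI := Ideal.bot_isMaximal (K := A ⧸ m)
        have h1 := Ideal.isMaximal_comap_of_isIntegral_of_isMaximal (R := P) (S := A ⧸ m) ⊥
        have h2 : (⊥ : Ideal (A ⧸ m)).comap (algebraMap P (A ⧸ m)) = M := by
          rw [IsScalarTower.algebraMap_eq P A (A ⧸ m), ← Ideal.comap_comap]
          congr 1
          exact Ideal.mk_ker
        exact h2 ▸ h1
      haveI : m.LiesOver M := ⟨rfl⟩
      haveI : Algebra.QuasiFinite P A := inferInstance
      haveI : Module.Flat P A := inferInstance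
      rw [IsLocalization.AtPrime.ringKrullDim_eq_height m,
        Ideal.height_eq_height_add_of_liesOver_of_hasGoingDown M m,
        (Groth.Agent.CartierEq.height_and_generators k n M).1]
      have hle : M.map (algebraMap P A) ≤ m := Ideal.map_comap_le
      have hker : RingHom.ker (Ideal.Quotient.mk (M.map (algebraMap P A))) ≤ m := by
        rw [Ideal.mk_ker]; exact hle
      haveI hP' : (m.map (Ideal.Quotient.mk (M.map (algebraMap P A)))).IsPrime :=
        Ideal.map_isPrime_of_surjective Ideal.Quotient.mk_surjective hker
      have h0 : (m.map (Ideal.Quotient.mk (M.map (algebraMap P A)))).height = 0 := by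
        rw [Ideal.height_eq_zero_iff]
        refine ⟨⟨hP', bot_le⟩, fun q hq hqle => ?_⟩
        obtain ⟨hqp, -⟩ := hq
        let q' := q.comap (Ideal.Quotient.mk (M.map (algebraMap P A)))
        have hq' : q' ≤ m := fun x hx => (Ideal.mem_quotient_iff_mem hle).1 (hqle hx)
        have hMq : M.map (algebraMap P A) ≤ q' := by
          rw [← Ideal.mk_ker (I := M.map (algebraMap P A)), RingHom.ker]
          exact Ideal.comap_mono bot_le
        have heq : q' = m := by
          refine Algebra.QuasiFinite.eq_of_le_of_under_eq (R := P) q' m hq' ?_
          refine le_antisymm (Ideal.comap_mono hq') ?_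
          exact fun x hx => hMq (Ideal.mem_map_of_mem _ hx)
        rw [← heq, Ideal.map_comap_of_surjective _ Ideal.Quotient.mk_surjective]
      rw [h0, add_zero]
      rfl
    · rw [eq_top_iff]
      rintro w -
      let e := KaehlerDifferential.tensorKaehlerEquivOfFormallyEtale k P A
      obtain ⟨t, rfl⟩ := e.surjective w
      rw [KaehlerDifferential.tensorKaehlerEquivOfFormallyEtale_apply, ← b.sum_repr t, map_sum]
      refine Submodule.sum_mem _ fun i _ => ?_
      rw [map_smul, hb]
      exact Submodule.smul_mem _ _ (Submodule.subset_span ⟨i, rfl⟩)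
  · rintro ⟨hdim, hspan⟩
    obtain ⟨hsm, hind⟩ := Groth.Agent.EtaleCrit.smooth_and_independent
      (fun i => algebraMap P A (MvPolynomial.X i)) (fun m _ => (hdim m).ge) hspan
    have hinj : Function.Injective (KaehlerDifferential.mapBaseChange k P A) := by
      refine (injective_iff_map_eq_zero _).2 fun t ht => ?_
      rw [← b.sum_repr t, map_sum] at ht
      simp only [map_smul, hb] at ht
      refine b.repr.injective ?_
      ext i
      rw [map_zero]
      exact hind _ ht i
    haveI : Algebra.FormallyEtale P A := by
      refine ⟨?_, ?_⟩
      · refine subsingleton_of_forall_eq 0 fun w => ?_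
        obtain ⟨v, rfl⟩ := KaehlerDifferential.map_surjective k P A w
        refine ((KaehlerDifferential.exact_mapBaseChange_map k P A) v).2 ?_
        have hv : v ∈ Submodule.span A (Set.range fun i : Fin n =>
            KaehlerDifferential.D k A (algebraMap P A (MvPolynomial.X i))) := hspan ▸ Submodule.mem_top
        obtain ⟨f, rfl⟩ := (Submodule.mem_span_range_iff_exists_fun A).1 hv
        exact ⟨∑ i, f i • b i, by simp [map_sum, hb]⟩
      · haveI := hsm.subsingleton_h1Cotangent
        refine subsingleton_of_forall_eq 0 fun z => ?_
        have hz : Algebra.H1Cotangent.δ k P A z = 0 := hinj (by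
          rw [map_zero]
          exact (Algebra.H1Cotangent.exact_δ_mapBaseChange k P A).apply_apply_eq_zero z)
        obtain ⟨y, rfl⟩ := (Algebra.H1Cotangent.exact_map_δ k P A z).1 hz
        rw [Subsingleton.elim y 0, map_zero]
    haveI : Algebra.FinitePresentation P A := Algebra.FinitePresentation.of_finiteType.1 inferInstance
    exact ⟨inferInstance, inferInstance⟩

end Groth.Agent.S9448
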