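import Groth.Statements.S9449
-- import your own Groth.Agent.* helpers here
import Groth.Agent.UnramSplitAlg.Basic
import Groth.Agent.UnivInjMor.MonoUnram

set_option autoImplicit false
universe u
open Unram

namespace Groth.Agent.S9449

open TensorProduct in
/-- For an unramified ring map R → S and a prime p of R there exist an étale R-algebra R', a prime p' of
R' lying over p and a decomposition R' ⊗_R S ≅ A_1 × ⋯ × A_n × B of R'-algebras with every R' → A_i
surjective, p'A_i a prime ideal of A_i whose preimage in R' is p', and no prime of B lying over p'. -/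
theorem result (R : Type u) [CommRing R]
    (S : Type u) [CommRing S] [Algebra R S] [Algebra.Unramified R S] (p : Ideal R) [p.IsPrime] :
    ∃ (R' : Type u) (_ : CommRing R') (_ : Algebra R R') (_ : Algebra.Etale R R') (p' : Ideal R')
      (_ : p'.IsPrime) (_ : p'.LiesOver p) (n : ℕ) (A : Fin n → Type u) (_ : ∀ i, CommRing (A i))
      (_ : ∀ i, Algebra R' (A i)) (B : Type u) (_ : CommRing B) (_ : Algebra R' B),
      Nonempty ((R' ⊗[R] S) ≃ₐ[R'] ((∀ i, A i) × B)) ∧
        (∀ i, Function.Surjective (algebraMap R' (A i)) ∧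
          (p'.map (algebraMap R' (A i))).IsPrime ∧
          (p'.map (algebraMap R' (A i))).comap (algebraMap R' (A i)) = p') ∧
        ∀ (q : Ideal B) [q.IsPrime], q.comap (algebraMap R' B) ≠ p' := by
  classical
  let p₀ : PrimeSpectrum R := ⟨p, inferInstance⟩
  haveI : Algebra.QuasiFinite R S := UnivInjMor.quasiFinite_of_unramified
  haveI : Finite (PrimeSpectrum.comap (algebraMap R S) ⁻¹' {p₀}) :=
    (Algebra.QuasiFinite.finite_comap_preimage_singleton (S := S) p₀).to_subtype
  obtain ⟨m, ⟨σ⟩⟩ := Finite.exists_equiv_fin (PrimeSpectrum.comap (algebraMap R S) ⁻¹' {p₀})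
  obtain ⟨R', _, _, _, p', hp', n, lab, e, v, he, hv, hall, -⟩ :=
    UnramSplitAlg.exists_split R S p₀ (fun i : Fin m => (σ.symm i).1) (fun i => (σ.symm i).2)
      (fun i => Algebra.FormallyUnramified.comp R S (Localization.AtPrime (σ.symm i).1.asIdeal))
  haveI : p'.asIdeal.LiesOver p := ⟨(congrArg PrimeSpectrum.asIdeal hp').symm⟩
  refine ⟨R', inferInstance, inferInstance, inferInstance, p'.asIdeal, inferInstance, inferInstance, n,
    fun k => (R' ⊗[R] S) ⧸ Ideal.span {1 - e k}, fun k => inferInstance, fun k => inferInstance,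
    (R' ⊗[R] S) ⧸ Ideal.span {∑ k, e k}, inferInstance, inferInstance, ⟨?_⟩, fun k => ?_, ?_⟩
  · exact AlgEquiv.ofBijective
      ((Pi.algHom R' (fun k : Fin n => (R' ⊗[R] S) ⧸ Ideal.span {1 - e k})
        (fun k => Ideal.Quotient.mkₐ R' _)).prod (Ideal.Quotient.mkₐ R' (Ideal.span {∑ k, e k})))
      (UnramSplitAlg.bijective_prod e he)
  · obtain ⟨h1, h2, -, h4⟩ := hv k
    obtain ⟨a, b, -⟩ := UnramSplitAlg.piece_prime (e k) (he.idem k) (v k) h1 p' h2 h4
    exact ⟨h4, a, b⟩
  · intro q hq hqp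
    let w : PrimeSpectrum (R' ⊗[R] S) :=
      PrimeSpectrum.comap (Ideal.Quotient.mk (Ideal.span {∑ k, e k})) ⟨q, hq⟩
    have hw : PrimeSpectrum.comap (algebraMap R' (R' ⊗[R] S)) w = p' := PrimeSpectrum.ext hqp
    have hw' : PrimeSpectrum.comap (algebraMap R S)
        (PrimeSpectrum.comap (Algebra.TensorProduct.includeRight : S →ₐ[R] R' ⊗[R] S).toRingHom w) = p₀ := by
      have hcomp : (Algebra.TensorProduct.includeRight : S →ₐ[R] R' ⊗[R] S).toRingHom.comp (algebraMap R S) =
          (algebraMap R' (R' ⊗[R] S)).comp (algebraMap R R') := RingHom.ext fun r =>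
        ((Algebra.TensorProduct.includeRight : S →ₐ[R] R' ⊗[R] S).commutes r).trans
          (IsScalarTower.algebraMap_apply R R' (R' ⊗[R] S) r)
      rw [← PrimeSpectrum.comap_comp_apply, hcomp, PrimeSpectrum.comap_comp_apply, hw, hp']
    obtain ⟨k, hk⟩ := hall w hw ⟨σ ⟨_, hw'⟩, by simp⟩
    refine (hv k).1 ?_
    rw [← hk]
    have hsum : ∑ l, e l ∈ w.asIdeal := by
      show Ideal.Quotient.mk _ (∑ l, e l) ∈ q
      rw [Ideal.Quotient.eq_zero_iff_mem.2 (Ideal.mem_span_singleton_self _)]
      exact zero_mem q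
    have := w.asIdeal.mul_mem_left (e k) hsum
    rwa [he.mul_sum_of_mem (Finset.mem_univ k)] at this

end Groth.Agent.S9449
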