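import Groth.Statements.S9450
import Mathlib.LinearAlgebra.TensorProduct.Quotient

set_option autoImplicit false
universe u
open CAlg

namespace Groth.Agent.S9450

theorem mem_smul_of_one_tmul_eq_zero {B C M : Type u} [CommRing B] [CommRing C] [Algebra B C]
    [AddCommGroup M] [Module B M] (h : Function.Surjective (algebraMap B C)) (w : M)
    (hw : (1 : C) ⊗ₜ[B] w = 0) : w ∈ (RingHom.ker (algebraMap B C)) • (⊤ : Submodule B M) := by
  let e : (B ⧸ RingHom.ker (algebraMap B C)) ≃ₐ[B] C :=
    Ideal.quotientKerAlgEquivOfSurjective (f := Algebra.ofId B C) h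
  have h1 := congrArg (TensorProduct.congr e.symm.toLinearEquiv (LinearEquiv.refl B M)) hw
  rw [map_zero, TensorProduct.congr_tmul] at h1
  have h2 := congrArg (TensorProduct.quotTensorEquivQuotSMul M (RingHom.ker (algebraMap B C))) h1
  rw [map_zero] at h2
  have h3 : e.symm.toLinearEquiv (1 : C) = Ideal.Quotient.mk _ (1 : B) := map_one e.symm
  rw [h3, LinearEquiv.refl_apply, TensorProduct.quotTensorEquivQuotSMul_mk_tmul, one_smul,
    Submodule.Quotient.mk_eq_zero] at h2
  exact h2

/-- For ring maps A → B → C with A → C surjective and A → B formally smooth, writing I = ker(A → C) and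
J = ker(B → C), the sequence 0 → I/I² → J/J² → C ⊗_B Ω_{B/A} → 0 is split exact: the first map is
injective and admits an A-linear retraction, its range is the kernel of the second map (class of x ↦
1 ⊗ dx), and the second map is surjective. -/
theorem result (A : Type u) [CommRing A]
    (B : Type u) [CommRing B] [Algebra A B] [Algebra.FormallySmooth A B] (C : Type u) [CommRing C]
    [Algebra B C] [Algebra A C] [IsScalarTower A B C] (hC : Function.Surjective (algebraMap A C)) :
    Function.Injective (Ideal.mapCotangent (RingHom.ker (algebraMap A C))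
        (RingHom.ker (algebraMap B C)) (Algebra.ofId A B)
        (le_of_eq (congrArg RingHom.ker (IsScalarTower.algebraMap_eq A B C)))) ∧
      (∃ r : (RingHom.ker (algebraMap B C)).Cotangent →ₗ[A] (RingHom.ker (algebraMap A C)).Cotangent,
        r ∘ₗ (Ideal.mapCotangent (RingHom.ker (algebraMap A C)) (RingHom.ker (algebraMap B C))
          (Algebra.ofId A B)
          (le_of_eq (congrArg RingHom.ker (IsScalarTower.algebraMap_eq A B C)))) = LinearMap.id) ∧
      LinearMap.range (Ideal.mapCotangent (RingHom.ker (algebraMap A C))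
          (RingHom.ker (algebraMap B C)) (Algebra.ofId A B)
          (le_of_eq (congrArg RingHom.ker (IsScalarTower.algebraMap_eq A B C)))) =
        LinearMap.ker ((KaehlerDifferential.kerCotangentToTensor A B C).restrictScalars A) ∧
      Function.Surjective (KaehlerDifferential.kerCotangentToTensor A B C) := by
  let I := RingHom.ker (algebraMap A C)
  let J := RingHom.ker (algebraMap B C)
  have hBC : Function.Surjective (algebraMap B C) := fun c => by
    obtain ⟨a, rfl⟩ := hC c
    exact ⟨algebraMap A B a, (IsScalarTower.algebraMap_apply A B C a).symm⟩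
  let g : (A ⧸ I ^ 2) →ₐ[A] C := Ideal.Quotient.liftₐ (I ^ 2) (Algebra.ofId A C)
    (fun a ha => RingHom.mem_ker.1 (Ideal.pow_le_self two_ne_zero ha))
  have hgmk : ∀ a : A, g (Ideal.Quotient.mk (I ^ 2) a) = algebraMap A C a := fun a => rfl
  have hg : Function.Surjective g := fun c => by
    obtain ⟨a, rfl⟩ := hC c
    exact ⟨Ideal.Quotient.mk _ a, rfl⟩
  have hker : RingHom.ker (g : (A ⧸ I ^ 2) →+* C) = I.cotangentIdeal := by
    refine le_antisymm (fun x hx => ?_) ?_
    · obtain ⟨a, rfl⟩ := Ideal.Quotient.mk_surjective x
      exact Submodule.mem_map_of_mem (f := (I ^ 2).mkQ) (RingHom.mem_ker.2 (hgmk a ▸ hx))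
    · rintro x ⟨a, ha, rfl⟩
      exact (hgmk a).trans (RingHom.mem_ker.1 ha)
  have hg' : IsNilpotent (RingHom.ker (g : (A ⧸ I ^ 2) →+* C)) := by
    rw [hker]
    exact ⟨2, I.cotangentIdeal_square⟩
  let σ : B →ₐ[A] A ⧸ I ^ 2 :=
    Algebra.FormallySmooth.liftOfSurjective (IsScalarTower.toAlgHom A B C) g hg hg'
  have hσ : ∀ b, g (σ b) = algebraMap B C b :=
    fun b => Algebra.FormallySmooth.liftOfSurjective_apply _ g hg hg' b
  have hmem : ∀ x : J, σ (x : B) ∈ I.cotangentIdeal := fun x => by
    rw [← hker, RingHom.mem_ker]
    exact (hσ x).trans (RingHom.mem_ker.1 x.2)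
  let fl : J →ₗ[A] I.cotangentIdeal :=
    { toFun := fun x => ⟨σ (x : B), hmem x⟩
      map_add' := fun x y => Subtype.ext (map_add σ _ _)
      map_smul' := fun c x => Subtype.ext (map_smul σ c (x : B)) }
  let r : J.Cotangent →ₗ[A] I.Cotangent :=
    I.cotangentEquivIdeal.symm.toLinearMap ∘ₗ Ideal.Cotangent.lift fl (fun x y => by
      apply Subtype.ext
      show σ ((x * y : J) : B) = 0
      have h1 : ((x * y : J) : B) = (x : B) * (y : B) := rfl
      have h2 : σ (x : B) * σ (y : B) ∈ I.cotangentIdeal * I.cotangentIdeal :=
        Ideal.mul_mem_mul (hmem x) (hmem y)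
      rw [← pow_two, I.cotangentIdeal_square] at h2
      rw [h1, map_mul]
      exact h2)
  have hle : I ≤ J.comap (Algebra.ofId A B) := fun a ha => by
    rw [Ideal.mem_comap, RingHom.mem_ker]
    exact (IsScalarTower.algebraMap_apply A B C a).symm.trans (RingHom.mem_ker.1 ha)
  have hr : ∀ v : I.Cotangent, r (Ideal.mapCotangent I J (Algebra.ofId A B) hle v) = v := fun v => by
    obtain ⟨a, rfl⟩ := Ideal.toCotangent_surjective _ v
    rw [Ideal.mapCotangent_toCotangent]
    apply I.cotangentEquivIdeal.injective
    show I.cotangentEquivIdeal (I.cotangentEquivIdeal.symm _) = _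
    rw [LinearEquiv.apply_symm_apply]
    exact Subtype.ext (σ.commutes _)
  refine ⟨Function.LeftInverse.injective hr, ⟨r, LinearMap.ext hr⟩, ?_, ?_⟩
  · refine le_antisymm ?_ ?_
    · rintro _ ⟨v, rfl⟩
      obtain ⟨a, rfl⟩ := Ideal.toCotangent_surjective _ v
      show KaehlerDifferential.kerCotangentToTensor A B C _ = 0
      rw [Ideal.mapCotangent_toCotangent, KaehlerDifferential.kerCotangentToTensor_toCotangent]
      simp
    · intro v hv
      obtain ⟨x, rfl⟩ := Ideal.toCotangent_surjective _ v
      replace hv : (1 : C) ⊗ₜ[B] KaehlerDifferential.D A B (x : B) = 0 :=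
        (KaehlerDifferential.kerCotangentToTensor_toCotangent A B C x).symm.trans hv
      choose a ha using fun b : B => Ideal.Quotient.mk_surjective (σ b)
      have hmemJ : ∀ (b : B) (c : A), Ideal.Quotient.mk (I ^ 2) c = σ b →
          b - algebraMap A B c ∈ J := fun b c hc => by
        rw [RingHom.mem_ker, map_sub, ← IsScalarTower.algebraMap_apply, ← hgmk, hc, hσ, sub_self]
      let Df : B → J.Cotangent := fun b => J.toCotangent ⟨b - algebraMap A B (a b), hmemJ b _ (ha b)⟩
      have key : ∀ (b : B) (c : A) (hc : Ideal.Quotient.mk (I ^ 2) c = σ b),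
          Df b = J.toCotangent ⟨b - algebraMap A B c, hmemJ b c hc⟩ := fun b c hc => by
        rw [Ideal.toCotangent_eq]
        show (b - algebraMap A B (a b)) - (b - algebraMap A B c) ∈ J ^ 2
        rw [sub_sub_sub_cancel_left, ← map_sub]
        have h1 : c - a b ∈ I ^ 2 := Ideal.Quotient.eq.1 (hc.trans (ha b).symm)
        have h2 : (I ^ 2).map (algebraMap A B) ≤ J ^ 2 := by
          rw [Ideal.map_pow]
          exact Ideal.pow_right_mono (Ideal.map_le_iff_le_comap.2 hle) 2
        exact h2 (Ideal.mem_map_of_mem _ h1)
      let Dl : B →ₗ[A] J.Cotangent :=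
        { toFun := Df
          map_add' := fun b b' => by
            rw [key (b + b') (a b + a b') (by rw [map_add, ha, ha, map_add])]
            refine (congrArg J.toCotangent (Subtype.ext ?_)).trans (map_add J.toCotangent _ _)
            show b + b' - algebraMap A B (a b + a b') = _ + _
            rw [map_add]
            ring
          map_smul' := fun c b => by
            rw [key (c • b) (c * a b) (by
              rw [map_mul, ha, map_smul, Algebra.smul_def, Ideal.Quotient.algebraMap_eq])]
            show _ = c • Df b
            rw [← IsScalarTower.algebraMap_smul B c (Df b)]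
            refine (congrArg J.toCotangent (Subtype.ext ?_)).trans
              (map_smul J.toCotangent (algebraMap A B c) _)
            show c • b - algebraMap A B (c * a b) = algebraMap A B c * (b - algebraMap A B (a b))
            rw [map_mul, Algebra.smul_def]
            ring }
      have hleib : ∀ b b' : B, Dl (b * b') = b • Dl b' + b' • Dl b := fun b b' => by
        show Df (b * b') = b • Df b' + b' • Df b
        rw [key (b * b') (a b * a b') (by rw [map_mul, ha, ha, map_mul])]
        rw [← map_smul, ← map_smul, ← map_add, Ideal.toCotangent_eq]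
        show (b * b' - algebraMap A B (a b * a b')) - (b * (b' - algebraMap A B (a b'))
          + b' * (b - algebraMap A B (a b))) ∈ J ^ 2
        rw [map_mul]
        have h3 : (b * b' - algebraMap A B (a b) * algebraMap A B (a b')) -
            (b * (b' - algebraMap A B (a b')) + b' * (b - algebraMap A B (a b))) =
            -((b - algebraMap A B (a b)) * (b' - algebraMap A B (a b'))) := by ring
        rw [h3, pow_two]
        exact neg_mem (Ideal.mul_mem_mul (hmemJ b _ (ha b)) (hmemJ b' _ (ha b')))
      let D : Derivation A B J.Cotangent := Derivation.mk' Dl hleib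
      have hD0 : D (x : B) = 0 := by
        rw [← D.liftKaehlerDifferential_comp_D]
        refine Submodule.smul_induction_on (mem_smul_of_one_tmul_eq_zero hBC _ hv)
          (fun c hc w _ => ?_) (fun w w' h h' => by rw [map_add, h, h', add_zero])
        rw [map_smul]
        exact Ideal.Cotangent.smul_eq_zero_of_mem hc _
      have haI : a (x : B) ∈ I := by
        rw [RingHom.mem_ker, ← hgmk, ha, hσ]
        exact x.2
      refine ⟨I.toCotangent ⟨a (x : B), haI⟩, ?_⟩
      have h4 : J.toCotangent ⟨(x : B) - algebraMap A B (a (x : B)), hmemJ _ _ (ha _)⟩ = 0 := hD0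
      rw [Ideal.toCotangent_eq_zero] at h4
      rw [Ideal.mapCotangent_toCotangent, Ideal.toCotangent_eq]
      have h5 := neg_mem h4
      rwa [neg_sub] at h5
  · intro t
    have : Subsingleton (Ω[C⁄A]) := KaehlerDifferential.subsingleton_of_surjective A C hC
    exact (KaehlerDifferential.exact_kerCotangentToTensor_mapBaseChange A B C hBC t).1
      (Subsingleton.elim _ _)

end Groth.Agent.S9450
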