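import Groth.Statements.S9451
import Groth.Agent.RingModel.Colimit

set_option autoImplicit false
universe u
open CategoryTheory CategoryTheory.Limits TensorProduct
open CAlg

namespace Groth.Agent.S9451

/-- Let (A_i) be a filtered system of rings with colimit A and B a smooth A-algebra. Then some stage A_i
carries a smooth A_i-algebra B_i with B isomorphic to A ⊗_{A_i} B_i as A-algebras (the base change
along the colimit map A_i → A; existence of an isomorphism). -/
theorem result {I : Type u} [SmallCategory I] [IsFiltered I]
    (D : I ⥤ CommRingCat.{u}) (c : Cocone D) (hc : IsColimit c) (B : Type u) [CommRing B]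
    [Algebra c.pt B] [Algebra.Smooth c.pt B] :
    ∃ (i : I) (Bi : Type u) (_ : CommRing Bi) (_ : Algebra (D.obj i) Bi),
      Algebra.Smooth (D.obj i) Bi ∧
      (letI : Algebra (D.obj i) c.pt := (c.ι.app i).hom.toAlgebra
       Nonempty (B ≃ₐ[c.pt] (c.pt ⊗[D.obj i] Bi))) := by
  refine Groth.Agent.RingModel.exists_stage_model (A := c.pt) (B := B)
    (fun R S [CommRing R] [CommRing S] [Algebra R S] => Algebra.Smooth R S)
    (fun R S T _ _ _ _ _ h => inferInstance) (Algebra.Smooth.exists_subalgebra_fg ℤ c.pt B)
    (fun i => D.obj i) (fun i => ((c.ι.app i).hom : D.obj i →+* c.pt))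
    ?_ ?_
  · exact Groth.Agent.RingModel.hlift_colimit D c hc
  · exact Groth.Agent.RingModel.heq_colimit D c hc

end Groth.Agent.S9451
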