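import Groth.Statements.S9452
-- import your own Groth.Agent.* helpers here
import Groth.Agent.UnramSplitAlg.Basic

set_option autoImplicit false
universe u
open Unram

namespace Groth.Agent.S9452

open TensorProduct in
/-- Let R → S be of finite type and unramified at a prime q lying over p. Then there are an étale
R-algebra R', a prime p' of R' over p and an R'-algebra isomorphism e : R' ⊗_R S ≅ A × B with R' → A
surjective and p'A a prime ideal of A lying over p' whose pull-back along S → R' ⊗_R S ≅ A × B → A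
is q. -/
theorem result (R : Type u) [CommRing R]
    (S : Type u) [CommRing S] [Algebra R S] [Algebra.FiniteType R S] (q : Ideal S) [q.IsPrime]
    [Algebra.IsUnramifiedAt R q] :
    ∃ (R' : Type u) (_ : CommRing R') (_ : Algebra R R') (_ : Algebra.Etale R R') (p' : Ideal R')
      (_ : p'.IsPrime) (_ : p'.LiesOver (q.under R)) (A : Type u) (_ : CommRing A) (_ : Algebra R' A)
      (B : Type u) (_ : CommRing B) (_ : Algebra R' B) (e : (R' ⊗[R] S) ≃ₐ[R'] (A × B)),
      Function.Surjective (algebraMap R' A) ∧ (p'.map (algebraMap R' A)).IsPrime ∧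
        (p'.map (algebraMap R' A)).comap (algebraMap R' A) = p' ∧
        (p'.map (algebraMap R' A)).comap (((RingHom.fst A B).comp e.toRingHom).comp
          (Algebra.TensorProduct.includeRight : S →ₐ[R] R' ⊗[R] S).toRingHom) = q := by
  let x₀ : PrimeSpectrum S := ⟨q, inferInstance⟩
  obtain ⟨R', _, _, _, p', hp', n, lab, e, v, he, hv, -, hex⟩ :=
    UnramSplitAlg.exists_split R S (PrimeSpectrum.comap (algebraMap R S) x₀) (fun _ : Unit => x₀)
      (fun _ => rfl) (fun _ => inferInstanceAs (Algebra.IsUnramifiedAt R q))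
  obtain ⟨k, hk⟩ := hex ()
  haveI : p'.asIdeal.LiesOver (q.under R) := ⟨(congrArg PrimeSpectrum.asIdeal hp').symm⟩
  obtain ⟨h1, h2, -, h4⟩ := hv k
  obtain ⟨a, b, c⟩ := UnramSplitAlg.piece_prime (e k) (he.idem k) (v k) h1 p' h2 h4
  have hbij : Function.Bijective ((Ideal.Quotient.mk (Ideal.span {1 - e k})).prod
      (Ideal.Quotient.mk (Ideal.span {e k}))) :=
    RingHom.prod_bijective_of_isIdempotentElem (he.idem k).one_sub (he.idem k) (sub_add_cancel 1 _)
      (by rw [sub_mul, one_mul, (he.idem k).eq, sub_self])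
  refine ⟨R', inferInstance, inferInstance, inferInstance, p'.asIdeal, inferInstance, inferInstance,
    (R' ⊗[R] S) ⧸ Ideal.span {1 - e k}, inferInstance, inferInstance,
    (R' ⊗[R] S) ⧸ Ideal.span {e k}, inferInstance, inferInstance,
    AlgEquiv.ofBijective ((Ideal.Quotient.mkₐ R' _).prod (Ideal.Quotient.mkₐ R' _)) hbij, h4, a, b, ?_⟩
  refine Eq.trans ?_ (congrArg PrimeSpectrum.asIdeal hk)
  rw [PrimeSpectrum.comap_asIdeal, ← c, Ideal.comap_comap]
  rfl

end Groth.Agent.S9452
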