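import Groth.Statements.S9454
import Groth.Agent.SplitAlg.Basic
import Mathlib.RingTheory.Unramified.LocalStructure

set_option autoImplicit false
universe u
open CAlg Groth.Agent

namespace Groth.Agent.S9454

open scoped TensorProduct in
theorem exists_common {R : Type u} [CommRing R] {ι : Type u} (C : ι → Type u) [∀ i, CommRing (C i)] [∀ i, Algebra R (C i)]
    (h1 : ∀ i, Module.Finite R (C i)) (h2 : ∀ i, Module.Free R (C i)) (h3 : ∀ i, Module.FaithfullyFlat R (C i)) :
    ∀ l : List ι, ∃ (S' : Type u) (_ : CommRing S') (_ : Algebra R S'), Module.Finite R S' ∧ Module.Free R S' ∧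
      Module.FaithfullyFlat R S' ∧ ∀ i ∈ l, Nonempty (C i →ₐ[R] S') := by
  intro l
  induction l with
  | nil => exact ⟨R, inferInstance, inferInstance, inferInstance, inferInstance, inferInstance, by simp⟩
  | cons a l ih =>
    obtain ⟨S', _, _, _, _, _, hl⟩ := ih
    haveI := h1 a
    haveI := h2 a
    haveI := h3 a
    refine ⟨C a ⊗[R] S', inferInstance, inferInstance, inferInstance, inferInstance,
      Module.FaithfullyFlat.trans R (C a) (C a ⊗[R] S'), fun i hi => ?_⟩
    rcases List.mem_cons.1 hi with rfl | hi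
    · exact ⟨Algebra.TensorProduct.includeLeft⟩
    · obtain ⟨χ⟩ := hl i hi
      exact ⟨Algebra.TensorProduct.includeRight.comp χ⟩

/-- For an étale ring map R → S which is surjective on spectra there is a finite, finitely presented,
flat R-algebra S' with Spec S' → Spec R surjective such that, Zariski locally on S', the structure
map factors through S: every prime q' of S' has some g' ∉ q' and an R-algebra map S → S'_{g'}. -/
theorem result (R : Type u) [CommRing R]
    (S : Type u) [CommRing S] [Algebra R S] [Algebra.Etale R S]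
    (hs : Function.Surjective (PrimeSpectrum.comap (algebraMap R S))) :
    ∃ (S' : Type u) (_ : CommRing S') (_ : Algebra R S'),
      Module.Finite R S' ∧ Algebra.FinitePresentation R S' ∧ Module.Flat R S' ∧
        Function.Surjective (PrimeSpectrum.comap (algebraMap R S')) ∧
        ∀ (q' : Ideal S') [q'.IsPrime], ∃ (g' : S') (_ : g' ∉ q'),
          Nonempty (S →ₐ[R] Localization.Away g') := by
  classical
  have hex : ∀ q : PrimeSpectrum S, ∃ g, g ∉ q.asIdeal ∧ Algebra.IsStandardEtale R (Localization.Away g) := fun q => by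
    haveI : Algebra.IsEtaleAt R q.asIdeal := Algebra.FormallyEtale.comp R S (Localization.AtPrime q.asIdeal)
    exact Algebra.IsEtaleAt.exists_isStandardEtale (R := R) q.asIdeal
  choose g hg hstd using hex
  obtain ⟨t, ht⟩ := (isCompact_univ (X := PrimeSpectrum S)).elim_finite_subcover
    (fun q => (PrimeSpectrum.basicOpen (g q) : Set (PrimeSpectrum S))) (fun q => (PrimeSpectrum.basicOpen (g q)).isOpen)
    (fun q _ => Set.mem_iUnion.2 ⟨q, hg q⟩)
  have hcov : ∀ q : PrimeSpectrum S, ∃ (C : Type u) (_ : CommRing C) (_ : Algebra R C), Module.Finite R C ∧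
      Module.Free R C ∧ Module.FaithfullyFlat R C ∧ ∀ (r : Ideal C) [r.IsPrime] (Q : PrimeSpectrum S),
        g q ∉ Q.asIdeal → r.under R = Q.asIdeal.under R →
        ∃ (g' : C) (_ : g' ∉ r), Nonempty (S →ₐ[R] Localization.Away g') := fun q => by
    haveI := hstd q
    obtain ⟨C, _, _, h1, h2, h3, h4⟩ := SplitAlg.exists_cover R (Localization.Away (g q))
    refine ⟨C, inferInstance, inferInstance, h1, h2, h3, fun r hr Q hQ hrQ => ?_⟩
    have hdisj : Disjoint (Submonoid.powers (g q) : Set S) (Q.asIdeal : Set S) :=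
      Set.disjoint_left.2 fun x hx hxq => by
        obtain ⟨k, rfl⟩ := hx
        exact hQ (Ideal.IsPrime.mem_of_pow_mem inferInstance k hxq)
    haveI : (Q.asIdeal.map (algebraMap S (Localization.Away (g q)))).IsPrime :=
      IsLocalization.isPrime_of_isPrime_disjoint (Submonoid.powers (g q)) _ _ inferInstance hdisj
    have hQT := IsLocalization.comap_map_of_isPrime_disjoint (Submonoid.powers (g q)) (Localization.Away (g q))
      Q.isPrime hdisj
    obtain ⟨g', hg', φ, -⟩ := h4 (Q.asIdeal.map (algebraMap S (Localization.Away (g q)))) r (by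
      rw [hrQ, ← Ideal.under_under (B := S) (Q.asIdeal.map (algebraMap S (Localization.Away (g q))))]
      exact congrArg (Ideal.under R) hQT.symm)
    exact ⟨g', hg', ⟨φ.comp (IsScalarTower.toAlgHom R S (Localization.Away (g q)))⟩⟩
  choose C hC1 hC2 hC3 hC4 hC5 hC6 using hcov
  obtain ⟨S', _, _, h1, h2, h3, χ⟩ := exists_common (R := R) C hC3 hC4 hC5 t.toList
  haveI : Module.FinitePresentation R S' := Module.finitePresentation_of_projective R S'
  refine ⟨S', inferInstance, inferInstance, h1, inferInstance, inferInstance,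
    PrimeSpectrum.comap_surjective_of_faithfullyFlat, fun q' hq' => ?_⟩
  obtain ⟨Q, hQ⟩ := hs (PrimeSpectrum.comap (algebraMap R S') ⟨q', hq'⟩)
  obtain ⟨q, hq⟩ := Set.mem_iUnion.1 (ht (Set.mem_univ Q))
  obtain ⟨hqt, hq⟩ := Set.mem_iUnion.1 hq
  obtain ⟨χq⟩ := χ q (Finset.mem_toList.2 hqt)
  obtain ⟨g', hg', ⟨φ⟩⟩ := hC6 q (q'.comap χq.toRingHom) Q hq (by
    change (q'.comap χq.toRingHom).comap (algebraMap R (C q)) = _
    rw [Ideal.comap_comap, show χq.toRingHom.comp (algebraMap R (C q)) = algebraMap R S' from χq.comp_algebraMap]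
    exact (congrArg PrimeSpectrum.asIdeal hQ).symm)
  exact ⟨χq g', hg', ⟨(IsLocalization.liftAlgHom (M := Submonoid.powers g')
    (f := (IsScalarTower.toAlgHom R S' (Localization.Away (χq g'))).comp χq) (fun y => by
      obtain ⟨_, k, rfl⟩ := y
      rw [map_pow]
      exact (IsLocalization.Away.algebraMap_isUnit (χq g')).pow k)).comp φ⟩⟩

end Groth.Agent.S9454
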