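import Groth.Statements.S9461
import Mathlib
import Groth.Agent.Hensel.TensorFinite
-- import your own Groth.Agent.* helpers here

set_option autoImplicit false
universe u
open Hensel

namespace Groth.Agent.S9461

/-- Let R → S be of finite type and quasi-finite at a prime q over p, and R^{sh}, S^{sh} strict
henselizations of R_p and S_q with a compatible local map R^{sh} → S^{sh} (over R). Then R^{sh} →
S^{sh} is finite and its residue field extension is finite and purely inseparable. (The published
statement also identifies S^{sh} with a localization of R^{sh} ⊗_{R_p} S_q; this row states only the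
finiteness and the residue-field assertions.) -/
theorem result (R : Type u) [CommRing R] (S : Type u)
    [CommRing S] [Algebra R S] [Algebra.FiniteType R S] (p : Ideal R) [p.IsPrime] (q : Ideal S)
    [q.IsPrime] [q.LiesOver p] [Algebra.QuasiFiniteAt R q]
    (Rh : Type u) [CommRing Rh] [IsLocalRing Rh] [Algebra (Localization.AtPrime p) Rh]
    [IsLocalHom (algebraMap (Localization.AtPrime p) Rh)]
    [Hensel.IsStrictHenselization (Localization.AtPrime p) Rh] [Algebra R Rh]
    [IsScalarTower R (Localization.AtPrime p) Rh]
    (Sh : Type u) [CommRing Sh] [IsLocalRing Sh] [Algebra (Localization.AtPrime q) Sh]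
    [IsLocalHom (algebraMap (Localization.AtPrime q) Sh)]
    [Hensel.IsStrictHenselization (Localization.AtPrime q) Sh] [Algebra S Sh]
    [IsScalarTower S (Localization.AtPrime q) Sh] [Algebra R Sh] [IsScalarTower R S Sh]
    [Algebra Rh Sh] [IsScalarTower R Rh Sh] [IsLocalHom (algebraMap Rh Sh)] :
    Module.Finite Rh Sh ∧
      Module.Finite (IsLocalRing.ResidueField Rh) (IsLocalRing.ResidueField Sh) ∧
      IsPurelyInseparable (IsLocalRing.ResidueField Rh) (IsLocalRing.ResidueField Sh) := by
  haveI : HenselianLocalRing Rh := _root_.Hensel.IsStrictHenselization.henselian (R := Localization.AtPrime p)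
  haveI := Hensel.finite_of_quasiFiniteAt R S p q Rh Sh (Hensel.strictHenselization_map_maximalIdeal _ Rh)
  haveI : Algebra.IsIntegral Rh (Localization.AtPrime (Hensel.tPoint R S Rh Sh)) := Algebra.IsIntegral.of_finite Rh _
  obtain ⟨e⟩ := Hensel.nonempty_strictEquiv_of_isIntegral R S p q Rh Sh
  haveI hfin : Module.Finite Rh Sh := Module.Finite.equiv e.toLinearEquiv
  haveI : IsSepClosed (IsLocalRing.ResidueField Rh) :=
    (_root_.Hensel.IsStrictHenselization.isSepClosure (R := Localization.AtPrime p) (S := Rh)).sep_closed
  haveI : Module.Finite Rh (IsLocalRing.ResidueField Sh) :=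
    Module.Finite.of_surjective (IsScalarTower.toAlgHom Rh Sh _).toLinearMap IsLocalRing.residue_surjective
  haveI : Module.Finite (IsLocalRing.ResidueField Rh) (IsLocalRing.ResidueField Sh) :=
    Module.Finite.of_restrictScalars_finite Rh _ _
  exact ⟨hfin, inferInstance, inferInstance⟩

end Groth.Agent.S9461
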