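import Groth.Statements.S9462
import Groth.Agent.MultT.NilIso
import Mathlib.RingTheory.Etale.Basic
import Mathlib.LinearAlgebra.TensorProduct.RightExactness

set_option autoImplicit false
universe u
open CAlg Groth.Agent
open scoped TensorProduct

namespace Groth.Agent.S9462

/-- Multiplication `M ⊗ I → M`. -/
noncomputable def mult {A : Type u} [CommRing A] (I : Ideal A) (M : Type u) [AddCommGroup M] [Module A M] :
    M ⊗[A] I →ₗ[A] M :=
  (TensorProduct.rid A M).toLinearMap.comp (LinearMap.lTensor M I.subtype)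

theorem mult_tmul {A : Type u} [CommRing A] (I : Ideal A) (M : Type u) [AddCommGroup M] [Module A M]
    (m : M) (i : I) : mult I M (m ⊗ₜ i) = (i : A) • m := by
  simp [mult]

theorem range_mult {A : Type u} [CommRing A] (I : Ideal A) {T : Type u} [CommRing T] [Algebra A T]
    {x : T} (hx : x ∈ I.map (algebraMap A T)) : ∃ t, mult I T t = x := by
  refine Submodule.span_induction ?_ ⟨0, map_zero _⟩ ?_ ?_ hx
  · rintro _ ⟨i, hi, rfl⟩
    exact ⟨1 ⊗ₜ ⟨i, hi⟩, by rw [mult_tmul, Algebra.smul_def, mul_one]⟩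
  · rintro _ _ _ _ ⟨t, rfl⟩ ⟨t', rfl⟩
    exact ⟨t + t', map_add _ _ _⟩
  · rintro c _ - ⟨t, rfl⟩
    refine ⟨TensorProduct.map (LinearMap.mulLeft A c) LinearMap.id t, ?_⟩
    induction t using TensorProduct.induction_on with
    | zero => simp
    | tmul m i => simp [mult_tmul, mul_smul_comm]
    | add a b ha hb => rw [map_add, map_add, map_add, ha, hb, smul_add]

theorem key (A' : Type u) [CommRing A'] (A : Type u) [CommRing A]
    [Algebra A' A] (hA : Function.Surjective (algebraMap A' A))
    (hI : RingHom.ker (algebraMap A' A) ^ 2 = ⊥)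
    (B' : Type u) [CommRing B'] [Algebra A' B'] (B : Type u) [CommRing B] [Algebra B' B]
    [Algebra A B] [Algebra A' B] [IsScalarTower A' A B] [IsScalarTower A' B' B]
    (hB : Function.Surjective (algebraMap B' B)) (hJ : RingHom.ker (algebraMap B' B) ^ 2 = ⊥)
    [Algebra.Etale A B]
    (hJI : RingHom.ker (algebraMap B' B) = (RingHom.ker (algebraMap A' A)).map (algebraMap A' B'))
    (hinj : Function.Injective ((RingHom.ker (algebraMap A' A)).subtype.baseChange B')) :
    ∃ (C : Type u) (_ : CommRing C) (_ : Algebra A' C), Algebra.Etale A' C ∧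
      ∃ φ : C →ₐ[A'] B', Function.Bijective φ := by
  set I := RingHom.ker (algebraMap A' A) with hIdef
  let eA : (A' ⧸ I) ≃ₐ[A'] A := Ideal.quotientKerAlgEquivOfSurjective (f := Algebra.ofId A' A) hA
  letI : Algebra (A' ⧸ I) A := eA.toRingHom.toAlgebra
  letI : Algebra (A' ⧸ I) B := ((algebraMap A B).comp eA.toRingHom).toAlgebra
  haveI : IsScalarTower (A' ⧸ I) A B := IsScalarTower.of_algebraMap_eq fun _ => rfl
  haveI : IsScalarTower A' (A' ⧸ I) B := IsScalarTower.of_algebraMap_eq fun a => by
    show algebraMap A' B a = algebraMap A B (eA (algebraMap A' (A' ⧸ I) a))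
    rw [eA.commutes, ← IsScalarTower.algebraMap_apply]
  haveI : Algebra.Etale (A' ⧸ I) A := Algebra.Etale.of_equiv
    (AlgEquiv.ofBijective (Algebra.ofId (A' ⧸ I) A) eA.bijective)
  haveI : Algebra.Etale (A' ⧸ I) B := Algebra.Etale.comp (A' ⧸ I) A B
  obtain ⟨T, _, _, hT, ⟨e⟩⟩ := MultT.exists_etale_lift (I := I)
    (fun x hx => ⟨2, Ideal.mem_bot.1 (hI ▸ Ideal.pow_mem_pow hx 2)⟩) B
  haveI := hT
  let π : T →ₐ[A'] B := (e.toAlgHom.restrictScalars A').comp (Ideal.Quotient.mkₐ A' _)
  have hπsurj : Function.Surjective π := e.surjective.comp Ideal.Quotient.mk_surjective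
  have hπker : ∀ x, π x = 0 → x ∈ I.map (algebraMap A' T) := fun x hx =>
    Ideal.Quotient.eq_zero_iff_mem.1 (e.injective (hx.trans (map_zero e).symm))
  let g : B' →ₐ[A'] B := IsScalarTower.toAlgHom A' B' B
  let φ : T →ₐ[A'] B' := Algebra.FormallySmooth.liftOfSurjective π g hB ⟨2, hJ⟩
  have hφ : ∀ x, algebraMap B' B (φ x) = π x := fun x =>
    Algebra.FormallySmooth.liftOfSurjective_apply π g hB ⟨2, hJ⟩ x
  have hsq : ∀ a ∈ I, ∀ z ∈ I.map (algebraMap A' B'), algebraMap A' B' a * z = 0 := fun a ha z hz => by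
    have h1 : algebraMap A' B' a * z ∈ (I.map (algebraMap A' B')) ^ 2 := by
      rw [pow_two]; exact Ideal.mul_mem_mul (Ideal.mem_map_of_mem _ ha) hz
    rw [← hJI, hJ] at h1
    exact Ideal.mem_bot.1 h1
  have hdec : ∀ y : B', ∃ t, y - φ t ∈ I.map (algebraMap A' B') := fun y => by
    obtain ⟨t, ht⟩ := hπsurj (algebraMap B' B y)
    exact ⟨t, by rw [← hJI, RingHom.mem_ker, map_sub, hφ, ht, sub_self]⟩
  have hIB : ∀ z ∈ I.map (algebraMap A' B'), ∃ t, φ t = z := by
    intro z hz
    obtain ⟨w, rfl⟩ := range_mult I hz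
    clear hz
    induction w using TensorProduct.induction_on with
    | zero => exact ⟨0, by simp⟩
    | tmul b i =>
        obtain ⟨t, ht⟩ := hdec b
        refine ⟨(i : A') • t, ?_⟩
        have := hsq _ i.2 _ ht
        rw [mul_sub, sub_eq_zero] at this
        rw [map_smul, mult_tmul, Algebra.smul_def, Algebra.smul_def, this]
    | add x y hx hy =>
        obtain ⟨a, ha⟩ := hx; obtain ⟨b, hb⟩ := hy
        exact ⟨a + b, by rw [map_add, map_add, ha, hb]⟩
  have hsurj : Function.Surjective φ := fun y => by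
    obtain ⟨t, ht⟩ := hdec y
    obtain ⟨t', ht'⟩ := hIB _ ht
    exact ⟨t + t', by rw [map_add, ht', add_sub_cancel]⟩
  refine ⟨T, inferInstance, inferInstance, hT, φ, (injective_iff_map_eq_zero φ).2 fun x hx => ?_, hsurj⟩
  obtain ⟨t, rfl⟩ := range_mult I (hπker x (by rw [← hφ, hx, map_zero]))
  have hnat : ∀ w, φ (mult I T w) = mult I B' (LinearMap.rTensor I φ.toLinearMap w) := fun w => by
    induction w using TensorProduct.induction_on with
    | zero => simp
    | tmul m i => simp [mult_tmul]
    | add a b ha hb => simp only [map_add, ha, hb]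
  have hzero : LinearMap.rTensor I φ.toLinearMap t = 0 := by
    have h1 : mult I B' (LinearMap.rTensor I φ.toLinearMap t) = 0 := by rw [← hnat, hx]
    rw [mult, LinearMap.comp_apply, LinearEquiv.coe_coe, LinearEquiv.map_eq_zero_iff] at h1
    exact hinj (h1.trans (map_zero (LinearMap.baseChange B' I.subtype)).symm)
  obtain ⟨w, rfl⟩ := ((rTensor_exact I (LinearMap.exact_subtype_ker_map φ.toLinearMap) hsurj) t).1 hzero
  clear hzero hx
  induction w using TensorProduct.induction_on with
  | zero => simp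
  | tmul k i =>
      have hk : (k : T) ∈ I.map (algebraMap A' T) :=
        hπker _ (by rw [← hφ]; exact (congrArg _ k.2).trans (map_zero _))
      rw [LinearMap.rTensor_tmul, mult_tmul, Algebra.smul_def]
      have h1 : algebraMap A' T (i : A') * (k : T) ∈ (I ^ 2).map (algebraMap A' T) := by
        rw [pow_two, Ideal.map_mul]; exact Ideal.mul_mem_mul (Ideal.mem_map_of_mem _ i.2) hk
      rw [hI, Ideal.map_bot] at h1
      exact Ideal.mem_bot.1 h1
  | add a b ha hb => rw [map_add, map_add, ha, hb, add_zero]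

open TensorProduct in
/-- Consider surjections A' → A and B' → B with square-zero kernels I and J and a commutative square A'
→ B', A → B. If A → B is étale and J = I ⊗_A B — that is, J = IB' and the multiplication map B'
⊗_{A'} I → B' is injective — then A' → B' is étale. -/
theorem result (A' : Type u) [CommRing A'] (A : Type u) [CommRing A]
    [Algebra A' A] (hA : Function.Surjective (algebraMap A' A))
    (hI : RingHom.ker (algebraMap A' A) ^ 2 = ⊥)
    (B' : Type u) [CommRing B'] [Algebra A' B'] (B : Type u) [CommRing B] [Algebra B' B]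
    [Algebra A B] [Algebra A' B] [IsScalarTower A' A B] [IsScalarTower A' B' B]
    (hB : Function.Surjective (algebraMap B' B)) (hJ : RingHom.ker (algebraMap B' B) ^ 2 = ⊥)
    [Algebra.Etale A B]
    (hJI : RingHom.ker (algebraMap B' B) = (RingHom.ker (algebraMap A' A)).map (algebraMap A' B'))
    (hinj : Function.Injective ((RingHom.ker (algebraMap A' A)).subtype.baseChange B')) :
    Algebra.Etale A' B' := by
  obtain ⟨C, _, _, hC, φ, hφ⟩ := key A' A hA hI B' B hB hJ hJI hinj
  haveI := hC
  exact Algebra.Etale.of_equiv (AlgEquiv.ofBijective φ hφ)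

end Groth.Agent.S9462
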