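import Groth.Statements.S9468
import Mathlib
import Groth.Agent.Hensel.EtNbhd
-- import your own Groth.Agent.* helpers here

set_option autoImplicit false
universe u
open Hensel

namespace Groth.Agent.S9468

/-- Let R be a ring and p a prime of R. Consider pairs (S, q) with S an étale R-algebra and q a prime of
S lying over p such that κ(p) → κ(q) is bijective; a morphism of pairs is an R-algebra map pulling
the second prime back to the first. Then any two pairs admit morphisms of pairs to a common third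
pair. -/
theorem result (R : Type u) [CommRing R]
    (p : Ideal R) [p.IsPrime] (S₁ : Type u) [CommRing S₁] [Algebra R S₁] [Algebra.Etale R S₁] (q₁ : Ideal S₁) [q₁.IsPrime] (hq₁ : p = q₁.comap (algebraMap R S₁))
    (hq₁κ : Function.Bijective (Ideal.ResidueField.map p q₁ (algebraMap R S₁) hq₁))
    (S₂ : Type u) [CommRing S₂] [Algebra R S₂] [Algebra.Etale R S₂] (q₂ : Ideal S₂) [q₂.IsPrime] (hq₂ : p = q₂.comap (algebraMap R S₂))
    (hq₂κ : Function.Bijective (Ideal.ResidueField.map p q₂ (algebraMap R S₂) hq₂)) :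
    ∃ (S₃ : Type u) (_ : CommRing S₃) (_ : Algebra R S₃) (_ : Algebra.Etale R S₃) (q₃ : Ideal S₃)
      (_ : q₃.IsPrime) (hq₃ : p = q₃.comap (algebraMap R S₃)),
      Function.Bijective (Ideal.ResidueField.map p q₃ (algebraMap R S₃) hq₃) ∧
        ∃ (φ₁ : S₁ →ₐ[R] S₃) (φ₂ : S₂ →ₐ[R] S₃),
          q₃.comap φ₁.toRingHom = q₁ ∧ q₃.comap φ₂.toRingHom = q₂ := by
  obtain ⟨θ₁, hθ₁, hk₁, -⟩ := Hensel.exists_hom_of_residueMap_bijective p hq₁ hq₁κ
  obtain ⟨θ₂, hθ₂, hk₂, -⟩ := Hensel.exists_hom_of_residueMap_bijective p hq₂ hq₂κ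
  let t₁ : S₁ →ₐ[R] p.ResidueField := { θ₁ with commutes' := RingHom.congr_fun hθ₁ }
  let t₂ : S₂ →ₐ[R] p.ResidueField := { θ₂ with commutes' := RingHom.congr_fun hθ₂ }
  let Θ : TensorProduct R S₁ S₂ →ₐ[R] p.ResidueField := Algebra.TensorProduct.lift t₁ t₂ fun _ _ => .all _ _
  haveI : Algebra.Etale R (TensorProduct R S₁ S₂) := Algebra.Etale.comp R S₁ (TensorProduct R S₁ S₂)
  have hp : p = (RingHom.ker Θ.toRingHom).comap (algebraMap R (TensorProduct R S₁ S₂)) := by
    rw [RingHom.comap_ker, AlgHom.toRingHom_eq_coe, AlgHom.comp_algebraMap, Ideal.ker_algebraMap_residueField]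
  haveI : (RingHom.ker Θ.toRingHom).IsPrime := RingHom.ker_isPrime _
  refine ⟨TensorProduct R S₁ S₂, inferInstance, inferInstance, inferInstance, RingHom.ker Θ.toRingHom, inferInstance, hp,
    Hensel.residueMap_bijective_of_hom p Θ.toRingHom Θ.comp_algebraMap rfl hp,
    Algebra.TensorProduct.includeLeft, Algebra.TensorProduct.includeRight, ?_, ?_⟩
  · rw [← hk₁]
    ext s
    simp [Θ, t₁]
  · rw [← hk₂]
    ext s
    simp [Θ, t₂]

end Groth.Agent.S9468
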