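import Groth.Statements.S9469
import Mathlib
import Groth.Agent.Hensel.EtNbhd
-- import your own Groth.Agent.* helpers here

set_option autoImplicit false
universe u
open Hensel

namespace Groth.Agent.S9469

/-- Let R be a ring and p a prime of R. Consider pairs (S, q) with S an étale R-algebra and q a prime of
S lying over p such that κ(p) → κ(q) is bijective; a morphism of pairs is an R-algebra map pulling
the second prime back to the first. Then any two parallel morphisms of pairs φ, ψ : (S₁, q₁) → (S₂,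
q₂) are coequalized by a morphism of pairs (S₂, q₂) → (S₃, q₃). -/
theorem result (R : Type u) [CommRing R]
    (p : Ideal R) [p.IsPrime] (S₁ : Type u) [CommRing S₁] [Algebra R S₁] [Algebra.Etale R S₁] (q₁ : Ideal S₁) [q₁.IsPrime] (hq₁ : p = q₁.comap (algebraMap R S₁))
    (hq₁κ : Function.Bijective (Ideal.ResidueField.map p q₁ (algebraMap R S₁) hq₁))
    (S₂ : Type u) [CommRing S₂] [Algebra R S₂] [Algebra.Etale R S₂] (q₂ : Ideal S₂) [q₂.IsPrime] (hq₂ : p = q₂.comap (algebraMap R S₂))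
    (hq₂κ : Function.Bijective (Ideal.ResidueField.map p q₂ (algebraMap R S₂) hq₂))
    (φ ψ : S₁ →ₐ[R] S₂) (hφ : q₂.comap φ.toRingHom = q₁) (hψ : q₂.comap ψ.toRingHom = q₁) :
    ∃ (S₃ : Type u) (_ : CommRing S₃) (_ : Algebra R S₃) (_ : Algebra.Etale R S₃) (q₃ : Ideal S₃)
      (_ : q₃.IsPrime) (hq₃ : p = q₃.comap (algebraMap R S₃)),
      Function.Bijective (Ideal.ResidueField.map p q₃ (algebraMap R S₃) hq₃) ∧
        ∃ χ : S₂ →ₐ[R] S₃, q₃.comap χ.toRingHom = q₂ ∧ χ.comp φ = χ.comp ψ := by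
  obtain ⟨θ₂, hθ₂, hk₂, -⟩ := Hensel.exists_hom_of_residueMap_bijective p hq₂ hq₂κ
  obtain ⟨θ₁, -, -, huniq⟩ := Hensel.exists_hom_of_residueMap_bijective p hq₁ hq₁κ
  have hagree : θ₂.comp φ.toRingHom = θ₂.comp ψ.toRingHom := by
    refine (huniq _ ?_ ?_).trans (huniq _ ?_ ?_).symm
    · rw [RingHom.comp_assoc, AlgHom.toRingHom_eq_coe, AlgHom.comp_algebraMap, hθ₂]
    · rw [← RingHom.comap_ker, hk₂, hφ]
    · rw [RingHom.comp_assoc, AlgHom.toRingHom_eq_coe, AlgHom.comp_algebraMap, hθ₂]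
    · rw [← RingHom.comap_ker, hk₂, hψ]
  obtain ⟨t, ht1, ht2⟩ := (Algebra.FormallyUnramified.iff_exists_tensorProduct (R := R) (S := S₁)).1 inferInstance
  let t₂ : S₂ →ₐ[R] p.ResidueField := { θ₂ with commutes' := RingHom.congr_fun hθ₂ }
  let F : TensorProduct R S₁ S₁ →ₐ[R] S₂ := Algebra.TensorProduct.lift φ ψ fun _ _ => .all _ _
  have hF : t₂.comp F = (t₂.comp φ).comp (Algebra.TensorProduct.lmul' R) := by
    apply Algebra.TensorProduct.ext'
    intro a b
    have h1 : θ₂ (φ b) = θ₂ (ψ b) := RingHom.congr_fun hagree b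
    simp [F, t₂, h1]
  have hu : F t ∉ q₂ := fun hm => by
    have h1 := AlgHom.congr_fun hF t
    simp only [AlgHom.comp_apply, ht2, map_one] at h1
    rw [← hk₂] at hm
    exact one_ne_zero (h1.symm.trans (RingHom.mem_ker.1 hm))
  have hunit : IsUnit (θ₂ (F t)) := isUnit_iff_ne_zero.2 fun h0 => hu (hk₂ ▸ RingHom.mem_ker.2 h0)
  let θ₃ : Localization.Away (F t) →+* p.ResidueField := IsLocalization.Away.lift (F t) hunit
  have hθ₃ : θ₃.comp (algebraMap S₂ _) = θ₂ := IsLocalization.Away.lift_comp (F t) hunit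
  have hθ₃R : θ₃.comp (algebraMap R (Localization.Away (F t))) = algebraMap R p.ResidueField := by
    rw [IsScalarTower.algebraMap_eq R S₂ (Localization.Away (F t)), ← RingHom.comp_assoc, hθ₃, hθ₂]
  haveI : Algebra.Etale S₂ (Localization.Away (F t)) := Algebra.Etale.of_isLocalizationAway (F t)
  haveI : Algebra.Etale R (Localization.Away (F t)) := Algebra.Etale.comp R S₂ _
  have hp : p = (RingHom.ker θ₃).comap (algebraMap R (Localization.Away (F t))) := by
    rw [RingHom.comap_ker, hθ₃R, Ideal.ker_algebraMap_residueField]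
  haveI : (RingHom.ker θ₃).IsPrime := RingHom.ker_isPrime _
  refine ⟨Localization.Away (F t), inferInstance, inferInstance, inferInstance, RingHom.ker θ₃, inferInstance, hp,
    Hensel.residueMap_bijective_of_hom p θ₃ hθ₃R rfl hp, IsScalarTower.toAlgHom R S₂ _, ?_, ?_⟩
  · change (RingHom.ker θ₃).comap (algebraMap S₂ _) = q₂
    rw [RingHom.comap_ker, hθ₃, hk₂]
  · ext s
    have h2 := congrArg (fun x => algebraMap S₂ (Localization.Away (F t)) (F x)) (ht1 s)
    simp only [map_mul, map_sub, map_zero, F, Algebra.TensorProduct.lift_tmul, map_one, one_mul, mul_one] at h2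
    exact (sub_eq_zero.1 ((IsLocalization.Away.algebraMap_isUnit (F t)).mul_left_eq_zero.1 h2)).symm

end Groth.Agent.S9469
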