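import Groth.Statements.S9472
import Groth.Agent.Easy3.DiffEtale

set_option autoImplicit false
universe u
open Diff16

namespace Groth.Agent.S9472

open TensorProduct in
/-- Let R → S → S' be ring maps with S → S' formally étale, M an S-module and (P, D_u) a module of
principal parts of order k of M relative to R → S, i.e. D_u : M → P is a differential operator of
order at most k through which every differential operator of order at most k from M to an S-module
factors by a unique S-linear map. If D_u' : S' ⊗_S M → S' ⊗_S P is a differential operator of order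
at most k relative to R → S' with D_u'(1 ⊗ m) = 1 ⊗ D_u(m), then (S' ⊗_S P, D_u') is a module of
principal parts of order k of S' ⊗_S M relative to R → S'. (The published statement writes this as
an identification of S' ⊗_S P^k_{S/R}(M) with P^k_{S'/R}(M') and forms M' by base change over R
rather than over S; with base change over R the identification fails already for k = 0, R the
rationals, S = S' a polynomial ring in one variable and M = S, and the published proof computes with
the base change over S, used here. Target modules are taken in one universe.) -/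
theorem result (R S S' : Type u) [CommRing R]
    [CommRing S] [CommRing S'] [Algebra R S] [Algebra R S'] [Algebra S S'] [IsScalarTower R S S']
    [Algebra.FormallyEtale S S'] (M : Type u) [AddCommGroup M] [Module S M] [Module R M]
    [IsScalarTower R S M] (k : ℕ) (P : Type u) [AddCommGroup P] [Module S P] [Module R P]
    [IsScalarTower R S P] (Du : M →ₗ[R] P) (hDu : Diff16.IsDiffOpLE R S M P k Du)
    (huniv : ∀ (N : Type u) [AddCommGroup N] [Module S N] [Module R N] [IsScalarTower R S N]
      (D : M →ₗ[R] N), Diff16.IsDiffOpLE R S M N k D → ∃! α : P →ₗ[S] N, α.restrictScalars R ∘ₗ Du = D)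
    (Du' : S' ⊗[S] M →ₗ[R] S' ⊗[S] P) (hDu' : Diff16.IsDiffOpLE R S' (S' ⊗[S] M) (S' ⊗[S] P) k Du')
    (hext : Du' ∘ₗ (TensorProduct.mk S S' M 1).restrictScalars R =
      (TensorProduct.mk S S' P 1).restrictScalars R ∘ₗ Du) :
    ∀ (N' : Type u) [AddCommGroup N'] [Module S' N'] [Module R N'] [IsScalarTower R S' N']
      (D' : S' ⊗[S] M →ₗ[R] N'), Diff16.IsDiffOpLE R S' (S' ⊗[S] M) N' k D' →
        ∃! α : S' ⊗[S] P →ₗ[S'] N', α.restrictScalars R ∘ₗ Du' = D' := by
  intro N' _ _ _ _ D' hD'
  letI : Module S N' := Module.compHom N' (algebraMap S S')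
  haveI : IsScalarTower S S' N' := IsScalarTower.of_algebraMap_smul fun s x => rfl
  haveI : IsScalarTower R S N' := IsScalarTower.of_algebraMap_smul fun r x => by
    show algebraMap S S' (algebraMap R S r) • x = r • x
    rw [← IsScalarTower.algebraMap_apply, algebraMap_smul]
  obtain ⟨α₀, hα₀, hu⟩ := huniv N' (D' ∘ₗ (TensorProduct.mk S S' M 1).restrictScalars R)
    (Groth.Agent.Easy3.DiffEtale.diff_res R S S' k D' hD')
  have h1 : ∀ m, Du' (1 ⊗ₜ m) = 1 ⊗ₜ Du m := fun m => LinearMap.congr_fun hext m
  refine ⟨LinearMap.liftBaseChange S' α₀, ?_, fun β hβ => ?_⟩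
  · refine sub_eq_zero.1 (Groth.Agent.Easy3.DiffEtale.eq_zero_of_comp_eq_zero R S S' k _
      (Groth.Agent.DiffOps.diff_sub (Groth.Agent.Easy3.DiffEtale.diff_post R _ k Du' hDu') hD') fun m => ?_)
    have h2 : α₀ (Du m) = D' (1 ⊗ₜ m) := LinearMap.congr_fun hα₀ m
    simp [h1, h2]
  · refine TensorProduct.AlgebraTensorModule.ext fun a p => ?_
    have h3 : β.restrictScalars S ∘ₗ TensorProduct.mk S S' P 1 = α₀ := hu _ (LinearMap.ext fun m => by
      have := LinearMap.congr_fun hβ (1 ⊗ₜ m)
      simp only [LinearMap.comp_apply, LinearMap.coe_restrictScalars, h1] at this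
      simpa using this)
    rw [show a ⊗ₜ[S] p = a • (1 : S') ⊗ₜ[S] p by rw [TensorProduct.smul_tmul', smul_eq_mul, mul_one], map_smul,
      map_smul, LinearMap.liftBaseChange_tmul, one_smul, ← LinearMap.congr_fun h3 p]
    rfl

end Groth.Agent.S9472
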