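import Groth.Statements.S9473
import Mathlib
import Groth.Agent.Hensel.TensorBij
-- import your own Groth.Agent.* helpers here

set_option autoImplicit false
universe u
open Hensel

namespace Groth.Agent.S9473

open TensorProduct in
/-- Let A → B and A → C be ring maps, D = B ⊗_A C, and p_D a prime of D with images p_B, p_C, p_A in B,
C, A. Let A^{sh}, B^{sh}, C^{sh}, D^{sh} be strict henselizations of the local rings A_{p_A},
B_{p_B}, C_{p_C}, D_{p_D}, equipped with local homomorphisms A^{sh} → B^{sh} → D^{sh} and A^{sh} →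
C^{sh} → D^{sh} forming a commutative square compatible with A → B → D and A → C → D (such maps are
the ones attached to a compatible choice of residue-field embeddings into one separably closed
field, and are unique given that choice). If B_{p_B}, an A_{p_A}-algebra through the induced map, is
a filtered colimit of quasi-finite A_{p_A}-algebras — every finite subset of B_{p_B} lies in an
A_{p_A}-subalgebra of finite type which is quasi-finite — then the induced A^{sh}-algebra map B^{sh}
⊗_{A^{sh}} C^{sh} → D^{sh} is bijective. -/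
theorem result (A B C : Type u) [CommRing A] [CommRing B]
    [CommRing C] [Algebra A B] [Algebra A C]
    (pA : Ideal A) [pA.IsPrime] (pB : Ideal B) [pB.IsPrime] [pB.LiesOver pA]
    (pC : Ideal C) [pC.IsPrime] [pC.LiesOver pA]
    (pD : Ideal (B ⊗[A] C)) [pD.IsPrime] [pD.LiesOver pB]
    (hDC : pD.comap (Algebra.TensorProduct.includeRight : C →ₐ[A] B ⊗[A] C).toRingHom = pC)
    (Ash : Type u) [CommRing Ash] [IsLocalRing Ash] [Algebra (Localization.AtPrime pA) Ash]
    [IsLocalHom (algebraMap (Localization.AtPrime pA) Ash)]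
    [Hensel.IsStrictHenselization (Localization.AtPrime pA) Ash] [Algebra A Ash]
    [IsScalarTower A (Localization.AtPrime pA) Ash]
    (Bsh : Type u) [CommRing Bsh] [IsLocalRing Bsh] [Algebra (Localization.AtPrime pB) Bsh]
    [IsLocalHom (algebraMap (Localization.AtPrime pB) Bsh)]
    [Hensel.IsStrictHenselization (Localization.AtPrime pB) Bsh] [Algebra B Bsh]
    [IsScalarTower B (Localization.AtPrime pB) Bsh] [Algebra A Bsh] [IsScalarTower A B Bsh]
    [Algebra Ash Bsh] [IsScalarTower A Ash Bsh] [IsLocalHom (algebraMap Ash Bsh)]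
    (Csh : Type u) [CommRing Csh] [IsLocalRing Csh] [Algebra (Localization.AtPrime pC) Csh]
    [IsLocalHom (algebraMap (Localization.AtPrime pC) Csh)]
    [Hensel.IsStrictHenselization (Localization.AtPrime pC) Csh] [Algebra C Csh]
    [IsScalarTower C (Localization.AtPrime pC) Csh] [Algebra A Csh] [IsScalarTower A C Csh]
    [Algebra Ash Csh] [IsScalarTower A Ash Csh] [IsLocalHom (algebraMap Ash Csh)]
    (Dsh : Type u) [CommRing Dsh] [IsLocalRing Dsh] [Algebra (Localization.AtPrime pD) Dsh]
    [IsLocalHom (algebraMap (Localization.AtPrime pD) Dsh)]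
    [Hensel.IsStrictHenselization (Localization.AtPrime pD) Dsh] [Algebra (B ⊗[A] C) Dsh]
    [IsScalarTower (B ⊗[A] C) (Localization.AtPrime pD) Dsh]
    [Algebra Bsh Dsh] [IsLocalHom (algebraMap Bsh Dsh)] [Algebra B Dsh] [IsScalarTower B Bsh Dsh]
    [IsScalarTower B (B ⊗[A] C) Dsh]
    [Algebra Csh Dsh] [IsLocalHom (algebraMap Csh Dsh)]
    (hC : ∀ c : C, algebraMap Csh Dsh (algebraMap C Csh c) = algebraMap (B ⊗[A] C) Dsh (1 ⊗ₜ[A] c))
    [Algebra Ash Dsh] [IsScalarTower Ash Bsh Dsh] [IsScalarTower Ash Csh Dsh]
    [Algebra (Localization.AtPrime pA) (Localization.AtPrime pB)]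
    [IsScalarTower A (Localization.AtPrime pA) (Localization.AtPrime pB)]
    (hB : ∀ s : Finset (Localization.AtPrime pB),
      ∃ B₀ : Subalgebra (Localization.AtPrime pA) (Localization.AtPrime pB),
        (↑s : Set (Localization.AtPrime pB)) ⊆ ↑B₀ ∧
          Algebra.FiniteType (Localization.AtPrime pA) ↥B₀ ∧
            Algebra.QuasiFinite (Localization.AtPrime pA) ↥B₀) :
    Function.Bijective (Algebra.TensorProduct.lift (IsScalarTower.toAlgHom Ash Bsh Dsh)
      (IsScalarTower.toAlgHom Ash Csh Dsh) (fun _ _ => Commute.all _ _)) := by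
  classical
  haveI : HenselianLocalRing Ash := _root_.Hensel.IsStrictHenselization.henselian (R := Localization.AtPrime pA)
  haveI hQover : (Hensel.tPoint A B Ash Bsh).LiesOver (IsLocalRing.maximalIdeal Ash) :=
    Hensel.tPoint_liesOver A B pA pB Ash Bsh (Hensel.strictHenselization_map_maximalIdeal _ Ash)
  set Q := Hensel.tPoint A B Ash Bsh with hQ
  set T := Localization.AtPrime Q with hT
  haveI : Algebra.IsIntegral Ash T := ⟨fun x => by
    obtain ⟨a, s, rfl⟩ := IsLocalization.exists_mk'_eq Q.primeCompl x
    choose r hr using fun z : TensorProduct A Ash B => TensorProduct.exists_finset z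
    obtain ⟨B₀, hB₀, hft, hqf⟩ := hB ((({a, s.1} : Finset (TensorProduct A Ash B)).biUnion fun z =>
      (r z).image Prod.snd).image (algebraMap B (Localization.AtPrime pB)))
    haveI := hft
    haveI := hqf
    let νB : B →+* T := (algebraMap (TensorProduct A Ash B) T).comp Algebra.TensorProduct.includeRight.toRingHom
    have hνB : ∀ y : pB.primeCompl, IsUnit (νB y.1) := fun y =>
      IsLocalization.map_units T (⟨_, fun hm => y.2 ((Hensel.tPoint_comap_right A B pB Ash Bsh).ge hm)⟩ : Q.primeCompl)
    let νp : Localization.AtPrime pB →+* T := IsLocalization.lift hνB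
    have hνp : ∀ b, νp (algebraMap B _ b) = νB b := fun b => IsLocalization.lift_eq hνB b
    have hνc : νp.comp (algebraMap (Localization.AtPrime pA) (Localization.AtPrime pB)) =
        algebraMap (Localization.AtPrime pA) T := by
      refine IsLocalization.ringHom_ext pA.primeCompl (RingHom.ext fun c => ?_)
      simp only [RingHom.comp_apply]
      rw [← IsScalarTower.algebraMap_apply, IsScalarTower.algebraMap_apply A B (Localization.AtPrime pB), hνp,
        IsScalarTower.algebraMap_apply (Localization.AtPrime pA) Ash T, ← IsScalarTower.algebraMap_apply A _ Ash,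
        IsScalarTower.algebraMap_apply Ash (TensorProduct A Ash B) T]
      exact congrArg (algebraMap (TensorProduct A Ash B) T)
        (((Algebra.TensorProduct.includeRight : B →ₐ[A] TensorProduct A Ash B).commutes c).trans rfl)
    let gB : B₀ →ₐ[Localization.AtPrime pA] T :=
      { νp.comp B₀.val.toRingHom with commutes' := RingHom.congr_fun hνc }
    let G : TensorProduct (Localization.AtPrime pA) Ash B₀ →ₐ[Ash] T :=
      Algebra.TensorProduct.lift (Algebra.ofId Ash T) gB fun _ _ => Commute.all _ _
    have hmem : ∀ z ∈ ({a, s.1} : Finset (TensorProduct A Ash B)),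
        ∃ z₀, G z₀ = algebraMap (TensorProduct A Ash B) T z := fun z hz => by
      suffices algebraMap (TensorProduct A Ash B) T z ∈ G.range from this
      rw [hr z, map_sum]
      refine Subalgebra.sum_mem _ fun i hi => ?_
      have hb : algebraMap B (Localization.AtPrime pB) i.2 ∈ B₀ :=
        hB₀ (Finset.mem_image_of_mem _ (Finset.mem_biUnion.2 ⟨z, hz, Finset.mem_image_of_mem _ hi⟩))
      refine ⟨i.1 ⊗ₜ ⟨_, hb⟩, ?_⟩
      change algebraMap Ash T i.1 * νp (algebraMap B (Localization.AtPrime pB) i.2) = _
      rw [hνp, IsScalarTower.algebraMap_apply Ash (TensorProduct A Ash B) T]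
      simp [νB, ← map_mul]
    obtain ⟨a₀, ha₀⟩ := hmem a (by simp)
    obtain ⟨s₀, hs₀⟩ := hmem s.1 (by simp)
    haveI : ((IsLocalRing.maximalIdeal T).comap G.toRingHom).IsPrime := Ideal.IsPrime.comap _
    set P := (IsLocalRing.maximalIdeal T).comap G.toRingHom with hP
    haveI : P.LiesOver (IsLocalRing.maximalIdeal Ash) := ⟨by
      rw [hP, Ideal.under, Ideal.comap_comap,
        show G.toRingHom.comp (algebraMap Ash _) = algebraMap Ash T from G.comp_algebraMap,
        IsScalarTower.algebraMap_eq Ash (TensorProduct A Ash B) T, ← Ideal.comap_comap,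
        ← Ideal.under_def (TensorProduct A Ash B) (IsLocalRing.maximalIdeal T),
        IsLocalization.AtPrime.under_maximalIdeal T Q]
      exact Q.over_def _⟩
    haveI : Algebra.QuasiFiniteAt Ash P :=
      inferInstanceAs (Algebra.QuasiFinite Ash (Localization P.primeCompl))
    haveI := Hensel.finite_atPrime Ash (TensorProduct (Localization.AtPrime pA) Ash B₀) P
    let φ : Localization.AtPrime P →ₐ[Ash] T := IsLocalization.liftAlgHom (M := P.primeCompl) (f := G) fun y =>
      IsLocalRing.notMem_maximalIdeal.1 y.2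
    have hφ : ∀ z, φ (algebraMap _ _ z) = G z := fun z => IsLocalization.lift_eq _ z
    have hs₀P : s₀ ∉ P := fun hm => IsLocalRing.notMem_maximalIdeal.2 (hs₀ ▸ IsLocalization.map_units T s)
      (Ideal.mem_comap.1 hm)
    have hx : φ (IsLocalization.mk' _ a₀ (⟨s₀, hs₀P⟩ : P.primeCompl)) = IsLocalization.mk' T a s := by
      refine (IsLocalization.map_units T s).mul_left_inj.1 ?_
      rw [IsLocalization.mk'_spec, ← hs₀, ← hφ, ← map_mul,
        IsLocalization.mk'_spec (Localization.AtPrime P) a₀ (⟨s₀, hs₀P⟩ : P.primeCompl), hφ, ha₀]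
    rw [← hx]
    exact (Algebra.IsIntegral.isIntegral _).map φ⟩
  obtain ⟨e⟩ := Hensel.nonempty_strictEquiv_of_isIntegral A B pA pB Ash Bsh
  haveI : Algebra.IsIntegral Ash Bsh := Algebra.IsIntegral.of_surjective e.toAlgHom e.surjective
  exact Hensel.strictTensor_bijective A B C pA pB pC pD Ash Bsh Csh Dsh hDC hC

end Groth.Agent.S9473
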