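import Groth.Statements.S9477
-- import your own Groth.Agent.* helpers here
import Mathlib

set_option autoImplicit false
universe u
open Pi1

namespace Groth.Agent.S9477

open TensorProduct in
/-- For a finite group G acting on a commutative ring R with invariant ring R^G, an R^G-algebra A, a
prime q of R and a prime q' of A ⊗_{R^G} R whose preimage under r ↦ 1 ⊗ r is q, the inertia group of
q, namely the elements σ of G with σ(x) - x ∈ q for all x ∈ R, equals the inertia group of q' for
the action of G on A ⊗_{R^G} R through the second factor: σ lies in the first if and only if τ(y) -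
y ∈ q' for all y, where τ = id ⊗ σ. -/
theorem result (G R : Type u) [Group G] [Finite G] [CommRing R] [MulSemiringAction G R]
    (A : Type u) [CommRing A] [Algebra (FixedPoints.subring R G) A]
    (q : Ideal R) [q.IsPrime] (q' : Ideal (A ⊗[FixedPoints.subring R G] R)) [q'.IsPrime]
    (hq : q'.comap (Algebra.TensorProduct.includeRight : R →ₐ[FixedPoints.subring R G] A ⊗[FixedPoints.subring R G] R) = q)
    (σ : G) :
    σ ∈ q.inertia G ↔
      ∀ y : A ⊗[FixedPoints.subring R G] R,
        Algebra.TensorProduct.map (AlgHom.id (FixedPoints.subring R G) A)
          (MulSemiringAction.toAlgHom (FixedPoints.subring R G) R σ) y - y ∈ q' := by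
  refine ⟨fun hσ y => ?_, fun h => ?_⟩
  · induction y with
    | zero => simp
    | tmul a x =>
      have hx : σ • x - x ∈ q := hσ x
      rw [← hq, Ideal.mem_comap] at hx
      have h := q'.mul_mem_left (a ⊗ₜ[FixedPoints.subring R G] (1 : R)) hx
      rw [Algebra.TensorProduct.includeRight_apply, Algebra.TensorProduct.tmul_mul_tmul, mul_one, one_mul,
        TensorProduct.tmul_sub] at h
      simpa using h
    | add y y' hy hy' =>
      rw [map_add, add_sub_add_comm]
      exact q'.add_mem hy hy'
  · intro x
    have hx := h (Algebra.TensorProduct.includeRight x)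
    show σ • x - x ∈ q
    rw [← hq, Ideal.mem_comap, map_sub]
    simpa using hx

end Groth.Agent.S9477
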