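import Groth.Statements.S9485
-- import your own Groth.Agent.* helpers here
import Groth.Agent.EtaleSections.Basic
import Mathlib.RingTheory.Ideal.KrullsHeightTheorem

set_option autoImplicit false
universe u
open Pi1

namespace Groth.Agent.S9485

open AlgebraicGeometry CategoryTheory CategoryTheory.Limits in
/-- Let A be a Noetherian local ring with maximal ideal m and f ∈ m, U the punctured spectrum of A and
U₀ that of A/fA (realised as U ×_{Spec A} Spec(A/fA)). Let U' ⊆ U be an open through which U₀ ⟶ Spec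
A factors (as u'). If dim(A/p) ≥ 2 for every minimal prime p of A which lies in U' and does not
contain f, then restriction of finite etale covers along u' is faithful. (Such U' exist, e.g. the
complement in U of the one-dimensional irreducible components not meeting U₀, and the condition
passes to smaller such opens, so restriction from the system of these opens is faithful.) -/
theorem result (A : Type u) [CommRing A] [IsNoetherianRing A] [IsLocalRing A] (f : A) (hf : f ∈ IsLocalRing.maximalIdeal A)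
    (U' : (Spec (CommRingCat.of A)).Opens) (hU' : U' ≤ FEt.puncturedSpec A)
    (u' : pullback (FEt.puncturedSpec A).ι (Spec.map (CommRingCat.ofHom (Ideal.Quotient.mk (Ideal.span {f})))) ⟶ (U' : Scheme.{u})) (hu' : u' ≫ U'.ι = (pullback.fst (FEt.puncturedSpec A).ι (Spec.map (CommRingCat.ofHom (Ideal.Quotient.mk (Ideal.span {f})))) ≫ (FEt.puncturedSpec A).ι))
    (hdim : ∀ p : PrimeSpectrum A, p.asIdeal ∈ minimalPrimes A → p ∈ U' → f ∉ p.asIdeal →
      (2 : WithBot ℕ∞) ≤ ringKrullDim (A ⧸ p.asIdeal)) :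
    (FEt.restrict u').Faithful := by
  haveI : IsNoetherianRing A := inferInstance
  refine ⟨fun {E₁ E₂} {a b} e => MorphismProperty.Over.Hom.ext ?_⟩
  haveI : IsFinite E₁.hom := E₁.prop.1
  haveI : Etale E₁.hom := E₁.prop.2
  haveI : IsFinite E₂.hom := E₂.prop.1
  haveI : Etale E₂.hom := E₂.prop.2
  have hab : a.left ≫ E₂.hom = b.left ≫ E₂.hom :=
    (MorphismProperty.Over.w a).trans (MorphismProperty.Over.w b).symm
  have hfst : pullback.fst E₁.hom u' ≫ a.left = pullback.fst E₁.hom u' ≫ b.left := by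
    have h1 : ((FEt.restrict u').map a).left ≫ pullback.fst E₂.hom u' = pullback.fst E₁.hom u' ≫ a.left :=
      pullback.lift_fst _ _ _
    have h2 : ((FEt.restrict u').map b).left ≫ pullback.fst E₂.hom u' = pullback.fst E₁.hom u' ≫ b.left :=
      pullback.lift_fst _ _ _
    rw [← h1, ← h2, e]
  have hsub := Groth.Agent.EtaleSections.range_subset_eqLocus E₂.hom a.left b.left hab _ hfst
  refine Groth.Agent.EtaleSections.eq_of_eqLocus_eq_univ E₂.hom a.left b.left hab (Set.eq_univ_of_forall fun z => ?_)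
  by_contra hz
  have hop : IsOpen (E₁.hom '' (Groth.Agent.EtaleSections.eqLocus E₂.hom a.left b.left hab)ᶜ) :=
    E₁.hom.isOpenMap _ (Groth.Agent.EtaleSections.isClosed_eqLocus _ _ _ hab).isOpen_compl
  have hcl : IsClosed (E₁.hom '' (Groth.Agent.EtaleSections.eqLocus E₂.hom a.left b.left hab)ᶜ) :=
    E₁.hom.isClosedMap _ (Groth.Agent.EtaleSections.isOpen_eqLocus _ _ _ hab).isClosed_compl
  -- the point below, its minimal prime and a specialization of the latter on `V(f)`
  let x : PrimeSpectrum A := U'.ι (E₁.hom z)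
  obtain ⟨p, hp, hpx⟩ := Ideal.exists_minimalPrimes_le (I := (⊥ : Ideal A)) (J := x.asIdeal) bot_le
  haveI := hp.1.1
  have hpU : (⟨p, hp.1.1⟩ : PrimeSpectrum A) ∈ U' :=
    ((PrimeSpectrum.le_iff_specializes _ x).1 hpx).mem_open U'.2 (E₁.hom z).2
  obtain ⟨q, hqU, hpq, hfq⟩ : ∃ q : PrimeSpectrum A, q ∈ FEt.puncturedSpec A ∧ p ≤ q.asIdeal ∧ f ∈ q.asIdeal := by
    by_cases hfp : f ∈ p
    · exact ⟨⟨p, hp.1.1⟩, hU' hpU, le_rfl, hfp⟩
    have hdim' := hdim ⟨p, hp.1.1⟩ hp hpU hfp
    by_contra hno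
    push Not at hno
    have hmin : IsLocalRing.maximalIdeal A ∈ (p ⊔ Ideal.span {f}).minimalPrimes := by
      refine ⟨⟨inferInstance, sup_le (IsLocalRing.le_maximalIdeal hp.1.1.ne_top) ((Ideal.span_singleton_le_iff_mem _).2 hf)⟩,
        fun q ⟨hq, hle⟩ _ => ?_⟩
      by_contra hne
      refine hno ⟨q, hq⟩ (fun h => hne (le_of_eq (congrArg PrimeSpectrum.asIdeal h).symm)) (le_sup_left.trans hle)
        (hle (le_sup_right (a := p) (Ideal.mem_span_singleton_self f)))
    haveI : IsLocalRing (A ⧸ p) := .of_surjective' (Ideal.Quotient.mk p) Ideal.Quotient.mk_surjective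
    have hm : IsLocalRing.maximalIdeal (A ⧸ p) ∈ (Ideal.span {Ideal.Quotient.mk p f}).minimalPrimes := by
      have hmap : (IsLocalRing.maximalIdeal (A ⧸ p)).comap (Ideal.Quotient.mk p) = IsLocalRing.maximalIdeal A :=
        IsLocalRing.eq_maximalIdeal (Ideal.comap_isMaximal_of_surjective _ Ideal.Quotient.mk_surjective)
      refine ⟨⟨inferInstance, (Ideal.span_singleton_le_iff_mem _).2 (Ideal.mem_comap.1 (hmap.ge hf))⟩, fun q ⟨hq, hle⟩ _ => ?_⟩
      have := hmin.2 ⟨hq.comap (Ideal.Quotient.mk p), sup_le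
        (fun a ha => Ideal.mem_comap.2 (by rw [Ideal.Quotient.eq_zero_iff_mem.2 ha]; exact q.zero_mem))
        ((Ideal.span_singleton_le_iff_mem _).2 (Ideal.mem_comap.2 (hle (Ideal.mem_span_singleton_self _))))⟩
        (IsLocalRing.le_maximalIdeal (hq.comap _).ne_top)
      intro a ha
      obtain ⟨a, rfl⟩ := Ideal.Quotient.mk_surjective a
      exact this (hmap.le ha)
    have hht := Ideal.height_le_one_of_isPrincipal_of_mem_minimalPrimes
      (Ideal.span {Ideal.Quotient.mk p f}) _ hm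
    rw [← IsLocalRing.maximalIdeal_height_eq_ringKrullDim] at hdim'
    have h2 : (2 : ℕ∞) ≤ (IsLocalRing.maximalIdeal (A ⧸ p)).height := WithBot.coe_le_coe.1 hdim'
    exact absurd (h2.trans hht) (by decide)
  -- the point lies in the image
  let g := Spec.map (CommRingCat.ofHom (Ideal.Quotient.mk (Ideal.span {f})))
  obtain ⟨q₀, hq₀⟩ : q ∈ Set.range g := by
    have hr : Set.range (PrimeSpectrum.comap (Ideal.Quotient.mk (Ideal.span {f}))) = PrimeSpectrum.zeroLocus {f} := by
      rw [range_comap_of_surjective _ _ Ideal.Quotient.mk_surjective, Ideal.mk_ker,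
        PrimeSpectrum.zeroLocus_span]
    exact hr.ge (Set.singleton_subset_iff.2 hfq)
  obtain ⟨t, ht₁, ht₂⟩ := Scheme.Pullback.exists_preimage_pullback (f := (FEt.puncturedSpec A).ι) (g := g)
    ⟨q, hqU⟩ q₀ hq₀.symm
  have hut : U'.ι (u' t) = q := by
    rw [← Scheme.Hom.comp_apply, hu', Scheme.Hom.comp_apply, ht₁]
    rfl
  have hmemp : (⟨⟨p, hp.1.1⟩, hpU⟩ : U') ⤳ E₁.hom z :=
    U'.ι.isOpenEmbedding.isInducing.specializes_iff.1 ((PrimeSpectrum.le_iff_specializes _ x).1 hpx)
  have hpq' : (⟨⟨p, hp.1.1⟩, hpU⟩ : U') ⤳ u' t :=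
    U'.ι.isOpenEmbedding.isInducing.specializes_iff.1 (by rw [hut]; exact (PrimeSpectrum.le_iff_specializes _ q).1 hpq)
  obtain ⟨w, hw, hwt⟩ := hpq'.mem_closed hcl (hmemp.mem_open hop ⟨z, hz, rfl⟩)
  obtain ⟨r, hr, -⟩ := Scheme.Pullback.exists_preimage_pullback (f := E₁.hom) (g := u') w t hwt
  exact hw (hsub ⟨r, hr⟩)

end Groth.Agent.S9485
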