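import Groth.Statements.S9491
-- import your own Groth.Agent.* helpers here
import Groth.Agent.UnibranchEtale.NormGeneric

set_option autoImplicit false
universe u
open Pi1

namespace Groth.Agent.S9491

open AlgebraicGeometry CategoryTheory CategoryTheory.Limits in
/-- The essential image of restriction of finite etale covers from a normal integral scheme X to its
generic point Spec K consists of the finite etale K-schemes whose points are spectra of finite
extensions L of K in which X is unramified. Precisely: let L be a finite field extension of K and Y₀
the object Spec L → Spec K of the category of finite etale covers of Spec K; then Y₀ is isomorphic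
to the restriction of a finite etale cover of X if and only if the normalization of X in Spec L is
finite etale over X. (With full faithfulness of this restriction functor for normal X, this says
that the fundamental group of X is the Galois group of the union M of all finite subextensions of a
separable closure in which X is unramified.) -/
theorem result {X : Scheme.{u}} [IsIntegral X] (hX : Pi1.IsNormalScheme X)
    (L : Type u) [Field L] [Algebra X.functionField L] [FiniteDimensional X.functionField L]
    [QuasiCompact (Spec.map (CommRingCat.ofHom (algebraMap X.functionField L)) ≫ X.fromSpecStalk (genericPoint X))] [QuasiSeparated (Spec.map (CommRingCat.ofHom (algebraMap X.functionField L)) ≫ X.fromSpecStalk (genericPoint X))]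
    (Y₀ : FEt.Cat (Spec X.functionField)) (e : Y₀.left ≅ Spec (CommRingCat.of L))
    (he : e.hom ≫ Spec.map (CommRingCat.ofHom (algebraMap X.functionField L)) = Y₀.hom) :
    (FEt.restrict (X.fromSpecStalk (genericPoint X))).essImage Y₀ ↔
      (Etale (Spec.map (CommRingCat.ofHom (algebraMap X.functionField L)) ≫ X.fromSpecStalk (genericPoint X)).fromNormalization ∧ IsFinite (Spec.map (CommRingCat.ofHom (algebraMap X.functionField L)) ≫ X.fromSpecStalk (genericPoint X)).fromNormalization) := by
  constructor
  · rintro ⟨E, ⟨i⟩⟩
    haveI : IsFinite E.hom := E.prop.1
    haveI : Etale E.hom := E.prop.2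
    have hi : i.hom.left ≫ Y₀.hom = pullback.snd E.hom (X.fromSpecStalk (genericPoint X)) :=
      MorphismProperty.Over.w i.hom
    let i' : pullback E.hom (X.fromSpecStalk (genericPoint X)) ≅ Y₀.left :=
      (MorphismProperty.Over.forget _ _ _ ⋙ CategoryTheory.Over.forget _).mapIso i
    obtain ⟨h1, h2⟩ := UnibranchEtale.finite_etale_of_restrict (fun x => (hX x).2)
      (Spec.map (CommRingCat.ofHom (algebraMap X.functionField L)) ≫ X.fromSpecStalk (genericPoint X))
      E.hom (i' ≪≫ e) (by
        have h4 : (i' ≪≫ e).hom ≫ Spec.map (CommRingCat.ofHom (algebraMap X.functionField L)) =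
            pullback.snd E.hom (X.fromSpecStalk (genericPoint X)) := by
          rw [← hi, ← he]
          exact Category.assoc _ _ _
        rw [pullback.condition, ← h4, Category.assoc, Iso.inv_hom_id_assoc])
    exact ⟨h2, h1⟩
  · rintro ⟨h1, h2⟩
    haveI := h1
    haveI := h2
    obtain ⟨j, hj⟩ := UnibranchEtale.exists_restrict_iso (algebraMap X.functionField L)
      (Spec.map (CommRingCat.ofHom (algebraMap X.functionField L)) ≫ X.fromSpecStalk (genericPoint X))
      (RingHom.finite_algebraMap.2 inferInstance) rfl
    refine ⟨MorphismProperty.Over.mk ⊤ _ (show FEt.prop.{u} (Spec.map (CommRingCat.ofHom (algebraMap X.functionField L)) ≫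
      X.fromSpecStalk (genericPoint X)).fromNormalization from ⟨h2, h1⟩), ⟨MorphismProperty.Over.isoMk (j.symm ≪≫ e.symm) ?_⟩⟩
    change (j.inv ≫ e.inv) ≫ Y₀.hom = pullback.snd _ _
    rw [← he]
    simp [← hj]

end Groth.Agent.S9491
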