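import Groth.Statements.S9493
import Groth.Agent.LefEssSurj.Main
import Groth.Agent.S9492
-- import your own Groth.Agent.* helpers here

set_option autoImplicit false
universe u
open Lef

namespace Groth.Agent.S9493

open AlgebraicGeometry CategoryTheory CategoryTheory.Limits in
/-- Let X be a Noetherian scheme and 𝓘 a quasi-coherent ideal sheaf with closed subscheme Y = V(𝓘).
Assume the completion functor along 𝓘 restricts to an equivalence between finite locally free
O_X-modules and levelwise finite locally free systems of modules on the completion of X along 𝓘: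
Hom(F, G) → Hom(F^, G^) is bijective for all finite locally free F, G, and every system of modules
all of whose levels are finite locally free is isomorphic to F^ for some finite locally free F. Then
restriction of finite etale covers from X to Y is an equivalence of categories. -/
theorem result (X : Scheme.{u}) [IsNoetherian X] (𝓘 : X.IdealSheafData)
    (h : (∀ F G : X.Modules, FlatMod.IsFinLocFree F → FlatMod.IsFinLocFree G →
      Function.Bijective (fun φ : F ⟶ G => FSch.complModMap 𝓘 φ)))
    (hess : ∀ 𝔐 : FSch.ModSys (FSch.completionAlong X 𝓘), LefX.LevelwiseFinLocFree 𝔐 →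
      ∃ F : X.Modules, FlatMod.IsFinLocFree F ∧ Nonempty (FSch.complMod 𝓘 F ≅ 𝔐)) :
    (FEt.restrict 𝓘.subschemeι).IsEquivalence := by
  have hX : ∀ G : X.Modules, FlatMod.IsFinLocFree G → Lef.HomToFormalBijective 𝓘 G := fun G hG =>
    LefFEt.homToFormal_of_compl 𝓘 G (h G _ hG (ResDesc.isFinLocFree_structureModule X))
  obtain ⟨hf, hfa⟩ := Groth.Agent.S9492.result X 𝓘 h
  haveI := hf; haveI := hfa
  haveI := Groth.Agent.LefEssSurj.essSurj_restrict 𝓘 hX fun 𝔐 h𝔐 => by
    obtain ⟨F, hF, ⟨e⟩⟩ := hess 𝔐 h𝔐
    exact ⟨F, hF, ⟨(Groth.Agent.LefEssSurj.complModIso 𝓘 F).symm ≪≫ e⟩⟩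
  exact { }

end Groth.Agent.S9493
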