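import Groth.Statements.S9494
import Groth.Agent.Inertia9494.Level
import Groth.Agent.Hensel.IndEtale

set_option linter.style.haveILetI false

set_option autoImplicit false
universe u
open Pi1

namespace Groth.Agent.S9494

open Polynomial Inertia9494

section
variable {A K L : Type u} [CommRing A] [IsDomain A] [IsIntegrallyClosed A]
  [Field K] [Field L] [Algebra A K] [IsFractionRing A K] [Algebra K L] [Algebra A L]
  [IsScalarTower A K L] [IsGalois K L] (q : Ideal (integralClosure A L)) [q.IsPrime]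
  {C : Subalgebra A L} (hle : C ≤ integralClosure A L)
  {Loc : Type u} [CommRing Loc] [Algebra C Loc] [Algebra A Loc] [IsScalarTower A C Loc]
  [IsLocalization.AtPrime Loc (q.comap (Subalgebra.inclusion hle))]

include hle

/-- The standard étale subalgebra attached to a finite level and a denominator. -/
theorem exists_etale_subalgebra
    (hC : ∀ x, x ∈ C ↔ IsIntegral A x ∧
      ∀ σ : L ≃ₐ[K] L, (∀ b : integralClosure A L, act σ b - b ∈ q) → σ x = x)
    (T : Finset Loc) : ∃ S : Subalgebra A Loc, Algebra.Etale A S ∧ (T : Set Loc) ⊆ S := by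
  classical
  haveI : Module.IsTorsionFree A L := Module.isTorsionFree_iff_algebraMap_injective.mpr (by
    rw [IsScalarTower.algebraMap_eq A K L, RingHom.coe_comp]
    exact (algebraMap K L).injective.comp (IsFractionRing.injective A K))
  let p0 := q.comap (Subalgebra.inclusion hle)
  have hsurj : ∀ t : Loc, ∃ xy : C × p0.primeCompl, t * algebraMap C Loc xy.2 = algebraMap C Loc xy.1 :=
    IsLocalization.surj p0.primeCompl
  choose xy hxy using hsurj
  let W : Finset L := T.biUnion fun t => {((xy t).1 : L), (((xy t).2 : C) : L)}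
  obtain ⟨N, _, _, hWN⟩ := exists_level q W (fun x hx => by
    obtain ⟨t, -, ht⟩ := Finset.mem_biUnion.mp hx
    rcases Finset.mem_insert.mp ht with rfl | ht
    · exact (hC _).mp (xy t).1.2
    · rw [Finset.mem_singleton.mp ht]
      exact (hC _).mp (xy t).2.1.2)
  have hNC : invariants q N ≤ C := fun x hx => (hC x).mpr ⟨hx.2.1, fun σ hσ => hx.2.2 σ fun b _ => hσ b⟩
  obtain ⟨θ, hθ, hD, hpoly⟩ := exists_polynomial q N
  let f := minpoly A (θ : L)
  have hint : IsIntegral A (θ : L) := θ.2
  let D : L := aeval (θ : L) (derivative f)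
  have hDN : D ∈ invariants q N := by
    have h : D = (invariants q N).val (aeval (⟨(θ : L), hθ⟩ : invariants q N) (derivative f)) :=
      Polynomial.aeval_algHom_apply (invariants q N).val ⟨(θ : L), hθ⟩ _
    exact h ▸ Subtype.prop _
  let D' : invariants q N := ⟨D, hDN⟩
  let den : T → invariants q N := fun t => ⟨(((xy t.1).2 : C) : L), hWN (Finset.mem_coe.mpr
    (Finset.mem_biUnion.mpr ⟨t.1, t.2, Finset.mem_insert_of_mem (Finset.mem_singleton_self _)⟩))⟩
  let h : invariants q N := ∏ t, den t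
  let g : invariants q N := D' * h
  obtain ⟨G, hG⟩ := hpoly h h.2
  obtain ⟨P1, hP1⟩ := hpoly ((h : L) ^ 2) (pow_mem h.2 2)
  -- `g` lies outside the prime
  let ι : invariants q N →ₐ[A] C := Subalgebra.inclusion hNC
  have hgp : ι g ∈ p0.primeCompl := by
    rw [map_mul]
    refine mul_mem (fun hmem => hD ?_) ?_
    · have : aeval θ (derivative f) = Subalgebra.inclusion hle (ι D') := Subtype.ext
        (Polynomial.aeval_algHom_apply (integralClosure A L).val θ _).symm
      exact this ▸ hmem
    · rw [map_prod]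
      exact prod_mem fun t _ => (show ι (den t) = ((xy t.1).2 : C) from Subtype.ext rfl) ▸ (xy t.1).2.2
  have hcond : ∃ p₁ p₂ n, derivative f * p₁ + f * p₂ = G ^ n := by
    obtain ⟨p2, hp2⟩ := minpoly.isIntegrallyClosed_dvd (R := A) hint (p := G ^ 2 - derivative f * P1)
      (by
        rw [map_sub, map_mul, map_pow, hG, hP1]
        simp only [D, f]
        ring)
    exact ⟨P1, p2, 2, by rw [← hp2]; ring⟩
  let P : StandardEtalePair A := ⟨f, minpoly.monic hint, G, hcond⟩
  let toLoc : invariants q N →ₐ[A] Loc := (IsScalarTower.toAlgHom A C Loc).comp ι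
  have hval : ∀ p : A[X], toLoc (aeval (⟨(θ : L), hθ⟩ : invariants q N) p) = aeval (toLoc ⟨θ, hθ⟩) p :=
    fun p => (Polynomial.aeval_algHom_apply toLoc _ p).symm
  have hgu : IsUnit (toLoc g) := IsLocalization.map_units Loc ⟨ι g, hgp⟩
  have hGg : aeval (⟨(θ : L), hθ⟩ : invariants q N) G = g := Subtype.ext
    ((Polynomial.aeval_algHom_apply (invariants q N).val _ G).symm.trans hG)
  have hmap : P.HasMap (toLoc ⟨θ, hθ⟩) := by
    refine ⟨?_, ?_⟩
    · rw [← hval]
      exact (congrArg toLoc (Subtype.ext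
        ((Polynomial.aeval_algHom_apply (invariants q N).val _ f).symm.trans (minpoly.aeval A _)))).trans
        (map_zero toLoc)
    · rw [← hval, hGg]
      exact hgu
  let φ := P.lift _ hmap
  have hφX : φ P.X = toLoc ⟨θ, hθ⟩ := P.lift_X _ _
  have hφ : ∀ p : A[X], φ (aeval P.X p) = toLoc (aeval (⟨(θ : L), hθ⟩ : invariants q N) p) := fun p => by
    rw [← Polynomial.aeval_algHom_apply, hφX, hval]
  have hinj : Function.Injective φ := by
    rw [injective_iff_map_eq_zero]
    intro x hx
    obtain ⟨p, n, hpn⟩ : ∃ p : A[X], ∃ n : ℕ, x * aeval P.X P.g ^ n = aeval P.X p := by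
      let pres : StandardEtalePresentation A P.Ring :=
        ⟨P, P.X, StandardEtalePair.hasMap_X, by simpa [StandardEtalePair.lift_X_left] using Function.bijective_id⟩
      obtain ⟨p, n, e⟩ := pres.exists_mul_aeval_x_g_pow_eq_aeval_x x
      exact ⟨p, n, e⟩
    have h0 : toLoc (aeval (⟨(θ : L), hθ⟩ : invariants q N) p) = 0 := by
      rw [← hφ, ← hpn, map_mul, hx, zero_mul]
    have hC0 : ι (aeval (⟨(θ : L), hθ⟩ : invariants q N) p) = 0 :=
      IsLocalization.injective Loc p0.primeCompl_le_nonZeroDivisors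
        (h0.trans (map_zero (algebraMap C Loc)).symm)
    obtain ⟨r, rfl⟩ := minpoly.isIntegrallyClosed_dvd (R := A) hint (p := p)
      (show aeval ((invariants q N).val ⟨(θ : L), hθ⟩) p = 0 by
        rw [Polynomial.aeval_algHom_apply]
        exact congrArg Subtype.val hC0)
    rw [map_mul, show aeval P.X (minpoly A (θ : L)) = 0 from StandardEtalePair.hasMap_X.1, zero_mul] at hpn
    exact (IsUnit.pow n StandardEtalePair.hasMap_X.2).mul_left_eq_zero.mp hpn
  have hgi : ∃ u ∈ φ.range, toLoc g * u = 1 := by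
    obtain ⟨u, hu⟩ := (StandardEtalePair.hasMap_X (P := P)).2.exists_right_inv
    refine ⟨φ u, ⟨u, rfl⟩, ?_⟩
    rw [← hGg, ← hφ, ← map_mul, hu, map_one]
  obtain ⟨gi, hgiR, hgi⟩ := hgi
  have hmem : ∀ c : invariants q N, toLoc c ∈ φ.range := fun c => by
    obtain ⟨p, hp⟩ := hpoly (c * h) (mul_mem c.2 h.2)
    have hp' : aeval (⟨(θ : L), hθ⟩ : invariants q N) p = c * g := Subtype.ext
      ((Polynomial.aeval_algHom_apply (invariants q N).val _ p).symm.trans (hp.trans (by
        simp [g, D', D, f]; ring)))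
    have hc : toLoc c = φ (aeval P.X p) * gi := by
      rw [hφ, hp', map_mul, mul_assoc, hgi, mul_one]
    exact hc ▸ mul_mem ⟨_, rfl⟩ hgiR
  refine ⟨φ.range, Algebra.Etale.of_equiv (AlgEquiv.ofInjective φ hinj), fun t ht => ?_⟩
  let num : invariants q N := ⟨((xy t).1 : L), hWN (Finset.mem_coe.mpr
    (Finset.mem_biUnion.mpr ⟨t, ht, Finset.mem_insert_self _ _⟩))⟩
  have ht' : t * toLoc (den ⟨t, ht⟩) = toLoc num := hxy t
  have hgd : g = den ⟨t, ht⟩ * (D' * ∏ i ∈ Finset.univ.erase ⟨t, ht⟩, den i) := by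
    simp only [g, h]
    rw [← Finset.mul_prod_erase _ den (Finset.mem_univ ⟨t, ht⟩)]
    ring
  have : t = toLoc num * toLoc (D' * ∏ i ∈ Finset.univ.erase ⟨t, ht⟩, den i) * gi := by
    rw [← ht', mul_assoc t, ← map_mul, ← hgd, mul_assoc, hgi, mul_one]
  exact SetLike.mem_coe.mpr (this ▸ mul_mem (mul_mem (hmem _) (hmem _)) hgiR)

theorem isIndEtale_aux
    (hC : ∀ x, x ∈ C ↔ IsIntegral A x ∧
      ∀ σ : L ≃ₐ[K] L, (∀ b : integralClosure A L, act σ b - b ∈ q) → σ x = x) :
    EtPBC.IsIndEtale A Loc := by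
  classical
  let J := {S : Subalgebra A Loc // Algebra.Etale A S}
  haveI : Nonempty J := by
    obtain ⟨S, hS, -⟩ := exists_etale_subalgebra q hle (Loc := Loc) hC ∅
    exact ⟨⟨S, hS⟩⟩
  haveI : IsDirectedOrder J := ⟨fun S S' => by
    haveI := S.2; haveI := S'.2
    obtain ⟨s, hs⟩ := (S.1.fg_iff_finiteType).mpr inferInstance
    obtain ⟨s', hs'⟩ := (S'.1.fg_iff_finiteType).mpr inferInstance
    obtain ⟨U, hU, hsub⟩ := exists_etale_subalgebra q hle hC (s ∪ s')
    refine ⟨⟨U, hU⟩, ?_, ?_⟩
    · show S.1 ≤ U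
      rw [← hs]
      exact Algebra.adjoin_le fun x hx => hsub (Finset.mem_coe.mpr (Finset.mem_union_left _ hx))
    · show S'.1 ≤ U
      rw [← hs']
      exact Algebra.adjoin_le fun x hx => hsub (Finset.mem_coe.mpr (Finset.mem_union_right _ hx))⟩
  refine Hensel.isIndEtale_of_directed (J := J) (fun S => S.1) (fun S => S.2)
    (fun i j h => Subalgebra.inclusion h) (fun _ _ => rfl) (fun _ _ _ _ _ _ => rfl)
    (fun S => S.1.val) (fun _ _ _ _ => rfl) (fun b => ?_) (fun j x hx => ⟨j, le_rfl, Subtype.ext hx⟩)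
  obtain ⟨S, hS, hb⟩ := exists_etale_subalgebra q hle hC {b}
  exact ⟨⟨S, hS⟩, ⟨b, hb (by simp)⟩, rfl⟩

end

/-- Let A be an integrally closed domain with fraction field K, L/K a (possibly infinite) Galois
extension with group G = Gal(L/K), B the integral closure of A in L and q a prime of B. Let I ⊆ G be
the inertia group of q: the automorphisms σ with σ(b) - b ∈ q for every b ∈ B. Then the localization
of the ring of invariants B^I = B ∩ L^I at the prime q ∩ B^I is an ind-etale A-algebra, i.e. a
filtered colimit of etale A-algebras. -/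
theorem result (A K L : Type u) [CommRing A] [IsDomain A] [IsIntegrallyClosed A]
    [Field K] [Field L] [Algebra A K] [IsFractionRing A K] [Algebra K L] [Algebra A L] [IsScalarTower A K L]
    [IsGalois K L] (q : Ideal (integralClosure A L)) [q.IsPrime]
    (I : Subgroup (L ≃ₐ[K] L))
    (hI : ∀ σ : L ≃ₐ[K] L, σ ∈ I ↔ ∀ b : integralClosure A L, ∃ c ∈ q, (c : L) = σ b - b) :
    EtPBC.IsIndEtale A (Localization.AtPrime
      (q.comap (Subalgebra.inclusion
        (inf_le_left : integralClosure A L ⊓ (IntermediateField.fixedField I).toSubalgebra.restrictScalars A ≤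
          integralClosure A L)))) := by
  have hI' : ∀ σ : L ≃ₐ[K] L, σ ∈ I ↔ ∀ b : integralClosure A L, act σ b - b ∈ q := fun σ => by
    rw [hI]
    refine forall_congr' fun b => ⟨fun ⟨c, hc, he⟩ => ?_, fun h => ⟨_, h, rfl⟩⟩
    exact (show c = act σ b - b from Subtype.ext he) ▸ hc
  refine isIndEtale_aux (K := K) q (inf_le_left : integralClosure A L ⊓
    (IntermediateField.fixedField I).toSubalgebra.restrictScalars A ≤ integralClosure A L) fun x => ?_
  simp only [Algebra.mem_inf, Subalgebra.mem_restrictScalars, IntermediateField.mem_toSubalgebra,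
    IntermediateField.mem_fixedField_iff, hI']
  rfl

end Groth.Agent.S9494
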