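import Groth.Statements.S9495
import Mathlib

set_option autoImplicit false
universe u
open SchMor

namespace Groth.Agent.S9495

open AlgebraicGeometry in
open CategoryTheory in
/-- For a quasi-compact morphism of schemes f : X → S, the image f(X) is closed in S if and only if it
is stable under specialization. -/
theorem result
    {X S : Scheme.{u}} (f : X ⟶ S) [QuasiCompact f] :
    IsClosed (Set.range f) ↔ StableUnderSpecialization (Set.range f) := by
  refine ⟨fun h => h.stableUnderSpecialization, fun H => ?_⟩
  rw [(iSup_affineOpens_eq_top S |> TopologicalSpace.IsOpenCover.mk).isClosed_iff_coe_preimage]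
  intro V
  have : CompactSpace (f ⁻¹ᵁ V.1 : Scheme.{u}) := isCompact_iff_compactSpace.mp
    (QuasiCompact.isCompact_preimage (f := f) _ V.1.2 V.2.isCompact)
  obtain ⟨R, g, hg⟩ := compactSpace_iff_exists.mp this
  obtain ⟨φ, hφ⟩ := Spec.homEquiv.symm.surjective (g ≫ (f ∣_ V.1) ≫ V.2.isoSpec.hom)
  have hr : Set.range (g ≫ (f ∣_ V.1) ≫ V.2.isoSpec.hom) =
      V.2.isoSpec.hom '' (Subtype.val ⁻¹' Set.range f) := by
    rw [Scheme.Hom.comp_base, TopCat.coe_comp, Set.range_comp, Set.range_eq_univ.2 hg,
      Set.image_univ, Scheme.Hom.comp_base, TopCat.coe_comp, Set.range_comp]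
    congr 1
    ext y
    constructor
    · rintro ⟨x, rfl⟩
      exact ⟨x.1, (morphismRestrict_base_coe f V.1 x).symm⟩
    · rintro ⟨x, hx⟩
      exact ⟨⟨x, by change f x ∈ V.1; rw [hx]; exact y.2⟩,
        Subtype.ext ((morphismRestrict_base_coe f V.1 _).trans hx)⟩
  have e := Scheme.homeoOfIso V.2.isoSpec
  have hst : StableUnderSpecialization (Subtype.val ⁻¹' Set.range f : Set V.1) :=
    fun a b hab ha => H (hab.map continuous_subtype_val) ha
  refine (Scheme.homeoOfIso V.2.isoSpec).isClosed_image.1 ?_
  change IsClosed (V.2.isoSpec.hom '' _)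
  refine (congrArg IsClosed hr).mp ?_
  rw [← hφ]
  apply PrimeSpectrum.isClosed_range_of_stableUnderSpecialization
  change StableUnderSpecialization (Set.range (Spec.homEquiv.symm φ))
  rw [hφ, hr]
  exact hst.image (Scheme.homeoOfIso V.2.isoSpec).isClosedMap.specializingMap

end Groth.Agent.S9495
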