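import Groth.Statements.S9500
import Mathlib

set_option autoImplicit false
universe u
open SchMor

set_option backward.isDefEq.respectTransparency false
namespace Groth.Agent.S9500

section
open AlgebraicGeometry CategoryTheory Limits

theorem disjoint_sigma_range {ι : Type u} (k : ι → Type u) [∀ i, Field (k i)] {a b : ι} (h : a ≠ b) :
    Disjoint (Set.range (Sigma.ι (fun i => Spec (CommRingCat.of (k i))) a))
      (Set.range (Sigma.ι (fun i => Spec (CommRingCat.of (k i))) b)) := by
  rw [Set.disjoint_iff_inter_eq_empty, Set.eq_empty_iff_forall_notMem]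
  rintro s ⟨⟨x, rfl⟩, ⟨y, hy⟩⟩
  obtain ⟨rfl⟩ := (sigmaι_eq_iff _ _ _ _ _).mp hy.symm
  exact h rfl

theorem exists_sigmaι_eq' {σ : Type u} (g : σ → Scheme.{u}) (s : ↥(∐ g)) :
    ∃ i x, Sigma.ι g i x = s := by
  obtain ⟨⟨i, x⟩, rfl⟩ := (sigmaMk g).surjective s
  exact ⟨i, x, (sigmaMk_mk g i x).symm⟩

theorem isOpenImmersion_of_mono {ι : Type u} (k : ι → Type u) [∀ i, Field (k i)] {Y : Scheme.{u}}
    (f : Y ⟶ ∐ fun i => Spec (CommRingCat.of (k i))) [Mono f] : IsOpenImmersion f := by
  classical
  let F := fun i => Spec (CommRingCat.of (k i))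
  have : DiscreteTopology ↥(∐ F) := by
    rw [discreteTopology_iff_isOpen_singleton]
    intro s
    obtain ⟨i, x, rfl⟩ := exists_sigmaι_eq' F s
    have : {Sigma.ι F i x} = Set.range (Sigma.ι F i) := by
      ext z
      refine ⟨fun h ↦ h ▸ ⟨x, rfl⟩, ?_⟩
      rintro ⟨w, rfl⟩
      have : Subsingleton ↥(F i) := inferInstanceAs (Subsingleton (PrimeSpectrum (k i)))
      rw [Subsingleton.elim w x]; rfl
    rw [this]
    exact (Sigma.ι F i).isOpenEmbedding.isOpen_range
  let U : (∐ F).Opens := ⟨Set.range f, isOpen_discrete _⟩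
  let f' : Y ⟶ U := IsOpenImmersion.lift U.ι f (by rw [Scheme.Opens.range_ι]; exact subset_rfl)
  have hfac : f' ≫ U.ι = f := IsOpenImmersion.lift_fac _ _ _
  have : Mono f' := by
    have : Mono (f' ≫ U.ι) := by rw [hfac]; infer_instance
    exact mono_of_mono f' U.ι
  have : Surjective f' := ⟨fun ⟨z, y, hy⟩ ↦ ⟨y, U.ι.injective (by
    rw [← Scheme.Hom.comp_apply, hfac]; exact hy)⟩⟩
  have hinj : Function.Injective f' := by
    have : UniversallyInjective f' := by
      rw [UniversallyInjective.iff_diagonal]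
      infer_instance
    exact f'.injective
  have : DiscreteTopology ↥(U : Scheme) := inferInstanceAs (DiscreteTopology (U : Set ↥(∐ F)))
  have : QuasiCompact f' := ⟨fun V _ hVc ↦ ((hVc.finite_of_discrete).preimage hinj.injOn).isCompact⟩
  have : Flat f' := by
    rw [Flat.iff_flat_stalkMap]
    intro y
    obtain ⟨i, x, hx⟩ := exists_sigmaι_eq' F (U.ι (f' y))
    have h1 : IsField ((∐ F).presheaf.stalk (Sigma.ι F i x)) := by
      have : IsReduced (F i) := inferInstance
      have h2 : IsField ((F i).presheaf.stalk x) := by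
        let p : PrimeSpectrum (k i) := x
        have hb : Function.Bijective (algebraMap (k i) (Localization.AtPrime p.asIdeal)) :=
          Field.localization_map_bijective (M := p.asIdeal.primeCompl) fun h ↦ h p.asIdeal.zero_mem
        exact MulEquiv.isField (Field.toIsField (k i))
          ((StructureSheaf.stalkIso (k i) p).symm.toMulEquiv.trans (RingEquiv.ofBijective _ hb).symm.toMulEquiv)
      exact MulEquiv.isField h2 (asIso ((Sigma.ι F i).stalkMap x)).commRingCatIsoToRingEquiv.toMulEquiv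
    rw [hx] at h1
    exact RingHom.Flat.of_isField
      (MulEquiv.isField h1 (asIso (U.ι.stalkMap (f' y))).symm.commRingCatIsoToRingEquiv.toMulEquiv) _
  have : IsIso f' := MorphismProperty.of_pullback_fst_of_descendsAlong
    (P := MorphismProperty.isomorphisms Scheme) (Q := @Surjective ⊓ @Flat ⊓ @QuasiCompact) (f := f') (g := f')
    ⟨⟨inferInstance, inferInstance⟩, inferInstance⟩ (inferInstanceAs (IsIso (pullback.fst f' f')))
  rw [← hfac]
  infer_instance

end

open AlgebraicGeometry in
open CategoryTheory Limits in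
/-- Let (k_i)_{i ∈ ι} be a family of fields, X = ∐_i Spec(k_i) the disjoint union, and f : Y → X a
monomorphism of schemes. Then there are a subset J of ι and an isomorphism Y ≅ ∐_{j ∈ J} Spec(k_j)
over X, where ∐_{j ∈ J} Spec(k_j) maps to X by the coproduct inclusions. -/
theorem result
    {ι : Type u} (k : ι → Type u) [∀ i, Field (k i)]
    {Y : Scheme.{u}} (f : Y ⟶ ∐ fun i => Spec (CommRingCat.of (k i))) [Mono f] :
    ∃ (J : Set ι) (e : Y ≅ ∐ fun j : J => Spec (CommRingCat.of (k j.1))),
      e.hom ≫ Sigma.desc (fun j : J => Sigma.ι (fun i => Spec (CommRingCat.of (k i))) j.1) = f := by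
  classical
  let S := ∐ fun i => Spec (CommRingCat.of (k i))
  let ι' : ∀ i, Spec (CommRingCat.of (k i)) ⟶ S := fun i ↦ Sigma.ι (fun i => Spec (CommRingCat.of (k i))) i
  let J : Set ι := {i | ∃ x y, f y = ι' i x}
  let g : (∐ fun j : J => Spec (CommRingCat.of (k j.1))) ⟶ S := Sigma.desc fun j : J => ι' j.1
  have hdisj : Pairwise (Function.onFun Disjoint fun j : J ↦ Set.range (ι' j.1)) := by
    intro a b hab
    exact disjoint_sigma_range k (Subtype.coe_injective.ne hab)
  have : IsOpenImmersion g := isOpenImmersion_sigmaDesc _ _ hdisj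
  have : IsOpenImmersion f := isOpenImmersion_of_mono k f
  have hrange : Set.range f = Set.range g := by
    ext s
    obtain ⟨i, x, rfl⟩ := exists_sigmaι_eq' (fun i => Spec (CommRingCat.of (k i))) s
    have hg : ∀ (j : J) z, g (Sigma.ι (fun j : J => Spec (CommRingCat.of (k j.1))) j z) = ι' j.1 z :=
      fun j z ↦ by rw [← Scheme.Hom.comp_apply, Sigma.ι_desc]
    constructor
    · rintro ⟨y, hy⟩
      exact ⟨Sigma.ι (fun j : J => Spec (CommRingCat.of (k j.1))) ⟨i, x, y, hy⟩ x, hg _ _⟩
    · rintro ⟨z, hz⟩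
      obtain ⟨⟨j, x', y, hy⟩, w, rfl⟩ := exists_sigmaι_eq' (fun j : J => Spec (CommRingCat.of (k j.1))) z
      rw [hg] at hz
      refine ⟨y, ?_⟩
      rw [hy, show x' = w from Subsingleton.elim _ _]
      exact hz
  exact ⟨J, IsOpenImmersion.isoOfRangeEq f g hrange, IsOpenImmersion.isoOfRangeEq_hom_fac f g hrange⟩

end Groth.Agent.S9500
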