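import Groth.Statements.S9499
import Mathlib
import Groth.Agent.S9500

set_option autoImplicit false
universe u
open SchMor

set_option backward.isDefEq.respectTransparency false
namespace Groth.Agent.S9499

open AlgebraicGeometry in
open CategoryTheory in
/-- Let (k_i) be a finite family of fields and f : X → Spec(∏_i k_i) a monomorphism of schemes. Then
there are a subset I of the index set and an isomorphism X ≅ Spec(∏_{i∈I} k_i) over Spec(∏_i k_i),
where Spec(∏_{i∈I} k_i) maps to Spec(∏_i k_i) through the projection ring homomorphism ∏_i k_i →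
∏_{i∈I} k_i. -/
theorem result
    {ι : Type u} [Finite ι] (k : ι → Type u) [∀ i, Field (k i)]
    {X : Scheme.{u}} (f : X ⟶ Spec (CommRingCat.of (Π i, k i))) [Mono f] :
    ∃ (I : Set ι) (e : X ≅ Spec (CommRingCat.of (Π i : I, k i))),
      e.hom ≫ Spec.map (CommRingCat.ofHom (Pi.ringHom fun i : I => Pi.evalRingHom k i.1)) = f := by
  classical
  let R : ι → CommRingCat.{u} := fun i ↦ CommRingCat.of (k i)
  let e₀ : (∐ fun i => Spec (CommRingCat.of (k i))) ⟶ Spec (CommRingCat.of (Π i, k i)) := sigmaSpec R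
  have : IsIso e₀ := inferInstanceAs (IsIso (sigmaSpec R))
  obtain ⟨J, e, he⟩ := Groth.Agent.S9500.result k (f ≫ inv e₀)
  let RJ : J → CommRingCat.{u} := fun j ↦ CommRingCat.of (k j.1)
  let eJ : (∐ fun j : J => Spec (CommRingCat.of (k j.1))) ⟶ Spec (CommRingCat.of (Π j : J, k j.1)) := sigmaSpec RJ
  have : IsIso eJ := inferInstanceAs (IsIso (sigmaSpec RJ))
  refine ⟨J, e ≪≫ asIso eJ, ?_⟩
  rw [← cancel_mono (inv e₀), ← he, Iso.trans_hom, asIso_hom, Category.assoc, Category.assoc]
  congr 1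
  rw [← Category.assoc, IsIso.comp_inv_eq]
  refine Limits.Sigma.hom_ext _ _ fun j ↦ ?_
  conv_rhs => rw [← Category.assoc, Limits.Sigma.ι_desc]
  show Limits.Sigma.ι (fun j => Spec (RJ j)) j ≫ sigmaSpec RJ ≫ _ = Limits.Sigma.ι (fun i => Spec (R i)) j.1 ≫ sigmaSpec R
  rw [ι_sigmaSpec, ι_sigmaSpec_assoc, ← Spec.map_comp]
  rfl

end Groth.Agent.S9499
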