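import Groth.Statements.S9502
import Groth.Agent.LRSClosed.Sections

set_option linter.style.haveILetI false

set_option autoImplicit false
universe u
open SchMor

open CategoryTheory AlgebraicGeometry Opposite TopologicalSpace

namespace Groth.Agent.S9502

open AlgebraicGeometry in
open CategoryTheory in
/-- Let f : X → Y be a morphism of schemes such that (1) the underlying continuous map of f is a
homeomorphism onto a closed subset of Y and (2) the map of sheaves of rings O_Y → f_*O_X is
surjective (locally surjective on sections). Then f is a closed immersion in the sense of locally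
ringed spaces: (1) and (2) hold and (3) the kernel of O_Y → f_*O_X is locally generated by sections,
i.e. around every point of Y there are sections of O_Y killed in f_*O_X whose germs generate the
kernel of the stalk map O_{Y,y} → (f_*O_X)_y at every nearby point y. (For a morphism of schemes (1)
and (2) alone already give surjective stalk maps; the content of this row is condition (3).) -/
theorem result
    {X Y : Scheme.{u}} (f : X ⟶ Y) (h1 : Topology.IsClosedEmbedding f)
    (h2 : TopCat.Presheaf.IsLocallySurjective f.c) :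
    LRSImm.IsClosedImmersion f.toLRSHom := by
  haveI : AlgebraicGeometry.IsClosedImmersion f :=
    { isClosedEmbedding := h1
      stalkMap_surjective := fun x => Groth.Agent.LRSClosed.surjective_stalkMap (i := f.toLRSHom) h1 h2 x }
  refine ⟨h1, h2, fun x => ?_⟩
  obtain ⟨U, hU, hxU, -⟩ := exists_isAffineOpen_mem_and_subset (U := (⊤ : Y.Opens)) (x := x) trivial
  refine ⟨U, hxU, ↥(f.ker.ideal ⟨U, hU⟩), fun a => a.1, fun a => ?_, fun x' hx' => ?_⟩
  · exact ((Scheme.Hom.ker_apply f ⟨U, hU⟩).le a.2 :)
  apply le_antisymm
  · refine Ideal.span_le.2 ?_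
    rintro _ ⟨a, rfl⟩
    exact Groth.Agent.LRSClosed.stalkFunctor_map_eq_zero (i := f.toLRSHom) a.1
      ((Scheme.Hom.ker_apply f ⟨U, hU⟩).le a.2 :) hx'
  · intro m hm
    obtain ⟨W, hW, a, rfl⟩ := Y.presheaf.exists_germ_eq (x := x') m
    have hm' := (TopCat.Presheaf.stalkFunctor_map_germ_apply (C := CommRingCat) W x' hW f.toLRSHom.c a).symm.trans
      (RingHom.mem_ker.1 hm)
    obtain ⟨W', hxW', i₁, i₂, he⟩ := TopCat.Presheaf.germ_eq _ x' hW hW _ 0 (hm'.trans (map_zero _).symm)
    obtain ⟨g, hgle, hxg⟩ := hU.exists_basicOpen_le ⟨x', hxW'⟩ hx'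
    have hgU : Y.basicOpen g ≤ U := Y.basicOpen_le g
    have hgW : Y.basicOpen g ≤ W := hgle.trans i₁.le
    have ha : Y.presheaf.map (homOfLE hgW).op a ∈ f.ker.ideal ⟨Y.basicOpen g, hU.basicOpen g⟩ := by
      rw [Scheme.Hom.ker_apply]
      refine RingHom.mem_ker.2 ?_
      refine (ConcreteCategory.congr_hom (f.toLRSHom.c.naturality (homOfLE hgW).op) a).trans ?_
      have e : ((TopCat.Presheaf.pushforward CommRingCat f.base).obj X.presheaf).map (homOfLE hgW).op =
          ((TopCat.Presheaf.pushforward CommRingCat f.base).obj X.presheaf).map i₁.op ≫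
          ((TopCat.Presheaf.pushforward CommRingCat f.base).obj X.presheaf).map (homOfLE hgle).op := by
        rw [← Functor.map_comp]; rfl
      refine (congrArg (fun t => (ConcreteCategory.hom t) ((f.toLRSHom.c.app (op W)).hom a)) e).trans ?_
      refine (congrArg (ConcreteCategory.hom
        (((TopCat.Presheaf.pushforward CommRingCat f.base).obj X.presheaf).map (homOfLE hgle).op)) he).trans ?_
      exact (congrArg _ (map_zero _)).trans (map_zero _)
    replace ha := (f.ker.map_ideal_basicOpen ⟨U, hU⟩ g).ge ha
    have hxg' : x' ∈ Y.basicOpen g := hxg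
    have h3 := Ideal.mem_map_of_mem (Y.presheaf.germ (Y.basicOpen g) x' hxg').hom ha
    rw [Ideal.map_map, ← CommRingCat.hom_comp, TopCat.Presheaf.germ_res] at h3
    rw [← TopCat.Presheaf.germ_res_apply Y.presheaf (homOfLE hgW) x' hxg' a]
    refine (?_ : Ideal.map _ _ ≤ _) h3
    rw [Ideal.map_le_iff_le_comap]
    exact fun r hr => Ideal.subset_span ⟨⟨r, hr⟩, rfl⟩

end Groth.Agent.S9502
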