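import Groth.Statements.S9505
import Groth.Agent.LRSClosed.Affine

set_option linter.style.haveILetI false

set_option autoImplicit false
universe u
open LRSImm CategoryTheory Opposite TopologicalSpace AlgebraicGeometry
open Groth.Agent

namespace Groth.Agent.S9505

open AlgebraicGeometry in
open CategoryTheory in
/-- Let X be a scheme and i : Z → X a closed immersion of locally ringed spaces: a homeomorphism onto a
closed subset of X such that O_X → i_*O_Z is surjective as a map of sheaves and its kernel is
locally generated by sections. Then the locally ringed space Z is a scheme and i is a closed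
immersion of schemes (affine-locally of the form Spec(R/I) → Spec R): there are a scheme Z' and an
isomorphism of locally ringed spaces Z' ≅ Z whose composite with i is a closed immersion of schemes
Z' → X. -/
theorem result
    (X : Scheme.{u}) (Z : LocallyRingedSpace.{u}) (i : Z ⟶ X.toLocallyRingedSpace)
    (hi : LRSImm.IsClosedImmersion i) :
    ∃ (Z' : Scheme.{u}) (e : Z'.toLocallyRingedSpace ≅ Z),
      AlgebraicGeometry.IsClosedImmersion (Scheme.Hom.mk (e.hom ≫ i) : Z' ⟶ X) := by
  let Z' : Scheme.{u} :=
    { Z with
      local_affine := fun z => by
        obtain ⟨U, hU, hzU, -⟩ :=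
          exists_isAffineOpen_mem_and_subset (U := (⊤ : X.Opens)) (x := i.base z) trivial
        obtain ⟨R, e⟩ := LRSClosed.exists_iso_of_restrict i hi hU
        exact ⟨⟨(Opens.map i.base).obj U, hzU⟩, R, e⟩ }
  refine ⟨Z', Iso.refl _, ?_⟩
  exact
    { stalkMap_surjective := fun z => by
        change Function.Surjective ((𝟙 Z ≫ i).stalkMap z).hom
        rw [Category.id_comp]
        exact LRSClosed.surjective_stalkMap hi.1 hi.2.1 z
      isClosedEmbedding := hi.1 }

end Groth.Agent.S9505
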