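import Groth.Statements.S9506
import Groth.Agent.LRSClosed.Affine

set_option linter.style.haveILetI false

set_option autoImplicit false
universe u
open LRSImm CategoryTheory Opposite TopologicalSpace AlgebraicGeometry
open Groth.Agent

namespace Groth.Agent.S9506

open AlgebraicGeometry in
open CategoryTheory Opposite in
/-- Let R be a commutative ring and i : Z → Spec R a closed immersion of locally ringed spaces (a
homeomorphism onto a closed subset such that O → i_*O_Z is surjective as a map of sheaves with
kernel locally generated by sections). Let I ⊆ R be the kernel of the composite R = Γ(Spec R, O) →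
Γ(Z, O_Z). Then Z is identified with Spec(R/I) over Spec R: there is an isomorphism of locally
ringed spaces Z ≅ Spec(R/I) whose composite with the morphism Spec(R/I) → Spec R induced by R → R/I
is i (in particular the ideal I with this property is unique). -/
theorem result
    (R : Type u) [CommRing R] (Z : LocallyRingedSpace.{u})
    (i : Z ⟶ (Spec (CommRingCat.of R)).toLocallyRingedSpace) (hi : LRSImm.IsClosedImmersion i)
    (I : Ideal R)
    (hI : I = RingHom.ker ((Scheme.ΓSpecIso (CommRingCat.of R)).inv ≫ i.c.app (op ⊤)).hom) :
    ∃ e : Z ≅ (Spec (CommRingCat.of (R ⧸ I))).toLocallyRingedSpace,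
      e.hom ≫ (Spec.map (CommRingCat.ofHom (Ideal.Quotient.mk I))).toLRSHom = i := by
  have hi' := LRSClosed.adj_eq (R := CommRingCat.of R) i
  obtain ⟨e, he⟩ := LRSClosed.exists_iso_quotient ((Scheme.ΓSpecIso (CommRingCat.of R)).inv ≫ i.c.app (op ⊤)) I hI
    (LRSClosed.loc_spec i hi.2.2) (hi'.symm ▸ hi.1)
    (by rw [hi']; exact LRSClosed.surjective_stalkMap hi.1 hi.2.1)
  exact ⟨e, he.trans hi'⟩

end Groth.Agent.S9506
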