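import Groth.Statements.S9507
import Mathlib
-- import your own Groth.Agent.* helpers here

set_option autoImplicit false
set_option backward.isDefEq.respectTransparency false
universe u
open LRSImm

namespace Groth.Agent.S9507

open AlgebraicGeometry CategoryTheory Opposite TopologicalSpace

section
variable {Z X Y : LocallyRingedSpace.{u}} (i : Z ⟶ X) (f : Y ⟶ X)

/-- restriction of sections -/
noncomputable abbrev res (Y : LocallyRingedSpace.{u}) {U V : Opens Y} (h : V ≤ U) :
    Y.presheaf.obj (op U) →+* Y.presheaf.obj (op V) := (Y.presheaf.map (homOfLE h).op).hom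

theorem res_res (Y : LocallyRingedSpace.{u}) {U V W : Opens Y} (h : V ≤ U) (h' : W ≤ V) (a : Y.presheaf.obj (op U)) :
    res Y h' (res Y h a) = res Y (h'.trans h) a :=
  (ConcreteCategory.congr_hom (Y.presheaf.map_comp (homOfLE h).op (homOfLE h').op) a).symm

theorem app_res {U V : Opens X.toTopCat} (h : V ≤ U) (a : X.presheaf.obj (op U)) :
    f.c.app (op V) (res X h a) = res Y (show (Opens.map f.base).obj V ≤ (Opens.map f.base).obj U from fun _ hy => h hy) (f.c.app (op U) a) :=
  ConcreteCategory.congr_hom (f.c.naturality (homOfLE h).op) a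

theorem vanish_of_fac (g : Y ⟶ Z) (hg : g ≫ i = f) (U : Opens X.toTopCat) (s : X.presheaf.obj (op U))
    (hs : i.c.app (op U) s = 0) : f.c.app (op U) s = 0 := by
  subst hg
  show g.c.app _ (i.c.app (op U) s) = 0
  rw [hs]
  exact map_zero _

theorem range_le (hcl : IsClosed (Set.range i.base)) (H : ∀ (U : Opens X.toTopCat) (s : X.presheaf.obj (op U)),
      i.c.app (op U) s = 0 → f.c.app (op U) s = 0) (y : Y) : f.base y ∈ Set.range i.base := by
  by_contra hy
  let U : Opens X.toTopCat := ⟨(Set.range i.base)ᶜ, hcl.isOpen_compl⟩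
  have h0 : i.c.app (op U) 1 = 0 := by
    refine (Z.sheaf.eq_of_locally_eq' (fun e : PEmpty.{u+1} => e.elim) ((Opens.map i.base).obj U) (fun e => e.elim)
      ?_ _ _ fun e => e.elim)
    intro z hz
    exact absurd ⟨z, rfl⟩ hz
  have h1 := H U 1 h0
  have h2 := congrArg (Y.presheaf.germ ((Opens.map f.base).obj U) y hy).hom h1
  rw [map_one, map_one, map_zero] at h2
  exact one_ne_zero h2

variable (hi : LRSImm.IsClosedImmersion i)
include hi

theorem lift_near {V : Opens Z.toTopCat} (t : Z.presheaf.obj (op V)) {z : Z} (hz : z ∈ V) :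
    ∃ (W : Opens X.toTopCat) (h : (Opens.map i.base).obj W ≤ V) (s : X.presheaf.obj (op W)),
      i.base z ∈ W ∧ i.c.app (op W) s = res Z h t := by
  obtain ⟨S, hSo, hSV⟩ := hi.1.isInducing.isOpen_iff.1 V.2
  let U : Opens X.toTopCat := ⟨S, hSo⟩
  have hle : (Opens.map i.base).obj U ≤ V := fun w hw => hSV.le hw
  obtain ⟨W, hW, ⟨s, hs⟩, hzW⟩ := (TopCat.Presheaf.isLocallySurjective_iff i.c).1 hi.2.1 U (res Z hle t)
    (i.base z) (hSV.ge hz)
  refine ⟨W, fun w hw => hle (hW hw), s, hzW, ?_⟩
  rw [hs]
  exact res_res Z hle (fun _ hw => hW hw) t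

theorem surj_stalk (z : Z) : Function.Surjective (i.stalkMap z).hom := by
  intro t
  obtain ⟨V, hz, t, rfl⟩ := Z.presheaf.germ_exist t
  obtain ⟨W, h, s, hzW, hs⟩ := lift_near i hi t hz
  refine ⟨X.presheaf.germ W (i.base z) hzW s, ?_⟩
  refine (LocallyRingedSpace.stalkMap_germ_apply i W z hzW s).trans ?_
  rw [hs]
  exact Z.presheaf.germ_res_apply (homOfLE h) z _ t

theorem exists_fac (H : ∀ (U : Opens X.toTopCat) (s : X.presheaf.obj (op U)),
    i.c.app (op U) s = 0 → f.c.app (op U) s = 0) : ∃ g : Y ⟶ Z, g ≫ i = f := by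
  choose b hb using range_le i f hi.1.isClosed_range H
  have hcont : Continuous b := by
    rw [hi.1.isInducing.continuous_iff, show ⇑i.base ∘ b = ⇑f.base from funext hb]
    exact f.base.hom.continuous
  let gb : Y.toTopCat ⟶ Z.toTopCat := TopCat.ofHom ⟨b, hcont⟩
  have hpre : ∀ {W : Opens X.toTopCat} {V : Opens Z.toTopCat}, (Opens.map i.base).obj W ≤ V →
      (Opens.map f.base).obj W ≤ (Opens.map gb).obj V := fun {W V} h y hy => h (show i.base (b y) ∈ W by rw [hb]; exact hy)
  let Rel : ∀ V : Opens Z.toTopCat, Z.presheaf.obj (op V) → Y.presheaf.obj (op ((Opens.map gb).obj V)) → Prop :=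
    fun V t r => ∀ (W : Opens X.toTopCat) (h : (Opens.map i.base).obj W ≤ V) (s : X.presheaf.obj (op W)),
      i.c.app (op W) s = res Z h t → f.c.app (op W) s = res Y (hpre h) r
  have H2 : ∀ (W : Opens X.toTopCat) (a b : X.presheaf.obj (op W)),
      i.c.app (op W) a = i.c.app (op W) b → f.c.app (op W) a = f.c.app (op W) b := fun W a b h =>
    sub_eq_zero.1 ((map_sub (f.c.app (op W)).hom a b).symm.trans
      (H W (a - b) ((map_sub (i.c.app (op W)).hom a b).trans (sub_eq_zero.2 h))))
  have compat : ∀ (W W' : Opens X.toTopCat) (s : X.presheaf.obj (op W)) (s' : X.presheaf.obj (op W')) (V : Opens Z.toTopCat)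
      (t : Z.presheaf.obj (op V)) (h : (Opens.map i.base).obj W ≤ V) (h' : (Opens.map i.base).obj W' ≤ V),
      i.c.app (op W) s = res Z h t → i.c.app (op W') s' = res Z h' t →
      res Y (show (Opens.map f.base).obj (W ⊓ W') ≤ (Opens.map f.base).obj W from fun _ hy => hy.1) (f.c.app (op W) s) =
        res Y (show (Opens.map f.base).obj (W ⊓ W') ≤ (Opens.map f.base).obj W' from fun _ hy => hy.2) (f.c.app (op W') s') := by
    intro W W' s s' V t h h' hs hs'
    rw [← app_res f inf_le_left, ← app_res f inf_le_right]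
    refine H2 _ _ _ ?_
    rw [app_res i inf_le_left, app_res i inf_le_right, hs, hs', res_res, res_res]
  have hex : ∀ V t, ∃! r, Rel V t r := by
    intro V t
    choose W hWV s hzW hs using fun y : (Opens.map gb).obj V => lift_near i hi t (z := b y.1) y.2
    let O : ((Opens.map gb).obj V) → Opens Y.toTopCat := fun y => (Opens.map f.base).obj (W y)
    have hcover : (Opens.map gb).obj V ≤ iSup O := fun y hy => Opens.mem_iSup.2 ⟨⟨y, hy⟩, by
      show f.base y ∈ W ⟨y, hy⟩
      rw [← hb y]
      exact hzW ⟨y, hy⟩⟩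
    obtain ⟨r, hr, hru⟩ := Y.sheaf.existsUnique_gluing' O ((Opens.map gb).obj V)
      (fun y => homOfLE (hpre (hWV y))) hcover (fun y => f.c.app (op (W y)) (s y))
      (fun y y' => compat (W y) (W y') (s y) (s y') V t (hWV y) (hWV y') (hs y) (hs y'))
    refine ⟨r, fun W' h' s' hs' => ?_, fun r' hr' => hru r' fun y => (hr' (W y) (hWV y) (s y) (hs y)).symm⟩
    refine Y.sheaf.eq_of_locally_eq' (fun y => (Opens.map f.base).obj (W' ⊓ W y)) ((Opens.map f.base).obj W')
      (fun y => homOfLE fun _ hy => hy.1) (fun y hy => Opens.mem_iSup.2 ⟨⟨y, hpre h' hy⟩, hy, by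
        show f.base y ∈ W ⟨y, _⟩
        rw [← hb y]
        exact hzW ⟨y, hpre h' hy⟩⟩) _ _ fun y => ?_
    refine (compat W' (W y) s' (s y) V t h' (hWV y) hs' (hs y)).trans ?_
    show _ = res Y _ (res Y (hpre h') r)
    rw [res_res]
    have e : res Y (hpre (hWV y)) r = f.c.app (op (W y)) (s y) := hr y
    rw [← e, res_res]
  choose φ hφ hφu using hex
  have near2 : ∀ {V : Opens Z.toTopCat} (W : Opens X.toTopCat) (h : (Opens.map i.base).obj W ≤ V)
      (t t' : Z.presheaf.obj (op V)) (p : Y) (_ : f.base p ∈ W),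
      ∃ (W1 : Opens X.toTopCat) (a : Σ' (_ : W1 ≤ W), X.presheaf.obj (op W1)) (a' : X.presheaf.obj (op W1)),
        f.base p ∈ W1 ∧
        i.c.app (op W1) a.2 = res Z (show (Opens.map i.base).obj W1 ≤ V from fun z hz => h (a.1 hz)) t ∧
        i.c.app (op W1) a' = res Z (show (Opens.map i.base).obj W1 ≤ V from fun z hz => h (a.1 hz)) t' := by
    intro V W h t t' p hp
    obtain ⟨A, hA, a, hpA, ha⟩ := lift_near i hi t (z := b p) (hpre h hp)
    obtain ⟨B, hB, a', hpB, ha'⟩ := lift_near i hi t' (z := b p) (hpre h hp)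
    refine ⟨W ⊓ A ⊓ B, ⟨inf_le_left.trans inf_le_left, res X (inf_le_left.trans inf_le_right) a⟩,
      res X inf_le_right a', ⟨⟨hp, hb p ▸ hpA⟩, hb p ▸ hpB⟩, ?_, ?_⟩
    · rw [app_res i, ha, res_res]
    · rw [app_res i, ha', res_res]
  have cover : ∀ (W : Opens X.toTopCat) (r1 r2 : Y.presheaf.obj (op ((Opens.map f.base).obj W))),
      (∀ p, f.base p ∈ W → ∃ (W1 : Opens X.toTopCat) (h1 : W1 ≤ W), f.base p ∈ W1 ∧
        res Y (show (Opens.map f.base).obj W1 ≤ (Opens.map f.base).obj W from fun _ hy => h1 hy) r1 =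
          res Y (show (Opens.map f.base).obj W1 ≤ (Opens.map f.base).obj W from fun _ hy => h1 hy) r2) → r1 = r2 := by
    intro W r1 r2 hr
    choose W1 h1 hp1 he using fun p : {p : Y // f.base p ∈ W} => hr p.1 p.2
    exact Y.sheaf.eq_of_locally_eq' (fun p => (Opens.map f.base).obj (W1 p)) _
      (fun p => homOfLE fun _ hy => h1 p hy) (fun y hy => Opens.mem_iSup.2 ⟨⟨y, hy⟩, hp1 ⟨y, hy⟩⟩) _ _ he
  let gc : ∀ V : Opens Z.toTopCat, Z.presheaf.obj (op V) →+* Y.presheaf.obj (op ((Opens.map gb).obj V)) := fun V =>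
    { toFun := φ V
      map_one' := (hφu V 1 1 fun W h s hs => by
        rw [map_one] at hs ⊢
        exact (H2 W s 1 (hs.trans (map_one (i.c.app (op W)).hom).symm)).trans (map_one (f.c.app (op W)).hom)).symm
      map_zero' := (hφu V 0 0 fun W h s hs => by
        rw [map_zero] at hs ⊢
        exact H _ _ hs).symm
      map_mul' := fun t t' => (hφu V (t * t') (φ V t * φ V t') fun W h s hs => by
        refine cover W _ _ fun p hp => ?_
        obtain ⟨W1, a, a', hp1, ha, ha'⟩ := near2 W h t t' p hp
        refine ⟨W1, a.1, hp1, ?_⟩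
        rw [map_mul, map_mul, res_res, res_res, ← app_res f a.1]
        rw [← hφ V t W1 _ a.2 ha, ← hφ V t' W1 _ a' ha']
        refine (H2 W1 _ (a.2 * a') ?_).trans (map_mul (f.c.app (op W1)).hom _ _)
        rw [app_res i, hs, res_res, map_mul]
        exact ((map_mul (i.c.app (op W1)).hom _ _).trans (congrArg₂ (· * ·) ha ha')).symm).symm
      map_add' := fun t t' => (hφu V (t + t') (φ V t + φ V t') fun W h s hs => by
        refine cover W _ _ fun p hp => ?_
        obtain ⟨W1, a, a', hp1, ha, ha'⟩ := near2 W h t t' p hp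
        refine ⟨W1, a.1, hp1, ?_⟩
        rw [map_add, map_add, res_res, res_res, ← app_res f a.1]
        rw [← hφ V t W1 _ a.2 ha, ← hφ V t' W1 _ a' ha']
        refine (H2 W1 _ (a.2 + a') ?_).trans (map_add (f.c.app (op W1)).hom _ _)
        rw [app_res i, hs, res_res, map_add]
        exact ((map_add (i.c.app (op W1)).hom _ _).trans (congrArg₂ (· + ·) ha ha')).symm).symm }
  let gp : Y.toPresheafedSpace ⟶ Z.toPresheafedSpace :=
    { base := gb
      c :=
        { app := fun V => CommRingCat.ofHom (gc V.unop)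
          naturality := fun V V' k => by
            ext t
            refine (hφu V'.unop _ _ fun W h s hs => ?_).symm
            have h' : (Opens.map i.base).obj W ≤ V.unop := h.trans (leOfHom k.unop)
            refine (hφ V.unop t W h' s (hs.trans ?_)).trans ?_
            · exact res_res Z (leOfHom k.unop) h t
            · exact (res_res Y (fun _ hy => (leOfHom k.unop) hy : (Opens.map gb).obj V'.unop ≤ (Opens.map gb).obj V.unop)
                (hpre h) (φ V.unop t)).symm } }
  have hcomp : gp ≫ i.toHom = f.toHom := by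
    refine PresheafedSpace.ext _ _ (TopCat.hom_ext (ContinuousMap.ext hb)) ?_
    refine NatTrans.ext (funext fun U => ?_)
    ext s
    refine Eq.trans ?_ (hφ ((Opens.map i.base).obj U.unop) (i.c.app U s) U.unop le_rfl s ?_).symm
    · rfl
    · show _ = (Z.presheaf.map (𝟙 _)) _
      rw [Z.presheaf.map_id]
      rfl
  refine ⟨⟨gp, fun y => ⟨fun a ha => ?_⟩⟩, LocallyRingedSpace.Hom.ext' hcomp⟩
  obtain ⟨c, rfl⟩ := surj_stalk i hi (gb y) a
  have key : ∀ (k : Y.toPresheafedSpace ⟶ X.toPresheafedSpace), k = f.toHom →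
      ∀ c, IsUnit ((k.stalkMap y).hom c) → IsUnit c := by
    rintro _ rfl c hc
    exact (isUnit_map_iff (f.stalkMap y).hom c).1 hc
  refine (key (gp ≫ i.toHom) hcomp c ?_).map _
  rw [PresheafedSpace.stalkMap.comp]
  exact ha

theorem fac_unique (g g' : Y ⟶ Z) (hg : g ≫ i = f) (hg' : g' ≫ i = f) : g = g' := by
  have hbase : g.base = g'.base := TopCat.hom_ext (ContinuousMap.ext fun y =>
    hi.1.injective (by
      have h := hg.trans hg'.symm
      exact congr($(h).base y)))
  refine LocallyRingedSpace.Hom.ext' (PresheafedSpace.ext _ _ hbase ?_)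
  refine NatTrans.ext (funext fun V => ?_)
  ext t
  have hle : (Opens.map g'.base).obj V.unop ≤ (Opens.map g.base).obj V.unop := fun y hy => by
    show g.base y ∈ V.unop
    rw [hbase]
    exact hy
  show res Y hle (g.c.app V t) = g'.c.app V t
  choose W hWV s hzW hs using fun y : (Opens.map g'.base).obj V.unop => lift_near i hi t (z := g'.base y.1) y.2
  refine Y.sheaf.eq_of_locally_eq' (fun y => (Opens.map g'.base).obj ((Opens.map i.base).obj (W y))) _
    (fun y => homOfLE fun p hp => hWV y hp) (fun y hy => Opens.mem_iSup.2 ⟨⟨y, hy⟩, hzW ⟨y, hy⟩⟩) _ _ fun y => ?_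
  show res Y _ (res Y hle _) = res Y _ _
  rw [res_res]
  have h1 : res Y (show (Opens.map g'.base).obj ((Opens.map i.base).obj (W y)) ≤ (Opens.map (g ≫ i).base).obj (W y) from
      fun p hp => by show i.base (g.base p) ∈ W y; rw [hbase]; exact hp) ((g ≫ i).c.app (op (W y)) (s y)) =
      res Y (show (Opens.map g'.base).obj ((Opens.map i.base).obj (W y)) ≤ (Opens.map (g' ≫ i).base).obj (W y) from
        le_rfl) ((g' ≫ i).c.app (op (W y)) (s y)) := by
    have key : ∀ (k k' : Y ⟶ X), k = k' → ∀ (O : Opens Y.toTopCat) (h : O ≤ (Opens.map k.base).obj (W y))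
        (h' : O ≤ (Opens.map k'.base).obj (W y)),
        res Y h (k.c.app (op (W y)) (s y)) = res Y h' (k'.c.app (op (W y)) (s y)) := by
      rintro k _ rfl O h h'
      rfl
    exact key _ _ (hg.trans hg'.symm) _ _ _
  have e1 : (g ≫ i).c.app (op (W y)) (s y) = res Y (fun p hp => hWV y hp) (g.c.app V t) := by
    show g.c.app _ (i.c.app (op (W y)) (s y)) = _
    rw [hs y]
    exact app_res g (hWV y) t
  have e2 : (g' ≫ i).c.app (op (W y)) (s y) = res Y (fun p hp => hWV y hp) (g'.c.app V t) := by
    show g'.c.app _ (i.c.app (op (W y)) (s y)) = _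
    rw [hs y]
    exact app_res g' (hWV y) t
  rw [e1, e2, res_res, res_res] at h1
  exact h1

end

open AlgebraicGeometry in
open CategoryTheory Opposite TopologicalSpace in
/-- Take a morphism i : Z → X of locally ringed spaces that is a closed immersion (a homeomorphism onto
a closed subset, O_X → i_*O_Z surjective as a map of sheaves, kernel I locally generated by
sections), and let f : Y → X be a morphism of locally ringed spaces. Then f factors through i if and
only if the composite I → O_X → f_*O_Y vanishes, i.e. every local section of O_X that maps to zero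
in i_*O_Z maps to zero in f_*O_Y (equivalently f^*I → O_Y is zero); moreover the factorisation Y → Z
is unique. (The published statement is phrased for the closed subspace cut out by a sheaf of ideals
locally generated by sections; here it is phrased for any closed immersion of locally ringed spaces
with I the kernel of O_X → i_*O_Z, which is the situation its proof treats.) -/
theorem result
    {Z X Y : LocallyRingedSpace.{u}} (i : Z ⟶ X) (hi : LRSImm.IsClosedImmersion i) (f : Y ⟶ X) :
    ((∃ g : Y ⟶ Z, g ≫ i = f) ↔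
      ∀ (U : Opens X.toTopCat) (s : X.presheaf.obj (op U)),
        i.c.app (op U) s = 0 → f.c.app (op U) s = 0) ∧
    ∀ g g' : Y ⟶ Z, g ≫ i = f → g' ≫ i = f → g = g' := by
  exact ⟨⟨fun ⟨g, hg⟩ => vanish_of_fac i f g hg, exists_fac i f hi⟩, fac_unique i f hi⟩

end Groth.Agent.S9507
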