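import Groth.Statements.S9509
import Mathlib

set_option autoImplicit false
set_option backward.isDefEq.respectTransparency false
universe u
open SchMor

namespace Groth.Agent.S9509

open AlgebraicGeometry in
open CategoryTheory in
/-- (3) ⇒ (1): Let f : X → S be a morphism of schemes. Suppose S is covered by affine opens W_i, each
preimage f⁻¹(W_i) is covered by affine opens V_{i,j}, and any two V_{i,j}, V_{i,j'} with the same
index i meet in a quasi-compact open (one covered by finitely many affine opens). Then f is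
quasi-separated. -/
theorem result
    {X S : Scheme.{u}} (f : X ⟶ S) {ι : Type u} (W : ι → S.affineOpens)
    (hW : ⨆ i, (W i : S.Opens) = ⊤) {κ : ι → Type u} (V : ∀ i, κ i → X.affineOpens)
    (hV : ∀ i, ⨆ j, (V i j : X.Opens) = f ⁻¹ᵁ (W i : S.Opens))
    (hVV : ∀ i (j j' : κ i), IsCompact ((V i j : Set X) ∩ (V i j' : Set X))) :
    QuasiSeparated f := by
  rw [HasAffineProperty.iff_of_iSup_eq_top (P := @QuasiSeparated) (Q := fun X _ _ _ => QuasiSeparatedSpace X) W hW]
  intro i
  change QuasiSeparatedSpace (f ⁻¹ᵁ (W i).1 : Scheme.{u})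
  let O := f ⁻¹ᵁ (W i).1
  have hle : ∀ j, (V i j : X.Opens) ≤ O := fun j => (le_iSup _ j).trans (hV i).le
  refine Scheme.quasiSeparatedSpace_of_isOpenCover (fun j => O.ι ⁻¹ᵁ (V i j).1) ?_ (fun j => ?_) (fun j j' => ?_)
  · refine TopologicalSpace.IsOpenCover.mk (top_le_iff.1 fun z _ => ?_)
    obtain ⟨j, hj⟩ := TopologicalSpace.Opens.mem_iSup.1 ((hV i).ge z.2)
    exact TopologicalSpace.Opens.mem_iSup.2 ⟨j, hj⟩
  · refine (V i j).2.preimage_of_isOpenImmersion O.ι ?_
    rw [Scheme.Opens.opensRange_ι]; exact hle j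
  · rw [O.ι.isOpenEmbedding.isEmbedding.isCompact_iff]
    change IsCompact (O.ι '' (O.ι ⁻¹' (V i j : Set X) ∩ O.ι ⁻¹' (V i j' : Set X)))
    rw [← Set.preimage_inter, Set.image_preimage_eq_inter_range, Scheme.Opens.range_ι,
      Set.inter_eq_left.2 (Set.inter_subset_left.trans (hle j))]
    exact hVV i j j'

end Groth.Agent.S9509
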