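import Groth.Statements.S9510
import Mathlib

set_option autoImplicit false
universe u
open SchMor

namespace Groth.Agent.S9510

open AlgebraicGeometry in
open CategoryTheory in
/-- Let X be a scheme, X = ⋃ U_i an affine open covering and V ⊆ X an affine open. Then there is a
standard open covering V = D(f_1) ∪ … ∪ D(f_m), with f_1, …, f_m sections of O_X over V, such that
each D(f_j) is also a standard open D(g) of one of the U_i (g a section over that U_i). -/
theorem result
    (X : Scheme.{u}) {ι : Type u} (U : ι → X.affineOpens) (hU : ⨆ i, (U i : X.Opens) = ⊤)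
    (V : X.affineOpens) :
    ∃ s : Finset Γ(X, (V : X.Opens)),
      (⨆ f ∈ s, X.basicOpen f) = (V : X.Opens) ∧
        ∀ f ∈ s, ∃ (i : ι) (g : Γ(X, (U i : X.Opens))), X.basicOpen f = X.basicOpen g := by
  classical
  have hloc : ∀ x ∈ (V : Set X), ∃ f : Γ(X, (V : X.Opens)), x ∈ X.basicOpen f ∧
      ∃ (i : ι) (g : Γ(X, (U i : X.Opens))), X.basicOpen f = X.basicOpen g := by
    intro x hx
    obtain ⟨i, hi⟩ := TopologicalSpace.Opens.mem_iSup.1 (hU.ge (show x ∈ ⊤ from trivial))
    obtain ⟨f, g, hfg, hxf⟩ := exists_basicOpen_le_affine_inter V.2 (U i).2 x ⟨hx, hi⟩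
    exact ⟨f, hxf, i, g, hfg⟩
  obtain ⟨b, hb, hbfin, hcov⟩ := V.2.isCompact.elim_finite_subcover_image
    (b := {f : Γ(X, (V : X.Opens)) | ∃ (i : ι) (g : Γ(X, (U i : X.Opens))), X.basicOpen f = X.basicOpen g})
    (c := fun f => (X.basicOpen f : Set X)) (fun f _ => (X.basicOpen f).2) (fun x hx => by
      obtain ⟨f, hxf, hf⟩ := hloc x hx
      exact Set.mem_biUnion hf hxf)
  refine ⟨hbfin.toFinset, le_antisymm (iSup₂_le fun f _ => X.basicOpen_le f) (fun x hx => ?_),
    fun f hf => hb (hbfin.mem_toFinset.1 hf)⟩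
  obtain ⟨f, hf, hxf⟩ := Set.mem_iUnion₂.1 (hcov hx)
  exact TopologicalSpace.Opens.mem_iSup.2 ⟨f, TopologicalSpace.Opens.mem_iSup.2 ⟨hbfin.mem_toFinset.2 hf, hxf⟩⟩

end Groth.Agent.S9510
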