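import Groth.Statements.S9511
import Mathlib

set_option linter.style.haveILetI false

set_option autoImplicit false
universe u
open LRSImm CategoryTheory TopologicalSpace AlgebraicGeometry

namespace Groth.Agent.S9511

open AlgebraicGeometry in
open CategoryTheory TopologicalSpace in
/-- Let X be a locally ringed space and U, V ⊆ X open with X = U ⊔ V (they cover X and are disjoint),
such that the open subspaces X|_U and X|_V are affine schemes. Then X is an affine scheme: the
canonical morphism X → Spec Γ(X, O_X) is an isomorphism of locally ringed spaces. -/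
theorem result
    (X : LocallyRingedSpace.{u}) (U V : Opens X.toTopCat) (hUV : IsCompl U V)
    (A B : CommRingCat.{u})
    (eU : X.restrict U.isOpenEmbedding ≅ (Spec A).toLocallyRingedSpace)
    (eV : X.restrict V.isOpenEmbedding ≅ (Spec B).toLocallyRingedSpace) :
    IsIso X.toΓSpec := by
  have hcov : U ⊔ V = ⊤ := hUV.sup_eq_top
  let X' : Scheme.{u} :=
    { X with
      local_affine := fun x => by
        have : x ∈ U ⊔ V := hcov ▸ trivial
        rcases this with h | h
        · exact ⟨⟨U, h⟩, A, ⟨eU⟩⟩
        · exact ⟨⟨V, h⟩, B, ⟨eV⟩⟩ }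
  have hU : IsAffineOpen (X := X') U := by
    haveI := (Scheme.forgetToLocallyRingedSpace.preimageIso (X := (show X'.Opens from U).toScheme) (Y := Spec A) eU).isIso_hom
    exact IsAffine.of_isIso (Scheme.forgetToLocallyRingedSpace.preimageIso (X := (show X'.Opens from U).toScheme) (Y := Spec A) eU).hom
  have hV : IsAffineOpen (X := X') V :=
    IsAffine.of_isIso (Scheme.forgetToLocallyRingedSpace.preimageIso (X := (show X'.Opens from V).toScheme) (Y := Spec B) eV).hom
  have htop : IsAffineOpen (⊤ : X'.Opens) := by
    have h := hU.sup_of_disjoint hV hUV.disjoint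
    have e : (show X'.Opens from U) ⊔ (show X'.Opens from V) = ⊤ := hcov
    exact e ▸ h
  haveI : IsAffine X' := IsAffine.of_isIso X'.topIso.inv (h := htop)
  haveI h : IsIso (Scheme.forgetToLocallyRingedSpace.map X'.toSpecΓ) := inferInstance
  exact h

end Groth.Agent.S9511
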