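import Groth.Statements.S9512
import Mathlib

set_option autoImplicit false
universe u
open LRSImm

namespace Groth.Agent.S9512

open AlgebraicGeometry in
open CategoryTheory Opposite in
/-- Let X be a locally ringed space, Y = Spec R an affine scheme and f : X → Y a morphism of locally
ringed spaces. Given a point x of X, the image f(x) is the prime of R obtained as the inverse image
of the maximal ideal of O_{X,x} under the composite R = Γ(Y, O_Y) → Γ(X, O_X) → O_{X,x}. -/
theorem result
    (X : LocallyRingedSpace.{u}) (R : CommRingCat.{u})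
    (f : X ⟶ (Spec R).toLocallyRingedSpace) (x : X.toTopCat) :
    f.base x = PrimeSpectrum.comap
      ((Scheme.ΓSpecIso R).inv ≫ f.c.app (op ⊤) ≫ X.presheaf.germ ⊤ x trivial).hom
      (IsLocalRing.closedPoint (X.presheaf.stalk x)) := by
  have h0 : ∀ p : Spec R, p = PrimeSpectrum.comap
      ((Scheme.ΓSpecIso R).inv ≫ (Spec R).presheaf.germ ⊤ p trivial).hom
      (IsLocalRing.closedPoint ((Spec R).presheaf.stalk p)) := fun p => by
    let q : PrimeSpectrum R := p
    change q = _
    refine PrimeSpectrum.ext (Ideal.ext fun r => ?_)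
    rw [← IsLocalization.AtPrime.to_map_mem_maximal_iff
      ((Spec.structureSheaf R).presheaf.stalk q) q.asIdeal r]
    rfl
  refine (h0 (f.base x)).trans ?_
  conv_lhs => rw [← IsLocalRing.comap_closedPoint (f.stalkMap x).hom]
  erw [← PrimeSpectrum.comap_comp_apply]
  congr 1
  rw [← CommRingCat.hom_comp]
  congr 1
  rw [Category.assoc]
  erw [PresheafedSpace.stalkMap_germ f.1 ⊤ x trivial]
  rfl

end Groth.Agent.S9512
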