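import Groth.Statements.S9521
import Groth.Agent.W7Hull.Generic

set_option autoImplicit false
universe u
open Coherent

set_option backward.isDefEq.respectTransparency false
attribute [local instance] CategoryTheory.Abelian.hasFiniteBiproducts
namespace Groth.Agent.S9521

open CategoryTheory CategoryTheory.Limits AlgebraicGeometry in
/-- Let X be a Noetherian scheme, i : Z → X a closed immersion with Z an integral scheme, ξ ∈ X the
image of the generic point of Z, and F a coherent O_X-module whose stalk F_ξ is annihilated by the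
maximal ideal of O_{X,ξ}. Then one can find r ≥ 0 together with a coherent ideal sheaf I ⊆ O_Z and a
monomorphism of O_X-modules i_*(I^⊕r) → F that becomes an isomorphism when restricted to some open
neighbourhood of ξ. -/
theorem result (X Z : Scheme.{u}) [IsNoetherian X]
    (i : Z ⟶ X) [IsClosedImmersion i] [IsIntegral Z] (F : X.Modules) (hF : Coh.IsCoh F)
    (hann : ∀ a ∈ IsLocalRing.maximalIdeal (X.presheaf.stalk (i (genericPoint Z))),
      ∀ m : ↑(F.presheaf.stalk (i (genericPoint Z))), a • m = 0) :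
    ∃ (r : ℕ) (I : Z.Modules) (ι : I ⟶ Coh.structureModule Z) (φ : (Coh.push i).obj (∐ fun _ : Fin r => I) ⟶ F),
      Mono ι ∧ Coh.IsCoh I ∧ Mono φ ∧
      ∃ U : X.Opens, i (genericPoint Z) ∈ U ∧ IsIso ((Scheme.Modules.restrictFunctor U.ι).map φ) := by
  have hrange : Set.range ⇑i = closure {i (genericPoint Z)} := by
    refine Set.Subset.antisymm ?_ (closure_minimal (by simp) i.isClosedEmbedding.isClosed_range)
    rintro _ ⟨z, rfl⟩
    exact specializes_iff_mem_closure.1
      (((genericPoint_spec Z).specializes trivial).map i.continuous)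
  obtain ⟨U₁, hξU, hU₁⟩ := W7Hull.exists_nhd_support F hF _ hann
  obtain ⟨S, hS, ⟨e2⟩, hc1, hc3, hs1, hs3⟩ := Devissage.exists_split_support F hF
    (closure {i (genericPoint Z)}) (U₁ : Set X)ᶜ isClosed_closure U₁.isOpen.isClosed_compl
    fun x hx => or_iff_not_imp_right.2 fun h => hU₁ ⟨hx, not_not.1 h⟩
  have hq : ∀ x ∈ U₁, Function.Injective (W7Hull.st (e2.inv ≫ S.g) x) := fun x hx => by
    refine (injective_iff_map_eq_zero _).2 fun z hz => ?_
    rw [W7Hull.st_comp] at hz
    obtain ⟨w, hw⟩ := WeakAssLib.stalk_exact S hS x _ hz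
    refine (W7Hull.bijective_of_isIso e2.inv x).1 (Eq.trans ?_ (map_zero _).symm)
    rw [← hw, @Subsingleton.elim _ (not_not.1 fun h => hs1 h hx) w 0]
    exact map_zero _
  obtain ⟨H, h, hh, hhq, hHq, hbij⟩ := W7Hull.exists_avoid hF.1 hc3.1 (e2.inv ≫ S.g) U₁ hq
  haveI := hh
  have hH : Coh.IsCoh H := QC.isCoh_of_mono h hF hHq
  haveI := hhq
  obtain ⟨r, J, ψ, hJ, hψ, hψs⟩ := W7Hull.exists_piece_power_mono (i (genericPoint Z)) H hH
    ((Devissage.support_subset_of_mono (h ≫ e2.inv ≫ S.g)).trans hs3) fun a ha m => by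
      refine W7Hull.st_injective h _ ?_
      rw [map_smul, map_zero]
      exact hann a ha _
  haveI := hψ
  obtain ⟨I', ι', hι', hI'q, -, ⟨c⟩⟩ := Devissage.piece_iso_push hJ
  haveI : IsReduced (Scheme.IdealSheafData.vanishingIdeal
      (Devissage.Zc (i (genericPoint Z)))).subscheme := DvrDom.isReduced_vanishingIdeal_subscheme _
  obtain ⟨e, he⟩ := W7Hull.exists_iso_of_range_eq i (Devissage.Zi (i (genericPoint Z)))
    (hrange.trans (Devissage.range_Zi _).symm)
  haveI : IsIso (ClSub.unitToPush e.inv) := by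
    rw [Scheme.Modules.Hom.isIso_iff_isIso_app]
    intro V
    rw [ConcreteCategory.isIso_iff_bijective]
    exact ConcreteCategory.bijective_of_isIso (e.inv.app V)
  haveI := hι'
  let I := (Scheme.Modules.pushforward e.inv).obj I'
  let ι : I ⟶ Coh.structureModule Z :=
    (Scheme.Modules.pushforward e.inv).map ι' ≫ inv (ClSub.unitToPush e.inv)
  haveI : IsLocallyNoetherian Z := LocallyOfFiniteType.isLocallyNoetherian i
  haveI : I'.IsQuasicoherent := hI'q
  have hIq : Coh.IsQCoh I := QC.isQCoh_pushforward e.inv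
  let cI : (Coh.push i).obj I ≅ J := (Scheme.Modules.pushforwardComp e.inv i).app I' ≪≫
    (Scheme.Modules.pushforwardCongr ((Iso.inv_comp_eq e).2 he.symm)).app I' ≪≫ c.symm
  let pc := (Coh.push i).mapIso (biproduct.isoCoproduct fun _ : Fin r => I).symm ≪≫
    (Coh.push i).mapBiproduct (fun _ : Fin r => I) ≪≫ biproduct.mapIso fun _ => cI
  have hsum : Coh.IsCoh (⨁ fun _ : Fin r => J) := Devissage.isCoh_biproduct _ fun _ => hJ.coh
  haveI : Mono ι := mono_comp _ _
  have hC : Coh.IsCoh (cokernel (ψ ≫ h)) := QC.isCoh_cokernel hsum.1 hF _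
  haveI := hC.1
  let V : X.Opens := ⟨(CohB1.support (cokernel (ψ ≫ h)))ᶜ, by
    rw [← SupportLib.support_annSheaf (cokernel (ψ ≫ h)) hC.2]
    exact (SupportLib.annSheaf (cokernel (ψ ≫ h)) hC.2).support.isClosed.isOpen_compl⟩
  refine ⟨r, I, ι, pc.hom ≫ ψ ≫ h, inferInstance, QC.isCoh_of_mono ι (Devissage.isCoh_unit Z) hIq,
    inferInstance, V, ?_, ?_⟩
  · refine Devissage.notMem_support_of_surjective _ (Devissage.cokSeq_shortExact (ψ ≫ h)) _ fun z => ?_
    obtain ⟨y, hy⟩ := (hbij _ hξU).2 z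
    obtain ⟨w, hw⟩ := hψs y
    exact ⟨w, (Devissage.stalkHom_comp ψ h _ w).trans ((congrArg _ hw).trans hy)⟩
  · haveI := W7Hull.isIso_restrict_of_bijective (ψ ≫ h) V fun x hx =>
      ⟨W7Hull.st_injective _ x, fun z => LinearMap.mem_range.1
        (W7Hull.st_exact_cokernel (ψ ≫ h) x z (@Subsingleton.elim _ (not_not.1 hx) _ _))⟩
    rw [Functor.map_comp]
    infer_instance

end Groth.Agent.S9521
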