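import Groth.Statements.S9522
import Groth.Agent.Devissage.Apply2
-- import your own Groth.Agent.* helpers here

set_option autoImplicit false
universe u
open CategoryTheory CategoryTheory.Limits AlgebraicGeometry
attribute [local instance] HasDerivedCategory.standard
open Coherent

namespace Groth.Agent.S9522

/-- Let X be a Noetherian scheme, Z₀ ⊆ X an irreducible closed subset with generic point ξ, and P an
isomorphism-invariant property of O_X-modules that holds for every zero module and such that (1) for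
every short exact sequence 0 → F₁ → F → F₂ → 0 of coherent modules, P(F₁) and P(F₂) imply P(F); (2)
for coherent F, P(F^⊕r) for some r ≥ 1 implies P(F); (3) P holds for i_*I for every closed immersion
i : Z → X with Z integral, i(Z) a proper subset of Z₀, and every quasi-coherent ideal sheaf I ⊆ O_Z;
(4) there is a coherent module G with support equal to Z₀, whose stalk at ξ is annihilated by the
maximal ideal of O_{X,ξ}, and such that for every quasi-coherent sheaf of ideals J on X with ξ ∉
V(J) there is a quasi-coherent submodule G' ⊆ J·G whose inclusion into G induces an isomorphism on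
stalks at ξ and for which P holds. Then P holds for every coherent O_X-module whose support is
contained in Z₀. (The published statement does not ask that P hold for the zero module, although its
proof uses this for a filtration with no steps; without it the conclusion fails for the zero module
when Z₀ is a closed point: on the spectrum of a field, with P(F) meaning that F is nonzero, every
other hypothesis holds. This row assumes that P holds for every zero module.) -/
theorem result (X : Scheme.{u}) [IsNoetherian X]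
    (Z₀ : Set X) (hZ₀ : IsClosed Z₀) (hirr : IsIrreducible Z₀) (ξ : X) (hξ : ξ ∈ Z₀ ∧ closure {ξ} = Z₀)
    (P : X.Modules → Prop) (hP : ∀ M N : X.Modules, Nonempty (M ≅ N) → P M → P N)
    (h₀ : ∀ M : X.Modules, IsZero M → P M)
    (h₁ : ∀ S : ShortComplex X.Modules, S.ShortExact → Coh.IsCoh S.X₁ → Coh.IsCoh S.X₂ → Coh.IsCoh S.X₃ →
      P S.X₁ → P S.X₃ → P S.X₂)
    (h₂ : ∀ (F : X.Modules) (r : ℕ), Coh.IsCoh F → 1 ≤ r → P (∐ fun _ : Fin r => F) → P F)
    (h₃ : ∀ (Z : Scheme.{u}) (i : Z ⟶ X), IsClosedImmersion i → IsIntegral Z →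
      Set.range ⇑i ⊆ Z₀ → Set.range ⇑i ≠ Z₀ →
      ∀ (I : Z.Modules) (ι : I ⟶ Coh.structureModule Z), Mono ι → Coh.IsQCoh I → P ((Coh.push i).obj I))
    (h₄ : ∃ G : X.Modules, Coh.IsCoh G ∧ CohB1.support G = Z₀ ∧
      (∀ a ∈ IsLocalRing.maximalIdeal (X.presheaf.stalk ξ), ∀ m : ↑(G.presheaf.stalk ξ), a • m = 0) ∧
      ∀ J : X.IdealSheafData, ξ ∉ (J.support : Set X) →
        ∃ (G' : X.Modules) (ι' : G' ⟶ (Dual3.idealMul J).obj G), Mono ι' ∧ Coh.IsQCoh G' ∧
          IsIso ((TopCat.Presheaf.stalkFunctor _ ξ).map (ι' ≫ Dual3.idealMulι J G).mapPresheaf) ∧ P G')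
    (F : X.Modules) (hF : Coh.IsCoh F) (hsupp : CohB1.support F ⊆ Z₀) : P F := by
  obtain ⟨G, hG, hGs, hk, hJ⟩ := h₄
  refine Groth.Agent.Devissage.extension_roots P hP h₀ ⟨Z₀, hZ₀⟩ h₁ h₂ (fun ξ' hξ' => ?_) F hF hsupp
  by_cases hh : ξ' = ξ
  · subst hh
    refine Or.inr ⟨G, hG, hGs.le.trans hξ.2.ge, by rw [hGs]; exact hξ.1, hk, fun J hJ' => ?_⟩
    obtain ⟨G', ι', h1, h2, h3, h4⟩ := hJ J hJ'
    refine ⟨G', ι', h1, h2, ?_, h4⟩
    exact (ConcreteCategory.bijective_of_isIso ((TopCat.Presheaf.stalkFunctor _ ξ').map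
      (ι' ≫ Dual3.idealMulι J G).mapPresheaf)).2
  · refine Or.inl fun R hR => ?_
    obtain ⟨I, ι, hι, hIq, -, ⟨c⟩⟩ := Groth.Agent.Devissage.piece_iso_push hR
    have hr := Groth.Agent.Devissage.range_Zi ξ'
    refine hP _ _ ⟨c.symm⟩ (h₃ _ (Groth.Agent.Devissage.Zi ξ') inferInstance
      (Groth.Agent.Devissage.Zi_isIntegral ξ') ?_ ?_ I ι hι hIq)
    · rw [hr]; exact closure_minimal (Set.singleton_subset_iff.2 hξ') hZ₀
    · rw [hr, ← hξ.2]
      intro he
      exact hh ((specializes_iff_mem_closure.2 (he.symm ▸ subset_closure rfl)).antisymm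
        (specializes_iff_mem_closure.2 (he ▸ subset_closure rfl))).eq

end Groth.Agent.S9522
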