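import Groth.Statements.S9523
import Groth.Agent.IdealMulSec.Basic
import Groth.Agent.FpqcDescent.IdealGlue

set_option autoImplicit false
universe u
open CategoryTheory CategoryTheory.Limits AlgebraicGeometry
attribute [local instance] HasDerivedCategory.standard
open Coherent

set_option backward.isDefEq.respectTransparency false
set_option backward.isDefEq.respectTransparency.types false

namespace Groth.Agent.S9523

/-- Let f : Y → X be an affine morphism of schemes, F a quasi-coherent O_Y-module and I a quasi-coherent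
sheaf of ideals on X. Then I·f_*F = f_*((f⁻¹I O_Y)·F) as submodules of f_*F: there is an isomorphism
I·f_*F ≅ f_*((f⁻¹I O_Y)·F) whose composite with f_* of the inclusion (f⁻¹I O_Y)·F → F is the
inclusion I·f_*F → f_*F. (J·M denotes the submodule sheaf Dual3.idealMul J M; f⁻¹I O_Y is the
pulled-back ideal sheaf I.comap f.) -/
theorem result {Y X : Scheme.{u}} (f : Y ⟶ X) [IsAffineHom f]
    (F : Y.Modules) (hF : Coh.IsQCoh F) (I : X.IdealSheafData) :
    ∃ e : (Dual3.idealMul I).obj ((Scheme.Modules.pushforward f).obj F) ≅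
        (Scheme.Modules.pushforward f).obj ((Dual3.idealMul (I.comap f)).obj F),
      e.hom ≫ (Scheme.Modules.pushforward f).map (Dual3.idealMulι (I.comap f) F) =
        Dual3.idealMulι I ((Scheme.Modules.pushforward f).obj F) := by
  classical
  let G := Scheme.Modules.pushforward f
  let J := I.comap f
  let η := (Scheme.Modules.pullbackPushforwardAdjunction J.subschemeι).unit.app F
  let η₀ := (Scheme.Modules.pullbackPushforwardAdjunction I.subschemeι).unit.app (G.obj F)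
  have hq : Coh.IsQCoh (G.obj F) := by
    haveI : F.IsQuasicoherent := hF
    exact Groth.Agent.QC.isQCoh_pushforward f
  have hid : ∀ U : X.affineOpens, J.ideal ⟨f ⁻¹ᵁ U.1, U.2.preimage f⟩ = (I.ideal U).map (f.app U.1).hom := fun U => by
    rw [Groth.Agent.FpqcDescent.ideal_comap_appLE I f U ⟨f ⁻¹ᵁ U.1, U.2.preimage f⟩ le_rfl, Scheme.Hom.appLE_eq_app]
  have hle1 : ∀ (U : X.affineOpens) (s : Γ(G.obj F, U.1)),
      s ∈ (I.ideal U) • (⊤ : Submodule Γ(X, U.1) Γ(G.obj F, U.1)) →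
      (show Γ(F, f ⁻¹ᵁ U.1) from s) ∈ (J.ideal ⟨f ⁻¹ᵁ U.1, U.2.preimage f⟩) • (⊤ : Submodule Γ(Y, f ⁻¹ᵁ U.1) Γ(F, f ⁻¹ᵁ U.1)) := fun U s hs => by
    rw [hid]
    refine Submodule.smul_induction_on hs (fun a ha m _ => ?_) fun a b ha hb => add_mem ha hb
    show (f.app U.1).hom a • (show Γ(F, f ⁻¹ᵁ U.1) from m) ∈ _
    exact Submodule.smul_mem_smul (Ideal.mem_map_of_mem _ ha) trivial
  have hle2 : ∀ (U : X.affineOpens) (s : Γ(F, f ⁻¹ᵁ U.1)),
      s ∈ (J.ideal ⟨f ⁻¹ᵁ U.1, U.2.preimage f⟩) • (⊤ : Submodule Γ(Y, f ⁻¹ᵁ U.1) Γ(F, f ⁻¹ᵁ U.1)) →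
      (show Γ(G.obj F, U.1) from s) ∈ (I.ideal U) • (⊤ : Submodule Γ(X, U.1) Γ(G.obj F, U.1)) := fun U s hs => by
    rw [hid] at hs
    refine Submodule.smul_induction_on hs (fun a ha m _ => ?_) fun a b ha hb => add_mem ha hb
    refine Submodule.span_induction (p := fun a _ => ∀ m : Γ(F, f ⁻¹ᵁ U.1),
      (show Γ(G.obj F, U.1) from (a • m : Γ(F, f ⁻¹ᵁ U.1))) ∈ (I.ideal U) • (⊤ : Submodule Γ(X, U.1) Γ(G.obj F, U.1)))
      ?_ ?_ ?_ ?_ ha m
    · rintro _ ⟨c, hc, rfl⟩ m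
      exact Submodule.smul_mem_smul (N := (⊤ : Submodule Γ(X, U.1) Γ(G.obj F, U.1))) hc
        (trivial : (show Γ(G.obj F, U.1) from m) ∈ _)
    · intro m; rw [zero_smul]; exact zero_mem _
    · intro b c _ _ hb hc m; rw [add_smul]; exact add_mem (hb m) (hc m)
    · intro b c _ hc m; rw [smul_eq_mul, mul_comm, mul_smul]; exact hc (b • m)
  have h1 : Dual3.idealMulι I (G.obj F) ≫ G.map η = 0 := Groth.Agent.IdealMulSec.hom_eq_zero _ fun U s => by
    have h := (Groth.Agent.IdealMulSec.range_idealMulι I hq U _).mp ⟨s, rfl⟩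
    exact (Groth.Agent.QC.mem_range_kernel_app η (f ⁻¹ᵁ U.1) _).mp
      ((Groth.Agent.IdealMulSec.range_idealMulι J hF ⟨f ⁻¹ᵁ U.1, U.2.preimage f⟩ _).mpr (hle1 U _ h))
  have h2 : G.map (Dual3.idealMulι J F) ≫ η₀ = 0 := Groth.Agent.IdealMulSec.hom_eq_zero _ fun U s => by
    have h := (Groth.Agent.IdealMulSec.range_idealMulι J hF ⟨f ⁻¹ᵁ U.1, U.2.preimage f⟩ _).mp ⟨s, rfl⟩
    exact (Groth.Agent.QC.mem_range_kernel_app η₀ U.1 _).mp
      ((Groth.Agent.IdealMulSec.range_idealMulι I hq U _).mpr (hle2 U _ h))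
  let c := PreservesKernel.iso G η
  let a : (Dual3.idealMul I).obj (G.obj F) ⟶ G.obj ((Dual3.idealMul J).obj F) :=
    kernel.lift (G.map η) (Dual3.idealMulι I (G.obj F)) h1 ≫ c.inv
  let b : G.obj ((Dual3.idealMul J).obj F) ⟶ (Dual3.idealMul I).obj (G.obj F) := kernel.lift η₀ _ h2
  have ha : a ≫ G.map (Dual3.idealMulι J F) = Dual3.idealMulι I (G.obj F) := by
    show (kernel.lift _ _ h1 ≫ c.inv) ≫ G.map (kernel.ι η) = _
    rw [Category.assoc, PreservesKernel.iso_inv_ι, kernel.lift_ι]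
  have hb : b ≫ Dual3.idealMulι I (G.obj F) = G.map (Dual3.idealMulι J F) := kernel.lift_ι _ _ h2
  haveI : Mono (G.map (Dual3.idealMulι J F)) := by
    haveI : G.IsRightAdjoint := (Scheme.Modules.pullbackPushforwardAdjunction f).isRightAdjoint
    infer_instance
  refine ⟨⟨a, b, ?_, ?_⟩, ha⟩
  · rw [← cancel_mono (Dual3.idealMulι I (G.obj F)), Category.assoc, hb, ha, Category.id_comp]
  · rw [← cancel_mono (G.map (Dual3.idealMulι J F)), Category.assoc, ha, hb, Category.id_comp]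

end Groth.Agent.S9523
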