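import Groth.Statements.S9525
import Groth.Agent.QC.Coherent
import Groth.Agent.QC.Support
import Groth.Agent.ZCl.Closed

set_option autoImplicit false
universe u
open Coherent

set_option backward.isDefEq.respectTransparency false
namespace Groth.Agent.S9525

open CategoryTheory CategoryTheory.Limits AlgebraicGeometry in
/-- Let X be a locally Noetherian scheme, F and G coherent O_X-modules, φ : G → F a morphism and x ∈ X.
(1) If F_x = 0 there is an open neighbourhood U of x with F|_U = 0. (2) If the stalk map φ_x : G_x →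
F_x is injective there is an open neighbourhood U of x with φ|_U injective. (4) If φ_x is bijective
there is an open neighbourhood U of x with φ|_U an isomorphism. (Part (3), surjectivity, is the
finite-type statement valid on any ringed space and is not restated.) -/
theorem result (X : Scheme.{u}) [IsLocallyNoetherian X]
    (F G : X.Modules) (hF : Coh.IsCoh F) (hG : Coh.IsCoh G) (φ : G ⟶ F) (x : X) :
    (Subsingleton ↑(F.presheaf.stalk x) →
      ∃ U : X.Opens, x ∈ U ∧ IsZero ((Scheme.Modules.restrictFunctor U.ι).obj F)) ∧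
    (Function.Injective ((TopCat.Presheaf.stalkFunctor _ x).map φ.mapPresheaf).hom →
      ∃ U : X.Opens, x ∈ U ∧ Mono ((Scheme.Modules.restrictFunctor U.ι).map φ)) ∧
    (Function.Bijective ((TopCat.Presheaf.stalkFunctor _ x).map φ.mapPresheaf).hom →
      ∃ U : X.Opens, x ∈ U ∧ IsIso ((Scheme.Modules.restrictFunctor U.ι).map φ)) := by
  have hzero : ∀ (K : X.Modules), Coh.IsCoh K → Subsingleton ↑(K.presheaf.stalk x) →
      ∃ U : X.Opens, x ∈ U ∧ IsZero ((Scheme.Modules.restrictFunctor U.ι).obj K) := by
    intro K hK hx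
    refine ⟨⟨(CohB1.support K)ᶜ, (Groth.Agent.QC.isClosed_support hK.2).isOpen_compl⟩,
      fun h => h hx, ?_⟩
    refine (IsZero.iff_id_eq_zero _).2 (Scheme.Modules.hom_ext _ _ fun W => ?_)
    ext s
    refine Groth.Agent.ZCl.ext_germ K s 0 fun y hy => ?_
    obtain ⟨z, hz, rfl⟩ := hy
    exact (not_not.1 (z.2 : z.1 ∉ CohB1.support K)).elim _ _
  refine ⟨hzero F hF, fun hinj => ?_, fun hbij => ?_⟩
  · have hK := Groth.Agent.QC.isCoh_kernel hG hF.1 φ
    obtain ⟨U, hxU, hU⟩ := hzero _ hK (by
      refine subsingleton_of_forall_eq 0 fun σ => ?_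
      obtain ⟨W, hxW, s, rfl⟩ := TopCat.Presheaf.exists_germ_eq (kernel φ).presheaf (x := x) σ
      have h1 : φ.app W ((kernel.ι φ).app W s) = 0 := by
        change (kernel.ι φ ≫ φ).app W s = 0
        rw [kernel.condition]; rfl
      have h2 : G.presheaf.germ W x hxW ((kernel.ι φ).app W s) = 0 := hinj (by
        refine Eq.trans ?_ (map_zero _).symm
        exact ((Groth.Agent.ZCl.stalk_map_germ φ x hxW _).trans (by rw [h1, map_zero])))
      obtain ⟨W', hxW', hle, h3⟩ := Groth.Agent.ZCl.exists_rs_eq_zero G hxW _ h2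
      rw [← Groth.Agent.ZCl.app_rs] at h3
      rw [← Groth.Agent.ZCl.germ_rs (kernel φ) hle x hxW',
        Groth.Agent.ZCl.injective_of_mono (kernel.ι φ) W' (h3.trans (map_zero _).symm), map_zero])
    refine ⟨U, hxU, Preadditive.mono_of_isZero_kernel _ ?_⟩
    exact hU.of_iso (PreservesKernel.iso (Scheme.Modules.restrictFunctor U.ι) φ).symm
  · refine ⟨⟨_, Groth.Agent.ZCl.isOpen_stalk_bijective hG hF φ⟩, hbij, ?_⟩
    refine Groth.Agent.ZCl.isIso_of_stalk _ fun y => ?_
    refine (ConcreteCategory.isIso_iff_bijective _).1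
      ((NatIso.isIso_map_iff (Scheme.Modules.restrictStalkNatIso _ y) φ).2 ?_)
    exact (ConcreteCategory.isIso_iff_bijective _).2 y.2

end Groth.Agent.S9525
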