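import Groth.Statements.S9526
import Groth.Agent.RefStalk.Coherent

set_option autoImplicit false
universe u
open Coherent

set_option backward.isDefEq.respectTransparency false
set_option backward.isDefEq.respectTransparency.types false

namespace Groth.Agent.S9526

open CategoryTheory CategoryTheory.Limits AlgebraicGeometry in
/-- Let X be a locally Noetherian scheme, F and G coherent O_X-modules, x ∈ X and ψ : G_x → F_x an
O_{X,x}-linear map. Then there are an open neighbourhood U of x and a morphism φ : G|_U → F|_U with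
φ_x = ψ (the stalk map of φ at x, composed with the canonical identifications of the stalks of G|_U
and F|_U at x with G_x and F_x, is ψ). -/
theorem result (X : Scheme.{u}) [IsLocallyNoetherian X]
    (F G : X.Modules) (hF : Coh.IsCoh F) (hG : Coh.IsCoh G) (x : X)
    (ψ : ↑(G.presheaf.stalk x) →ₗ[X.presheaf.stalk x] ↑(F.presheaf.stalk x)) :
    ∃ (U : X.Opens) (hx : x ∈ U)
      (φ : (Scheme.Modules.restrictFunctor U.ι).obj G ⟶ (Scheme.Modules.restrictFunctor U.ι).obj F),
      (Scheme.Modules.restrictStalkNatIso U.ι (⟨x, hx⟩ : U)).inv.app G ≫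
          (TopCat.Presheaf.stalkFunctor _ (⟨x, hx⟩ : U)).map φ.mapPresheaf ≫
            (Scheme.Modules.restrictStalkNatIso U.ι (⟨x, hx⟩ : U)).hom.app F =
        AddCommGrpCat.ofHom ψ.toAddMonoidHom := by
  classical
  obtain ⟨V, hV, hxV, -⟩ := exists_isAffineOpen_mem_and_subset (x := x) (U := (⊤ : X.Opens)) trivial
  haveI : IsNoetherianRing Γ(X, V) := IsLocallyNoetherian.component_noetherian ⟨V, hV⟩
  haveI : Module.Finite Γ(X, V) Γ(G, V) := Groth.Agent.QC.finite_sections hV (hM := hG.1) hG.2
  have hfp : Module.FinitePresentation Γ(X, V) Γ(G, V) := Module.finitePresentation_of_finite _ _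
  obtain ⟨θ, hθ⟩ := Groth.Agent.RefStalk.evalStalk_surjective_of_affine (G := F) hV hG.1 hfp hxV ψ
  obtain ⟨U, hxU, g, rfl⟩ : ∃ (U : X.Opens) (hxU : x ∈ U) (g : Γ(RefHull.homSh G F, U)),
      (RefHull.homSh G F).presheaf.germ U x hxU g = θ :=
    TopCat.Presheaf.exists_germ_eq (RefHull.homSh G F).presheaf θ
  rw [RefHull.evalStalk_germ] at hθ
  have hle : ∀ W : (U : Scheme.{u}).Opens, U.ι ''ᵁ W ≤ U := fun W => by
    rintro _ ⟨z, -, rfl⟩; exact z.2
  choose n hn using fun (W : (U : Scheme.{u}).Opens) (s : Γ(G, U.ι ''ᵁ W)) =>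
    Groth.Agent.RefStalk.exists_app g (hle W) s
  let app : ∀ W : (U : Scheme.{u}).Opens, Γ(G, U.ι ''ᵁ W) →+ Γ(F, U.ι ''ᵁ W) := fun W =>
    { toFun := n W
      map_zero' := Groth.Agent.RefStalk.germ_ext fun y hy => by rw [hn, map_zero, map_zero, map_zero]
      map_add' := fun s t => Groth.Agent.RefStalk.germ_ext fun y hy => by
        rw [hn, map_add, map_add, map_add, hn, hn] }
  let φ : (Scheme.Modules.restrictFunctor U.ι).obj G ⟶ (Scheme.Modules.restrictFunctor U.ι).obj F :=
    ⟨PresheafOfModules.homMk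
      { app := fun W => AddCommGrpCat.ofHom (app W.unop)
        naturality := fun {W W'} i => by
          ext s
          refine Groth.Agent.RefStalk.germ_ext (G := F) (U := U.ι ''ᵁ W'.unop) fun y hy => ?_
          show Groth.Agent.WeakAssLib.mgerm F hy (n W'.unop (G.presheaf.map ((U.ι.opensFunctor.map i.unop)).op s)) =
            Groth.Agent.WeakAssLib.mgerm F hy (F.presheaf.map ((U.ι.opensFunctor.map i.unop)).op (n W.unop s))
          rw [hn]
          refine Eq.trans ?_ ((TopCat.Presheaf.germ_res_apply F.presheaf (U.ι.opensFunctor.map i.unop) y hy (n W.unop s)).trans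
            (hn W.unop s y ((U.ι.opensFunctor.map i.unop).le hy))).symm
          exact congrArg _ (TopCat.Presheaf.germ_res_apply G.presheaf (U.ι.opensFunctor.map i.unop) y hy s) }
      (fun W r s => Groth.Agent.RefStalk.germ_ext (G := F) (U := U.ι ''ᵁ W.unop) fun y hy => by
        show Groth.Agent.WeakAssLib.mgerm F hy (n W.unop (((U.ι.appIso W.unop).inv r) • (show Γ(G, U.ι ''ᵁ W.unop) from s))) =
          Groth.Agent.WeakAssLib.mgerm F hy (((U.ι.appIso W.unop).inv r) • n W.unop s)
        rw [hn, Groth.Agent.WeakAssLib.mgerm_smul, Groth.Agent.WeakAssLib.mgerm_smul, hn, map_smul])⟩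
  refine ⟨U, hxU, φ, ?_⟩
  rw [← cancel_epi ((Scheme.Modules.restrictStalkNatIso U.ι (⟨x, hxU⟩ : U)).hom.app G), Iso.hom_inv_id_app_assoc]
  refine TopCat.Presheaf.stalk_hom_ext _ fun W hxW => ?_
  refine Eq.trans (by rw [TopCat.Presheaf.stalkFunctor_map_germ_assoc]) (Eq.trans ?_ (Category.assoc _ _ _))
  erw [Scheme.Modules.germ_restrictStalkNatIso_hom_app, Scheme.Modules.germ_restrictStalkNatIso_hom_app]
  ext s
  show Groth.Agent.WeakAssLib.mgerm F _ (n W s) = ψ (Groth.Agent.WeakAssLib.mgerm G _ s)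
  rw [hn, hθ]; rfl

end Groth.Agent.S9526
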