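import Groth.Statements.S9529
import Groth.Agent.W7Hull.HomDepth

set_option autoImplicit false
universe u
open CategoryTheory CategoryTheory.Limits AlgebraicGeometry
attribute [local instance] HasDerivedCategory.standard
open Coherent

set_option backward.isDefEq.respectTransparency false
set_option backward.isDefEq.respectTransparency.types false
open Groth.Agent CategoryTheory
namespace Groth.Agent.S9529

/-- Let X be a locally Noetherian scheme, F and G coherent O_X-modules and H = Hom_{O_X}(F, G). If G has
property (S_1), so has H; if G has property (S_2), so has H. Here a coherent module M has (S_k) when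
depth M_x ≥ min(k, dim Supp M_x) for every x ∈ X, with M_x regarded as a module over O_{X,x} (the
zero module has depth ∞ and support dimension −∞); the sheaf Hom is the right adjoint of F ⊗ − under
its existence binder. -/
theorem result (X : Scheme.{u}) [IsLocallyNoetherian X] (F G : X.Modules)
    (hF : Coh.IsCoh F) (hG : Coh.IsCoh G) [DCoh.HasSheafHom F] (k : ℕ) (hk : k = 1 ∨ k = 2)
    (hS : ∀ x : X, min (k : WithBot ℕ∞) (Module.supportDim (X.presheaf.stalk x) ↑(G.presheaf.stalk x)) ≤
      ((LocCoh.depth (X.presheaf.stalk x) ↑(G.presheaf.stalk x) : ℕ∞) : WithBot ℕ∞)) (x : X) :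
    min (k : WithBot ℕ∞)
        (Module.supportDim (X.presheaf.stalk x) ↑(((DCoh.sheafHom F).obj G).presheaf.stalk x)) ≤
      ((LocCoh.depth (X.presheaf.stalk x) ↑(((DCoh.sheafHom F).obj G).presheaf.stalk x) : ℕ∞) :
        WithBot ℕ∞) := by
  have hk2 : k ≤ 2 := by omega
  set dG := LocCoh.depth (X.presheaf.stalk x) ↑(G.presheaf.stalk x) with hdG
  have hne : min (k : ℕ∞) dG ≠ ⊤ := ne_top_of_le_ne_top (ENat.natCast_ne_top k) (min_le_left _ _)
  obtain ⟨n, hn⟩ := ENat.ne_top_iff_exists.1 hne
  have hnk : n ≤ k := by exact_mod_cast hn.le.trans (min_le_left _ _)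
  have h1 : (n : ℕ∞) ≤ LocCoh.depth (X.presheaf.stalk x) ↑(((DCoh.sheafHom F).obj G).presheaf.stalk x) :=
    W7Hull.le_depth_sheafHom F G hF hG x n (hnk.trans hk2) (hn.le.trans (min_le_right _ _))
  refine le_trans ?_ (WithBot.coe_le_coe.2 h1)
  refine le_trans (min_le_min le_rfl (W7Hull.supportDim_sheafHom_le F G hF hG x)) ?_
  refine le_trans (le_min (min_le_left _ _) (hS x)) ?_
  rw [hn, WithBot.coe_min]
  exact le_rfl

end Groth.Agent.S9529
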