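import Groth.Statements.S9544
import Groth.Agent.FormAlg.PunctFormal
import Groth.Agent.S0801
import Groth.Agent.S1765

set_option autoImplicit false
universe u
open CategoryTheory
attribute [local instance] HasDerivedCategory.standard
open Formal2

namespace Groth.Agent.S9544

open AlgebraicGeometry Opposite in
/-- Let A be a Noetherian ring with a dualizing complex, f an element of an ideal 𝔞 with A complete for
the f-adic topology, U = Spec A ∖ V(𝔞), and assume depth A_𝔭 + dim (A/𝔭)_𝔮 > 2 for every prime 𝔭 not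
containing f and every prime 𝔮 ⊇ 𝔭 + 𝔞. Then the completion functor for the ideal (f) is fully
faithful on finite locally free O_U-modules. -/
theorem result (A : Type u) [CommRing A]
    [IsNoetherianRing A] (𝔞 : Ideal A) (f : A) (hf : f ∈ 𝔞) [IsAdicComplete (Ideal.span {f}) A]
    (hω : ∃ ω : Dual.D A, Dual.IsDualizing A ω)
    (h₂ : ∀ (p : Ideal A) [p.IsPrime], f ∉ p → ∀ (q : Ideal A) [q.IsPrime], p ≤ q → 𝔞 ≤ q →
      ((2 : ℕ) : WithBot ℕ∞) < ((LocCoh.depth (Localization.AtPrime p) (Localization.AtPrime p) : ℕ∞) : WithBot ℕ∞) +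
        Formal2.dimBetween A p q) :
    ∀ (E E' : (↑(LocCoh.puncturedOpen A 𝔞) : Scheme.{u}).Modules), FlatMod.IsFinLocFree E → FlatMod.IsFinLocFree E' →
      ∀ ψ : Formal.completion (Ideal.span {f}) E ⟶ Formal.completion (Ideal.span {f}) E',
        ∃! φ : E ⟶ E', ∀ n : ℕ, Formal.modPowπ (Ideal.span {f}) (n + 1) E ≫ ψ.app (op n) = φ ≫ Formal.modPowπ (Ideal.span {f}) (n + 1) E' := by
  let J : Ideal A := ⨅ i : Fin 3, Module.annihilator A (LocCoh.H 𝔞 i.1 A)
  have hJ : f ∈ J.radical := by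
    rw [Ideal.radical_eq_sInf, Submodule.mem_sInf]
    rintro p ⟨hJp, hp⟩
    by_contra hfp
    obtain ⟨g, hg, hk⟩ := Groth.Agent.S1765.result A hω 𝔞 A ⟨p, hp⟩ (fun h => hfp (h hf)) 2
      fun p' q hp' hq hpq => by
        have h := @h₂ p'.asIdeal p'.isPrime (fun h => hfp (hp' h)) q.asIdeal q.isPrime hpq hq
        rwa [Groth.Agent.HTLib.dimBetween_eq_krullDim] at h
    refine hg (hJp (Submodule.mem_iInf _ |>.2 fun i => Module.mem_annihilator.2 fun x => hk i.1 ?_ x))
    omega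
  obtain ⟨n, hn⟩ := hJ
  have hk : ∀ i : Fin 3, ∀ x : LocCoh.H 𝔞 i.1 A, f ^ n • x = 0 := fun i =>
    Module.mem_annihilator.1 ((Submodule.mem_iInf _).1 hn i)
  exact Groth.Agent.FormAlg.completion_full_open (Ideal.span {f}) _
    (Groth.Agent.S0801.result A 𝔞 f hf A ⟨n, fun x => hk ⟨1, by omega⟩ x⟩ ⟨n, fun x => hk ⟨2, by omega⟩ x⟩)

end Groth.Agent.S9544
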