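import Groth.Statements.S9546
import Groth.Agent.AlgzUniq.Main
-- import your own Groth.Agent.* helpers here

set_option autoImplicit false
universe u
open CategoryTheory
attribute [local instance] HasDerivedCategory.standard
open Algz

set_option backward.isDefEq.respectTransparency false
set_option backward.isDefEq.respectTransparency.types false

namespace Groth.Agent.S9546

open AlgebraicGeometry Opposite in
/-- Let A be a Noetherian ring which is I-adically complete and has a dualizing complex, I ⊆ 𝔞 ideals, d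
≥ 1 with cd(A, I) ≤ d, U = Spec A ∖ V(𝔞), and F a coherent O_U-module whose completion satisfies the
strict (1, 1 + d)-inequalities and with depth F_x ≥ 2 at every point x of U whose closure in Spec A
meets V(I) only inside V(𝔞). Then for every coherent O_U-module E the map from Hom(E, F) to
morphisms of completions is bijective: every morphism of systems (E/I^nE) → (F/I^nF) comes from
exactly one morphism E → F. -/
theorem result (A : Type u) [CommRing A] [IsNoetherianRing A] (I 𝔞 : Ideal A) (hI𝔞 : I ≤ 𝔞)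
    (F : (↑(LocCoh.puncturedOpen A 𝔞) : Scheme.{u}).Modules) (hF : Coh.IsCoh F) [IsAdicComplete I A] (hω : ∃ ω : Dual.D A, Dual.IsDualizing A ω) (d : ℕ) (hd1 : 1 ≤ d) (hcd : LocCoh.CdLE A I d)
    (h₂ : Algz.StrictAbIneq A I (LocCoh.puncturedOpen A 𝔞) (Formal.completion I F) 1 (1 + d))
    (h₃ : ∀ x : (↑(LocCoh.puncturedOpen A 𝔞) : Scheme.{u}), (∀ r : ↥(Spec (CommRingCat.of A)), (LocCoh.puncturedOpen A 𝔞).ι.base x ⤳ r → r ∈ PrimeSpectrum.zeroLocus (R := A) ↑I → r ∉ (LocCoh.puncturedOpen A 𝔞)) → (2 : ℕ∞) ≤ LocCoh.depth ((↑(LocCoh.puncturedOpen A 𝔞) : Scheme.{u}).presheaf.stalk x) (F.presheaf.stalk x))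
    (E : (↑(LocCoh.puncturedOpen A 𝔞) : Scheme.{u}).Modules) (hE : Coh.IsCoh E) (ψ : Formal.completion I E ⟶ Formal.completion I F) :
    ∃! φ : E ⟶ F, ∀ n : ℕ, Formal.modPowπ I (n + 1) E ≫ ψ.app (op n) = φ ≫ Formal.modPowπ I (n + 1) F := by
  exact Groth.Agent.AlgzUniq.hom_formal _ (Groth.Agent.AlgzUniq.bijective_main hF hI𝔞 hω hcd h₂ h₃) hE ψ

end Groth.Agent.S9546
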