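import Groth.Statements.S9548
import Groth.Agent.AlgzUniq.Iso
-- import your own Groth.Agent.* helpers here

set_option autoImplicit false
universe u
open CategoryTheory
attribute [local instance] HasDerivedCategory.standard
open Algz

set_option backward.isDefEq.respectTransparency false
set_option backward.isDefEq.respectTransparency.types false

namespace Groth.Agent.S9548

open AlgebraicGeometry Opposite in
/-- Let A be a Noetherian ring which is I-adically complete and has a dualizing complex, I ⊆ 𝔞 ideals, d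
≥ 1 with cd(A, I) ≤ d, U = Spec A ∖ V(𝔞), and (F_n) an object of Coh(U, I O_U) satisfying the strict
(1, 1 + d)-inequalities. Two coherent O_U-modules F, F' with depth ≥ 2 at every point of U whose
closure in Spec A meets V(I) only inside V(𝔞), given with isomorphisms of their completions with
(F_n), are isomorphic compatibly with these isomorphisms. -/
theorem result (A : Type u) [CommRing A] [IsNoetherianRing A] (I 𝔞 : Ideal A) (hI𝔞 : I ≤ 𝔞)
    (G : ℕᵒᵖ ⥤ (↑(LocCoh.puncturedOpen A 𝔞) : Scheme.{u}).Modules) (hG : Formal.IsCohFormal I G)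
    [IsAdicComplete I A] (hω : ∃ ω : Dual.D A, Dual.IsDualizing A ω) (d : ℕ) (hd1 : 1 ≤ d) (hcd : LocCoh.CdLE A I d)
    (h₂ : Algz.StrictAbIneq A I (LocCoh.puncturedOpen A 𝔞) G 1 (1 + d))
    (F F' : (↑(LocCoh.puncturedOpen A 𝔞) : Scheme.{u}).Modules) (hF : Coh.IsCoh F) (hF' : Coh.IsCoh F')
    (hdF : ∀ x : (↑(LocCoh.puncturedOpen A 𝔞) : Scheme.{u}), (∀ r : ↥(Spec (CommRingCat.of A)), (LocCoh.puncturedOpen A 𝔞).ι.base x ⤳ r → r ∈ PrimeSpectrum.zeroLocus (R := A) ↑I → r ∉ (LocCoh.puncturedOpen A 𝔞)) → (2 : ℕ∞) ≤ LocCoh.depth ((↑(LocCoh.puncturedOpen A 𝔞) : Scheme.{u}).presheaf.stalk x) (F.presheaf.stalk x))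
    (hdF' : ∀ x : (↑(LocCoh.puncturedOpen A 𝔞) : Scheme.{u}), (∀ r : ↥(Spec (CommRingCat.of A)), (LocCoh.puncturedOpen A 𝔞).ι.base x ⤳ r → r ∈ PrimeSpectrum.zeroLocus (R := A) ↑I → r ∉ (LocCoh.puncturedOpen A 𝔞)) → (2 : ℕ∞) ≤ LocCoh.depth ((↑(LocCoh.puncturedOpen A 𝔞) : Scheme.{u}).presheaf.stalk x) (F'.presheaf.stalk x))
    (e : Formal.completion I F ≅ G) (e' : Formal.completion I F' ≅ G) :
    ∃ φ : F ≅ F', ∀ n : ℕ, Formal.modPowπ I (n + 1) F ≫ e.hom.app (op n) =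
      φ.hom ≫ Formal.modPowπ I (n + 1) F' ≫ e'.hom.app (op n) := by
  have hb := Groth.Agent.AlgzUniq.bijective_main hF hI𝔞 hω hcd
    (Groth.Agent.AlgzUniq.strictAbIneq_of_iso I e.symm h₂) hdF
  have hb' := Groth.Agent.AlgzUniq.bijective_main hF' hI𝔞 hω hcd
    (Groth.Agent.AlgzUniq.strictAbIneq_of_iso I e'.symm h₂) hdF'
  obtain ⟨φ, hφ, -⟩ := Groth.Agent.AlgzUniq.hom_formal _ hb' hF (e.hom ≫ e'.inv)
  obtain ⟨ψ, hψ, -⟩ := Groth.Agent.AlgzUniq.hom_formal _ hb hF' (e'.hom ≫ e.inv)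
  obtain ⟨i, -, hi⟩ := Groth.Agent.AlgzUniq.hom_formal _ hb hF (𝟙 (Formal.completion I F))
  obtain ⟨i', -, hi'⟩ := Groth.Agent.AlgzUniq.hom_formal _ hb' hF' (𝟙 (Formal.completion I F'))
  have h1 : φ ≫ ψ = 𝟙 F := by
    refine (hi _ fun n => ?_).trans (hi _ fun n => ?_).symm
    · rw [Category.assoc, ← hψ n, ← Category.assoc, ← hφ n]
      simp
    · simp; rfl
  have h2 : ψ ≫ φ = 𝟙 F' := by
    refine (hi' _ fun n => ?_).trans (hi' _ fun n => ?_).symm
    · rw [Category.assoc, ← hφ n, ← Category.assoc, ← hψ n]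
      simp
    · simp; rfl
  refine ⟨⟨φ, ψ, h1, h2⟩, fun n => ?_⟩
  rw [← Category.assoc, ← hφ n]
  simp

end Groth.Agent.S9548
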