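import Groth.Statements.S9550
import Groth.Agent.AlgzUniq.Main
-- import your own Groth.Agent.* helpers here

set_option autoImplicit false
universe u
open CategoryTheory
attribute [local instance] HasDerivedCategory.standard
open Algz

set_option backward.isDefEq.respectTransparency false
set_option backward.isDefEq.respectTransparency.types false

namespace Groth.Agent.S9550

open AlgebraicGeometry Opposite in
/-- Let A be a Noetherian ring which is I-adically complete and has a dualizing complex, I ⊆ 𝔞 ideals, d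
≥ 1 with cd(A, I) ≤ d, U = Spec A ∖ V(𝔞), and F a coherent O_U-module whose completion satisfies the
strict (1, 1 + d)-inequalities. Let x be a point of U with closure W in Spec A. If W ∩ V(I) has one
irreducible component inside V(𝔞) and another not inside V(𝔞), then depth F_x ≥ 1. (The source lets
x range over Spec A; a point outside U has W ⊆ V(𝔞), so the hypothesis forces x ∈ U.) -/
theorem result (A : Type u) [CommRing A] [IsNoetherianRing A] (I 𝔞 : Ideal A) (hI𝔞 : I ≤ 𝔞)
    (F : (↑(LocCoh.puncturedOpen A 𝔞) : Scheme.{u}).Modules) (hF : Coh.IsCoh F) [IsAdicComplete I A] (hω : ∃ ω : Dual.D A, Dual.IsDualizing A ω) (d : ℕ) (hd1 : 1 ≤ d) (hcd : LocCoh.CdLE A I d)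
    (h₂ : Algz.StrictAbIneq A I (LocCoh.puncturedOpen A 𝔞) (Formal.completion I F) 1 (1 + d))
    (x : (↑(LocCoh.puncturedOpen A 𝔞) : Scheme.{u}))
    (C₁ C₂ : Set ↥(closure ({(LocCoh.puncturedOpen A 𝔞).ι.base x} : Set ↥(Spec (CommRingCat.of A))) ∩ PrimeSpectrum.zeroLocus (R := A) ↑I))
    (hC₁ : C₁ ∈ irreducibleComponents _) (hC₂ : C₂ ∈ irreducibleComponents _)
    (h₁ : Subtype.val '' C₁ ⊆ PrimeSpectrum.zeroLocus (R := A) ↑𝔞)
    (h₂ : ¬ Subtype.val '' C₂ ⊆ PrimeSpectrum.zeroLocus (R := A) ↑𝔞) :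
    (1 : ℕ∞) ≤ LocCoh.depth ((↑(LocCoh.puncturedOpen A 𝔞) : Scheme.{u}).presheaf.stalk x) (F.presheaf.stalk x) := by
  exact Groth.Agent.AlgzUniq.one_le_depth hF hω hcd
    ‹Algz.StrictAbIneq A I (LocCoh.puncturedOpen A 𝔞) (Formal.completion I F) 1 (1 + d)› x C₁ C₂ hC₁ h₁ h₂

end Groth.Agent.S9550
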