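import Groth.Statements.S9558
-- import your own Groth.Agent.* helpers here
import Groth.Agent.TwConst.EtaleSplit

set_option autoImplicit false
universe u
open EtLocal

namespace Groth.Agent.S9558

open AlgebraicGeometry CategoryTheory Limits in
/-- Let f : X ⟶ S be a separated morphism of schemes, s a point of S and x_1, …, x_n pairwise distinct
points of X over s such that f is étale at each x_i (the restriction of f to some open neighbourhood
of x_i is étale). Then there are an étale morphism g : U ⟶ S, a point u of U over s, and a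
decomposition of X_U = X ×_S U into pairwise disjoint open subschemes W and finitely many V_k which
together cover X_U, such that each V_k ⟶ U is an isomorphism and no point of W over u maps to any of
the x_i. -/
theorem result {X S : Scheme.{u}} (f : X ⟶ S)
    [IsSeparated f] (s : S)
    {ι : Type} [Finite ι] (x : ι → ↑X) (hinj : Function.Injective x) (hs : ∀ i, f (x i) = s)
    (hx : ∀ i, ∃ W : X.Opens, x i ∈ W ∧ Etale (W.ι ≫ f)) :
    ∃ (U : Scheme.{u}) (g : U ⟶ S) (u : U), Etale g ∧ g u = s ∧
      ∃ (K : Type) (_ : Finite K) (W : (pullback f g).Opens) (V : K → (pullback f g).Opens),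
        W ⊔ (⨆ k, V k) = ⊤ ∧ (∀ k, Disjoint W (V k)) ∧ (∀ k k', k ≠ k' → Disjoint (V k) (V k')) ∧
        (∀ k, IsIso ((V k).ι ≫ pullback.snd f g)) ∧
        (∀ (w : ↑(pullback f g)) (i : ι), w ∈ W → pullback.snd f g w = u → pullback.fst f g w ≠ x i) := by
  obtain ⟨U, g, u, hg, hu, K, hK, lab, V, v, hV, hv, hall, hsep⟩ := TwConst.exists_etale_split f s x hs hx
  haveI := hK
  obtain ⟨hc, hdis⟩ := hsep inferInstance
  refine ⟨U, g, u, hg, hu, K, hK, ⟨(⋃ k, (V k : Set _))ᶜ, (isClosed_iUnion_of_finite hc).isOpen_compl⟩, V,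
    ?_, fun k => ?_, hdis, fun k => (hV k).2.1, fun w i hwW hw hwx => ?_⟩
  · refine TopologicalSpace.Opens.ext ?_
    rw [TopologicalSpace.Opens.coe_sup, TopologicalSpace.Opens.coe_iSup]
    exact Set.compl_union_self _
  · rw [disjoint_iff_inf_le]
    rintro a ⟨ha, ha'⟩
    exact ha (Set.mem_iUnion.2 ⟨k, ha'⟩)
  · obtain ⟨k, rfl⟩ := hall w i hw hwx
    exact hwW (Set.mem_iUnion.2 ⟨k, (hV k).1⟩)

end Groth.Agent.S9558
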