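import Groth.Statements.S9559
-- import your own Groth.Agent.* helpers here
import Mathlib

set_option autoImplicit false
open CategoryTheory CategoryTheory.Limits AlgebraicGeometry Opposite
universe u
open EtLocal

namespace Groth.Agent.S9559

/-- A finite étale morphism f : X ⟶ S becomes, after base change to a suitable étale neighbourhood (U,
u) of any point s of S, a finite disjoint union of copies of U: X_U is isomorphic over U to a finite
coproduct of schemes V_j each of which maps isomorphically onto U. -/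
theorem result {X S : Scheme.{u}} (f : X ⟶ S) [IsFinite f] [Etale f] (s : S) :
    ∃ (U : Scheme.{u}) (g : U ⟶ S) (_ : AlgebraicGeometry.Etale g) (u : U) (_ : g.base u = s)
      (n : ℕ) (V : Fin n → Scheme.{u}) (c : ∀ j, V j ⟶ U) (_ : ∀ j, IsIso (c j))
      (e : (∐ V) ≅ pullback f g), ∀ j, Sigma.ι V j ≫ e.hom ≫ pullback.snd f g = c j := by
  classical
  obtain ⟨W, hW, hsW, hWle⟩ := exists_isAffineOpen_mem_and_subset
    (U := ⟨f.finrank ⁻¹' {f.finrank s}, (Scheme.Hom.isLocallyConstant_finrank f).isOpen_fiber _⟩) (x := s) rfl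
  let R := Γ(S, W)
  let P := pullback f hW.fromSpec
  haveI : IsAffine P := isAffine_of_isAffineHom (pullback.snd f hW.fromSpec)
  let p : P ⟶ Spec R := pullback.snd f hW.fromSpec
  let φ : R ⟶ Γ(P, ⊤) := Spec.preimage (P.isoSpec.inv ≫ p)
  have hφ : Spec.map φ = P.isoSpec.inv ≫ p := Spec.map_preimage _
  have het : φ.hom.Etale := by
    rw [← HasRingHomProperty.Spec_iff (P := @Etale), hφ]; infer_instance
  have hfin : φ.hom.Finite := by
    rw [← IsFinite.SpecMap_iff, hφ]; infer_instance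
  letI := φ.hom.toAlgebra
  haveI : Algebra.Etale R Γ(P, ⊤) := het
  haveI : Module.Finite R Γ(P, ⊤) := hfin
  have hrank : Module.rankAtStalk (R := R) Γ(P, ⊤) = f.finrank s := by
    funext t
    rw [← Scheme.Hom.finrank_SpecMap_algebraMap]
    have h1 : CommRingCat.ofHom (algebraMap R Γ(P, ⊤)) = φ := rfl
    rw [h1, hφ, Scheme.Hom.finrank_comp_left_of_isIso]
    simp only [p]
    rw [Scheme.Hom.finrank_pullback_snd]
    exact hWle (hW.range_fromSpec.le ⟨t, rfl⟩)
  obtain ⟨T, _, _, _, _, _, hsplit⟩ := Algebra.IsFiniteSplit.exists_tensorProduct_of_etale hrank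
  obtain ⟨n, ⟨E⟩⟩ := hsplit.nonempty_algEquiv_fun
  let ψ : Spec (CommRingCat.of T) ⟶ Spec R := Spec.map (CommRingCat.ofHom (algebraMap R T))
  haveI : Etale ψ := by
    rw [HasRingHomProperty.Spec_iff (P := @Etale), CommRingCat.hom_ofHom, RingHom.etale_algebraMap]; infer_instance
  obtain ⟨u, hu⟩ := PrimeSpectrum.comap_surjective_of_faithfullyFlat (A := R) (B := T) (hW.primeIdealOf ⟨s, hsW⟩)
  let V : Fin n → Scheme.{u} := fun _ => Spec (CommRingCat.of T)
  let j : pullback (Spec.map φ) ψ ⟶ pullback f (ψ ≫ hW.fromSpec) :=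
    pullback.map (Spec.map φ) ψ p ψ P.isoSpec.inv (𝟙 _) (𝟙 _) (by rw [hφ, Category.comp_id]) (by simp) ≫
      (pullbackLeftPullbackSndIso f hW.fromSpec ψ).hom
  have hj : j ≫ pullback.snd f (ψ ≫ hW.fromSpec) = pullback.snd (Spec.map φ) ψ := by
    simp only [j, Category.assoc, pullbackLeftPullbackSndIso_hom_snd]
    exact (pullback.lift_snd _ _ _).trans (Category.comp_id _)
  let E' : CommRingCat.of (TensorProduct R T Γ(P, ⊤)) ≅ CommRingCat.of (Fin n → T) := E.toRingEquiv.toCommRingCatIso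
  let k : pullback ψ (Spec.map φ) ≅ Spec (CommRingCat.of (TensorProduct R T Γ(P, ⊤))) :=
    pullbackSpecIso R T Γ(P, ⊤)
  have hk : k.inv ≫ pullback.fst ψ (Spec.map φ) = Spec.map (CommRingCat.ofHom (algebraMap T (TensorProduct R T Γ(P, ⊤)))) :=
    pullbackSpecIso_inv_fst R T Γ(P, ⊤)
  let ev : ∀ i : Fin n, V i ⟶ Spec (CommRingCat.of (Fin n → T)) := fun i =>
    Spec.map (CommRingCat.ofHom (Pi.evalRingHom (fun _ : Fin n => T) i))
  haveI : ∀ i, IsOpenImmersion (ev i) := fun i =>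
    inferInstanceAs (IsOpenImmersion (Spec.map (CommRingCat.ofHom (Pi.evalRingHom (fun _ : Fin n => T) i))))
  let sσ : (∐ V) ⟶ Spec (CommRingCat.of (Fin n → T)) := Sigma.desc ev
  haveI : IsOpenImmersion sσ := isOpenImmersion_sigmaDesc V ev (by
    intro a b hab
    refine Set.disjoint_iff_forall_ne.mpr ?_
    rintro _ ⟨x, rfl⟩ _ ⟨y, rfl⟩ e
    have h1 : (Pi.single b (1 : T) : Fin n → T) b ∈ y.asIdeal :=
      (PrimeSpectrum.ext_iff.mp e).le (x := (Pi.single b (1 : T) : Fin n → T))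
        (show (Pi.single b (1 : T) : Fin n → T) a ∈ x.asIdeal by simp [hab])
    simp [← Ideal.eq_top_iff_one, y.2.ne_top] at h1)
  haveI : Surjective sσ := Surjective.sigmaDesc_of_union_range_eq_univ (Set.eq_univ_of_forall fun q => by
    obtain ⟨i, z, hz⟩ := PrimeSpectrum.exists_comap_evalRingHom_eq q
    exact Set.mem_iUnion.2 ⟨i, z, hz⟩)
  haveI : IsIso sσ := (isIso_iff_isOpenImmersion_and_surjective _).2 ⟨inferInstance, inferInstance⟩
  let e : (∐ V) ⟶ pullback f (ψ ≫ hW.fromSpec) :=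
    sσ ≫ Spec.map E'.hom ≫ k.inv ≫ (pullbackSymmetry _ _).hom ≫ j
  refine ⟨Spec (CommRingCat.of T), ψ ≫ hW.fromSpec, inferInstance, u, ?_, n, V, fun _ => 𝟙 _, fun _ => inferInstance, asIso e, fun i => ?_⟩
  · rw [Scheme.Hom.comp_apply, show ψ u = hW.primeIdealOf ⟨s, hsW⟩ from hu, hW.fromSpec_primeIdealOf]
  · simp only [asIso_hom, e, Category.assoc, hj, pullbackSymmetry_hom_comp_snd, hk, ← Spec.map_comp]
    rw [← Category.assoc, show Sigma.ι V i ≫ sσ = ev i from Sigma.ι_desc _ _]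
    simp only [ev, ← Spec.map_comp]
    rw [show (CommRingCat.ofHom (algebraMap T (TensorProduct R T Γ(P, ⊤))) ≫ E'.hom) ≫
        CommRingCat.ofHom (Pi.evalRingHom (fun _ : Fin n => T) i) = 𝟙 (CommRingCat.of T) from ?_, Spec.map_id]
    ext t
    exact congrFun (E.commutes t) i

end Groth.Agent.S9559
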