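import Groth.Statements.S9567
-- import your own Groth.Agent.* helpers here
import Mathlib.RingTheory.Unramified.LocalStructure
import Mathlib.AlgebraicGeometry.Morphisms.Etale

set_option autoImplicit false
universe u
open EtLocal

namespace Groth.Agent.S9567

open AlgebraicGeometry CategoryTheory in
/-- Let φ : X ⟶ Y be any morphism of schemes, x a point of X and V an affine open neighbourhood of φ(x),
with ring R = Γ(Y, V). If φ is étale on some open neighbourhood of x, then there are an affine open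
neighbourhood U of x with φ(U) ⊆ V, a monic polynomial p over R and an open immersion j of U into
Spec of (R[t]/(p))[1/p′] (the localization of R[t]/(p) away from the image of the derivative of p)
such that j followed by the projection to Spec R is the morphism U → Spec R induced by φ. -/
theorem result {X Y : Scheme.{u}} (φ : X ⟶ Y) (x : X)
    (V : Y.Opens) (hV : IsAffineOpen V) (hxV : φ.base x ∈ V)
    (hφ : ∃ W : X.Opens, x ∈ W ∧ Etale (W.ι ≫ φ)) :
    ∃ (U : X.Opens) (hU : IsAffineOpen U) (_ : x ∈ U) (e : U ≤ φ ⁻¹ᵁ V)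
      (p : Polynomial Γ(Y, V)) (_ : p.Monic)
      (j : U.toScheme ⟶ Spec (CommRingCat.of (Localization.Away (AdjoinRoot.mk p (Polynomial.derivative p))))),
      IsOpenImmersion j ∧
        j ≫ Spec.map (CommRingCat.ofHom
            (algebraMap Γ(Y, V) (Localization.Away (AdjoinRoot.mk p (Polynomial.derivative p))))) =
          hU.isoSpec.hom ≫ Spec.map (φ.appLE V U e) := by
  obtain ⟨W, hxW, hW⟩ := hφ
  haveI := hW
  obtain ⟨U₀, hU₀, hxU₀, hle⟩ := exists_isAffineOpen_mem_and_subset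
    (show x ∈ W ⊓ φ ⁻¹ᵁ V from ⟨hxW, hxV⟩)
  have e₀ : U₀ ≤ φ ⁻¹ᵁ V := fun z hz => (hle hz).2
  have het : Etale (Spec.map (φ.appLE V U₀ e₀)) := by
    haveI : Etale (hU₀.fromSpec ≫ φ) := by
      rw [← hU₀.isoSpec_inv_ι, Category.assoc, ← Scheme.homOfLE_ι X (show U₀ ≤ W from fun z hz => (hle hz).1),
        Category.assoc]
      exact MorphismProperty.comp_mem _ _ _ inferInstance (MorphismProperty.comp_mem _ _ _ inferInstance hW)
    haveI : Etale (Spec.map (φ.appLE V U₀ e₀) ≫ hV.fromSpec) := by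
      rw [hV.SpecMap_appLE_fromSpec φ hU₀ e₀]; infer_instance
    exact Etale.of_comp _ hV.fromSpec
  letI : Algebra Γ(Y, V) Γ(X, U₀) := (φ.appLE V U₀ e₀).hom.toAlgebra
  haveI hetA : Algebra.Etale Γ(Y, V) Γ(X, U₀) :=
    RingHom.etale_algebraMap.1 (HasRingHomProperty.Spec_iff.1 het)
  let q := (hU₀.primeIdealOf ⟨x, hxU₀⟩).asIdeal
  haveI : Algebra.IsEtaleAt Γ(Y, V) q := by
    haveI : Algebra.FormallyEtale Γ(X, U₀) (Localization.AtPrime q) :=
      Algebra.FormallyEtale.of_isLocalization q.primeCompl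
    exact Algebra.FormallyEtale.comp Γ(Y, V) Γ(X, U₀) (Localization.AtPrime q)
  obtain ⟨f, hf, hstd⟩ := Algebra.IsEtaleAt.exists_isStandardEtale (R := Γ(Y, V)) q
  let Pr : StandardEtalePresentation Γ(Y, V) (Localization.Away f) :=
    Nonempty.some hstd.nonempty_standardEtalePresentation
  have hxU : x ∈ X.basicOpen f := by
    rw [← hU₀.fromSpec_image_basicOpen f]
    exact ⟨hU₀.primeIdealOf ⟨x, hxU₀⟩, hf, hU₀.fromSpec_primeIdealOf _⟩
  have hU : IsAffineOpen (X.basicOpen f) := hU₀.basicOpen f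
  have e : X.basicOpen f ≤ φ ⁻¹ᵁ V := (X.basicOpen_le f).trans e₀
  haveI := hU₀.isLocalization_basicOpen f
  letI : Algebra Γ(Y, V) Γ(X, X.basicOpen f) := (φ.appLE V (X.basicOpen f) e).hom.toAlgebra
  haveI : IsScalarTower Γ(Y, V) Γ(X, U₀) Γ(X, X.basicOpen f) := IsScalarTower.of_algebraMap_eq fun r => by
    show (φ.appLE V (X.basicOpen f) e).hom r = _
    rw [← Scheme.Hom.appLE_map φ e₀ (homOfLE (X.basicOpen_le f)).op]
    rfl
  let θ : Pr.P.Ring ≃ₐ[Γ(Y, V)] Γ(X, X.basicOpen f) :=
    Pr.equivRing.symm.trans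
      ((IsLocalization.algEquiv (.powers f) (Localization.Away f) Γ(X, X.basicOpen f)).restrictScalars Γ(Y, V))
  let p := Pr.P.f
  let L : AdjoinRoot p →ₐ[Γ(Y, V)] Pr.P.Ring := AdjoinRoot.liftAlgHom _ _ Pr.P.X Pr.P.hasMap_X.1
  have hunit : IsUnit (L (AdjoinRoot.mk p (Polynomial.derivative p))) := by
    rw [AdjoinRoot.liftAlgHom_mk]
    exact Pr.P.hasMap_X.isUnit_derivative_f
  let Ψ : Localization.Away (AdjoinRoot.mk p (Polynomial.derivative p)) →ₐ[Γ(Y, V)] Pr.P.Ring :=
    IsLocalization.Away.liftAlgHom (AdjoinRoot.mk p (Polynomial.derivative p)) (f := L) hunit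
  let Ψ' := θ.toAlgHom.comp Ψ
  refine ⟨X.basicOpen f, hU, hxU, e, p, Pr.P.monic_f,
    hU.isoSpec.hom ≫ Spec.map (CommRingCat.ofHom Ψ'.toRingHom), ?_, ?_⟩
  · let a := CommRingCat.ofHom (algebraMap (AdjoinRoot p)
      (Localization.Away (AdjoinRoot.mk p (Polynomial.derivative p))))
    let b := CommRingCat.ofHom (algebraMap (AdjoinRoot p) (Localization.Away (AdjoinRoot.mk p Pr.P.g)))
    let η := (Pr.P.equivAwayAdjoinRoot.symm.trans θ).toRingEquiv.toCommRingCatIso
    have hL : ∀ z, Pr.P.equivAwayAdjoinRoot.symm (algebraMap (AdjoinRoot p) _ z) = L z := by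
      have : (Pr.P.equivAwayAdjoinRoot.symm.toAlgHom).comp
          (IsScalarTower.toAlgHom Γ(Y, V) (AdjoinRoot p) _) = L := by
        refine AdjoinRoot.algHom_ext ?_
        show Pr.P.equivAwayAdjoinRoot.symm (algebraMap _ _ (AdjoinRoot.root p)) = L (AdjoinRoot.root p)
        rw [AlgEquiv.symm_apply_eq, AdjoinRoot.liftAlgHom_root]
        simp [StandardEtalePair.equivAwayAdjoinRoot, p]
      exact fun z => AlgHom.congr_fun this z
    have key : a ≫ CommRingCat.ofHom Ψ'.toRingHom = b ≫ η.hom := by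
      refine CommRingCat.hom_ext (RingHom.ext fun z => ?_)
      show θ (Ψ (algebraMap _ _ z)) = θ (Pr.P.equivAwayAdjoinRoot.symm (algebraMap _ _ z))
      rw [hL z]
      congr 1
      exact IsLocalization.lift_eq _ _
    haveI : IsOpenImmersion (Spec.map b) := IsOpenImmersion.of_isLocalization (AdjoinRoot.mk p Pr.P.g)
    haveI : IsOpenImmersion (Spec.map a) :=
      IsOpenImmersion.of_isLocalization (AdjoinRoot.mk p (Polynomial.derivative p))
    haveI : IsOpenImmersion (Spec.map (CommRingCat.ofHom Ψ'.toRingHom) ≫ Spec.map a) := by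
      rw [← Spec.map_comp, key, Spec.map_comp]
      infer_instance
    haveI : IsOpenImmersion (Spec.map (CommRingCat.ofHom Ψ'.toRingHom)) := IsOpenImmersion.of_comp _ (Spec.map a)
    infer_instance
  · rw [Category.assoc, ← Spec.map_comp]
    exact congrArg (fun k => hU.isoSpec.hom ≫ Spec.map k)
      (CommRingCat.hom_ext (RingHom.ext fun r => Ψ'.commutes r))

end Groth.Agent.S9567
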