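import Groth.Statements.S9572
import Groth.Agent.PConeLib.Basic

set_option autoImplicit false
universe u
open CategoryTheory CategoryTheory.Limits AlgebraicGeometry TopologicalSpace Opposite
open Constr

namespace Groth.Agent.S9572

/-- Let ψ : A → B be a homomorphism of graded rings such that A_d → B_d is bijective for all d ≥ d₀. Let
U(ψ) ⊆ Proj B be the union of the opens D_+(ψ f) over homogeneous f of positive degree, and r_ψ :
U(ψ) → Proj A the morphism whose restriction to each chart Spec B_(ψ f) is Spec of the induced map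
A_(f) → B_(ψ f) followed by the chart of Proj A. Then U(ψ) = Proj B and r_ψ is an isomorphism. (Here
r_ψ is any morphism with that chart description; it is unique.) -/
theorem result {R A : Type u} [CommRing R] [CommRing A] [Algebra R A] (𝒜 : ℕ → Submodule R A) [GradedAlgebra 𝒜]
    {B : Type u} [CommRing B] [Algebra R B] (ℬ : ℕ → Submodule R B) [GradedAlgebra ℬ] (ψ : 𝒜 →+*ᵍ ℬ)
    (d₀ : ℕ) (hbij : ∀ d : ℕ, d₀ ≤ d → Set.BijOn ψ (𝒜 d) (ℬ d))
    (r : (PCone.dom ψ : Scheme.{u}) ⟶ Proj 𝒜)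
    (hr : ∀ (d : ℕ) (f : A) (hd : 0 < d) (hf : f ∈ 𝒜 d),
      PCone.chart ψ hf hd ≫ r =
        Spec.map (CommRingCat.ofHom (HomogeneousLocalization.Away.map ψ f)) ≫ Proj.awayι 𝒜 f hf hd) :
    PCone.dom ψ = ⊤ ∧ IsIso r := by
  classical
  have hdom : PCone.dom ψ = ⊤ := by
    refine eq_top_iff.2 fun x _ => ?_
    obtain ⟨e, g, he, hg, hx⟩ := PConeLib.exists_homogeneous_not_mem (𝒜 := ℬ) x
    have hd : d₀ ≤ (d₀ + 1) * e := le_trans (Nat.le_succ _) (Nat.le_mul_of_pos_right _ he)
    obtain ⟨a, ha, hψa⟩ := (hbij _ hd).2.2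
      (show g ^ (d₀ + 1) ∈ ℬ ((d₀ + 1) * e) from SetLike.pow_mem_graded (d₀ + 1) hg)
    refine Opens.mem_iSup.2 ⟨⟨a, _, Nat.mul_pos (Nat.succ_pos _) he, ha⟩, ?_⟩
    change x ∈ Proj.basicOpen ℬ (ψ a)
    rw [hψa, Proj.basicOpen_pow ℬ g _ (Nat.succ_pos _)]
    exact hx
  have hmap : ∀ (d : ℕ) (f : A), 0 < d → f ∈ 𝒜 d →
      Function.Bijective (HomogeneousLocalization.Away.map ψ f) := by
    intro d f hd hf
    constructor
    · rw [injective_iff_map_eq_zero]
      intro x hx
      obtain ⟨n, a, ha, rfl⟩ := HomogeneousLocalization.Away.mk_surjective 𝒜 hf x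
      have h0 := congrArg HomogeneousLocalization.val hx
      rw [HomogeneousLocalization.Away.map_mk, HomogeneousLocalization.Away.val_mk,
        HomogeneousLocalization.val_zero, Localization.mk_eq_mk', IsLocalization.mk'_eq_zero_iff] at h0
      obtain ⟨⟨_, m, rfl⟩, hm⟩ := h0
      have hdeg : d₀ ≤ (m + d₀) * d + n • d :=
        le_trans (le_trans (Nat.le_add_left _ _) (Nat.le_mul_of_pos_right _ hd)) (Nat.le_add_right _ _)
      have hmem : f ^ (m + d₀) * a ∈ 𝒜 ((m + d₀) * d + n • d) :=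
        SetLike.mul_mem_graded (SetLike.pow_mem_graded (m + d₀) hf) ha
      have hz : f ^ (m + d₀) * a = 0 := (hbij _ hdeg).2.1 hmem (zero_mem _) (by
        rw [map_zero, map_mul, map_pow, pow_add, mul_right_comm]
        rw [show ψ f ^ m * ψ a = 0 from hm, zero_mul])
      refine HomogeneousLocalization.val_injective _ ?_
      rw [HomogeneousLocalization.Away.val_mk, HomogeneousLocalization.val_zero, Localization.mk_eq_mk',
        IsLocalization.mk'_eq_zero_iff]
      exact ⟨⟨f ^ (m + d₀), _, rfl⟩, hz⟩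
    · intro y
      obtain ⟨n, b, hb, rfl⟩ := HomogeneousLocalization.Away.mk_surjective ℬ (ψ.2 hf) y
      have hdeg : d₀ ≤ (n + d₀) • d := le_trans (Nat.le_add_left _ _) (Nat.le_mul_of_pos_right _ hd)
      obtain ⟨a, ha, hψa⟩ := (hbij _ hdeg).2.2 (show b * ψ f ^ d₀ ∈ ℬ ((n + d₀) • d) by
        rw [add_smul]
        exact SetLike.mul_mem_graded hb (SetLike.pow_mem_graded d₀ (ψ.2 hf)))
      refine ⟨HomogeneousLocalization.Away.mk 𝒜 hf (n + d₀) a ha, HomogeneousLocalization.val_injective _ ?_⟩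
      rw [HomogeneousLocalization.Away.map_mk, HomogeneousLocalization.Away.val_mk,
        HomogeneousLocalization.Away.val_mk, Localization.mk_eq_mk_iff, Localization.r_iff_exists]
      refine ⟨1, ?_⟩
      simp only [OneMemClass.coe_one, one_mul]
      rw [hψa, pow_add]
      ring_nf
      exact congrArg (· * ψ f ^ d₀) (mul_comm _ _)
  have hiso : ∀ (d : ℕ) (f : A) (hd : 0 < d) (hf : f ∈ 𝒜 d),
      IsOpenImmersion (PCone.chart ψ hf hd ≫ r) := by
    intro d f hd hf
    rw [hr d f hd hf]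
    haveI : IsIso (CommRingCat.ofHom (HomogeneousLocalization.Away.map ψ f)) :=
      (ConcreteCategory.isIso_iff_bijective _).2 (hmap d f hd hf)
    infer_instance
  have hinj : Function.Injective r := by
    intro z z' hzz
    obtain ⟨d, f, hd, hf, hx⟩ := PConeLib.exists_homogeneous_not_mem (r z)
    have hmem : ∀ w, r w ∈ Proj.basicOpen 𝒜 f → w ∈ Set.range (PCone.chart ψ hf hd) := fun w hw =>
      (PConeLib.mem_opensRange_chart ψ hf hd w).2 ((SetLike.ext_iff.1 (PConeLib.preimage_basicOpen hr hd hf) w).1 hw)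
    obtain ⟨w, rfl⟩ := hmem z hx
    obtain ⟨w', rfl⟩ := hmem z' (hzz ▸ hx)
    haveI := hiso d f hd hf
    exact congrArg _ ((PCone.chart ψ hf hd ≫ r).isOpenEmbedding.injective hzz)
  have hsurj : Function.Surjective r := by
    intro x
    obtain ⟨d, f, hd, hf, hx⟩ := PConeLib.exists_homogeneous_not_mem x
    rw [← Proj.opensRange_awayι 𝒜 f hf hd] at hx
    obtain ⟨v, rfl⟩ := hx
    haveI : IsIso (CommRingCat.ofHom (HomogeneousLocalization.Away.map ψ f)) :=
      (ConcreteCategory.isIso_iff_bijective _).2 (hmap d f hd hf)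
    obtain ⟨w, hw⟩ := (Spec.map (CommRingCat.ofHom (HomogeneousLocalization.Away.map ψ f))).surjective v
    refine ⟨PCone.chart ψ hf hd w, ?_⟩
    rw [← Scheme.Hom.comp_apply, hr d f hd hf, Scheme.Hom.comp_apply, hw]
  refine ⟨hdom, (isIso_iff_isOpenImmersion_and_surjective r).2
    ⟨IsOpenImmersion.of_forall_source_exists r hinj fun z => ?_, ⟨hsurj⟩⟩⟩
  obtain ⟨d, f, hf, hd, hz⟩ := PConeLib.exists_chart ψ z
  exact ⟨_, PCone.chart ψ hf hd, PConeLib.isOpenImmersion_chart ψ hf hd, hz, hiso d f hd hf⟩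

end Groth.Agent.S9572
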