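import Groth.Statements.S9575
import Groth.Agent.GrT.TwistTensor

set_option autoImplicit false
universe u
open CategoryTheory CategoryTheory.Limits AlgebraicGeometry TopologicalSpace Opposite
open Constr

namespace Groth.Agent.S9575

/-- Let S be a graded ring, X = Proj S, d ≥ 1, and a, b homogeneous elements with deg a = deg b + d.
Then for every integer n the restriction of the twisting sheaf O_X(nd) to the standard open D_+(ab)
is isomorphic to the structure sheaf of D_+(ab): it is free of rank one, generated by the section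
(a/b)^n. (This is the invertibility half of the fact that D_+(ab) lies in the open W_d where the
O_X(nd) are invertible with compatible multiplications; existence of an isomorphism only. The
compatibility of the multiplication maps O_X(nd) ⊗ O_X(md) → O_X(nd+md) on this open, and the
converse statement that the largest such open is the union of the D_+(ab), are not stated here.) -/
theorem result {R A : Type u} [CommRing R] [CommRing A] [Algebra R A] (𝒜 : ℕ → Submodule R A) [GradedAlgebra 𝒜]
    {d : ℕ} (hd : 0 < d) {i j : ℕ} {a b : A} (ha : a ∈ 𝒜 i) (hb : b ∈ 𝒜 j) (hij : i = j + d) (n : ℤ) :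
    Nonempty ((Twist.twist 𝒜 (n * d)).restrict (Proj.basicOpen 𝒜 (a * b)).ι ≅
      Coh.structureModule ↑(Proj.basicOpen 𝒜 (a * b))) := by
  have hle : ∀ k l : ℕ, Proj.basicOpen 𝒜 (a * b) ≤ Proj.basicOpen 𝒜 (a ^ k * b ^ l) :=
    fun k l y hy => by
      have hy' := (ProjectiveSpectrum.mem_basicOpen 𝒜 _ y).mp hy
      exact (ProjectiveSpectrum.mem_basicOpen 𝒜 _ y).mpr (GrT.not_mem_mul 𝒜
        (GrT.not_mem_pow 𝒜 (GrT.left_not_mem 𝒜 hy') k)
        (GrT.not_mem_pow 𝒜 (GrT.right_not_mem 𝒜 hy') l))
  have hp : a ^ n.toNat * b ^ (-n).toNat ∈ 𝒜 (n.toNat • i + (-n).toNat • j) :=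
    SetLike.mul_mem_graded (SetLike.pow_mem_graded _ ha) (SetLike.pow_mem_graded _ hb)
  have hq : a ^ (-n).toNat * b ^ n.toNat ∈ 𝒜 ((-n).toNat • i + n.toNat • j) :=
    SetLike.mul_mem_graded (SetLike.pow_mem_graded _ ha) (SetLike.pow_mem_graded _ hb)
  have hdeg : ((n.toNat • i + (-n).toNat • j : ℕ) : ℤ) =
      ((-n).toNat • i + n.toNat • j : ℕ) + n * d := by
    simp only [smul_eq_mul, Nat.cast_mul, Nat.cast_add, hij]
    have : (n.toNat : ℤ) = (-n).toNat + n := by omega
    rw [this]; ring
  exact InvGen.nonempty_iso _ _ (Scheme.Opens.opensRange_ι _).le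
    (GrT.twistGen 𝒜 hp hq hdeg (hle _ _))
    (GrT.twistGen_bijective 𝒜 hp hq hdeg (hle _ _) (hle _ _))

end Groth.Agent.S9575
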