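import Groth.Statements.S9578
import Groth.Agent.GrT.TwistTensor
import Groth.Agent.RelTilde.Tensor

set_option autoImplicit false
universe u
open CategoryTheory CategoryTheory.Limits AlgebraicGeometry TopologicalSpace Opposite
open Constr

namespace Groth.Agent.S9578

/-- Let S be a graded ring, M a graded S-module (graded in non-negative degrees here), X = Proj S and d
≥ 1; let W_d ⊆ X be the union of the standard opens D_+(ab) over the pairs of homogeneous elements
a, b with deg a = deg b + d (the open over which the twisting sheaves O_X(nd) are invertible with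
compatible multiplications). Then for every integer n the restrictions to W_d of M~(nd) = M~ ⊗
O_X(nd) and of M(nd)~, the module attached to the shifted module, are isomorphic. (Existence of an
isomorphism only; in the published statement it is the canonical multiplication map M~ ⊗ O_X(nd) →
M(nd)~ that restricts to an isomorphism over W_d. That W_d is the largest open over which the
O_X(nd) are invertible with compatible multiplications is not stated here.) -/
theorem result {R A : Type u} [CommRing R] [CommRing A] [Algebra R A] (𝒜 : ℕ → Submodule R A) [GradedAlgebra 𝒜]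
    {M : Type u} [AddCommGroup M] [Module R M] [Module A M] [IsScalarTower R A M] (ℳ : ℕ → Submodule R M)
    [DirectSum.Decomposition ℳ] [SetLike.GradedSMul 𝒜 ℳ]
    {d : ℕ} (hd : 0 < d) (n : ℤ) :
    Nonempty ((Twist.twistBy 𝒜 (GrTilde.tilde 𝒜 ℳ 0) (n * d)).restrict
        (⨆ (j : ℕ) (a : 𝒜 (j + d)) (b : 𝒜 j), Proj.basicOpen 𝒜 ((a : A) * b)).ι ≅
      (GrTilde.tilde 𝒜 ℳ (n * d)).restrict
        (⨆ (j : ℕ) (a : 𝒜 (j + d)) (b : 𝒜 j), Proj.basicOpen 𝒜 ((a : A) * b)).ι) := by
  have hI : IsIso ((Scheme.Modules.restrictFunctor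
      (⨆ (j : ℕ) (a : 𝒜 (j + d)) (b : 𝒜 j), Proj.basicOpen 𝒜 ((a : A) * b)).ι).map
      (GrT.tensorHom (𝒜 := 𝒜) ℳ (zero_add (n * (d : ℤ))))) := by
    refine RelTilde.isIso_restrict_map_of_bijective _ _ fun z => ?_
    obtain ⟨j, hz⟩ := TopologicalSpace.Opens.mem_iSup.mp z.2
    obtain ⟨a, hz⟩ := TopologicalSpace.Opens.mem_iSup.mp hz
    obtain ⟨b, hz⟩ := TopologicalSpace.Opens.mem_iSup.mp hz
    have hle : ∀ k l : ℕ, Proj.basicOpen 𝒜 ((a : A) * b) ≤ Proj.basicOpen 𝒜 ((a : A) ^ k * (b : A) ^ l) := by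
      intro k l y hy
      rw [Proj.basicOpen_mul] at hy
      exact (ProjectiveSpectrum.mem_basicOpen 𝒜 _ y).mpr (GrT.not_mem_mul 𝒜
        (GrT.not_mem_pow 𝒜 ((ProjectiveSpectrum.mem_basicOpen 𝒜 _ y).mp hy.1) k)
        (GrT.not_mem_pow 𝒜 ((ProjectiveSpectrum.mem_basicOpen 𝒜 _ y).mp hy.2) l))
    refine ⟨Proj.basicOpen 𝒜 ((a : A) * b), hz, fun V hV => ?_⟩
    have hp : (a : A) ^ n.toNat * (b : A) ^ (-n).toNat ∈ 𝒜 (n.toNat • (j + d) + (-n).toNat • j) :=
      SetLike.mul_mem_graded (SetLike.pow_mem_graded _ a.2) (SetLike.pow_mem_graded _ b.2)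
    have hq : (a : A) ^ (-n).toNat * (b : A) ^ n.toNat ∈ 𝒜 ((-n).toNat • (j + d) + n.toNat • j) :=
      SetLike.mul_mem_graded (SetLike.pow_mem_graded _ a.2) (SetLike.pow_mem_graded _ b.2)
    have hij : ((n.toNat • (j + d) + (-n).toNat • j : ℕ) : ℤ) =
        ((-n).toNat • (j + d) + n.toNat • j : ℕ) + n * d := by
      simp only [smul_eq_mul, Nat.cast_mul, Nat.cast_add]
      obtain ⟨k, rfl | rfl⟩ := n.eq_nat_or_neg
      · simp [Int.toNat_natCast]; ring
      · simp [Int.toNat_natCast]; ring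
    have h1 := TMul.tm_bijective (M := GrTilde.tilde 𝒜 ℳ 0)
      (GrT.twistGen_bijective 𝒜 hp hq hij (hle _ _) (hle _ _) :
        TMul.IsGen (GrT.twistGen 𝒜 hp hq hij (hle _ _))) V hV
    have h2 := GrT.mulSect_twistGen_bijective ℳ (zero_add (n * (d : ℤ))) hp hq hij (hle _ _) (hle _ _) V hV
    refine (Function.Bijective.of_comp_iff _ h1).mp ?_
    refine Eq.mpr (congrArg _ (funext fun s => ?_)) h2
    exact GrT.tensorHom_tm ℳ (zero_add (n * (d : ℤ))) s _
  exact ⟨@asIso _ _ _ _ _ hI⟩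

end Groth.Agent.S9578
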