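import Groth.Statements.S9580
import Groth.Agent.GrT.Twist

set_option autoImplicit false
universe u
open CategoryTheory CategoryTheory.Limits AlgebraicGeometry TopologicalSpace Opposite
open Constr

namespace Groth.Agent.S9580

/-- Let S be a graded ring, X = Proj S and Y ⊆ X a quasi-compact open subscheme. Then there is an
integer d ≥ 1 such that Y is contained in the open W_d, the union of the standard opens D_+(ab) over
homogeneous a, b with deg a = deg b + d, and such that the restriction O_Y(nd) of O_X(nd) to Y is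
invertible for every integer n. (The remaining assertions — the multiplication maps among the
O_Y(nd) and M~(nd) are isomorphisms, D_+(f) ∩ Y = Y_s, and the loci Y_s form a basis — are not
stated here.) -/
theorem result {R A : Type u} [CommRing R] [CommRing A] [Algebra R A] (𝒜 : ℕ → Submodule R A) [GradedAlgebra 𝒜]
    (Y : (Proj 𝒜).Opens) (hY : IsCompact (Y : Set (Proj 𝒜))) :
    ∃ d : ℕ, 0 < d ∧
      (∀ y : Proj 𝒜, y ∈ Y → ∃ (i j : ℕ) (a b : A), a ∈ 𝒜 i ∧ b ∈ 𝒜 j ∧ i = j + d ∧ y ∈ Proj.basicOpen 𝒜 (a * b)) ∧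
      ∀ n : ℤ, PicF.IsInvertible ((Twist.twist 𝒜 (n * d)).restrict Y.ι) := by
  classical
  obtain ⟨t, ht⟩ := hY.elim_finite_subcover
    (fun p : {f : A // ∃ d : ℕ, 0 < d ∧ f ∈ 𝒜 d} => ((Proj.basicOpen 𝒜 p.1 : (Proj 𝒜).Opens) : Set ↥(Proj 𝒜)))
    (fun p => (Proj.basicOpen 𝒜 p.1).isOpen) fun x _ => by
      obtain ⟨a, ha, hax⟩ := SetLike.not_le_iff_exists.1 x.not_irrelevant_le
      obtain ⟨i, hi⟩ : ∃ i, GradedRing.proj 𝒜 i a ∉ x.asHomogeneousIdeal := by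
        by_contra hne
        push Not at hne
        refine hax ?_
        rw [← DirectSum.sum_support_decompose 𝒜 a]
        exact Ideal.sum_mem _ fun i _ => hne i
      refine Set.mem_iUnion.2 ⟨⟨GradedRing.proj 𝒜 i a, i, Nat.pos_of_ne_zero ?_, SetLike.coe_mem _⟩, hi⟩
      rintro rfl
      refine hi ?_
      rw [(HomogeneousIdeal.mem_irrelevant_iff _ a).1 ha]
      exact zero_mem _
  let e : {f : A // ∃ d : ℕ, 0 < d ∧ f ∈ 𝒜 d} → ℕ := fun p => p.2.choose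
  have he : ∀ p, 0 < e p ∧ (p.1 : A) ∈ 𝒜 (e p) := fun p => p.2.choose_spec
  obtain ⟨d, hd, hdvd⟩ : ∃ d : ℕ, 0 < d ∧ ∀ p ∈ t, e p ∣ d :=
    ⟨∏ p ∈ t, e p, Finset.prod_pos fun p _ => (he p).1, fun p hp => Finset.dvd_prod_of_mem e hp⟩
  have key : ∀ y : Proj 𝒜, y ∈ Y → ∃ f ∈ 𝒜 d, y ∈ Proj.basicOpen 𝒜 f := fun y hy => by
    obtain ⟨p, hp, hyp⟩ := Set.mem_iUnion₂.mp (ht hy)
    obtain ⟨k, hk⟩ := hdvd p hp
    refine ⟨p.1 ^ k, ?_, (ProjectiveSpectrum.mem_basicOpen 𝒜 _ y).mpr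
      (GrT.not_mem_pow 𝒜 ((ProjectiveSpectrum.mem_basicOpen 𝒜 _ y).mp hyp) k)⟩
    rw [hk, mul_comm (e p) k, ← smul_eq_mul]
    exact SetLike.pow_mem_graded _ (he p).2
  refine ⟨d, hd, fun y hy => ?_, fun n => InvGen.isInvertible_restrict _ fun y => ?_⟩
  · obtain ⟨f, hf, hyf⟩ := key y hy
    refine ⟨d, 0, f, 1, hf, SetLike.GradedOne.one_mem, (zero_add d).symm, ?_⟩
    rwa [mul_one]
  · obtain ⟨f, hf, hyf⟩ := key y.1 y.2
    obtain ⟨g, hg⟩ := GrT.exists_twistGen 𝒜 hf n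
    exact ⟨Proj.basicOpen 𝒜 f, g, hyf, hg⟩

end Groth.Agent.S9580
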