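import Groth.Statements.S9581
import Groth.Agent.WeakAssAlg.Basic
import Mathlib.RingTheory.Ideal.AssociatedPrime.Basic
import Mathlib.RingTheory.Localization.AtPrime.Basic

set_option autoImplicit false
universe u
open CAlg Groth.Agent

namespace Groth.Agent.S9581

/-- (1) ⇔ (3): for a ring R, an R-module M and a prime p of R, the prime p is weakly associated to M
(minimal among the primes containing the annihilator of some element of M) if and only if the
localization M_p contains an element whose annihilator in R_p has radical equal to the maximal ideal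
p R_p. -/
theorem result {R : Type u} [CommRing R] (M : Type u) [AddCommGroup M] [Module R M] (p : Ideal R) [p.IsPrime] :
    p ∈ FlatCA.weakAss R M ↔ IsAssociatedPrime (IsLocalRing.maximalIdeal (Localization.AtPrime p)) (LocalizedModule p.primeCompl M) := by
  let A := Localization.AtPrime p
  let mx := IsLocalRing.maximalIdeal A
  have hd : Disjoint (p.primeCompl : Set R) (p : Set R) := Set.disjoint_left.2 fun s hs hsp => hs hsp
  have hc : mx.comap (algebraMap R A) = p := IsLocalization.AtPrime.under_maximalIdeal A p
  rw [WeakAssAlg.loc_iff p.primeCompl hd]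
  have h1 := WeakAssAlg.transfer (N := LocalizedModule p.primeCompl M)
    (WeakAssAlg.exists_unit_loc p.primeCompl A) mx
  rw [hc] at h1
  rw [← h1]
  have hann : ∀ z : LocalizedModule p.primeCompl M, (⊥ : Submodule A (LocalizedModule p.primeCompl M)).colon {z} =
      (Submodule.span A {z}).annihilator := fun z => by
    ext a
    rw [Submodule.mem_colon_singleton, Submodule.mem_bot, Submodule.mem_annihilator_span_singleton]
  constructor
  · rintro ⟨z, hz⟩
    refine ⟨inferInstance, z, ?_⟩
    rw [hann, Ideal.radical_eq_sInf]
    refine le_antisymm (le_sInf fun q hq => hz.2 ⟨hq.2, hq.1⟩ (IsLocalRing.le_maximalIdeal hq.2.ne_top))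
      (sInf_le ⟨hz.1.2, inferInstance⟩)
  · rintro ⟨-, z, hz⟩
    rw [hann] at hz
    refine ⟨z, ⟨inferInstance, Ideal.le_radical.trans hz.ge⟩, fun q hq _ => ?_⟩
    exact hz.le.trans (hq.1.radical_le_iff.2 hq.2)

end Groth.Agent.S9581
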