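import Groth.Statements.S9582
import Mathlib.RingTheory.Ideal.MinimalPrime.Localization
import Mathlib.RingTheory.Nilpotent.Basic

set_option autoImplicit false
universe u
open CAlg

namespace Groth.Agent.S9582

/-- For a reduced ring R, the primes weakly associated to the R-module R (primes minimal over the
annihilator of some element) are exactly the minimal primes of R. -/
theorem result {R : Type u} [CommRing R] [IsReduced R] :
    FlatCA.weakAss R R = minimalPrimes R := by
  ext p
  constructor
  · rintro ⟨a, hp⟩
    haveI := hp.1.1
    set I := (Submodule.span R {a}).annihilator with hI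
    have hmem : ∀ r : R, r ∈ I ↔ r * a = 0 := fun r => by
      rw [hI, Submodule.mem_annihilator_span_singleton, smul_eq_mul]
    have hap : a ∉ p := by
      intro ha
      obtain ⟨s, hs, hxs⟩ := Ideal.exists_mul_mem_of_mem_minimalPrimes hp ha
      refine hs ((hmem s).2 ?_)
      rw [hmem] at hxs
      exact eq_zero_of_pow_eq_zero (n := 2) (by linear_combination s * hxs)
    obtain ⟨q, hq, hqp⟩ := Ideal.exists_minimalPrimes_le (I := ⊥) (J := p) bot_le
    haveI := hq.1.1
    have hIq : I ≤ q := fun r hr => by
      have : r * a ∈ q := by rw [(hmem r).1 hr]; exact q.zero_mem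
      exact ((Ideal.IsPrime.mem_or_mem hq.1.1 this).resolve_right fun h => hap (hqp h))
    have := hp.2 ⟨hq.1.1, hIq⟩ hqp
    rw [le_antisymm this hqp]
    exact hq
  · intro hp
    refine ⟨1, ?_⟩
    have : (Submodule.span R {(1 : R)}).annihilator = ⊥ :=
      (Submodule.eq_bot_iff _).2 fun r hr => by
        simpa using (Submodule.mem_annihilator_span_singleton (1 : R) r).1 hr
    rw [this]; exact hp

end Groth.Agent.S9582
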