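import Groth.Statements.S9583
import Groth.Agent.WeakAssAlg.Basic
import Mathlib.Algebra.Exact.Basic

set_option autoImplicit false
universe u
open CAlg Groth.Agent

namespace Groth.Agent.S9583

/-- For a ring R and a short exact sequence 0 → M' → M → M'' → 0 of R-modules, every prime weakly
associated to M' is weakly associated to M, and every prime weakly associated to M is weakly
associated to M' or to M''. -/
theorem result {R : Type u} [CommRing R] {M' M M'' : Type u} [AddCommGroup M'] [Module R M'] [AddCommGroup M] [Module R M] [AddCommGroup M''] [Module R M''] (f : M' →ₗ[R] M) (g : M →ₗ[R] M'') (hf : Function.Injective f) (hg : Function.Surjective g) (hfg : Function.Exact f g) :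
    FlatCA.weakAss R M' ⊆ FlatCA.weakAss R M ∧ FlatCA.weakAss R M ⊆ FlatCA.weakAss R M' ∪ FlatCA.weakAss R M'' := by
  constructor
  · intro p hp
    obtain ⟨hp, m, h1, h2⟩ := WeakAssAlg.mem_weakAss_iff.1 hp
    refine WeakAssAlg.mem_weakAss_iff.2 ⟨hp, f m, fun r hr => h1 r (hf (by rw [map_smul, hr, map_zero])), fun x hx => ?_⟩
    obtain ⟨s, hs, n, hn⟩ := h2 x hx
    exact ⟨s, hs, n, by rw [← map_smul, hn, map_zero]⟩
  · intro p hp
    obtain ⟨hp, m, h1, h2⟩ := WeakAssAlg.mem_weakAss_iff.1 hp
    by_cases hg' : ∀ r : R, r • g m = 0 → r ∈ p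
    · right
      refine WeakAssAlg.mem_weakAss_iff.2 ⟨hp, g m, hg', fun x hx => ?_⟩
      obtain ⟨s, hs, n, hn⟩ := h2 x hx
      exact ⟨s, hs, n, by rw [← map_smul, hn, map_zero]⟩
    · push_neg at hg'
      obtain ⟨t, ht, htp⟩ := hg'
      rw [← map_smul] at ht
      obtain ⟨m', hm'⟩ := (hfg (t • m)).1 ht
      left
      refine WeakAssAlg.mem_weakAss_iff.2 ⟨hp, m', fun r hr => ?_, fun x hx => ?_⟩
      · have : (r * t) • m = 0 := by rw [mul_smul, ← hm', ← map_smul, hr, map_zero]
        exact (hp.mem_or_mem (h1 _ this)).resolve_right htp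
      · obtain ⟨s, hs, n, hn⟩ := h2 x hx
        refine ⟨s, hs, n, hf ?_⟩
        rw [map_smul, hm', smul_comm, hn, smul_zero, map_zero]

end Groth.Agent.S9583
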