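import Groth.Statements.S9584
import Mathlib.RingTheory.Ideal.MinimalPrime.Basic

set_option autoImplicit false
universe u
open CAlg

namespace Groth.Agent.S9584

/-- For a ring R and an R-module M, M has no weakly associated prime (no prime minimal over the
annihilator of an element) if and only if M = 0. -/
theorem result {R : Type u} [CommRing R] (M : Type u) [AddCommGroup M] [Module R M] :
    FlatCA.weakAss R M = ∅ ↔ Subsingleton M := by
  constructor
  · intro h
    by_contra hM
    haveI := not_subsingleton_iff_nontrivial.1 hM
    obtain ⟨m, hm⟩ := exists_ne (0 : M)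
    have hne : (Submodule.span R {m}).annihilator ≠ ⊤ := by
      rw [Ideal.ne_top_iff_one, Submodule.mem_annihilator_span_singleton, one_smul]
      exact hm
    obtain ⟨p, hp⟩ := Ideal.nonempty_minimalPrimes hne
    exact (h ▸ (⟨m, hp⟩ : p ∈ FlatCA.weakAss R M) : p ∈ (∅ : Set (Ideal R)))
  · intro h
    ext p
    simp only [Set.mem_empty_iff_false, iff_false]
    rintro ⟨m, hp⟩
    obtain rfl : m = 0 := Subsingleton.elim _ _
    have : (1 : R) ∈ p := hp.1.2 (by rw [Submodule.mem_annihilator_span_singleton, smul_zero])
    exact hp.1.1.ne_top ((Ideal.eq_top_iff_one p).2 this)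

end Groth.Agent.S9584
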