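import Groth.Statements.S9585
import Groth.Agent.WeakAssAlg.Basic
import Mathlib.RingTheory.Regular.RegularSequence

set_option autoImplicit false
universe u
open CAlg Groth.Agent

namespace Groth.Agent.S9585

/-- For a ring R and an R-module M, an element of R lies in some weakly associated prime of M exactly
when multiplication by it on M is not injective; in other words the union of the weakly associated
primes of M equals the set of zerodivisors on M. -/
theorem result {R : Type u} [CommRing R] (M : Type u) [AddCommGroup M] [Module R M] :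
    ⋃ q ∈ FlatCA.weakAss R M, (q : Set R) = {f : R | ¬ IsSMulRegular M f} := by
  ext f
  simp only [Set.mem_iUnion, SetLike.mem_coe, exists_prop, Set.mem_ofPred_eq]
  constructor
  · rintro ⟨q, hq, hfq⟩
    obtain ⟨-, m, hm⟩ := WeakAssAlg.mem_weakAss_iff.1 hq
    exact WeakAssAlg.not_isSMulRegular_of_mem hm hfq
  · intro hf
    obtain ⟨a, b, hab, hne⟩ : ∃ a b : M, f • a = f • b ∧ a ≠ b := by
      simpa [IsSMulRegular, Function.Injective] using hf
    obtain ⟨p, hp, hfp, hw⟩ := WeakAssAlg.exists_witness (sub_ne_zero.2 hne) (show f • (a - b) = 0 by rw [smul_sub, hab, sub_self])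
    exact ⟨p, WeakAssAlg.mem_weakAss_iff.2 ⟨hp, _, hw⟩, hfp⟩

end Groth.Agent.S9585
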