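import Groth.Statements.S9586
import Groth.Agent.WeakAssAlg.Basic
import Mathlib.RingTheory.Noetherian.Basic

set_option autoImplicit false
universe u
open CAlg Groth.Agent

namespace Groth.Agent.S9586

/-- For a ring R, an R-module M and a finitely generated prime ideal p of R, p is associated to M (equal
to the annihilator of an element) if and only if p is weakly associated to M (minimal over the
annihilator of an element). -/
theorem result {R : Type u} [CommRing R] (M : Type u) [AddCommGroup M] [Module R M] (p : Ideal R) [p.IsPrime] (hp : p.FG) :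
    p ∈ FlatCA.ass R M ↔ p ∈ FlatCA.weakAss R M := by
  constructor
  · rintro ⟨hp', m, hm⟩
    exact ⟨m, hm ▸ ⟨⟨hp', le_rfl⟩, fun q hq _ => hq.2⟩⟩
  · intro h
    classical
    obtain ⟨-, m, h1, h2⟩ := WeakAssAlg.mem_weakAss_iff.1 h
    let J : Ideal R :=
      { carrier := {y | ∃ s ∉ p, (s * y) • m = 0}
        zero_mem' := ⟨1, fun h => Ideal.IsPrime.ne_top ‹_› ((Ideal.eq_top_iff_one p).2 h), by rw [mul_zero, zero_smul]⟩
        add_mem' := by
          rintro a b ⟨s, hs, ha⟩ ⟨t, ht, hb⟩
          refine ⟨s * t, fun hc => (Ideal.IsPrime.mem_or_mem ‹_› hc).elim hs ht, ?_⟩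
          rw [mul_add, add_smul, show s * t * a = t * (s * a) by ring, mul_smul t, ha, smul_zero,
            show s * t * b = s * (t * b) by ring, mul_smul s, hb, smul_zero, add_zero]
        smul_mem' := by
          rintro c y ⟨s, hs, hy⟩
          exact ⟨s, hs, by rw [smul_eq_mul, show s * (c * y) = c * (s * y) by ring, mul_smul, hy, smul_zero]⟩ }
    have hrad : p ≤ J.radical := fun x hx => by
      obtain ⟨s, hs, n, hn⟩ := h2 x hx
      exact ⟨n, s, hs, hn⟩
    have hex := Ideal.exists_pow_le_of_le_radical_of_fg hrad hp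
    set k := Nat.find hex with hk
    have hk0 : k ≠ 0 := by
      intro h0
      have := Nat.find_spec hex
      rw [← hk, h0, pow_zero, Ideal.one_eq_top] at this
      obtain ⟨s, hs, hsm⟩ := this (Submodule.mem_top (x := (1 : R)))
      rw [mul_one] at hsm
      exact hs (h1 s hsm)
    obtain ⟨j, hj⟩ := Nat.exists_eq_succ_of_ne_zero hk0
    have hj' : ¬ p ^ j ≤ J := Nat.find_min hex (by omega)
    obtain ⟨y, hy, hyJ⟩ := SetLike.not_le_iff_exists.1 hj'
    obtain ⟨G, hG⟩ := hp
    have hgen : ∀ x ∈ p, ∃ s ∉ p, (s * (x * y)) • m = 0 := fun x hx => by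
      have h3 := Nat.find_spec hex
      rw [← hk, hj, pow_succ'] at h3
      exact h3 (Ideal.mul_mem_mul hx hy)
    choose t ht htm using hgen
    have hGp : ∀ x ∈ G, x ∈ p := fun x hx => hG ▸ Submodule.subset_span hx
    let T := ∏ x ∈ G.attach, t x.1 (hGp x.1 x.2)
    have hT : T ∉ p := fun hc => by
      obtain ⟨x, -, hx⟩ := (Ideal.IsPrime.prod_mem_iff (p := p)).1 hc
      exact ht _ _ hx
    refine ⟨inferInstance, (T * y) • m, le_antisymm ?_ fun r hr => ?_⟩
    · rw [← hG, Submodule.span_le]
      intro x hx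
      refine (Submodule.mem_annihilator_span_singleton _ x).2 ?_
      obtain ⟨d, hd⟩ := Finset.dvd_prod_of_mem (fun x : G => t x.1 (hGp x.1 x.2)) (Finset.mem_attach G ⟨x, hx⟩)
      rw [← mul_smul, show x * (T * y) = d * (t x (hGp x hx) * (x * y)) by rw [show T = t x (hGp x hx) * d from hd]; ring,
        mul_smul, htm, smul_zero]
    · rw [Submodule.mem_annihilator_span_singleton, ← mul_smul, ← mul_assoc] at hr
      by_contra hrp
      exact hyJ ⟨r * T, fun hc => (Ideal.IsPrime.mem_or_mem ‹_› hc).elim hrp hT, hr⟩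

end Groth.Agent.S9586
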