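import Groth.Statements.S9587
import Groth.Agent.WeakAssAlg.Basic
import Mathlib.RingTheory.Ideal.Quotient.Operations

set_option autoImplicit false
universe u
open CAlg Groth.Agent

namespace Groth.Agent.S9587

/-- For a ring R, an ideal I of R and an R/I-module M, regarded as an R-module through R → R/I, the
primes of R weakly associated to M are exactly the inverse images of the primes of R/I weakly
associated to M. -/
theorem result {R : Type u} [CommRing R] (I : Ideal R) (M : Type u) [AddCommGroup M] [Module (R ⧸ I) M] [Module R M] [IsScalarTower R (R ⧸ I) M] :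
    FlatCA.weakAss R M = Ideal.comap (Ideal.Quotient.mk I) '' FlatCA.weakAss (R ⧸ I) M := by
  ext p
  constructor
  · intro h
    obtain ⟨hp, m, hm⟩ := WeakAssAlg.mem_weakAss_iff.1 h
    have hI : I ≤ p := fun x hx => hm.1 x (by
      rw [← algebraMap_smul (R ⧸ I), Ideal.Quotient.algebraMap_eq, Ideal.Quotient.eq_zero_iff_mem.2 hx, zero_smul])
    have hc : (p.map (Ideal.Quotient.mk I)).comap (Ideal.Quotient.mk I) = p := by
      rw [Ideal.comap_map_of_surjective' _ Ideal.Quotient.mk_surjective, Ideal.mk_ker, sup_eq_left.2 hI]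
    haveI : (p.map (Ideal.Quotient.mk I)).IsPrime :=
      Ideal.map_isPrime_of_surjective Ideal.Quotient.mk_surjective (by rwa [Ideal.mk_ker])
    refine ⟨_, ?_, hc⟩
    rw [WeakAssAlg.transfer (WeakAssAlg.exists_unit_quotient I)]
    exact hc.symm ▸ h
  · rintro ⟨q, hq, rfl⟩
    haveI : q.IsPrime := (WeakAssAlg.mem_weakAss_iff.1 hq).1
    exact (WeakAssAlg.transfer (WeakAssAlg.exists_unit_quotient I) q).1 hq

end Groth.Agent.S9587
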