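import Groth.Statements.S9588
import Groth.Agent.WeakAssAlg.Basic

set_option autoImplicit false
universe u
open CAlg Groth.Agent

namespace Groth.Agent.S9588

/-- For a ring R, an R-module M and a multiplicative subset S of R, the primes of R weakly associated to
S⁻¹M regarded as an R-module are exactly the inverse images under R → S⁻¹R of the primes of S⁻¹R
weakly associated to S⁻¹M. -/
theorem result {R : Type u} [CommRing R] (S : Submonoid R) (M : Type u) [AddCommGroup M] [Module R M] :
    FlatCA.weakAss R (LocalizedModule S M) = Ideal.comap (algebraMap R (Localization S)) '' FlatCA.weakAss (Localization S) (LocalizedModule S M) := by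
  ext p
  constructor
  · intro h
    haveI hp := (WeakAssAlg.mem_weakAss_iff.1 h).1
    have hd := WeakAssAlg.disjoint_of_mem_loc S h
    have hc := IsLocalization.under_map_of_isPrime_disjoint S (Localization S) hp hd
    haveI := IsLocalization.isPrime_of_isPrime_disjoint S (Localization S) p hp hd
    refine ⟨_, ?_, hc⟩
    rw [WeakAssAlg.transfer (WeakAssAlg.exists_unit_loc S (Localization S))]
    rw [show (Ideal.map (algebraMap R (Localization S)) p).comap (algebraMap R (Localization S)) = p from hc]
    exact h
  · rintro ⟨q, hq, rfl⟩
    haveI : q.IsPrime := (WeakAssAlg.mem_weakAss_iff.1 hq).1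
    exact (WeakAssAlg.transfer (WeakAssAlg.exists_unit_loc S (Localization S)) q).1 hq

end Groth.Agent.S9588
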