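import Groth.Statements.S9590
import Groth.Agent.WeakAssAlg.Basic

set_option autoImplicit false
universe u
open CAlg Groth.Agent

namespace Groth.Agent.S9590

/-- For a ring R, an R-module M and a multiplicative subset S of R such that every element of S is a
nonzerodivisor on M, the primes of R weakly associated to M are the same as those weakly associated
to the R-module S⁻¹M. -/
theorem result {R : Type u} [CommRing R] (S : Submonoid R) (M : Type u) [AddCommGroup M] [Module R M] (hS : ∀ s ∈ S, IsSMulRegular M s) :
    FlatCA.weakAss R M = FlatCA.weakAss R (LocalizedModule S M) := by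
  ext p
  constructor
  · intro h
    obtain ⟨hp, m, hm⟩ := WeakAssAlg.mem_weakAss_iff.1 h
    haveI := hp
    refine (WeakAssAlg.loc_iff S ?_).1 h
    rw [Set.disjoint_left]
    exact fun s hs hsp => WeakAssAlg.not_isSMulRegular_of_mem hm hsp (hS s hs)
  · intro h
    haveI hp := (WeakAssAlg.mem_weakAss_iff.1 h).1
    exact (WeakAssAlg.loc_iff S (WeakAssAlg.disjoint_of_mem_loc S h)).2 h

end Groth.Agent.S9590
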