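import Groth.Statements.S9594
import Groth.Agent.WeakAssAlg.Basic

set_option autoImplicit false
universe u
open CAlg Groth.Agent

namespace Groth.Agent.S9594

/-- For a ring R, an R-module M and a multiplicative subset S of R, (1) the primes of R associated to
the R-module S⁻¹M are the inverse images of the primes of S⁻¹R associated to S⁻¹M, and (2) a prime
of R associated to M which does not meet S is associated to the R-module S⁻¹M. Here a prime is
associated to a module when it equals the annihilator of some element. -/
theorem result {R : Type u} [CommRing R] (S : Submonoid R) (M : Type u) [AddCommGroup M] [Module R M] :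
    FlatCA.ass R (LocalizedModule S M) = Ideal.comap (algebraMap R (Localization S)) '' FlatCA.ass (Localization S) (LocalizedModule S M) ∧
      ∀ p ∈ FlatCA.ass R M, Disjoint (S : Set R) (p : Set R) → p ∈ FlatCA.ass R (LocalizedModule S M) := by
  let A := Localization S
  have hunit : ∀ {p : Ideal R} (z : LocalizedModule S M), p.IsPrime → p = (Submodule.span R {z}).annihilator →
      Disjoint (S : Set R) (p : Set R) := by
    intro p z hp hz
    rw [Set.disjoint_left]
    intro s hs hsp
    change s ∈ p at hsp
    rw [hz, Submodule.mem_annihilator_span_singleton] at hsp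
    have h0 : z = 0 := ((Module.End.isUnit_iff _).1
      (IsLocalizedModule.map_units (LocalizedModule.mkLinearMap S M) ⟨s, hs⟩)).1 (hsp.trans (map_zero _).symm)
    exact hp.ne_top ((Ideal.eq_top_iff_one p).2 (by rw [hz, Submodule.mem_annihilator_span_singleton, h0, smul_zero]))
  have hcomap : ∀ z : LocalizedModule S M,
      ((Submodule.span A {z}).annihilator).comap (algebraMap R A) = (Submodule.span R {z}).annihilator := by
    intro z
    ext r
    rw [Ideal.mem_comap, Submodule.mem_annihilator_span_singleton, Submodule.mem_annihilator_span_singleton, algebraMap_smul]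
  refine ⟨?_, ?_⟩
  · ext p
    constructor
    · rintro ⟨hp, z, hz⟩
      have hd := hunit z hp hz
      have hc := IsLocalization.under_map_of_isPrime_disjoint S A hp hd
      refine ⟨(Submodule.span A {z}).annihilator, ⟨?_, z, rfl⟩, (hcomap z).trans hz.symm⟩
      have h2 : (Submodule.span A {z}).annihilator = p.map (algebraMap R A) := by
        rw [hz, ← hcomap]
        exact (IsLocalization.map_under S A _).symm
      rw [h2]
      exact IsLocalization.isPrime_of_isPrime_disjoint S A p hp hd
    · rintro ⟨q, ⟨hq, z, hz⟩, rfl⟩
      exact ⟨hq.comap _, z, hz ▸ hcomap z⟩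
  · rintro p ⟨hp, m, hm⟩ hd
    refine ⟨hp, LocalizedModule.mk m 1, le_antisymm (fun r hr => ?_) fun r hr => ?_⟩
    · rw [Submodule.mem_annihilator_span_singleton, WeakAssAlg.smul_mk_eq_zero_iff]
      rw [hm, Submodule.mem_annihilator_span_singleton] at hr
      exact ⟨1, S.one_mem, by rwa [one_mul]⟩
    · rw [Submodule.mem_annihilator_span_singleton, WeakAssAlg.smul_mk_eq_zero_iff] at hr
      obtain ⟨t, ht, h⟩ := hr
      have : t * r ∈ p := by rw [hm, Submodule.mem_annihilator_span_singleton]; exact h
      exact (hp.mem_or_mem this).resolve_left fun hc => Set.disjoint_left.1 hd ht hc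

end Groth.Agent.S9594
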