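import Groth.Statements.S9597
import Mathlib

set_option autoImplicit false
universe u
open CAlg

namespace Groth.Agent.S9597

/-- Let R be a Noetherian ring, M a finite R-module whose associated primes are pairwise incomparable
under inclusion (M has no embedded associated primes), and I the annihilator of M. Then the
associated primes of R/I, viewed as a module over itself, are again pairwise incomparable: R/I has
no embedded primes either. -/
theorem result {R : Type u} [CommRing R] [IsNoetherianRing R] (M : Type u) [AddCommGroup M] [Module R M] [Module.Finite R M] (hM : ∀ p ∈ associatedPrimes R M, ∀ q ∈ associatedPrimes R M, p ≤ q → p = q) :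
    ∀ p ∈ associatedPrimes (R ⧸ Module.annihilator R M) (R ⧸ Module.annihilator R M), ∀ q ∈ associatedPrimes (R ⧸ Module.annihilator R M) (R ⧸ Module.annihilator R M), p ≤ q → p = q := by
  classical
  obtain ⟨n, s, hs⟩ := Module.Finite.exists_fin (R := R) (M := M)
  let ev : R →ₗ[R] (Fin n → M) := LinearMap.pi fun i => LinearMap.toSpanSingleton R M (s i)
  have hker : LinearMap.ker ev = Module.annihilator R M := by
    ext r
    rw [LinearMap.mem_ker, Module.mem_annihilator, funext_iff]
    constructor
    · intro h m
      have hm : m ∈ Submodule.span R (Set.range s) := hs ▸ Submodule.mem_top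
      induction hm using Submodule.span_induction with
      | mem x hx => obtain ⟨i, rfl⟩ := hx; simpa [ev] using h i
      | zero => exact smul_zero r
      | add x y _ _ hx hy => rw [smul_add, hx, hy, add_zero]
      | smul c x _ hx => rw [smul_comm, hx, smul_zero]
    · intro h i
      simpa [ev] using h (s i)
  let j : (R ⧸ Module.annihilator R M) →ₗ[R] (Fin n → M) := Submodule.liftQ _ ev hker.ge
  have hj : Function.Injective j := LinearMap.ker_eq_bot.1 (Submodule.ker_liftQ_eq_bot _ _ _ hker.le)
  have hpi : ∀ (m : ℕ), ∀ p ∈ associatedPrimes R (Fin m → M), p ∈ associatedPrimes R M := by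
    intro m
    induction m with
    | zero => intro p hp; exact absurd hp (by rw [associatedPrimes.eq_empty_of_subsingleton]; exact Set.notMem_empty p)
    | succ m ih =>
      intro p hp
      rw [← LinearEquiv.AssociatedPrimes.eq (Fin.consLinearEquiv R (fun _ : Fin (m + 1) => M)), associatedPrimes.prod] at hp
      exact hp.elim id (ih p)
  have key : ∀ p ∈ associatedPrimes (R ⧸ Module.annihilator R M) (R ⧸ Module.annihilator R M),
      p.comap (Ideal.Quotient.mk _) ∈ associatedPrimes R M := by
    intro p hp
    refine hpi n _ (associatedPrimes.subset_of_injective hj ?_)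
    haveI : IsNoetherianRing (R ⧸ Module.annihilator R M) := inferInstance
    obtain ⟨hpp, x, hx⟩ := isAssociatedPrime_iff.1 hp
    refine isAssociatedPrime_iff.2 ⟨Ideal.IsPrime.comap _, x, ?_⟩
    ext r
    rw [Ideal.mem_comap, hx, Submodule.mem_colon_singleton, Submodule.mem_colon_singleton, Submodule.mem_bot, Submodule.mem_bot]
    rfl
  intro p hp q hq hpq
  have := hM _ (key p hp) _ (key q hq) (Ideal.comap_mono hpq)
  exact Ideal.comap_injective_of_surjective _ Ideal.Quotient.mk_surjective this

end Groth.Agent.S9597
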