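import Groth.Statements.S9598
import Mathlib.RingTheory.Jacobson.Ring
import Mathlib.RingTheory.Ideal.AssociatedPrime.Finiteness
import Mathlib.RingTheory.KrullDimension.Zero
import Mathlib.RingTheory.FiniteType

set_option autoImplicit false
universe u
open CAlg

namespace Groth.Agent.S9598

/-- For a field k and a finite type k-algebra S with dim S > 0, some element of S is a nonzerodivisor
and a nonunit. -/
theorem result {k S : Type u} [Field k] [CommRing S] [Algebra k S] [Algebra.FiniteType k S] (hdim : 0 < ringKrullDim S) :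
    ∃ f : S, f ∈ nonZeroDivisors S ∧ ¬ IsUnit f := by
  haveI : IsJacobsonRing S := isJacobsonRing_of_finiteType (A := k)
  haveI : IsNoetherianRing S := Algebra.FiniteType.isNoetherianRing k S
  haveI : Module.Finite S S := inferInstance
  by_contra! h
  have hfin : (associatedPrimes S S).Finite := associatedPrimes.finite S S
  set T := hfin.toFinset with hT
  have hmax : ∀ m : Ideal S, m.IsMaximal → m ∈ T := by
    intro m hm
    have hsub : (m : Set S) ⊆ ⋃ q ∈ (T : Set (Ideal S)), (q : Set S) := by
      intro x hx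
      have hxu : x ∉ nonZeroDivisors S := fun hn =>
        hm.ne_top (Ideal.eq_top_of_isUnit_mem _ hx (h x hn))
      have : x ∈ ((nonZeroDivisors S : Set S))ᶜ := hxu
      rw [← biUnion_associatedPrimes_eq_compl_nonZeroDivisors] at this
      simpa [hT] using this
    obtain ⟨q, hq, hmq⟩ := (Ideal.subset_union_prime (s := T) (f := fun q => q) ⊥ ⊥
      (fun q hq _ _ => (AssociatedPrimes.mem_iff.1 ((Set.Finite.mem_toFinset hfin).1 hq)).isPrime)).1
      (by simpa using hsub)
    have hqp := (AssociatedPrimes.mem_iff.1 ((Set.Finite.mem_toFinset hfin).1 hq)).isPrime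
    rwa [hm.eq_of_le hqp.ne_top hmq]
  have hdim0 : Ring.KrullDimLE 0 S := by
    refine Ring.krullDimLE_zero_iff.2 fun P hP => ?_
    have hj : P.jacobson = P := (inferInstance : IsJacobsonRing S).out hP.isRadical
    classical
    have hle : (T.filter fun m => m.IsMaximal ∧ P ≤ m).inf id ≤ P := by
      intro x hx
      rw [← hj, Ideal.jacobson, Ideal.mem_sInf]
      intro m ⟨hPm, hm⟩
      exact (Submodule.mem_finsetInf.1 hx) m
        (Finset.mem_filter.2 ⟨hmax m hm, hm, hPm⟩)
    obtain ⟨m, hm, hmP⟩ := (Ideal.IsPrime.inf_le' hP).1 hle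
    obtain ⟨-, hmm, hPm⟩ := Finset.mem_filter.1 hm
    rwa [le_antisymm hPm hmP]
  exact not_le.2 hdim (Ring.krullDimLE_iff.1 hdim0)

end Groth.Agent.S9598
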