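import Groth.Statements.S9600
import Groth.Agent.AdicBasics.Exact

set_option autoImplicit false
universe u
open CAlg

namespace Groth.Agent.S9600

/-- Let R be a ring, I an ideal of R and 0 → M → N → Q → 0 a short exact sequence of R-modules in which
Q is killed by some power I^c of I. Then on I-adic completions the map M^ → N^ is injective, N^ → Q^
is surjective with kernel equal to the image of M^, and the canonical map Q → Q^ is bijective; so 0
→ M^ → N^ → Q → 0 is again short exact. -/
theorem result {R : Type u} [CommRing R] (I : Ideal R) {M N Q : Type u} [AddCommGroup M] [Module R M] [AddCommGroup N] [Module R N] [AddCommGroup Q] [Module R Q] (i : M →ₗ[R] N) (g : N →ₗ[R] Q) (hi : Function.Injective i) (hg : Function.Surjective g) (hig : Function.Exact i g) (c : ℕ) (hc : ∀ x ∈ I ^ c, ∀ q : Q, x • q = 0) :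
    Function.Injective (AdicCompletion.map I i) ∧ Function.Exact (AdicCompletion.map I i) (AdicCompletion.map I g) ∧ Function.Surjective (AdicCompletion.map I g) ∧ Function.Bijective (AdicCompletion.of I Q) := by
  obtain ⟨h1, h2, h3⟩ := AdicBasics.map_shortExact_of_shift I i g hi hg hig c (fun n k hk => by
    have hle : (I ^ c • ⊤ : Submodule R N) ≤ LinearMap.range i := by
      rw [← LinearMap.exact_iff.1 hig, Submodule.smul_le]
      intro r hr x _
      rw [LinearMap.mem_ker, map_smul, hc r hr]
    rw [pow_add, ← smul_eq_mul, Submodule.smul_assoc] at hk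
    have h := smul_mono_right (I ^ n) hle hk
    rw [← Submodule.map_top, ← Submodule.map_smul''] at h
    obtain ⟨k', hk', he⟩ := h
    rwa [← hi he])
  refine ⟨h1, h2, h3, ?_⟩
  have hbot : ∀ n, c ≤ n → (I ^ n • ⊤ : Submodule R Q) = ⊥ := fun n hn => by
    rw [eq_bot_iff, Submodule.smul_le]
    intro r hr x _
    rw [Submodule.mem_bot]
    exact hc r (Ideal.pow_le_pow_right hn hr) x
  refine ⟨AdicCompletion.of_injective_iff.2 ⟨fun x hx => ?_⟩,
    AdicCompletion.of_surjective_iff.2 ⟨fun f hf => ⟨f c, fun n => ?_⟩⟩⟩
  · have := hx c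
    rwa [SModEq.sub_mem, sub_zero, hbot c le_rfl, Submodule.mem_bot] at this
  · rcases le_total n c with h | h
    · exact hf h
    · have h' := (hf h).symm
      rw [SModEq.sub_mem, hbot c le_rfl, Submodule.mem_bot, sub_eq_zero] at h'
      rw [h']

end Groth.Agent.S9600
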