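import Groth.Statements.S9601
import Mathlib.RingTheory.AdicCompletion.Completeness

set_option autoImplicit false
universe u
open CAlg

namespace Groth.Agent.S9601

open AdicCompletion

/-- For a ring R, an ideal I of R and an R-module M, let M^ be the I-adic completion and K_n the kernel
of the projection M^ → M/IⁿM. The completion M^ is I-adically complete exactly when K_n = Iⁿ M^
holds for every n ≥ 1. -/
theorem result {R : Type u} [CommRing R] (I : Ideal R) (M : Type u) [AddCommGroup M] [Module R M] :
    IsAdicComplete I (AdicCompletion I M) ↔ ∀ n : ℕ, 1 ≤ n → LinearMap.ker (AdicCompletion.eval I M n) = I ^ n • (⊤ : Submodule R (AdicCompletion I M)) := by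
  constructor
  · intro h n _
    refine le_antisymm (fun x hx => ?_) (AdicCompletion.pow_smul_top_le_ker_eval (M := M) I n)
    choose m hm using fun k => Submodule.mkQ_surjective (I ^ k • ⊤ : Submodule R M) (AdicCompletion.eval I M k x)
    have hcauchy : ∀ {a b}, a ≤ b → m a ≡ m b [SMOD (I ^ a • ⊤ : Submodule R M)] := fun {a b} hab => by
      show Submodule.Quotient.mk (m a) = Submodule.Quotient.mk (m b)
      have h1 := x.property hab
      rw [show x.val b = Submodule.mkQ _ (m b) from (hm b).symm,
        show x.val a = Submodule.mkQ _ (m a) from (hm a).symm] at h1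
      rw [← Submodule.mkQ_apply, ← h1]
      rfl
    have hmap : ∀ (k : ℕ) (v : M), v ∈ (I ^ k • ⊤ : Submodule R M) →
        AdicCompletion.of I M v ∈ (I ^ k • ⊤ : Submodule R (AdicCompletion I M)) := fun k v hv => by
      have := Submodule.mem_map_of_mem (f := AdicCompletion.of I M) hv
      rw [Submodule.map_smul''] at this
      exact Submodule.smul_mono le_rfl le_top this
    obtain ⟨L, hL⟩ := IsPrecomplete.prec (inferInstance : IsPrecomplete I (AdicCompletion I M))
      (f := fun k => AdicCompletion.of I M (m k)) fun {a b} hab => by
        rw [SModEq.sub_mem, ← map_sub]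
        exact hmap a _ (SModEq.sub_mem.1 (hcauchy hab))
    have hLx : L = x := AdicCompletion.ext fun k => by
      have := AdicCompletion.pow_smul_top_le_ker_eval (M := M) I k (SModEq.sub_mem.1 (hL k))
      rw [LinearMap.mem_ker, map_sub, sub_eq_zero, AdicCompletion.eval_of, hm] at this
      exact this.symm
    have h1 := SModEq.sub_mem.1 (hL n)
    rw [hLx] at h1
    have h2 : AdicCompletion.of I M (m n) ∈ (I ^ n • ⊤ : Submodule R (AdicCompletion I M)) := by
      refine hmap n _ ((Submodule.Quotient.mk_eq_zero _).1 ?_)
      exact (hm n).trans hx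
    have := Submodule.sub_mem _ h2 h1
    rwa [sub_sub_cancel] at this
  · intro h
    refine { toIsHausdorff := inferInstance, toIsPrecomplete := ⟨fun f hf => ?_⟩ }
    have hker : ∀ n, LinearMap.ker (AdicCompletion.eval I M n) ≤ (I ^ n • ⊤ : Submodule R (AdicCompletion I M)) := by
      intro n
      rcases Nat.eq_zero_or_pos n with rfl | hn
      · simp
      · exact (h n hn).le
    let L : AdicCompletion I M :=
      { val := fun i => (f i).val i
        property := fun {a b} hab => by
          simp only [AdicCompletion.transitionMap_comp_eval_apply]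
          have := AdicCompletion.pow_smul_top_le_ker_eval (M := M) I a (SModEq.sub_mem.1 (hf hab))
          rw [LinearMap.mem_ker, map_sub, sub_eq_zero, AdicCompletion.eval_apply,
            AdicCompletion.eval_apply] at this
          exact this.symm }
    refine ⟨L, fun n => ?_⟩
    rw [SModEq.sub_mem]
    refine hker n ?_
    rw [LinearMap.mem_ker, map_sub, sub_eq_zero]
    rfl

end Groth.Agent.S9601
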