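import Groth.Statements.S9602
import Mathlib.RingTheory.AdicCompletion.Algebra
import Mathlib.RingTheory.Nilpotent.Basic
import Mathlib.RingTheory.Jacobson.Ideal

set_option autoImplicit false
universe u
open CAlg

namespace Groth.Agent.S9602

open AdicCompletion

/-- A coherent family of units has a coherent family of inverses. -/
theorem isUnit_of_forall {R : Type u} [CommRing R] (I : Ideal R) (x : AdicCompletion I R)
    (h : ∀ n, IsUnit (x.val n)) : IsUnit x := by
  let y : AdicCompletion I R :=
    ⟨fun n => Ring.inverse (x.val n), fun {m n} hmn => by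
      have h1 : AdicCompletion.transitionMap I R hmn (Ring.inverse (x.val n)) * x.val m = 1 := by
        rw [← x.property hmn, ← AdicCompletion.transitionMap_map_mul I hmn,
          Ring.inverse_mul_cancel _ (h n)]
        exact AdicCompletion.transitionMap_map_one I hmn
      calc AdicCompletion.transitionMap I R hmn (Ring.inverse (x.val n))
          = AdicCompletion.transitionMap I R hmn (Ring.inverse (x.val n)) *
              (x.val m * Ring.inverse (x.val m)) := by rw [Ring.mul_inverse_cancel _ (h m), mul_one]
        _ = Ring.inverse (x.val m) := by rw [← mul_assoc, h1, one_mul]⟩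
  exact IsUnit.of_mul_eq_one (b := y) (AdicCompletion.ext fun n => Ring.mul_inverse_cancel _ (h n))

theorem isUnit_val {R : Type u} [CommRing R] (I : Ideal R) (x : AdicCompletion I R)
    (h : IsUnit (AdicCompletion.evalOneₐ I x)) (n : ℕ) : IsUnit (x.val n) := by
  obtain ⟨f, rfl⟩ := AdicCompletion.mk_surjective I R x
  rcases Nat.eq_zero_or_pos n with rfl | hn
  · haveI : Subsingleton (R ⧸ (I ^ 0 • ⊤ : Ideal R)) := Ideal.Quotient.subsingleton_iff.2 (by simp)
    exact isUnit_of_subsingleton _
  obtain ⟨r, rfl⟩ : ∃ r, f.val n = r := ⟨_, rfl⟩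
  show IsUnit (Ideal.Quotient.mk (I ^ n • ⊤ : Ideal R) (f.val n))
  set r := f.val n with hrdef
  have h1 : AdicCompletion.evalOneₐ I (AdicCompletion.mk I R f) = Ideal.Quotient.mk I r := by
    rw [← AdicCompletion.factorₐ_evalₐ_one, AdicCompletion.evalₐ_mk]
    show Ideal.Quotient.mk I (f.val 1) = Ideal.Quotient.mk I r
    rw [Ideal.Quotient.eq]
    have := SModEq.sub_mem.1 (f.property (show 1 ≤ n from hn))
    simpa using this
  rw [h1] at h
  obtain ⟨u, hu⟩ := h.exists_left_inv
  obtain ⟨s, rfl⟩ := Ideal.Quotient.mk_surjective u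
  have hmem : 1 - s * r ∈ I := by
    rw [← map_mul, ← map_one (Ideal.Quotient.mk I), Ideal.Quotient.eq] at hu
    simpa using I.neg_mem hu
  have hnil : IsNilpotent (Ideal.Quotient.mk (I ^ n • ⊤ : Ideal R) (1 - s * r)) := ⟨n, by
    rw [← map_pow, Ideal.Quotient.eq_zero_iff_mem, smul_eq_mul, Ideal.mul_top]
    exact Ideal.pow_mem_pow hmem n⟩
  have hu2 := IsNilpotent.isUnit_one_sub hnil
  rw [map_sub, map_one, map_mul, sub_sub_cancel] at hu2
  exact isUnit_of_mul_isUnit_right hu2

/-- Let R be a ring, I an ideal of R and R^ = lim R/Iⁿ the I-adic completion. An element of R^ whose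
image in R/I is invertible is itself invertible in R^; and the kernel of R^ → R/I as well as the
extended ideal I R^ both lie inside the Jacobson radical of R^. -/
theorem result {R : Type u} [CommRing R] (I : Ideal R) :
    (∀ x : AdicCompletion I R, IsUnit (AdicCompletion.evalOneₐ I x) → IsUnit x) ∧
      RingHom.ker (AdicCompletion.evalOneₐ I).toRingHom ≤ (⊥ : Ideal (AdicCompletion I R)).jacobson ∧
      I.map (algebraMap R (AdicCompletion I R)) ≤ (⊥ : Ideal (AdicCompletion I R)).jacobson := by
  have hunit : ∀ x : AdicCompletion I R, IsUnit (AdicCompletion.evalOneₐ I x) → IsUnit x :=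
    fun x hx => isUnit_of_forall I x (isUnit_val I x hx)
  have hker : RingHom.ker (AdicCompletion.evalOneₐ I).toRingHom ≤
      (⊥ : Ideal (AdicCompletion I R)).jacobson := fun x hx => by
    rw [Ideal.mem_jacobson_bot]
    intro y
    refine hunit _ ?_
    rw [map_add, map_mul, map_one, show AdicCompletion.evalOneₐ I x = 0 from hx, zero_mul, zero_add]
    exact isUnit_one
  refine ⟨hunit, hker, le_trans ?_ hker⟩
  rw [Ideal.map_le_iff_le_comap]
  intro r hr
  show AdicCompletion.evalOneₐ I (algebraMap R _ r) = 0
  rw [AlgHom.commutes]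
  exact Ideal.Quotient.eq_zero_iff_mem.2 hr

end Groth.Agent.S9602
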