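import Groth.Statements.S9603
import Groth.Agent.AdicBasics.Exact
import Mathlib.RingTheory.Finiteness.Ideal

set_option autoImplicit false
universe u
open CAlg

namespace Groth.Agent.S9603

/-- Writing an element of `(span range g) • ⊤`. -/
theorem exists_sum_smul {A : Type u} [CommRing A] {r : ℕ} (g : Fin r → A) {M : Type u} [AddCommGroup M]
    [Module A M] {x : M} (hx : x ∈ (Ideal.span (Set.range g) • ⊤ : Submodule A M)) :
    ∃ m : Fin r → M, ∑ i, g i • m i = x := by
  refine Submodule.smul_induction_on hx (fun a ha m _ => ?_) ?_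
  · obtain ⟨w, hw⟩ := (Submodule.mem_span_range_iff_exists_fun A).1 ha
    refine ⟨fun k => w k • m, ?_⟩
    rw [← hw, Finset.sum_smul]
    simp only [smul_eq_mul, smul_smul, mul_comm]
  · rintro x y ⟨z, rfl⟩ ⟨z', rfl⟩
    exact ⟨z + z', by simp [Finset.sum_add_distrib]⟩

/-- For a ring A, elements f_1, …, f_r generating an ideal I and an A-module M, if the canonical map
from M to its (f_i)-adic completion is surjective for every i, then the canonical map from M to its
I-adic completion is surjective. -/
theorem result {A : Type u} [CommRing A] {r : ℕ} (f : Fin r → A) (M : Type u) [AddCommGroup M] [Module A M] (h : ∀ i, Function.Surjective (AdicCompletion.of (Ideal.span {f i}) M)) :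
    Function.Surjective (AdicCompletion.of (Ideal.span (Set.range f)) M) := by
  set I := Ideal.span (Set.range f)
  rw [AdicCompletion.of_surjective_iff]
  refine ⟨fun a ha => ?_⟩
  have hrad : ∀ n : ℕ, ∃ s, I ^ s ≤ Ideal.span (Set.range fun i => f i ^ n) := fun n =>
    Ideal.exists_pow_le_of_le_radical_of_fg (Ideal.span_le.2 (by
      rintro _ ⟨i, rfl⟩; exact ⟨n, Ideal.subset_span ⟨i, rfl⟩⟩)) ⟨(Set.finite_range f).toFinset, by simp [I]⟩
  choose s hs using hrad
  let σ : ℕ → ℕ := fun n => ∑ j ∈ Finset.range (n + 1), (s j + 1)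
  have hσ : ∀ n, σ n ≤ σ (n + 1) := fun n => by simp [σ, Finset.sum_range_succ]
  have hσs : ∀ n, s n ≤ σ n := fun n => by simp [σ, Finset.sum_range_succ]; omega
  have hσn : ∀ n, n ≤ σ n := fun n => by
    have : ∑ j ∈ Finset.range (n + 1), 1 ≤ σ n := Finset.sum_le_sum fun j _ => by omega
    simp at this; omega
  have hdiff : ∀ n, a (σ (n + 1)) - a (σ n) ∈ (Ideal.span (Set.range fun i => f i ^ n) • ⊤ : Submodule A M) :=
    fun n => Submodule.smul_mono_left ((Ideal.pow_le_pow_right (hσs n)).trans (hs n))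
      (SModEq.sub_mem.1 (ha (hσ n)).symm)
  choose m hm using fun n => exists_sum_smul _ (hdiff n)
  let p : Fin r → ℕ → M := fun i n => ∑ j ∈ Finset.range n, f i ^ j • m j i
  have hp : ∀ i, AdicCompletion.IsAdicCauchy (Ideal.span {f i}) M (p i) := fun i a b hab => by
    rw [SModEq.sub_mem, ← neg_sub]
    refine neg_mem ?_
    simp only [p, Finset.sum_range_sub_sum_range hab]
    refine sum_mem fun j hj => ?_
    rw [Finset.mem_filter] at hj
    exact Submodule.smul_mem_smul (Ideal.pow_le_pow_right hj.2 (Ideal.pow_mem_pow (Ideal.mem_span_singleton_self _) j)) trivial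
  have hlim : ∀ i, ∃ y, ∀ n, p i n ≡ y [SMOD ((Ideal.span {f i}) ^ n • ⊤ : Submodule A M)] := fun i =>
    (AdicCompletion.of_surjective_iff.1 (h i)).prec (fun hab => hp i hab)
  choose y hy using hlim
  have htel : ∀ n, a (σ n) = a (σ 0) + ∑ i, p i n := by
    intro n
    induction n with
    | zero => simp [p]
    | succ n ih =>
      simp only [p, Finset.sum_range_succ, Finset.sum_add_distrib, ← add_assoc]
      rw [← ih, hm, add_sub_cancel]
  refine ⟨a (σ 0) + ∑ i, y i, fun n => ?_⟩
  have h1 : a n ≡ a (σ n) [SMOD (I ^ n • ⊤ : Submodule A M)] := ha (hσn n)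
  refine h1.trans ?_
  rw [htel n, SModEq.sub_mem, add_sub_add_left_eq_sub, ← Finset.sum_sub_distrib]
  refine sum_mem fun i _ => ?_
  exact Submodule.smul_mono_left (Ideal.pow_right_mono (Ideal.span_mono (by simp)) n) (SModEq.sub_mem.1 (hy i n))

end Groth.Agent.S9603
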