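import Groth.Statements.S9604
import Mathlib.RingTheory.AdicCompletion.Basic

set_option autoImplicit false
universe u
open CAlg

namespace Groth.Agent.S9604

/-- Completeness only depends on the topology. -/
theorem complete_of_cofinal {R : Type u} [CommRing R] (I J : Ideal R) (c d : ℕ) (hc : 0 < c)
    (hd : 0 < d) (hI : I ^ c ≤ J) (hJ : J ^ d ≤ I) (M : Type u) [AddCommGroup M] [Module R M]
    (h : IsAdicComplete I M) : IsAdicComplete J M := by
  have hIJ : ∀ n, (I ^ (c * n) • ⊤ : Submodule R M) ≤ J ^ n • ⊤ := fun n =>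
    Submodule.smul_mono_left (by rw [pow_mul]; exact Ideal.pow_right_mono hI n)
  have hJI : ∀ n, (J ^ (d * n) • ⊤ : Submodule R M) ≤ I ^ n • ⊤ := fun n =>
    Submodule.smul_mono_left (by rw [pow_mul]; exact Ideal.pow_right_mono hJ n)
  refine { toIsHausdorff := ⟨fun x hx => ?_⟩, toIsPrecomplete := ⟨fun f hf => ?_⟩ }
  · refine IsHausdorff.haus (inferInstance : IsHausdorff I M) x fun n => ?_
    rw [SModEq.zero]
    exact hJI n (SModEq.zero.1 (hx (d * n)))
  · obtain ⟨L, hL⟩ := IsPrecomplete.prec (inferInstance : IsPrecomplete I M)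
      (f := fun n => f (d * n)) fun {a b} hab => by
        rw [SModEq.sub_mem]
        exact hJI a (SModEq.sub_mem.1 (hf (Nat.mul_le_mul_left d hab)))
    refine ⟨L, fun n => ?_⟩
    have hle : n ≤ d * (c * n) := by
      rw [← Nat.mul_assoc]
      exact Nat.le_mul_of_pos_left n (Nat.mul_pos hd hc)
    refine (hf hle).trans ?_
    rw [SModEq.sub_mem]
    exact hIJ n (SModEq.sub_mem.1 (hL (c * n)))

/-- Let R be a ring and I, J ideals of R with I^c ⊆ J and J^d ⊆ I for some integers c, d > 0. Then for
an R-module, being complete in the I-adic topology is equivalent to being complete in the J-adic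
topology. -/
theorem result {R : Type u} [CommRing R] (I J : Ideal R) (c d : ℕ) (hc : 0 < c) (hd : 0 < d) (hI : I ^ c ≤ J) (hJ : J ^ d ≤ I) (M : Type u) [AddCommGroup M] [Module R M] :
    IsAdicComplete I M ↔ IsAdicComplete J M := by
  exact ⟨complete_of_cofinal I J c d hc hd hI hJ M, complete_of_cofinal J I d c hd hc hJ hI M⟩

end Groth.Agent.S9604
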