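import Groth.Statements.S9606
import Mathlib.RingTheory.Spectrum.Prime.Topology
import Mathlib.RingTheory.LocalRing.ResidueField.Ideal
import Mathlib.Topology.Homeomorph.Lemmas
import Mathlib.RingTheory.IntegralClosure.Algebra.Basic
import Mathlib.Tactic.Ring

set_option autoImplicit false
universe u
open CAlg

namespace Groth.Agent.S9606

/-- Let R → S be a ring map with locally nilpotent kernel such that S is generated over R by elements x
with x² and x³ in the image of R. Then the induced map on spectra is a homeomorphism and every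
residue field map κ(p) → κ(q), for q a prime of S with inverse image p, is bijective. -/
theorem result {R S : Type u} [CommRing R] [CommRing S] [Algebra R S]
    (hgen : Algebra.adjoin R {x : S | x ^ 2 ∈ Set.range (algebraMap R S) ∧ x ^ 3 ∈ Set.range (algebraMap R S)} = ⊤)
    (hker : ∀ r : R, algebraMap R S r = 0 → IsNilpotent r) :
    IsHomeomorph (PrimeSpectrum.comap (algebraMap R S)) ∧
      ∀ (q : Ideal S) [q.IsPrime], Function.Bijective (Ideal.ResidueField.map (q.comap (algebraMap R S)) q (algebraMap R S) rfl) := by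
  classical
  let f := algebraMap R S
  have key : ∀ (q : Ideal S) [q.IsPrime] (y : S), ∃ a s : R, s ∉ q.comap f ∧
      ∀ q' : Ideal S, q'.IsPrime → q'.comap f = q.comap f → f s * y - f a ∈ q' := by
    intro q _ y
    have hy : y ∈ Algebra.adjoin R {x : S | x ^ 2 ∈ Set.range f ∧ x ^ 3 ∈ Set.range f} := hgen ▸ Algebra.mem_top
    induction hy using Algebra.adjoin_induction with
    | mem x hx =>
      obtain ⟨⟨a, ha⟩, ⟨b, hb⟩⟩ := hx
      by_cases hap : a ∈ q.comap f
      · refine ⟨0, 1, fun h => (Ideal.IsPrime.comap f).ne_top ((Ideal.eq_top_iff_one _).mpr h), fun q' hq' he => ?_⟩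
        rw [map_one, one_mul, map_zero, sub_zero]
        have : x ^ 2 ∈ q' := by rw [← ha]; exact (he ▸ hap : a ∈ q'.comap f)
        exact hq'.mem_of_pow_mem 2 this
      · refine ⟨b, a, hap, fun q' _ _ => ?_⟩
        rw [ha, hb, show x ^ 2 * x - x ^ 3 = 0 by ring]
        exact q'.zero_mem
    | algebraMap r =>
      refine ⟨r, 1, fun h => (Ideal.IsPrime.comap f).ne_top ((Ideal.eq_top_iff_one _).mpr h), fun q' _ _ => ?_⟩
      rw [map_one, one_mul, sub_self]; exact q'.zero_mem
    | add x y _ _ hx hy =>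
      obtain ⟨a, s, hs, h⟩ := hx; obtain ⟨b, t, ht, h'⟩ := hy
      refine ⟨t * a + s * b, s * t, fun hm => ((Ideal.IsPrime.comap f).mem_or_mem hm).elim hs ht, fun q' hq he => ?_⟩
      have : f (s * t) * (x + y) - f (t * a + s * b) = f t * (f s * x - f a) + f s * (f t * y - f b) := by
        simp only [map_mul, map_add]; ring
      rw [this]
      exact add_mem (q'.mul_mem_left _ (h q' hq he)) (q'.mul_mem_left _ (h' q' hq he))
    | mul x y _ _ hx hy =>
      obtain ⟨a, s, hs, h⟩ := hx; obtain ⟨b, t, ht, h'⟩ := hy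
      refine ⟨a * b, s * t, fun hm => ((Ideal.IsPrime.comap f).mem_or_mem hm).elim hs ht, fun q' hq he => ?_⟩
      have : f (s * t) * (x * y) - f (a * b) = (f s * x) * (f t * y - f b) + f b * (f s * x - f a) := by
        simp only [map_mul]; ring
      rw [this]
      exact add_mem (q'.mul_mem_left _ (h' q' hq he)) (q'.mul_mem_left _ (h q' hq he))
  refine ⟨isHomeomorph_iff_continuous_isClosedMap_bijective.mpr ⟨PrimeSpectrum.continuous_comap f, ?_, ?_, ?_⟩, fun q _ => ⟨RingHom.injective _, fun z => ?_⟩⟩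
  · refine PrimeSpectrum.isClosedMap_comap_of_isIntegral f fun y => ?_
    have hle : Algebra.adjoin R {x : S | x ^ 2 ∈ Set.range f ∧ x ^ 3 ∈ Set.range f} ≤ integralClosure R S :=
      Algebra.adjoin_le fun x hx => by
        obtain ⟨⟨a, ha⟩, -⟩ := hx
        exact ⟨Polynomial.X ^ 2 - Polynomial.C a, Polynomial.monic_X_pow_sub_C _ two_ne_zero, by simp [f] at ha ⊢; rw [ha, sub_self]⟩
    exact hle (hgen ▸ Algebra.mem_top)
  · intro P Q hPQ
    have he : Q.asIdeal.comap f = P.asIdeal.comap f := congrArg PrimeSpectrum.asIdeal hPQ.symm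
    refine PrimeSpectrum.ext (Ideal.ext fun y => ?_)
    obtain ⟨a, s, hs, h⟩ := key P.asIdeal y
    have h1 := h _ P.2 rfl
    have h2 := h _ Q.2 he
    have hiff : ∀ (T : Ideal S), T.IsPrime → T.comap f = P.asIdeal.comap f → f s * y - f a ∈ T → (y ∈ T ↔ a ∈ P.asIdeal.comap f) := by
      intro T hT hTe hm
      rw [← hTe]
      refine ⟨fun hy => ?_, fun ha => ?_⟩
      · show f a ∈ T
        simpa using sub_mem (T.mul_mem_left (f s) hy) hm
      · have : f s * y ∈ T := by simpa using add_mem hm (show f a ∈ T from ha)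
        exact (hT.mem_or_mem this).resolve_left fun h' => hs (hTe ▸ (h' : s ∈ T.comap f))
    rw [hiff _ P.2 rfl h1, hiff _ Q.2 he h2]
  · have hd : DenseRange (PrimeSpectrum.comap f) :=
      (PrimeSpectrum.denseRange_comap_iff_ker_le_nilRadical f).mpr fun r hr => hker r hr
    have hc : IsClosed (Set.range (PrimeSpectrum.comap f)) := by
      refine (PrimeSpectrum.isClosedMap_comap_of_isIntegral f fun y => ?_).isClosed_range
      have hle : Algebra.adjoin R {x : S | x ^ 2 ∈ Set.range f ∧ x ^ 3 ∈ Set.range f} ≤ integralClosure R S :=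
        Algebra.adjoin_le fun x hx => by
          obtain ⟨⟨a, ha⟩, -⟩ := hx
          exact ⟨Polynomial.X ^ 2 - Polynomial.C a, Polynomial.monic_X_pow_sub_C _ two_ne_zero, by simp [f] at ha ⊢; rw [ha, sub_self]⟩
      exact hle (hgen ▸ Algebra.mem_top)
    exact Set.range_eq_univ.mp (hc.closure_eq ▸ hd.closure_range)
  · obtain ⟨⟨y, hy⟩⟩ : Nonempty {p : S × S // p.2 ∉ q ∧ z = algebraMap S _ p.1 / algebraMap S _ p.2} := by
      obtain ⟨a, b, hb, rfl⟩ := IsFractionRing.div_surjective (A := S ⧸ q) z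
      obtain ⟨a, rfl⟩ := Ideal.Quotient.mk_surjective a
      obtain ⟨b, rfl⟩ := Ideal.Quotient.mk_surjective b
      exact ⟨⟨(a, b), fun h => nonZeroDivisors.ne_zero hb (Ideal.Quotient.eq_zero_iff_mem.mpr h), rfl⟩⟩
    obtain ⟨y₁, y₂⟩ := y
    obtain ⟨hy2, rfl⟩ := hy
    have hr : ∀ w : S, ∃ v, Ideal.ResidueField.map (q.comap f) q f rfl v = algebraMap S q.ResidueField w := fun w => by
      obtain ⟨a, s, hs, h⟩ := key q w
      refine ⟨algebraMap R _ a / algebraMap R _ s, ?_⟩
      rw [map_div₀, Ideal.ResidueField.map_algebraMap, Ideal.ResidueField.map_algebraMap]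
      have h1 : algebraMap S q.ResidueField (f s * w - f a) = 0 := Ideal.algebraMap_residueField_eq_zero.mpr (h q ‹_› rfl)
      rw [map_sub, map_mul, sub_eq_zero] at h1
      rw [← h1, mul_div_assoc, mul_comm, div_mul_cancel₀]
      exact fun h0 => hs (show f s ∈ q from Ideal.algebraMap_residueField_eq_zero.mp h0)
    obtain ⟨v₁, hv₁⟩ := hr y₁
    obtain ⟨v₂, hv₂⟩ := hr y₂
    exact ⟨v₁ / v₂, by rw [map_div₀, hv₁, hv₂]⟩

end Groth.Agent.S9606
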