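import Groth.Statements.S9607
import Mathlib.Data.Nat.Choose.Sum
import Mathlib.RingTheory.MvPolynomial.Basic
import Mathlib.Tactic.Ring

set_option autoImplicit false
universe u
open CAlg

namespace Groth.Agent.S9607

/-- For a prime number p and integers n, m > 0 there exists an integer a such that (x + y)^(p^a) and p^a
(x + y) both belong to the subring ℤ[x^(p^n), p^n x, y^(p^m), p^m y] of the polynomial ring ℤ[x, y]. -/
theorem result (p : ℕ) (hp : p.Prime) (n m : ℕ) (hn : 0 < n) (hm : 0 < m) :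
    ∃ a : ℕ, ((MvPolynomial.X 0 + MvPolynomial.X 1 : MvPolynomial (Fin 2) ℤ) ^ (p ^ a) ∈ Algebra.adjoin ℤ ({MvPolynomial.X 0 ^ (p ^ n), (p : MvPolynomial (Fin 2) ℤ) ^ n * MvPolynomial.X 0, MvPolynomial.X 1 ^ (p ^ m), (p : MvPolynomial (Fin 2) ℤ) ^ m * MvPolynomial.X 1} : Set (MvPolynomial (Fin 2) ℤ)) ∧
      (p : MvPolynomial (Fin 2) ℤ) ^ a * (MvPolynomial.X 0 + MvPolynomial.X 1) ∈ Algebra.adjoin ℤ ({MvPolynomial.X 0 ^ (p ^ n), (p : MvPolynomial (Fin 2) ℤ) ^ n * MvPolynomial.X 0, MvPolynomial.X 1 ^ (p ^ m), (p : MvPolynomial (Fin 2) ℤ) ^ m * MvPolynomial.X 1} : Set (MvPolynomial (Fin 2) ℤ))) := by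
  set S : Subalgebra ℤ (MvPolynomial (Fin 2) ℤ) := Algebra.adjoin ℤ _ with hS
  have key : ∀ (n i c a : ℕ), ¬ p ^ n ∣ i → p ^ a ∣ i * c → p ^ (a - n) ∣ c := by
    intro n
    induction n with
    | zero => intro i c a h; simp at h
    | succ n ih =>
      intro i c a h1 h2
      by_cases hpi : p ∣ i
      · obtain ⟨i', rfl⟩ := hpi
        rcases a with _ | a
        · simp
        rw [Nat.succ_sub_succ]
        apply ih i' c a
        · intro h; exact h1 (by rw [pow_succ']; exact Nat.mul_dvd_mul_left p h)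
        · rw [pow_succ', mul_assoc] at h2
          exact Nat.dvd_of_mul_dvd_mul_left hp.pos h2
      · exact (Nat.pow_dvd_pow p (Nat.sub_le _ _)).trans
          (((hp.coprime_iff_not_dvd.mpr hpi).pow_left a).dvd_of_dvd_mul_left h2)
  have h1 : ∀ (k : ℕ) (v : MvPolynomial (Fin 2) ℤ), v ^ (p ^ k) ∈ S →
      ((p : MvPolynomial (Fin 2) ℤ) ^ k * v) ∈ S → ∀ e d, k * (e % p ^ k) ≤ d →
      (p : MvPolynomial (Fin 2) ℤ) ^ d * v ^ e ∈ S := by
    intro k v hv hv' e d hd
    have e1 : (p : MvPolynomial (Fin 2) ℤ) ^ d * v ^ e = (p : MvPolynomial (Fin 2) ℤ) ^ (d - k * (e % p ^ k)) *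
        (((p : MvPolynomial (Fin 2) ℤ) ^ k * v) ^ (e % p ^ k) * (v ^ (p ^ k)) ^ (e / p ^ k)) := by
      rw [mul_pow, ← pow_mul, ← pow_mul, ← mul_assoc, ← mul_assoc, ← pow_add, mul_assoc, ← pow_add,
        Nat.sub_add_cancel hd, Nat.mod_add_div]
    rw [e1]
    exact mul_mem (pow_mem (natCast_mem _ _) _) (mul_mem (pow_mem hv' _) (pow_mem hv _))
  let a := n + m + n * p ^ n + m * p ^ m
  refine ⟨a, ?_, ?_⟩
  · rw [add_pow]
    apply sum_mem
    intro i hi
    rw [Finset.mem_range, Nat.lt_succ_iff] at hi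
    set j := p ^ a - i with hj
    obtain ⟨t, ht⟩ : p ^ (n * (i % p ^ n) + m * (j % p ^ m)) ∣ (p ^ a).choose i := by
      by_cases hn' : p ^ n ∣ i
      · by_cases hm' : p ^ m ∣ j
        · simp [Nat.mod_eq_zero_of_dvd hn', Nat.mod_eq_zero_of_dvd hm']
        · rw [← Nat.choose_symm hi]
          refine (Nat.pow_dvd_pow p ?_).trans (key m j _ a hm' ?_)
          · have := Nat.mul_le_mul_left m (Nat.mod_lt j (pow_pos hp.pos m)).le
            simp only [Nat.mod_eq_zero_of_dvd hn', a]; omega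
          · obtain ⟨j', hj'⟩ : ∃ j', j = j' + 1 :=
              ⟨j - 1, (Nat.succ_pred_eq_of_ne_zero fun h => hm' (by rw [h]; exact dvd_zero _)).symm⟩
            have := Nat.add_one_mul_choose_eq (p ^ a - 1) j'
            rw [Nat.sub_add_cancel (pow_pos hp.pos a), ← hj'] at this
            rw [mul_comm]; exact ⟨_, this.symm⟩
      · refine (Nat.pow_dvd_pow p ?_).trans (key n i _ a hn' ?_)
        · have := Nat.mul_le_mul_left n (Nat.mod_lt i (pow_pos hp.pos n)).le
          have := Nat.mul_le_mul_left m (Nat.mod_lt j (pow_pos hp.pos m)).le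
          simp only [a]; omega
        · obtain ⟨i', hi'⟩ : ∃ i', i = i' + 1 :=
            ⟨i - 1, (Nat.succ_pred_eq_of_ne_zero fun h => hn' (by rw [h]; exact dvd_zero _)).symm⟩
          have := Nat.add_one_mul_choose_eq (p ^ a - 1) i'
          rw [Nat.sub_add_cancel (pow_pos hp.pos a), ← hi'] at this
          rw [mul_comm]; exact ⟨_, this.symm⟩
    rw [ht]
    have : ∀ (x y P : MvPolynomial (Fin 2) ℤ) (u v : ℕ), x * y * (P ^ (u + v) * (t : MvPolynomial (Fin 2) ℤ)) =
        (P ^ u * x) * (P ^ v * y) * (t : MvPolynomial (Fin 2) ℤ) := by intros; ring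
    push_cast
    rw [this]
    exact mul_mem (mul_mem
      (h1 n _ (Algebra.subset_adjoin (by simp)) (Algebra.subset_adjoin (by simp)) _ _ le_rfl)
      (h1 m _ (Algebra.subset_adjoin (by simp)) (Algebra.subset_adjoin (by simp)) _ _ le_rfl))
      (natCast_mem _ _)
  · rw [mul_add]
    refine add_mem ?_ ?_
    · have := h1 n (MvPolynomial.X 0) (Algebra.subset_adjoin (by simp)) (Algebra.subset_adjoin (by simp)) 1 a (by
        have := Nat.mul_le_mul_left n (Nat.mod_lt 1 (pow_pos hp.pos n)).le; simp only [a]; omega)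
      simpa using this
    · have := h1 m (MvPolynomial.X 1) (Algebra.subset_adjoin (by simp)) (Algebra.subset_adjoin (by simp)) 1 a (by
        have := Nat.mul_le_mul_left m (Nat.mod_lt 1 (pow_pos hp.pos m)).le; simp only [a]; omega)
      simpa using this

end Groth.Agent.S9607
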