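import Groth.Statements.S9608
import Mathlib.FieldTheory.PurelyInseparable.PerfectClosure

set_option autoImplicit false
universe u
open CAlg

namespace Groth.Agent.S9608

/-- Let k'/k be a field extension and p a prime number. Then k' is generated over k by elements x for
which some n > 0 has x^(p^n) ∈ k and p^n x ∈ k, if and only if either k' = k, or k has
characteristic p and k'/k is purely inseparable. -/
theorem result {k k' : Type u} [Field k] [Field k'] [Algebra k k'] (p : ℕ) (hp : p.Prime) :
    IntermediateField.adjoin k {x : k' | ∃ n : ℕ, 0 < n ∧ x ^ (p ^ n) ∈ Set.range (algebraMap k k') ∧ (p : k') ^ n * x ∈ Set.range (algebraMap k k')} = ⊤ ↔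
      (Function.Surjective (algebraMap k k') ∨ (CharP k p ∧ IsPurelyInseparable k k')) := by
  classical
  constructor
  · intro h
    by_cases hp0 : (p : k) = 0
    · haveI : CharP k p := (CharP.charP_iff_prime_eq_zero hp).mpr hp0
      haveI : ExpChar k p := ExpChar.prime hp
      refine Or.inr ⟨inferInstance, (isPurelyInseparable_iff_perfectClosure_eq_top).mpr ?_⟩
      rw [eq_top_iff, ← h, IntermediateField.adjoin_le_iff]
      rintro x ⟨n, -, hx, -⟩
      exact (mem_perfectClosure_iff_pow_mem p).mpr ⟨n, hx⟩
    · refine Or.inl fun y => ?_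
      have hbot : IntermediateField.adjoin k {x : k' | ∃ n : ℕ, 0 < n ∧ x ^ (p ^ n) ∈ Set.range (algebraMap k k') ∧ (p : k') ^ n * x ∈ Set.range (algebraMap k k')} ≤ ⊥ := by
        rw [IntermediateField.adjoin_le_iff]
        rintro x ⟨n, -, -, a, ha⟩
        refine IntermediateField.mem_bot.mpr ⟨a / (p : k) ^ n, ?_⟩
        have hpn : ((p : k') ^ n) ≠ 0 := by
          rw [← map_natCast (algebraMap k k'), ← map_pow]
          exact (map_ne_zero _).mpr (pow_ne_zero n hp0)
        rw [map_div₀, map_pow, map_natCast, ha, mul_div_cancel_left₀ _ hpn]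
      rw [h] at hbot
      exact IntermediateField.mem_bot.mp (hbot trivial)
  · rintro (h | ⟨hc, hpi⟩)
    · rw [eq_top_iff]
      intro y _
      obtain ⟨a, rfl⟩ := h y
      exact IntermediateField.algebraMap_mem _ a
    · haveI := hc
      haveI := hpi
      haveI : ExpChar k p := ExpChar.prime hp
      rw [eq_top_iff]
      intro y _
      obtain ⟨n, b, hb⟩ := (isPurelyInseparable_iff_pow_mem k p).mp hpi y
      refine IntermediateField.subset_adjoin _ _ ⟨n + 1, n.succ_pos, ⟨b ^ p, ?_⟩, 0, ?_⟩
      · rw [map_pow, hb, ← pow_mul, ← pow_succ]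
      · have : (p : k') = 0 := by rw [← map_natCast (algebraMap k k'), CharP.cast_eq_zero, map_zero]
        rw [map_zero, this, zero_pow n.succ_ne_zero, zero_mul]

end Groth.Agent.S9608
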