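import Groth.Statements.S9609
import Mathlib.RingTheory.LocalRing.ResidueField.Ideal
import Mathlib.FieldTheory.PurelyInseparable.Basic
import Mathlib.FieldTheory.IsAlgClosed.AlgebraicClosure
import Mathlib.RingTheory.Spectrum.Prime.Basic
import Mathlib.RingTheory.Flat.Basic

set_option autoImplicit false
universe u
open CAlg

namespace Groth.Agent.S9609

open TensorProduct

section
variable {A : Type u} [CommRing A] {K : Type u} [Field K] (q : Ideal A) [q.IsPrime]

theorem exists_lift (g : A →+* K) (h : RingHom.ker g = q) :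
    ∃ g' : q.ResidueField →+* K, ∀ a, g' (algebraMap A q.ResidueField a) = g a := by
  have hinj : Function.Injective (Ideal.Quotient.lift q g fun a ha => by rwa [← RingHom.mem_ker, h]) :=
    RingHom.lift_injective_of_ker_le_ideal q _ h.le
  refine ⟨IsFractionRing.lift (A := A ⧸ q) (K := q.ResidueField) hinj, fun a => ?_⟩
  rw [← Ideal.algebraMap_quotient_residueField_mk, IsFractionRing.lift_algebraMap, Ideal.Quotient.lift_mk]

theorem residueField_ext {g₁ g₂ : q.ResidueField →+* K}
    (h : ∀ a, g₁ (algebraMap A q.ResidueField a) = g₂ (algebraMap A q.ResidueField a)) : g₁ = g₂ := by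
  refine IsLocalization.ringHom_ext (nonZeroDivisors (A ⧸ q)) (RingHom.ext fun a => ?_)
  obtain ⟨a, rfl⟩ := Ideal.Quotient.mk_surjective a
  exact h a

end

variable {R S R' : Type u} [CommRing R] [CommRing S] [CommRing R'] [Algebra R S] [Algebra R R']

/-- Two field valued points which agree on the base are equal. -/
def Unique' (R S : Type u) [CommRing R] [CommRing S] [Algebra R S] : Prop :=
  ∀ (K : Type u) [Field K] (g₁ g₂ : S →+* K),
    g₁.comp (algebraMap R S) = g₂.comp (algebraMap R S) → g₁ = g₂

theorem hom_unique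
    (hinj : Function.Injective (PrimeSpectrum.comap (algebraMap R S)))
    (hpi : ∀ (q : Ideal S) [q.IsPrime] (x : q.ResidueField), ∃ n : ℕ, x ^ (ringExpChar (q.comap (algebraMap R S)).ResidueField) ^ n ∈ Set.range (Ideal.ResidueField.map (q.comap (algebraMap R S)) q (algebraMap R S) rfl)) :
    Unique' R S := by
  intro K _ g₁ g₂ hg
  have h1 : (RingHom.ker g₁).IsPrime := RingHom.ker_isPrime g₁
  have h2 : (RingHom.ker g₂).IsPrime := RingHom.ker_isPrime g₂
  have hq : RingHom.ker g₂ = RingHom.ker g₁ := by
    refine congrArg PrimeSpectrum.asIdeal (hinj (a₁ := ⟨_, h2⟩) (a₂ := ⟨_, h1⟩) (PrimeSpectrum.ext ?_))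
    ext r
    simp only [PrimeSpectrum.comap_asIdeal, Ideal.mem_comap, RingHom.mem_ker]
    rw [← RingHom.comp_apply, ← hg, RingHom.comp_apply]
  obtain ⟨f₁, hf₁⟩ := exists_lift (RingHom.ker g₁) g₁ rfl
  obtain ⟨f₂, hf₂⟩ := exists_lift (RingHom.ker g₁) g₂ hq
  set m := Ideal.ResidueField.map ((RingHom.ker g₁).comap (algebraMap R S)) (RingHom.ker g₁)
    (algebraMap R S) rfl with hm
  have hagree : f₁.comp m = f₂.comp m := by
    refine residueField_ext _ fun r => ?_
    rw [RingHom.comp_apply, RingHom.comp_apply, hm, Ideal.ResidueField.map_algebraMap, hf₁, hf₂]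
    exact RingHom.congr_fun hg r
  suffices f₁ = f₂ by
    ext s
    rw [← hf₁, this, hf₂]
  refine RingHom.ext fun x => ?_
  obtain ⟨n, y, hy⟩ := hpi (RingHom.ker g₁) x
  set P := ringExpChar ((RingHom.ker g₁).comap (algebraMap R S)).ResidueField
  haveI : ExpChar K P := expChar_of_injective_ringHom (f₁.comp m).injective P
  apply iterateFrobenius_inj K P n
  rw [iterateFrobenius_def, iterateFrobenius_def, ← map_pow, ← map_pow, ← hy]
  exact RingHom.congr_fun hagree y

theorem baseChange_unique (key : Unique' R S) : Unique' R' (R' ⊗[R] S) := by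
  intro K _ g₁ g₂ hg
  have h : g₁.comp (Algebra.TensorProduct.includeRight (R := R) (A := R') (B := S)).toRingHom =
      g₂.comp (Algebra.TensorProduct.includeRight (R := R) (A := R') (B := S)).toRingHom := by
    refine key K _ _ (RingHom.ext fun r => ?_)
    have := RingHom.congr_fun hg (algebraMap R R' r)
    simpa [RingHom.comp_apply, Algebra.TensorProduct.algebraMap_apply,
      ← Algebra.TensorProduct.tmul_one_eq_one_tmul] using this
  refine RingHom.ext fun z => ?_
  induction z using TensorProduct.induction_on with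
  | zero => simp
  | tmul a b =>
      have e : a ⊗ₜ[R] b = algebraMap R' (R' ⊗[R] S) a * (1 ⊗ₜ b) := by
        rw [Algebra.TensorProduct.algebraMap_apply, Algebra.TensorProduct.tmul_mul_tmul]; simp
      rw [e, map_mul, map_mul]
      exact congrArg₂ (· * ·) (RingHom.congr_fun hg a) (RingHom.congr_fun h b)
  | add x y hx hy => rw [map_add, map_add, hx, hy]

theorem baseChange_injective (key : Unique' R S) :
    Function.Injective (PrimeSpectrum.comap (algebraMap R' (R' ⊗[R] S))) := by
  intro q₁ q₂ h
  let p := (PrimeSpectrum.comap (algebraMap R' (R' ⊗[R] S)) q₁).asIdeal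
  have h₂ : p = q₂.asIdeal.comap (algebraMap R' (R' ⊗[R] S)) := congrArg PrimeSpectrum.asIdeal h
  let m₁ := Ideal.ResidueField.map p q₁.asIdeal (algebraMap R' (R' ⊗[R] S)) rfl
  let m₂ := Ideal.ResidueField.map p q₂.asIdeal (algebraMap R' (R' ⊗[R] S)) h₂
  letI := m₁.toAlgebra
  letI := m₂.toAlgebra
  let i₁ : q₁.asIdeal.ResidueField →ₐ[p.ResidueField] (q₁.asIdeal.ResidueField ⊗[p.ResidueField] q₂.asIdeal.ResidueField) :=
    Algebra.TensorProduct.includeLeft
  let i₂ : q₂.asIdeal.ResidueField →ₐ[p.ResidueField] (q₁.asIdeal.ResidueField ⊗[p.ResidueField] q₂.asIdeal.ResidueField) :=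
    Algebra.TensorProduct.includeRight
  haveI : Nontrivial (q₁.asIdeal.ResidueField ⊗[p.ResidueField] q₂.asIdeal.ResidueField) :=
    (Module.Flat.rTensor_preserves_injective_linearMap (M := q₂.asIdeal.ResidueField) (Algebra.linearMap p.ResidueField q₁.asIdeal.ResidueField) (algebraMap p.ResidueField q₁.asIdeal.ResidueField).injective |>.comp (TensorProduct.lid p.ResidueField _).symm.injective).nontrivial
  obtain ⟨M, hM⟩ := Ideal.exists_maximal (q₁.asIdeal.ResidueField ⊗[p.ResidueField] q₂.asIdeal.ResidueField)
  letI := Ideal.Quotient.field M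
  let j₁ := (Ideal.Quotient.mk M).comp i₁.toRingHom
  let j₂ := (Ideal.Quotient.mk M).comp i₂.toRingHom
  have e := baseChange_unique key _ (j₁.comp (algebraMap (R' ⊗[R] S) q₁.asIdeal.ResidueField))
    (j₂.comp (algebraMap (R' ⊗[R] S) q₂.asIdeal.ResidueField)) (RingHom.ext fun r => by
      have e1 : algebraMap (R' ⊗[R] S) q₁.asIdeal.ResidueField (algebraMap R' _ r) =
          algebraMap p.ResidueField q₁.asIdeal.ResidueField (algebraMap R' p.ResidueField r) :=
        (Ideal.ResidueField.map_algebraMap _ _ _ _ r).symm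
      have e2 : algebraMap (R' ⊗[R] S) q₂.asIdeal.ResidueField (algebraMap R' _ r) =
          algebraMap p.ResidueField q₂.asIdeal.ResidueField (algebraMap R' p.ResidueField r) :=
        (Ideal.ResidueField.map_algebraMap _ _ _ _ r).symm
      simp only [RingHom.comp_apply]
      rw [e1, e2]
      exact congrArg (Ideal.Quotient.mk M) ((i₁.commutes _).trans (i₂.commutes _).symm))
  have := congrArg RingHom.ker e
  rw [← RingHom.comap_ker, ← RingHom.comap_ker j₂, (RingHom.injective_iff_ker_eq_bot j₁).1 j₁.injective,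
    (RingHom.injective_iff_ker_eq_bot j₂).1 j₂.injective, ← RingHom.ker_eq_comap_bot,
    ← RingHom.ker_eq_comap_bot, Ideal.ker_algebraMap_residueField, Ideal.ker_algebraMap_residueField] at this
  exact PrimeSpectrum.ext this

theorem baseChange_pow (key : Unique' R S) (q' : Ideal (R' ⊗[R] S)) [q'.IsPrime] (x : q'.ResidueField) :
    ∃ n : ℕ, x ^ (ringExpChar (q'.comap (algebraMap R' (R' ⊗[R] S))).ResidueField) ^ n ∈ Set.range (Ideal.ResidueField.map (q'.comap (algebraMap R' (R' ⊗[R] S))) q' (algebraMap R' (R' ⊗[R] S)) rfl) := by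
  let p := q'.comap (algebraMap R' (R' ⊗[R] S))
  let m := Ideal.ResidueField.map p q' (algebraMap R' (R' ⊗[R] S)) rfl
  letI := m.toAlgebra
  have : IsPurelyInseparable p.ResidueField q'.ResidueField := by
    rw [isPurelyInseparable_iff_subsingleton_emb]
    refine ⟨fun σ₁ σ₂ => AlgHom.coe_ringHom_injective (residueField_ext q' fun z => ?_)⟩
    refine RingHom.congr_fun (baseChange_unique key _
      ((AlgHom.toRingHom σ₁).comp (algebraMap (R' ⊗[R] S) q'.ResidueField))
      ((AlgHom.toRingHom σ₂).comp (algebraMap (R' ⊗[R] S) q'.ResidueField)) (RingHom.ext fun r => ?_)) z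
    have e1 : algebraMap (R' ⊗[R] S) q'.ResidueField (algebraMap R' _ r) =
        algebraMap p.ResidueField q'.ResidueField (algebraMap R' p.ResidueField r) :=
      (Ideal.ResidueField.map_algebraMap _ _ _ _ r).symm
    simp only [RingHom.comp_apply]
    rw [e1]
    exact (σ₁.commutes _).trans (σ₂.commutes _).symm
  exact (isPurelyInseparable_iff_pow_mem p.ResidueField (ringExpChar p.ResidueField)).1 this x

open TensorProduct in
/-- Let R → S be a ring map which is injective on spectra and whose residue field extensions κ(p) → κ(q)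
(q a prime of S with inverse image p) are purely inseparable: every element of κ(q) has a power with
exponent a power of the characteristic exponent lying in the image of κ(p). Then, given an arbitrary
R-algebra R', the induced map R' → R' ⊗_R S is likewise injective on spectra and has purely
inseparable residue field extensions. -/
theorem result {R S R' : Type u} [CommRing R] [CommRing S] [CommRing R'] [Algebra R S] [Algebra R R']
    (hinj : Function.Injective (PrimeSpectrum.comap (algebraMap R S)))
    (hpi : ∀ (q : Ideal S) [q.IsPrime] (x : q.ResidueField), ∃ n : ℕ, x ^ (ringExpChar (q.comap (algebraMap R S)).ResidueField) ^ n ∈ Set.range (Ideal.ResidueField.map (q.comap (algebraMap R S)) q (algebraMap R S) rfl)) :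
    Function.Injective (PrimeSpectrum.comap (algebraMap R' (R' ⊗[R] S))) ∧
      ∀ (q' : Ideal (R' ⊗[R] S)) [q'.IsPrime] (x : q'.ResidueField), ∃ n : ℕ, x ^ (ringExpChar (q'.comap (algebraMap R' (R' ⊗[R] S))).ResidueField) ^ n ∈ Set.range (Ideal.ResidueField.map (q'.comap (algebraMap R' (R' ⊗[R] S))) q' (algebraMap R' (R' ⊗[R] S)) rfl) := by
  have key := hom_unique hinj hpi
  exact ⟨baseChange_injective (R' := R') key, baseChange_pow (R' := R') key⟩

end Groth.Agent.S9609
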