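import Groth.Statements.S9610
import Mathlib.LinearAlgebra.Dimension.Basic
import Mathlib.RingTheory.Polynomial.Basic
import Mathlib.LinearAlgebra.Dimension.StrongRankCondition
import Mathlib.Algebra.Polynomial.BigOperators

set_option autoImplicit false
universe u
open CAlg

namespace Groth.Agent.S9610

/-- Let k be a field and V a nonzero k-vector space with dim_k V < #k as cardinals. Then every k-linear
endomorphism T of V admits a monic polynomial P over k for which P(T) is not invertible. -/
theorem result {k V : Type u} [Field k] [AddCommGroup V] [Module k V] [Nontrivial V] (hV : Module.rank k V < Cardinal.mk k) (T : Module.End k V) :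
    ∃ P : Polynomial k, P.Monic ∧ ¬ IsUnit (Polynomial.aeval T P) := by
  classical
  by_contra! hno
  obtain ⟨v, hv⟩ := exists_ne (0 : V)
  have hunit : ∀ a : k, IsUnit (Polynomial.aeval T (Polynomial.X - Polynomial.C a)) :=
    fun a => hno _ (Polynomial.monic_X_sub_C a)
  choose w hw using fun a => ((Module.End.isUnit_iff _).1 (hunit a)).2 v
  have hind : LinearIndependent k w := by
    rw [linearIndependent_iff']
    intro s c hc a ha
    let Q : Polynomial k := ∑ b ∈ s, Polynomial.C (c b) * ∏ d ∈ s.erase b, (Polynomial.X - Polynomial.C d)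
    have hQv : Polynomial.aeval T Q v = 0 := by
      have hall : Polynomial.aeval T (∏ d ∈ s, (Polynomial.X - Polynomial.C d)) (∑ b ∈ s, c b • w b) = 0 := by
        rw [hc, map_zero]
      rw [map_sum] at hall
      rw [map_sum, LinearMap.sum_apply]
      refine (Finset.sum_congr rfl fun b hb => ?_).trans hall
      rw [map_mul, Polynomial.aeval_C, Module.End.mul_apply, Module.algebraMap_end_apply, map_smul,
        ← Finset.prod_erase_mul s _ hb, map_mul, Module.End.mul_apply, hw b]
    have hQa : Q.eval a = c a * ∏ d ∈ s.erase a, (a - d) := by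
      simp only [Q, Polynomial.eval_finsetSum, Polynomial.eval_mul, Polynomial.eval_C, Polynomial.eval_prod,
        Polynomial.eval_sub, Polynomial.eval_X]
      refine Finset.sum_eq_single a (fun b hb hba => ?_) (fun h => absurd ha h)
      rw [Finset.prod_eq_zero (i := a) (Finset.mem_erase.2 ⟨Ne.symm hba, ha⟩) (sub_self a), mul_zero]
    by_contra hca
    have hQ0 : Q ≠ 0 := fun h0 => by
      rw [h0, Polynomial.eval_zero] at hQa
      exact mul_ne_zero hca (Finset.prod_ne_zero_iff.2 fun d hd => sub_ne_zero.2 (Finset.ne_of_mem_erase hd).symm) hQa.symm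
    have hu := hno _ (Polynomial.monic_mul_leadingCoeff_inv hQ0)
    have hz : Polynomial.aeval T (Q * Polynomial.C Q.leadingCoeff⁻¹) v = 0 := by
      rw [mul_comm, map_mul, Module.End.mul_apply, hQv, map_zero]
    exact hv (((Module.End.isUnit_iff _).1 hu).1 (hz.trans (map_zero _).symm))
  exact not_le.2 hV (by simpa using hind.cardinal_lift_le_rank)

end Groth.Agent.S9610
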