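import Groth.Statements.S9611
import Mathlib.RingTheory.Jacobson.Ring
import Mathlib.RingTheory.Spectrum.Prime.Basic

set_option autoImplicit false
universe u
open CAlg

namespace Groth.Agent.S9611

/-- Let R be a Jacobson ring, p a prime ideal of R which is not maximal, and f an element of R not in p.
Then the set of primes of R containing p and not containing f is infinite. -/
theorem result {R : Type u} [CommRing R] [IsJacobsonRing R] (p : Ideal R) [p.IsPrime] (hp : ¬ p.IsMaximal) (f : R) (hf : f ∉ p) :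
    {q : PrimeSpectrum R | p ≤ q.asIdeal ∧ f ∉ q.asIdeal}.Infinite := by
  classical
  intro hfin
  let T := hfin.toFinset.filter fun q => q.asIdeal ≠ p
  have hg : ∀ q : T, ∃ g, g ∈ q.1.asIdeal ∧ g ∉ p := fun q => by
    obtain ⟨hq, hne⟩ := Finset.mem_filter.1 q.2
    exact SetLike.not_le_iff_exists.1 fun hle => hne (le_antisymm hle ((Set.Finite.mem_toFinset hfin).1 hq).1)
  choose g hg hgp using hg
  have hG : f * ∏ q : T, g q ∉ p := fun hc => by
    rcases Ideal.IsPrime.mem_or_mem ‹_› hc with h | h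
    · exact hf h
    · obtain ⟨q, -, hq⟩ := (Ideal.IsPrime.prod_mem_iff (p := p)).1 h
      exact hgp q hq
  have hj : p.jacobson = p := (inferInstance : IsJacobsonRing R).out (Ideal.IsPrime.isRadical ‹_›)
  rw [← hj, Ideal.jacobson, Ideal.mem_sInf] at hG
  push_neg at hG
  obtain ⟨m, ⟨hpm, hm⟩, hGm⟩ := hG
  have hmem : (⟨m, hm.isPrime⟩ : PrimeSpectrum R) ∈ T :=
    Finset.mem_filter.2 ⟨(Set.Finite.mem_toFinset hfin).2 ⟨hpm, fun h => hGm (m.mul_mem_right _ h)⟩,
      fun h => hp (h ▸ hm)⟩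
  exact hGm (m.mul_mem_left _ (Ideal.prod_mem m (Finset.mem_univ ⟨_, hmem⟩) (hg ⟨_, hmem⟩)))

end Groth.Agent.S9611
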