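import Groth.Statements.S9613
import Mathlib.RingTheory.Jacobson.Ring
import Mathlib.RingTheory.Localization.FractionRing
import Mathlib.RingTheory.Algebraic.Integral
import Mathlib.RingTheory.IntegralClosure.IntegrallyClosed
import Mathlib.RingTheory.Localization.Away.Basic

set_option autoImplicit false
universe u
open CAlg

namespace Groth.Agent.S9613

/-- Let R → K be an injective ring map into a field K which makes K an R-algebra of finite type. Then
for some nonzero f ∈ R the localization R_f is a field over which K is finite; here R_f is realised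
as the R-subalgebra of K that is a localization of R away from f. -/
theorem result {R K : Type u} [CommRing R] [Field K] [Algebra R K] (hinj : Function.Injective (algebraMap R K)) [Algebra.FiniteType R K] :
    ∃ f : R, f ≠ 0 ∧ ∃ Rf : Subalgebra R K, IsLocalization.Away f Rf ∧ IsField Rf ∧ Module.Finite Rf K := by
  classical
  have hR : IsDomain R := hinj.isDomain
  have : Module.IsTorsionFree R K := Module.isTorsionFree_iff_algebraMap_injective.2 hinj
  have : FaithfulSMul R K := (faithfulSMul_iff_algebraMap_injective R K).2 hinj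
  let : Algebra (FractionRing R) K := FractionRing.liftAlgebra R K
  have : Algebra.FiniteType (FractionRing R) K := Algebra.FiniteType.of_restrictScalars_finiteType R (FractionRing R) K
  have : Module.Finite (FractionRing R) K := finite_of_finite_type_of_isJacobsonRing _ _
  obtain ⟨G, hG⟩ := (inferInstance : Algebra.FiniteType R K).out
  have h1 : ∀ x : K, ∃ a : R, a ≠ 0 ∧ IsIntegral R (a • x) := fun x =>
    ((IsFractionRing.isAlgebraic_iff R (FractionRing R) K).2 (Algebra.IsAlgebraic.isAlgebraic x)).exists_integral_multiple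
  choose a ha hint using h1
  let f := ∏ x ∈ G, a x
  have hf : f ≠ 0 := Finset.prod_ne_zero_iff.2 fun x _ => ha x
  have hfK : algebraMap R K f ≠ 0 := (map_ne_zero_iff _ hinj).2 hf
  let Rf : Subalgebra R K := Algebra.adjoin R {(algebraMap R K f)⁻¹}
  have hu : (algebraMap R K f)⁻¹ ∈ Rf := Algebra.subset_adjoin rfl
  have hsurj : ∀ y ∈ Rf, ∃ (r : R) (n : ℕ), y * algebraMap R K f ^ n = algebraMap R K r := by
    intro y hy
    induction hy using Algebra.adjoin_induction with
    | mem x hx => exact ⟨1, 1, by rw [Set.mem_singleton_iff.1 hx, pow_one, inv_mul_cancel₀ hfK, map_one]⟩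
    | algebraMap r => exact ⟨r, 0, by rw [pow_zero, mul_one]⟩
    | add x y _ _ hx hy =>
      obtain ⟨r, n, hr⟩ := hx
      obtain ⟨s, m, hs⟩ := hy
      exact ⟨r * f ^ m + s * f ^ n, n + m, by rw [map_add, map_mul, map_mul, map_pow, map_pow, ← hr, ← hs, pow_add]; ring⟩
    | mul x y _ _ hx hy =>
      obtain ⟨r, n, hr⟩ := hx
      obtain ⟨s, m, hs⟩ := hy
      exact ⟨r * s, n + m, by rw [map_mul, ← hr, ← hs, pow_add]; ring⟩
  have hloc : IsLocalization.Away f Rf := by
    refine (isLocalization_iff _ _).2 ⟨?_, ?_, ?_⟩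
    · rintro ⟨_, n, rfl⟩
      refine IsUnit.of_mul_eq_one ⟨((algebraMap R K f)⁻¹) ^ n, pow_mem hu n⟩ (Subtype.ext ?_)
      show algebraMap R K (f ^ n) * _ = 1
      rw [map_pow, ← mul_pow, mul_inv_cancel₀ hfK, one_pow]
    · rintro ⟨y, hy⟩
      obtain ⟨r, n, hr⟩ := hsurj y hy
      exact ⟨(r, ⟨f ^ n, n, rfl⟩), Subtype.ext (by show y * algebraMap R K (f ^ n) = algebraMap R K r; rw [map_pow, hr])⟩
    · intro x y hxy
      exact ⟨1, by rw [hinj (congrArg Subtype.val hxy)]⟩
  have hint' : Algebra.IsIntegral Rf K := by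
    refine ⟨fun z => ?_⟩
    have hz : z ∈ Algebra.adjoin R (G : Set K) := hG ▸ trivial
    induction hz using Algebra.adjoin_induction with
    | mem x hx =>
      let c : Rf := ⟨algebraMap R K (∏ y ∈ G.erase x, a y) * (algebraMap R K f)⁻¹, Rf.mul_mem (Rf.algebraMap_mem _) hu⟩
      have h2 : IsIntegral Rf (c • (a x • x)) := ((hint x).tower_top).smul c
      convert h2 using 1
      show x = (algebraMap R K (∏ y ∈ G.erase x, a y) * (algebraMap R K f)⁻¹) * (a x • x)
      rw [Algebra.smul_def, mul_mul_mul_comm, mul_comm (algebraMap R K f)⁻¹ x, ← map_mul, Finset.prod_erase_mul _ _ hx,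
        mul_left_comm, mul_inv_cancel₀ hfK, mul_one]
    | algebraMap r => exact (isIntegral_algebraMap).tower_top
    | add x y _ _ hx hy => exact hx.add hy
    | mul x y _ _ hx hy => exact hx.mul hy
  have : Algebra.FiniteType Rf K := Algebra.FiniteType.of_restrictScalars_finiteType R Rf K
  exact ⟨f, hf, Rf, hloc, isField_of_isIntegral_of_isField (Subtype.val_injective) (Field.toIsField K), Algebra.IsIntegral.finite⟩

end Groth.Agent.S9613
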