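import Groth.Statements.S9614


set_option autoImplicit false
universe u
open CAlg

namespace Groth.Agent.S9614

/-- Let S be an ℕ-graded ring and M a finitely generated graded S-module, graded in nonnegative degrees
(the source allows all integer degrees). If x_1, …, x_n are homogeneous elements of M which generate
M modulo S₊ M (S₊ the irrelevant ideal), then x_1, …, x_n generate M. -/
theorem result {R S : Type u} [CommRing R] [CommRing S] [Algebra R S] (𝒜 : ℕ → Submodule R S) [GradedAlgebra 𝒜]
    (M : Type u) [AddCommGroup M] [Module R M] [Module S M] [IsScalarTower R S M] [Module.Finite S M] (ℳ : ℕ → Submodule R M) [DirectSum.Decomposition ℳ] [SetLike.GradedSMul 𝒜 ℳ]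
    {n : ℕ} (x : Fin n → M) (hx : ∀ i, SetLike.IsHomogeneousElem ℳ (x i))
    (h : Submodule.span S (Set.range x) ⊔ (HomogeneousIdeal.irrelevant 𝒜).toIdeal • (⊤ : Submodule S M) = ⊤) :
    Submodule.span S (Set.range x) = ⊤ := by
  classical
  choose e he using hx
  let N := Submodule.span S (Set.range x)
  have hpart : ∀ (a : S) (y : M) (d : ℕ), (∀ i j, i + j = d → ((DirectSum.decompose 𝒜 a i : S) • (DirectSum.decompose ℳ y j : M)) ∈ N) →
      (DirectSum.decompose ℳ (a • y) d : M) ∈ N := by
    intro a y d hd
    rw [← DirectSum.sum_support_decompose 𝒜 a, Finset.sum_smul, DirectSum.decompose_sum, DFinsupp.finsetSum_apply,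
      Submodule.coe_sum]
    refine sum_mem fun i _ => ?_
    rw [← DirectSum.sum_support_decompose ℳ y, Finset.smul_sum, DirectSum.decompose_sum, DFinsupp.finsetSum_apply,
      Submodule.coe_sum]
    refine sum_mem fun j _ => ?_
    have hij : (DirectSum.decompose 𝒜 a i : S) • (DirectSum.decompose ℳ y j : M) ∈ ℳ (i + j) :=
      SetLike.GradedSMul.smul_mem (A := 𝒜) (B := ℳ) (SetLike.coe_mem (DirectSum.decompose 𝒜 a i))
        (SetLike.coe_mem (DirectSum.decompose ℳ y j))
    by_cases h' : i + j = d
    · rw [DirectSum.decompose_of_mem_same ℳ (h' ▸ hij)]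
      exact hd i j h'
    · rw [DirectSum.decompose_of_mem_ne ℳ hij h']
      exact zero_mem _
  have hxd : ∀ (k : Fin n) (j : ℕ), (DirectSum.decompose ℳ (x k) j : M) ∈ N := by
    intro k j
    by_cases hj : e k = j
    · rw [DirectSum.decompose_of_mem_same ℳ (hj ▸ he k)]
      exact Submodule.subset_span ⟨k, rfl⟩
    · rw [DirectSum.decompose_of_mem_ne ℳ (he k) hj]
      exact zero_mem _
  have hNhom : ∀ y ∈ N, ∀ d, (DirectSum.decompose ℳ y d : M) ∈ N := by
    intro y hy
    induction hy using Submodule.span_induction with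
    | mem y hy => obtain ⟨k, rfl⟩ := hy; exact hxd k
    | zero => simp
    | add a b _ _ ha hb => intro d; simpa using add_mem (ha d) (hb d)
    | smul c a _ ha => intro d; exact hpart c a d fun i j _ => Submodule.smul_mem _ _ (ha j)
  have hdeg : ∀ (d : ℕ) (y : M), (DirectSum.decompose ℳ y d : M) ∈ N := by
    intro d
    induction d using Nat.strong_induction_on with
    | _ d ih =>
      intro y
      obtain ⟨u, hu, v, hv, rfl⟩ := Submodule.mem_sup.mp (h.symm ▸ Submodule.mem_top : y ∈ N ⊔ _)
      rw [DirectSum.decompose_add]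
      refine add_mem (hNhom u hu d) ?_
      refine Submodule.smul_induction_on hv (fun a ha z _ => hpart a z d fun i j hij => ?_) ?_
      · rcases Nat.eq_zero_or_pos i with rfl | hi
        · have ha' : GradedRing.proj 𝒜 0 a = 0 := (HomogeneousIdeal.mem_irrelevant_iff 𝒜 a).mp ha
          rw [show (DirectSum.decompose 𝒜 a 0 : S) = 0 from ha', zero_smul]
          exact zero_mem _
        · exact Submodule.smul_mem _ _ (ih j (by omega) z)
      · intro a b ha hb
        rw [DirectSum.decompose_add]
        exact add_mem ha hb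
  refine top_le_iff.mp fun y _ => ?_
  rw [← DirectSum.sum_support_decompose ℳ y]
  exact sum_mem fun d _ => hdeg d y

end Groth.Agent.S9614
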