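import Groth.Statements.S9615
import Mathlib

set_option autoImplicit false
universe u
open CAlg

namespace Groth.Agent.S9615

/-- Let R → S be a homomorphism of ℕ-graded rings, i.e. the structure map carries each graded piece R_i
into S_i. If an element s of S is integral over R, then each homogeneous component of s is integral
over R; so the integral closure of R in S is a graded subring of S. -/
theorem result {R S : Type u} [CommRing R] [CommRing S] [Algebra R S] (ℛ : ℕ → AddSubgroup R) [GradedRing ℛ] (𝒮 : ℕ → AddSubgroup S) [GradedRing 𝒮]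
    (hmap : ∀ i : ℕ, ∀ r ∈ ℛ i, algebraMap R S r ∈ 𝒮 i) (s : S) (hs : IsIntegral R s) (i : ℕ) :
    IsIntegral R ((DirectSum.decompose 𝒮 s i : 𝒮 i) : S) := by
  classical
  let mkψ : ∀ {T : Type u} [CommRing T] (𝒯 : ℕ → AddSubgroup T) [GradedRing 𝒯], T →+* Polynomial T :=
    fun {T} _ 𝒯 _ =>
      (DirectSum.toSemiring (fun j => (Polynomial.monomial j).toAddMonoidHom.comp (𝒯 j).subtype)
        (by simp [SetLike.coe_gOne]) (fun {i j} a b => by simp [SetLike.coe_gMul, Polynomial.monomial_mul_monomial])).comp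
        (DirectSum.decomposeRingEquiv 𝒯).toRingHom
  have hψ : ∀ {T : Type u} [CommRing T] (𝒯 : ℕ → AddSubgroup T) [GradedRing 𝒯] (j : ℕ) (x : T),
      x ∈ 𝒯 j → mkψ 𝒯 x = Polynomial.monomial j x := by
    intro T _ 𝒯 _ j x hx
    have : DirectSum.decomposeRingEquiv 𝒯 x = DirectSum.of (fun k => 𝒯 k) j ⟨x, hx⟩ :=
      DirectSum.decompose_of_mem 𝒯 hx
    simp [mkψ, this, DirectSum.toSemiring_of]
  have hcomm : ∀ r : R, mkψ 𝒮 (algebraMap R S r) = (mkψ ℛ r).map (algebraMap R S) := by
    intro r
    rw [← DirectSum.sum_support_decompose ℛ r]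
    simp only [map_sum, Polynomial.map_sum]
    refine Finset.sum_congr rfl fun j _ => ?_
    rw [hψ ℛ j _ (SetLike.coe_mem _), hψ 𝒮 j _ (hmap j _ (SetLike.coe_mem _)), Polynomial.map_monomial]
  have hcoeff : ∀ x : S, (mkψ 𝒮 x).coeff i = ((DirectSum.decompose 𝒮 x i : 𝒮 i) : S) := by
    intro x
    induction x using DirectSum.Decomposition.inductionOn 𝒮 with
    | zero => simp
    | @homogeneous j m =>
      rw [hψ 𝒮 j _ m.2, Polynomial.coeff_monomial]
      by_cases hji : j = i
      · subst hji; simp [DirectSum.decompose_of_mem_same 𝒮 m.2]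
      · rw [DirectSum.decompose_of_mem_ne 𝒮 m.2 hji]
        first | rw [if_neg hji] | rw [if_neg (Ne.symm hji)]
    | add a b ha hb => simp [map_add, ha, hb, DirectSum.decompose_add]
  obtain ⟨P, hPm, hP⟩ := hs
  letI : Algebra (Polynomial R) (Polynomial S) := Polynomial.algebra R S
  have hint : IsIntegral (Polynomial R) (mkψ 𝒮 s) := by
    refine ⟨P.map (mkψ ℛ), hPm.map _, ?_⟩
    rw [Polynomial.eval₂_map]
    have : (algebraMap (Polynomial R) (Polynomial S)).comp (mkψ ℛ) = (mkψ 𝒮).comp (algebraMap R S) := by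
      refine RingHom.ext fun r => ?_
      simp [hcomm, Polynomial.algebraMap_def]
    rw [this, ← Polynomial.hom_eval₂, hP, map_zero]
  have := Polynomial.isIntegral_iff_isIntegral_coeff.mp hint i
  rwa [hcoeff] at this

end Groth.Agent.S9615
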