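import Groth.Statements.S9616
import Groth.Agent.GrAvoid.Basic

set_option autoImplicit false
universe u
open CAlg Groth.Agent

namespace Groth.Agent.S9616

/-- Let S be an ℕ-graded ring, p_1, …, p_r homogeneous prime ideals of S and I ⊆ S₊ a homogeneous ideal
not contained in any p_i. Then there is a homogeneous element x ∈ I of positive degree with x ∉ p_i
for all i. -/
theorem result {R S : Type u} [CommRing R] [CommRing S] [Algebra R S] (𝒜 : ℕ → Submodule R S) [GradedAlgebra 𝒜]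
    {r : ℕ} (p : Fin r → HomogeneousIdeal 𝒜) (hp : ∀ i, (p i).toIdeal.IsPrime) (I : HomogeneousIdeal 𝒜) (hI : I ≤ HomogeneousIdeal.irrelevant 𝒜) (h : ∀ i, ¬ I ≤ p i) :
    ∃ x : S, ∃ d : ℕ, 0 < d ∧ x ∈ 𝒜 d ∧ x ∈ I ∧ ∀ i, x ∉ p i := by
  classical
  obtain ⟨z, n, hn, hz, hzI, hzp⟩ := GrAvoid.exists_notMem 𝒜 I.toIdeal I.isHomogeneous (Finset.univ.image fun i => (p i).toIdeal) (by
    intro q hq
    obtain ⟨i, -, rfl⟩ := Finset.mem_image.1 hq
    exact ⟨hp i, fun hle => h i (le_trans hI hle), h i⟩)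
  exact ⟨z, n, hn, hz, hzI, fun i => hzp _ (Finset.mem_image_of_mem _ (Finset.mem_univ i))⟩

end Groth.Agent.S9616
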