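import Groth.Statements.S9617
import Mathlib.RingTheory.Finiteness.Lattice
import Mathlib.RingTheory.Adjoin.Basic
import Mathlib.Algebra.Algebra.Subalgebra.Basic
import Mathlib.Data.Set.Finite.Basic
import Mathlib.Data.Fintype.Pi

set_option autoImplicit false
universe u
open CAlg

namespace Groth.Agent.S9617

/-- Let S be an ℕ-graded ring, presented as a graded algebra over a ring A mapping onto S₀, such that S
is of finite type over A, i.e. over S₀. If M is a finitely generated graded S-module, graded in
nonnegative degrees (the source allows all integer degrees), then each graded piece M_n is a finite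
module over A, i.e. over S₀. -/
theorem result {A S : Type u} [CommRing A] [CommRing S] [Algebra A S] (𝒜 : ℕ → Submodule A S) [GradedAlgebra 𝒜]
    (h0 : ∀ s ∈ 𝒜 0, s ∈ Set.range (algebraMap A S)) [Algebra.FiniteType A S]
    (M : Type u) [AddCommGroup M] [Module A M] [Module S M] [IsScalarTower A S M] [Module.Finite S M] (ℳ : ℕ → Submodule A M) [DirectSum.Decomposition ℳ] [SetLike.GradedSMul 𝒜 ℳ] (n : ℕ) :
    Module.Finite A (ℳ n) := by
  classical
  -- homogeneous generators of the algebra
  obtain ⟨s₀, hs₀⟩ := (inferInstance : Algebra.FiniteType A S).out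
  let T : Finset (ℕ × S) := s₀.biUnion fun x => (DirectSum.decompose 𝒜 x).support.image fun k =>
    (k, (DirectSum.decompose 𝒜 x k : S))
  have hT : ∀ t ∈ T, t.2 ∈ 𝒜 t.1 := by
    intro t ht
    obtain ⟨x, -, ht⟩ := Finset.mem_biUnion.mp ht
    obtain ⟨k, -, rfl⟩ := Finset.mem_image.mp ht
    exact SetLike.coe_mem _
  let P : Finset (ℕ × S) := T.filter fun t => 0 < t.1
  have hgen : Algebra.adjoin A ((fun t : ℕ × S => t.2) '' (P : Set (ℕ × S))) = ⊤ := by
    refine top_le_iff.mp (hs₀.ge.trans (Algebra.adjoin_le fun x hx => ?_))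
    rw [← DirectSum.sum_support_decompose 𝒜 x]
    refine sum_mem fun k hk => ?_
    rcases Nat.eq_zero_or_pos k with rfl | hk0
    · obtain ⟨a, ha⟩ := h0 _ (SetLike.coe_mem (DirectSum.decompose 𝒜 x 0))
      rw [← ha]
      exact Subalgebra.algebraMap_mem _ a
    · exact Algebra.subset_adjoin ⟨(k, _), Finset.mem_filter.mpr ⟨Finset.mem_biUnion.mpr
        ⟨x, hx, Finset.mem_image.mpr ⟨k, hk, rfl⟩⟩, hk0⟩, rfl⟩
  -- monomials
  let mon : (↥P → ℕ) → S := fun e => ∏ t, (t.1.2 : S) ^ e t
  let deg : (↥P → ℕ) → ℕ := fun e => ∑ t, e t * t.1.1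
  have hmon : ∀ e, mon e ∈ 𝒜 (deg e) := fun e =>
    SetLike.prod_mem_graded 𝒜 _ _ fun t _ => by
      simpa using SetLike.pow_mem_graded (e t) (hT _ (Finset.mem_filter.mp t.2).1)
  have hspan : Submodule.span A (Set.range mon) = ⊤ := by
    refine top_le_iff.mp ?_
    rw [← Algebra.top_toSubmodule, ← hgen, Algebra.adjoin_eq_span]
    refine Submodule.span_mono ?_
    intro x hx
    induction hx using Submonoid.closure_induction with
    | mem x hx =>
      obtain ⟨t, ht, rfl⟩ := hx
      refine ⟨Pi.single ⟨t, ht⟩ 1, ?_⟩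
      simp [mon, Pi.single_apply, pow_ite, Finset.prod_ite_eq']
    | one => exact ⟨0, by simp [mon]⟩
    | mul x y _ _ hx hy =>
      obtain ⟨e, rfl⟩ := hx
      obtain ⟨e', rfl⟩ := hy
      exact ⟨e + e', by simp [mon, pow_add, Finset.prod_mul_distrib]⟩
  have hfin : ∀ m, (𝒜 m).FG := by
    intro m
    have hF : {e : ↥P → ℕ | deg e = m}.Finite := by
      refine (Set.Finite.pi' fun _ : ↥P => Set.finite_Iic m).subset fun e he t => ?_
      have h1 : e t * t.1.1 ≤ m := he ▸ Finset.single_le_sum (f := fun t : ↥P => e t * t.1.1)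
        (fun _ _ => Nat.zero_le _) (Finset.mem_univ t)
      exact le_trans (Nat.le_mul_of_pos_right _ (Finset.mem_filter.mp t.2).2) h1
    refine ⟨(hF.image mon).toFinset, ?_⟩
    rw [Set.Finite.coe_toFinset]
    refine le_antisymm (Submodule.span_le.mpr ?_) fun x hx => ?_
    · rintro _ ⟨e, he, rfl⟩
      exact he ▸ hmon e
    · have key : ∀ y ∈ Submodule.span A (Set.range mon),
          (DirectSum.decompose 𝒜 y m : S) ∈ Submodule.span A (mon '' {e | deg e = m}) := by
        intro y hy
        induction hy using Submodule.span_induction with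
        | mem y hy =>
          obtain ⟨e, rfl⟩ := hy
          by_cases he : deg e = m
          · rw [DirectSum.decompose_of_mem_same 𝒜 (he ▸ hmon e)]
            exact Submodule.subset_span ⟨e, he, rfl⟩
          · rw [DirectSum.decompose_of_mem_ne 𝒜 (hmon e) he]
            exact zero_mem _
        | zero => simp
        | add a b _ _ ha hb => simpa using add_mem ha hb
        | smul c a _ ha =>
          rw [DirectSum.decompose_smul]
          exact Submodule.smul_mem _ c ha
      have := key x (hspan ▸ Submodule.mem_top)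
      rwa [DirectSum.decompose_of_mem_same 𝒜 hx] at this
  -- homogeneous generators of the module
  obtain ⟨g₀, hg₀⟩ := (inferInstance : Module.Finite S M).fg_top
  let G : Finset (ℕ × M) := g₀.biUnion fun x => (DirectSum.decompose ℳ x).support.image fun k =>
    (k, (DirectSum.decompose ℳ x k : M))
  have hG : ∀ g ∈ G, g.2 ∈ ℳ g.1 := by
    intro g hg
    obtain ⟨x, -, hg⟩ := Finset.mem_biUnion.mp hg
    obtain ⟨k, -, rfl⟩ := Finset.mem_image.mp hg
    exact SetLike.coe_mem _
  have hGspan : Submodule.span S ((fun g : ℕ × M => g.2) '' (G : Set (ℕ × M))) = ⊤ := by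
    refine top_le_iff.mp (hg₀.ge.trans (Submodule.span_le.mpr fun x hx => ?_))
    rw [← DirectSum.sum_support_decompose ℳ x]
    exact sum_mem fun k hk => Submodule.subset_span ⟨(k, _), Finset.mem_biUnion.mpr
      ⟨x, hx, Finset.mem_image.mpr ⟨k, hk, rfl⟩⟩, rfl⟩
  let N : Submodule A M := ⨆ g ∈ G.filter (fun g => g.1 ≤ n),
    (𝒜 (n - g.1)).map ((LinearMap.toSpanSingleton S M g.2).restrictScalars A)
  have hN : N.FG := Submodule.fg_biSup _ _ fun g _ => (hfin _).map _
  refine Module.Finite.iff_fg.mpr ?_
  suffices ℳ n = N by rw [this]; exact hN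
  refine le_antisymm (fun x hx => ?_) (iSup₂_le fun g hg => ?_)
  · have key : ∀ g ∈ G, ∀ s : S, (DirectSum.decompose ℳ (s • g.2) n : M) ∈ N := by
      intro g hg s
      rw [← DirectSum.sum_support_decompose 𝒜 s, Finset.sum_smul, DirectSum.decompose_sum]
      rw [DFinsupp.finsetSum_apply, Submodule.coe_sum]
      refine sum_mem fun k _ => ?_
      have hk : (DirectSum.decompose 𝒜 s k : S) • g.2 ∈ ℳ (k + g.1) :=
        SetLike.GradedSMul.smul_mem (A := 𝒜) (B := ℳ) (SetLike.coe_mem (DirectSum.decompose 𝒜 s k)) (hG g hg)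
      by_cases hkn : k + g.1 = n
      · rw [DirectSum.decompose_of_mem_same ℳ (hkn ▸ hk)]
        refine Submodule.mem_iSup_of_mem g (Submodule.mem_iSup_of_mem
          (Finset.mem_filter.mpr ⟨hg, by omega⟩) ⟨_, ?_, rfl⟩)
        rw [show n - g.1 = k by omega]
        exact SetLike.coe_mem _
      · rw [DirectSum.decompose_of_mem_ne ℳ hk hkn]
        exact zero_mem _
    have : ∀ y ∈ Submodule.span S ((fun g : ℕ × M => g.2) '' (G : Set (ℕ × M))),
        ∀ s : S, (DirectSum.decompose ℳ (s • y) n : M) ∈ N := by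
      intro y hy
      induction hy using Submodule.span_induction with
      | mem y hy =>
        obtain ⟨g, hg, rfl⟩ := hy
        exact key g hg
      | zero => simp
      | add a b _ _ ha hb => intro s; rw [smul_add, DirectSum.decompose_add]; exact add_mem (ha s) (hb s)
      | smul c a _ ha => intro s; rw [← mul_smul]; exact ha _
    have h1 := this x (hGspan ▸ Submodule.mem_top) 1
    rwa [one_smul, DirectSum.decompose_of_mem_same ℳ hx] at h1
  · obtain ⟨hgG, hgn⟩ := Finset.mem_filter.mp hg
    rintro _ ⟨s, hs, rfl⟩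
    have := SetLike.GradedSMul.smul_mem (A := 𝒜) (B := ℳ) hs (hG g hgG)
    rw [vadd_eq_add, show n - g.1 + g.1 = n by omega] at this
    exact this

end Groth.Agent.S9617
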