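import Groth.Statements.S9620
import Mathlib.RingTheory.Spectrum.Prime.Topology
import Mathlib.RingTheory.Idempotents
import Mathlib.RingTheory.Spectrum.Prime.RingHom
import Mathlib.Topology.Connected.Clopen

set_option autoImplicit false
universe u
open CAlg

namespace Groth.Agent.S9620

/-- For a ring R and a point p of Spec R, the connected component of p is the zero locus of the ideal I
generated by the idempotents of R contained in p, and every idempotent e of R satisfies e ∈ I or 1 -
e ∈ I (e maps to 0 or 1 in R/I). -/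
theorem result {R : Type u} [CommRing R] (p : PrimeSpectrum R) :
    connectedComponent p = PrimeSpectrum.zeroLocus {e : R | IsIdempotentElem e ∧ e ∈ p.asIdeal} ∧
      ∀ e : R, IsIdempotentElem e → (e ∈ Ideal.span {e : R | IsIdempotentElem e ∧ e ∈ p.asIdeal} ∨ 1 - e ∈ Ideal.span {e : R | IsIdempotentElem e ∧ e ∈ p.asIdeal}) := by
  classical
  set E := {e : R | IsIdempotentElem e ∧ e ∈ p.asIdeal}
  have hdich : ∀ e : R, IsIdempotentElem e → e ∈ E ∨ 1 - e ∈ E := by
    intro e he
    have h1 : e * (1 - e) ∈ p.asIdeal := by rw [he.mul_one_sub_self]; exact zero_mem _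
    exact (p.isPrime.mem_or_mem h1).imp (fun h => ⟨he, h⟩) fun h => ⟨he.one_sub, h⟩
  refine ⟨?_, fun e he => (hdich e he).imp (fun h => Ideal.subset_span h) fun h => Ideal.subset_span h⟩
  have hI : ∀ x ∈ Ideal.span E, ∃ e ∈ E, x * (1 - e) = 0 := by
    intro x hx
    induction hx using Submodule.span_induction with
    | mem x hx => exact ⟨x, hx, hx.1.mul_one_sub_self⟩
    | zero => exact ⟨0, ⟨IsIdempotentElem.zero, zero_mem _⟩, by simp⟩
    | add x y _ _ hx hy =>
      obtain ⟨e, he, h1⟩ := hx
      obtain ⟨e', he', h2⟩ := hy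
      refine ⟨e + e' - e * e', ⟨?_, ?_⟩, ?_⟩
      · show _ * _ = _
        linear_combination (1 - 2 * e' + e' * e') * he.1.eq + (1 - e) * he'.1.eq
      · exact Submodule.sub_mem _ (Submodule.add_mem _ he.2 he'.2) (Ideal.mul_mem_left _ _ he'.2)
      · linear_combination (1 - e') * h1 + (1 - e) * h2
    | smul r x _ hx =>
      obtain ⟨e, he, h1⟩ := hx
      exact ⟨e, he, by rw [smul_eq_mul, mul_assoc, h1, mul_zero]⟩
  refine subset_antisymm ?_ ?_
  · intro q hq x hx
    have hcl : IsClopen (PrimeSpectrum.zeroLocus ({x} : Set R)) := PrimeSpectrum.isClopen_iff_zeroLocus.2 ⟨x, hx.1, rfl⟩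
    have := hcl.connectedComponent_subset (x := p) (by simpa using hx.2) hq
    simpa using this
  · set V := PrimeSpectrum.zeroLocus E with hV
    have hpV : p ∈ V := fun x hx => hx.2
    refine IsPreconnected.subset_connectedComponent ?_ hpV
    have hVI : V = PrimeSpectrum.zeroLocus (Ideal.span E : Set R) := (PrimeSpectrum.zeroLocus_span E).symm
    have hrange : V = Set.range (PrimeSpectrum.comap (Ideal.Quotient.mk (Ideal.span E))) := by
      rw [range_comap_of_surjective _ _ Ideal.Quotient.mk_surjective, Ideal.mk_ker, ← hVI]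
    rw [hrange]
    have : PreconnectedSpace (PrimeSpectrum (R ⧸ Ideal.span E)) := by
      refine preconnectedSpace_iff_clopen.2 fun s hs => ?_
      obtain ⟨a, ha, rfl⟩ := PrimeSpectrum.isClopen_iff_zeroLocus.1 hs
      obtain ⟨a, rfl⟩ := Ideal.Quotient.mk_surjective a
      have h0 : a * a - a ∈ Ideal.span E := by
        rw [← Ideal.Quotient.eq_zero_iff_mem, map_sub, map_mul, ha.eq, sub_self]
      obtain ⟨e, he, h1⟩ := hI _ h0
      have hb : IsIdempotentElem (a * (1 - e)) := by
        show _ * _ = _
        linear_combination h1 + a * a * he.1.one_sub.eq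
      have he0 : Ideal.Quotient.mk (Ideal.span E) e = 0 := Ideal.Quotient.eq_zero_iff_mem.2 (Ideal.subset_span he)
      have hab : Ideal.Quotient.mk (Ideal.span E) (a * (1 - e)) = Ideal.Quotient.mk _ a := by simp [he0]
      rcases hdich _ hb with h | h
      · right
        rw [← hab, Ideal.Quotient.eq_zero_iff_mem.2 (Ideal.subset_span h), PrimeSpectrum.zeroLocus_singleton_zero]
      · left
        have h2 := Ideal.Quotient.eq_zero_iff_mem.2 (Ideal.subset_span h : _ ∈ Ideal.span E)
        rw [map_sub, map_one, hab, sub_eq_zero] at h2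
        rw [← h2, PrimeSpectrum.zeroLocus_singleton_one]
    exact isPreconnected_range (PrimeSpectrum.continuous_comap _)

end Groth.Agent.S9620
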