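import Groth.Statements.S9618
import Groth.Agent.S9620

set_option autoImplicit false
universe u
open CAlg Groth.Agent

namespace Groth.Agent.S9618

/-- For a ring R and a subset T of Spec R the following are equivalent: (1) T is closed and contains the
connected component of each of its points; (2) T can be written as an intersection of subsets of
Spec R that are both open and closed; (3) T is the common zero locus of some set of idempotent
elements of R (equivalently, of the ideal they generate). -/
theorem result {R : Type u} [CommRing R] (T : Set (PrimeSpectrum R)) :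
    [IsClosed T ∧ ∀ x ∈ T, connectedComponent x ⊆ T,
      ∃ U : Set (Set (PrimeSpectrum R)), (∀ u ∈ U, IsClopen u) ∧ T = ⋂₀ U,
      ∃ E : Set R, (∀ e ∈ E, IsIdempotentElem e) ∧ T = PrimeSpectrum.zeroLocus E].TFAE := by
  tfae_have 3 → 2 := by
    rintro ⟨E, hE, rfl⟩
    refine ⟨(fun e => PrimeSpectrum.zeroLocus {e}) '' E, ?_, ?_⟩
    · rintro _ ⟨e, he, rfl⟩
      exact PrimeSpectrum.isClopen_iff_zeroLocus.2 ⟨e, hE e he, rfl⟩
    · ext p
      simp [PrimeSpectrum.mem_zeroLocus, Set.subset_def]
  tfae_have 2 → 1 := by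
    rintro ⟨U, hU, rfl⟩
    exact ⟨isClosed_sInter fun u hu => (hU u hu).1, fun x hx => Set.subset_sInter fun u hu => (hU u hu).connectedComponent_subset (hx u hu)⟩
  tfae_have 1 → 3 := by
    rintro ⟨hcl, hcc⟩
    refine ⟨{e | IsIdempotentElem e ∧ T ⊆ PrimeSpectrum.zeroLocus {e}}, fun e he => he.1, subset_antisymm (fun x hx e he => he.2 hx rfl) fun p hp => ?_⟩
    by_contra hpT
    obtain ⟨I, rfl⟩ := (PrimeSpectrum.isClosed_iff_zeroLocus_ideal T).1 hcl
    obtain ⟨hcomp, -⟩ := S9620.result p
    set E := {e : R | IsIdempotentElem e ∧ e ∈ p.asIdeal}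
    have hdis : I ⊔ Ideal.span E = ⊤ := by
      by_contra hne
      obtain ⟨m, hm, hle⟩ := Ideal.exists_le_maximal _ hne
      have hmc : (⟨m, hm.isPrime⟩ : PrimeSpectrum R) ∈ connectedComponent p := by
        rw [hcomp]
        exact fun e he => hle (Submodule.mem_sup_right (Ideal.subset_span he))
      have := hcc ⟨m, hm.isPrime⟩ (fun a ha => hle (Submodule.mem_sup_left ha))
      rw [← connectedComponent_eq hmc] at this
      exact hpT (this mem_connectedComponent)
    obtain ⟨a, ha, x, hx, hax⟩ := Submodule.mem_sup.1 (hdis ▸ Submodule.mem_top : (1 : R) ∈ I ⊔ Ideal.span E)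
    obtain ⟨e, he, hxe⟩ : ∃ e ∈ E, x * (1 - e) = 0 := by
      clear hax
      induction hx using Submodule.span_induction with
      | mem x hx => exact ⟨x, hx, hx.1.mul_one_sub_self⟩
      | zero => exact ⟨0, ⟨IsIdempotentElem.zero, zero_mem _⟩, by simp⟩
      | add x y _ _ hx hy =>
        obtain ⟨e, he, h1⟩ := hx
        obtain ⟨e', he', h2⟩ := hy
        refine ⟨e + e' - e * e', ⟨?_, ?_⟩, ?_⟩
        · show _ * _ = _
          linear_combination (1 - 2 * e' + e' * e') * he.1.eq + (1 - e) * he'.1.eq
        · exact Submodule.sub_mem _ (Submodule.add_mem _ he.2 he'.2) (Ideal.mul_mem_left _ _ he'.2)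
        · linear_combination (1 - e') * h1 + (1 - e) * h2
      | smul r x _ hx =>
        obtain ⟨e, he, h1⟩ := hx
        exact ⟨e, he, by rw [smul_eq_mul, mul_assoc, h1, mul_zero]⟩
    have hmem : 1 - e ∈ I := by
      have h1 : 1 - e = a * (1 - e) := by linear_combination -(1 - e) * hax + hxe
      rw [h1]; exact Ideal.mul_mem_right _ _ ha
    have h2 : (1 - e) ∈ p.asIdeal := hp ⟨he.1.one_sub, fun q hq => by simpa using hq hmem⟩
    exact p.isPrime.ne_top ((Ideal.eq_top_iff_one _).2 (by simpa using add_mem he.2 h2))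
  tfae_finish

end Groth.Agent.S9618
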