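import Groth.Statements.S9619
import Mathlib.RingTheory.Spectrum.Prime.Topology

set_option autoImplicit false
universe u
open CAlg

namespace Groth.Agent.S9619

/-- For a ring R and two sets E, E' of idempotent elements of R with the same zero locus in Spec R, the
ideals generated by E and by E' are equal. -/
theorem result {R : Type u} [CommRing R] (E E' : Set R) (hE : ∀ e ∈ E, IsIdempotentElem e) (hE' : ∀ e ∈ E', IsIdempotentElem e) (h : PrimeSpectrum.zeroLocus E = PrimeSpectrum.zeroLocus E') :
    Ideal.span E = Ideal.span E' := by
  have hrad : (Ideal.span E).radical = (Ideal.span E').radical := by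
    rw [← PrimeSpectrum.zeroLocus_eq_iff, PrimeSpectrum.zeroLocus_span, PrimeSpectrum.zeroLocus_span]
    exact h
  have key : ∀ A B : Set R, (∀ e ∈ A, IsIdempotentElem e) → Ideal.span A ≤ (Ideal.span B).radical →
      Ideal.span A ≤ Ideal.span B := by
    intro A B hA hle
    refine Ideal.span_le.2 fun e he => ?_
    obtain ⟨n, hn⟩ := hle (Ideal.subset_span he)
    rcases n with _ | n
    · rw [pow_zero] at hn
      exact (Ideal.eq_top_iff_one _).2 hn ▸ Submodule.mem_top
    · rwa [(hA e he).pow_succ_eq] at hn
  exact le_antisymm (key E E' hE (hrad ▸ Ideal.le_radical)) (key E' E hE' (hrad.symm ▸ Ideal.le_radical))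

end Groth.Agent.S9619
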