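import Groth.Statements.S9621
import Mathlib.RingTheory.Spectrum.Prime.Topology

set_option autoImplicit false
universe u
open CAlg

namespace Groth.Agent.S9621

/-- Let R be a ring, p a minimal prime of R and W a quasi-compact open subset of Spec R not containing
p. Then there is an f ∈ R, f ∉ p, whose basic open D(f) is disjoint from W. -/
theorem result {R : Type u} [CommRing R] (p : PrimeSpectrum R) (hp : p.asIdeal ∈ minimalPrimes R) (W : Set (PrimeSpectrum R)) (hWo : IsOpen W) (hWc : IsCompact W) (hpW : p ∉ W) :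
    ∃ f : R, f ∉ p.asIdeal ∧ Disjoint (PrimeSpectrum.basicOpen f : Set (PrimeSpectrum R)) W := by
  classical
  have key : ∀ x ∈ p.asIdeal, ∃ t ∉ p.asIdeal, ∀ q : PrimeSpectrum R, t ∈ q.asIdeal ∨ x ∈ q.asIdeal := by
    intro x hx
    by_contra! hno
    let S : Submonoid R := p.asIdeal.primeCompl ⊔ Submonoid.powers x
    have hdis : Disjoint ((⊥ : Ideal R) : Set R) S := by
      rw [Set.disjoint_left]
      intro z hz hzS
      obtain ⟨t, ht, _, ⟨n, rfl⟩, rfl⟩ := Submonoid.mem_sup.1 hzS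
      obtain ⟨q, hqt, hqx⟩ := hno t ht
      have : t * x ^ n ∈ q.asIdeal := by rw [Ideal.mem_bot.1 hz]; exact q.asIdeal.zero_mem
      exact (q.2.mem_or_mem this).elim hqt fun h => hqx (q.2.mem_of_pow_mem n h)
    obtain ⟨q, hq, -, hqS⟩ := Ideal.exists_le_prime_disjoint (⊥ : Ideal R) S hdis
    have hqp : q ≤ p.asIdeal := fun z hz => by
      by_contra hzp
      exact Set.disjoint_left.1 hqS hz (Submonoid.mem_sup_left hzp)
    have hpq := hp.2 ⟨hq, bot_le⟩ hqp
    exact Set.disjoint_left.1 hqS (hpq hx) (Submonoid.mem_sup_right (Submonoid.mem_powers x))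
  obtain ⟨s, hs⟩ := (PrimeSpectrum.isCompact_isOpen_iff).1 ⟨hWc, hWo⟩
  have hsp : ∀ g ∈ s, g ∈ p.asIdeal := by
    intro g hg
    by_contra hgp
    apply hpW
    rw [← hs]
    exact fun hz => hgp ((PrimeSpectrum.mem_zeroLocus _ _).1 hz hg)
  choose t ht htz using key
  refine ⟨∏ g ∈ s.attach, t g.1 (hsp g.1 g.2), ?_, ?_⟩
  · intro hprod
    obtain ⟨g, -, hg⟩ := (p.2.prod_mem_iff).1 hprod
    exact ht g.1 (hsp g.1 g.2) hg
  · rw [Set.disjoint_left]
    intro q hqf hqW
    rw [← hs] at hqW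
    apply hqW
    rw [PrimeSpectrum.mem_zeroLocus]
    intro g hg
    have hf : ∏ g ∈ s.attach, t g.1 (hsp g.1 g.2) ∉ q.asIdeal := hqf
    refine (htz g (hsp g hg) q).resolve_left fun hc => hf ?_
    exact q.asIdeal.prod_mem (f := fun g : {x // x ∈ s} => t g.1 (hsp g.1 g.2)) (Finset.mem_attach s ⟨g, hg⟩) hc

end Groth.Agent.S9621
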