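import Groth.Statements.S9622
import Mathlib.Algebra.Module.Torsion.Basic
import Mathlib.RingTheory.HopkinsLevitzki
import Mathlib.RingTheory.Finiteness.Quotient
import Mathlib.RingTheory.Artinian.Ring

set_option autoImplicit false
universe u
open CAlg

namespace Groth.Agent.S9622


theorem finite_of_torsion {R S : Type u} [CommRing R] [CommRing S] [Algebra R S] (m : Ideal S)
    [Module.Finite R (S ⧸ m)] (N : Type u) [AddCommGroup N] [Module S N] [Module R N]
    [IsScalarTower R S N] [Module.Finite S N]
    (h : Module.IsTorsionBySet S N (m : Set S)) : Module.Finite R N := by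
  letI := h.module
  haveI : IsScalarTower S (S ⧸ m) N := h.isScalarTower
  haveI : IsScalarTower R (S ⧸ m) N := h.isScalarTower
  haveI : Module.Finite (S ⧸ m) N := Module.Finite.of_restrictScalars_finite S _ _
  exact Module.Finite.trans (S ⧸ m) N

theorem finite_of_pow {R S : Type u} [CommRing R] [CommRing S] [Algebra R S] [IsNoetherianRing S]
    (m : Ideal S) [Module.Finite R (S ⧸ m)] (k : ℕ) :
    ∀ (N : Type u) [AddCommGroup N] [Module S N] [Module R N] [IsScalarTower R S N]
      [Module.Finite S N], (∀ r ∈ m ^ k, ∀ x : N, r • x = 0) → Module.Finite R N := by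
  induction k with
  | zero =>
    intro N _ _ _ _ _ h
    have : Subsingleton N := by
      refine ⟨fun a b => ?_⟩
      have ha := h 1 (by simp) a
      have hb := h 1 (by simp) b
      rw [one_smul] at ha hb
      rw [ha, hb]
    infer_instance
  | succ k ih =>
    intro N _ _ _ _ _ h
    let P : Submodule S N := m • ⊤
    haveI h1 : Module.Finite R P := by
      apply ih
      intro r hr x
      apply Subtype.ext
      rw [Submodule.coe_smul, Submodule.coe_zero]
      refine Submodule.smul_induction_on x.2 (fun a ha y _ => ?_) (fun a b ha hb => ?_)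
      · rw [← mul_smul]
        exact h _ (by rw [pow_succ]; exact Ideal.mul_mem_mul hr ha) y
      · rw [smul_add, ha, hb, add_zero]
    haveI : Module.Finite R (N ⧸ P) := by
      refine finite_of_torsion m _ ?_
      rintro x ⟨a, ha⟩
      obtain ⟨y, rfl⟩ := Submodule.Quotient.mk_surjective _ x
      show a • Submodule.Quotient.mk y = 0
      rw [← Submodule.Quotient.mk_smul, Submodule.Quotient.mk_eq_zero]
      exact Submodule.smul_mem_smul ha Submodule.mem_top
    haveI : Module.Finite R (P.restrictScalars R) :=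
      Module.Finite.equiv ((Submodule.restrictScalarsEquiv R S N P).restrictScalars R).symm
    haveI : Module.Finite R (N ⧸ P.restrictScalars R) :=
      Module.Finite.equiv (Submodule.Quotient.restrictScalarsEquiv R P).symm
    exact Module.Finite.of_submodule_quotient (P.restrictScalars R)

theorem finiteType_of_nilpotent {R S : Type u} [CommRing R] [CommRing S] [Algebra R S]
    (m : Ideal S) (hm : m.FG) (hn : IsNilpotent m) [Algebra.FiniteType R (S ⧸ m)] :
    Algebra.FiniteType R S := by
  classical
  obtain ⟨E, hE⟩ := (inferInstance : Algebra.FiniteType R (S ⧸ m)).out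
  obtain ⟨M, hM⟩ := hm
  obtain ⟨n, hn⟩ := hn
  choose g hg using fun e : S ⧸ m => Ideal.Quotient.mk_surjective e
  let T : Subalgebra R S := Algebra.adjoin R ((E.image g ∪ M : Finset S) : Set S)
  have hMT : ∀ x ∈ M, x ∈ T := fun x hx =>
    Algebra.subset_adjoin (Finset.mem_coe.2 (Finset.mem_union_right _ hx))
  have hT0 : ∀ s : S, ∃ t ∈ T, s - t ∈ m := by
    intro s
    have h1 : Ideal.Quotient.mkₐ R m s ∈ T.map (Ideal.Quotient.mkₐ R m) := by
      have h2 : (⊤ : Subalgebra R (S ⧸ m)) ≤ T.map (Ideal.Quotient.mkₐ R m) := by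
        rw [← hE]
        refine Algebra.adjoin_le fun e he => ?_
        exact ⟨g e, Algebra.subset_adjoin (Finset.mem_coe.2 (Finset.mem_union_left _
          (Finset.mem_image_of_mem _ he))), hg e⟩
      exact h2 trivial
    obtain ⟨t, ht, hts⟩ := h1
    exact ⟨t, ht, Ideal.Quotient.eq.1 hts.symm⟩
  have hb : ∀ b ∈ m, ∃ t ∈ T, t ∈ m ∧ b - t ∈ m ^ 2 := by
    intro b hb
    rw [← hM] at hb
    induction hb using Submodule.span_induction with
    | mem x hx =>
      exact ⟨x, hMT x hx, hM ▸ Submodule.subset_span hx, by simp⟩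
    | zero => exact ⟨0, zero_mem _, zero_mem _, by simp⟩
    | add x y _ _ hx hy =>
      obtain ⟨t, ht, htm, hxt⟩ := hx
      obtain ⟨t', ht', htm', hyt⟩ := hy
      refine ⟨t + t', add_mem ht ht', add_mem htm htm', ?_⟩
      rw [add_sub_add_comm]
      exact add_mem hxt hyt
    | smul c x _ hx =>
      obtain ⟨t, ht, htm, hxt⟩ := hx
      obtain ⟨d, hd, hcd⟩ := hT0 c
      refine ⟨d * t, mul_mem hd ht, m.mul_mem_left _ htm, ?_⟩
      have : c • x - d * t = c * (x - t) + (c - d) * t := by rw [smul_eq_mul]; ring
      rw [this]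
      exact add_mem (Ideal.mul_mem_left _ _ hxt) (by rw [pow_two]; exact Ideal.mul_mem_mul hcd htm)
  have hk : ∀ k, ∀ y ∈ m ^ k, ∃ t ∈ T, y - t ∈ m ^ (k + 1) := by
    intro k
    induction k with
    | zero => intro y _; simpa using hT0 y
    | succ k ih =>
      intro y hy
      rw [pow_succ] at hy
      refine Submodule.mul_induction_on hy (fun a ha b hbm => ?_) (fun a b ha hb => ?_)
      · obtain ⟨t1, h1, h1'⟩ := ih a ha
        obtain ⟨t2, h2, h2m, h2'⟩ := hb b hbm
        refine ⟨t1 * t2, mul_mem h1 h2, ?_⟩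
        have ht1 : t1 ∈ m ^ k := by
          have : t1 = a - (a - t1) := by ring
          rw [this]
          exact sub_mem ha (Ideal.pow_le_pow_right (Nat.le_succ k) h1')
        have : a * b - t1 * t2 = (a - t1) * b + t1 * (b - t2) := by ring
        rw [this, pow_succ m (k + 1)]
        refine add_mem (Ideal.mul_mem_mul h1' hbm) ?_
        rw [pow_succ m k, mul_assoc, ← pow_two]
        exact Ideal.mul_mem_mul ht1 h2'
      · obtain ⟨t1, h1, h1'⟩ := ha
        obtain ⟨t2, h2, h2'⟩ := hb
        refine ⟨t1 + t2, add_mem h1 h2, ?_⟩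
        rw [add_sub_add_comm]
        exact add_mem h1' h2'
  have htop : ∀ k, ∀ s : S, ∃ t ∈ T, s - t ∈ m ^ k := by
    intro k
    induction k with
    | zero => intro s; exact ⟨0, zero_mem _, by simp⟩
    | succ k ih =>
      intro s
      obtain ⟨t, ht, h⟩ := ih s
      obtain ⟨t', ht', h'⟩ := hk k _ h
      exact ⟨t + t', add_mem ht ht', by rwa [sub_add_eq_sub_sub]⟩
  refine ⟨⟨E.image g ∪ M, ?_⟩⟩
  rw [eq_top_iff]
  intro s _
  obtain ⟨t, ht, h⟩ := htop n s
  rw [hn] at h
  have : s = t := sub_eq_zero.1 h
  exact this ▸ ht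

/-- Let R → S be a ring map whose target S is a local Artinian ring, and write m for the maximal ideal
of S. Then S is a finite R-module exactly when S/m is, and S is an R-algebra of finite type exactly
when S/m is. -/
theorem result {R S : Type u} [CommRing R] [CommRing S] [Algebra R S] [IsArtinianRing S] [IsLocalRing S] :
    (Module.Finite R S ↔ Module.Finite R (S ⧸ IsLocalRing.maximalIdeal S)) ∧
      (Algebra.FiniteType R S ↔ Algebra.FiniteType R (S ⧸ IsLocalRing.maximalIdeal S)) := by
  have hn : IsNilpotent (IsLocalRing.maximalIdeal S) := by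
    rw [← IsLocalRing.jacobson_eq_maximalIdeal (⊥ : Ideal S) bot_ne_top]
    exact IsArtinianRing.isNilpotent_jacobson_bot (R := S)
  refine ⟨⟨fun h => inferInstance, fun h => ?_⟩, ⟨fun h => inferInstance, fun h =>
    finiteType_of_nilpotent _ (IsNoetherian.noetherian _) hn⟩⟩
  obtain ⟨k, hk⟩ := hn
  refine finite_of_pow (IsLocalRing.maximalIdeal S) k S fun r hr x => ?_
  rw [hk] at hr
  rw [(Submodule.mem_bot S).1 hr, zero_smul]

end Groth.Agent.S9622
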