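import Groth.Statements.S9624
import Mathlib.RingTheory.Spectrum.Prime.Chevalley
import Mathlib.RingTheory.LocalRing.ResidueField.Fiber
import Mathlib.RingTheory.Flat.Basic

set_option autoImplicit false
universe u
open CAlg

namespace Groth.Agent.S9624

open TensorProduct in
/-- Let k be a field, S a geometrically connected k-algebra (the spectrum of k' ⊗_k S is connected for
every field extension k'/k) and R any k-algebra. Then the map R → R ⊗_k S induces a bijection on
idempotents: each idempotent of R ⊗_k S comes from exactly one idempotent of R. Here the test fields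
range over field extensions in the universe of k; this is equivalent to the unrestricted notion,
since an algebraic closure of k suffices as a test. -/
theorem result {k R S : Type u} [Field k] [CommRing R] [CommRing S] [Algebra k R] [Algebra k S]
    (hS : ∀ (k' : Type u) [Field k'] [Algebra k k'], ConnectedSpace (PrimeSpectrum (k' ⊗[k] S)))
    (x : R ⊗[k] S) (hx : IsIdempotentElem x) :
    ∃! e : R, IsIdempotentElem e ∧ algebraMap R (R ⊗[k] S) e = x := by
  classical
  let A := R ⊗[k] S
  let φ := PrimeSpectrum.comap (algebraMap R A)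
  have hnt : Nontrivial S := by
    by_contra hcon
    rw [not_nontrivial_iff_subsingleton] at hcon
    haveI : Subsingleton (k ⊗[k] S) := (Algebra.TensorProduct.lid k S).toEquiv.subsingleton
    obtain ⟨z⟩ := (hS k).toNonempty
    exact z.2.ne_top (Subsingleton.elim _ _)
  have hinj : Function.Injective (algebraMap R A) := by
    have := Module.Flat.lTensor_preserves_injective_linearMap (M := R) (Algebra.linearMap k S) (algebraMap k S).injective
    intro a b hab
    have := @this (a ⊗ₜ 1) (b ⊗ₜ 1) (by
      simp only [LinearMap.lTensor_tmul, Algebra.linearMap_apply, map_one]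
      exact hab)
    simpa using congrArg (TensorProduct.rid k R) this
  have hopen : IsOpenMap φ := PrimeSpectrum.isOpenMap_comap_algebraMap_tensorProduct_of_field
  have hconn : ∀ p : PrimeSpectrum R, ConnectedSpace (φ ⁻¹' {p}) := by
    intro p
    let e₁ : PrimeSpectrum (p.asIdeal.Fiber A) ≃ₜ PrimeSpectrum (p.asIdeal.ResidueField ⊗[k] S) :=
      PrimeSpectrum.homeomorphOfRingEquiv
        (Algebra.TensorProduct.cancelBaseChange k R p.asIdeal.ResidueField p.asIdeal.ResidueField S).toRingEquiv
    haveI := hS p.asIdeal.ResidueField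
    exact ((PrimeSpectrum.preimageHomeomorphFiber R A p).trans e₁).symm.surjective.connectedSpace
      ((PrimeSpectrum.preimageHomeomorphFiber R A p).trans e₁).symm.continuous
  let U : Set (PrimeSpectrum A) := PrimeSpectrum.basicOpen x
  let V : Set (PrimeSpectrum A) := PrimeSpectrum.basicOpen (1 - x)
  have hUV : ∀ q, q ∈ U ↔ q ∉ V := by
    intro q
    simp only [U, V, PrimeSpectrum.mem_basicOpen, SetLike.mem_coe]
    rw [not_not]
    refine ⟨fun h => (q.2.mem_or_mem (?_ : x * (1 - x) ∈ q.asIdeal)).resolve_left h,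
      fun h h' => q.2.ne_top ((Ideal.eq_top_iff_one _).mpr (by simpa using q.asIdeal.add_mem h' h))⟩
    rw [mul_sub, mul_one, hx.eq, sub_self]
    exact zero_mem _
  have hdisj : ∀ p, p ∈ φ '' U → p ∈ φ '' V → False := by
    rintro p ⟨a, ha, hap⟩ ⟨b, hb, hbp⟩
    haveI := hconn p
    have hcl : IsClopen ((Subtype.val : φ ⁻¹' {p} → PrimeSpectrum A) ⁻¹' U) := by
      refine ⟨⟨?_⟩, PrimeSpectrum.isOpen_basicOpen.preimage continuous_subtype_val⟩
      have : ((Subtype.val : φ ⁻¹' {p} → PrimeSpectrum A) ⁻¹' U)ᶜ = Subtype.val ⁻¹' V := by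
        ext q; simp [hUV]
      rw [this]
      exact PrimeSpectrum.isOpen_basicOpen.preimage continuous_subtype_val
    have h1 := hcl.eq_univ ⟨⟨a, hap⟩, ha⟩
    exact (hUV b).mp ((Set.eq_univ_iff_forall.mp h1) ⟨b, hbp⟩) hb
  have hsurj : ∀ p, p ∈ φ '' U ∨ p ∈ φ '' V := by
    intro p
    haveI := hconn p
    obtain ⟨⟨q, hq⟩⟩ := (hconn p).toNonempty
    by_cases hqU : q ∈ U
    · exact Or.inl ⟨q, hqU, hq⟩
    · exact Or.inr ⟨q, by_contra fun h => hqU ((hUV q).mpr h), hq⟩
  have hclo : IsClopen (φ '' U) := by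
    refine ⟨⟨?_⟩, hopen _ PrimeSpectrum.isOpen_basicOpen⟩
    have : (φ '' U)ᶜ = φ '' V := by
      ext p
      exact ⟨fun h => (hsurj p).resolve_left h, fun h h' => hdisj p h' h⟩
    rw [this]
    exact hopen _ PrimeSpectrum.isOpen_basicOpen
  obtain ⟨e, he, heq⟩ := PrimeSpectrum.exists_idempotent_basicOpen_eq_of_isClopen hclo
  refine ⟨e, ⟨he, PrimeSpectrum.basicOpen_injOn_isIdempotentElem (he.map _) hx ?_⟩, ?_⟩
  · apply TopologicalSpace.Opens.ext
    ext q
    have h1 : φ q ∈ φ '' U ↔ q ∈ U :=
      ⟨fun h => by_contra fun hq => hdisj _ h ⟨q, by_contra fun h' => hq ((hUV q).mpr h'), rfl⟩,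
        fun h => ⟨q, h, rfl⟩⟩
    rw [heq] at h1
    exact h1
  · rintro e' ⟨he', hee'⟩
    apply hinj
    rw [hee']
    refine (PrimeSpectrum.basicOpen_injOn_isIdempotentElem (he.map _) hx ?_).symm
    apply TopologicalSpace.Opens.ext
    ext q
    have h1 : φ q ∈ φ '' U ↔ q ∈ U :=
      ⟨fun h => by_contra fun hq => hdisj _ h ⟨q, by_contra fun h' => hq ((hUV q).mpr h'), rfl⟩,
        fun h => ⟨q, h, rfl⟩⟩
    rw [heq] at h1
    exact h1

end Groth.Agent.S9624
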