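import Groth.Statements.S9626
import Mathlib.RingTheory.LocalRing.ResidueField.Fiber
import Mathlib.RingTheory.Flat.Basic
import Mathlib.RingTheory.Ideal.GoingDown
import Mathlib.RingTheory.Spectrum.Prime.Topology

set_option autoImplicit false
universe u
open CAlg

namespace Groth.Agent.S9626

open TensorProduct in
/-- Let k be a field, S a k-algebra with Spec(k' ⊗_k S) irreducible for every field extension k'/k, and
R any k-algebra. Then Spec(R ⊗_k S) → Spec(R) induces a bijection on irreducible components: taking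
inverse images along R → R ⊗_k S maps the set of minimal primes of R ⊗_k S bijectively onto the set
of minimal primes of R. Here the test fields range over field extensions in the universe of k; this
is equivalent to the unrestricted notion, since an algebraic closure of k suffices as a test. -/
theorem result {k R S : Type u} [Field k] [CommRing R] [CommRing S] [Algebra k R] [Algebra k S]
    (hS : ∀ (k' : Type u) [Field k'] [Algebra k k'], IrreducibleSpace (PrimeSpectrum (k' ⊗[k] S))) :
    Set.BijOn (Ideal.comap (algebraMap R (R ⊗[k] S))) (minimalPrimes (R ⊗[k] S)) (minimalPrimes R) := by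
  classical
  let A := R ⊗[k] S
  have hS0 : Nontrivial S := by
    by_contra hcon
    rw [not_nontrivial_iff_subsingleton] at hcon
    haveI : Subsingleton (k ⊗[k] S) := (Algebra.TensorProduct.lid k S).toEquiv.subsingleton
    obtain ⟨z⟩ := (hS k).toNonempty
    exact z.2.ne_top (Subsingleton.elim _ _)
  haveI : Module.Flat R A := inferInstance
  have hgd : Algebra.HasGoingDown R A := inferInstance
  have hirr : ∀ p : PrimeSpectrum R, IrreducibleSpace (PrimeSpectrum.comap (algebraMap R A) ⁻¹' {p}) := by
    intro p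
    let e₁ : PrimeSpectrum (p.asIdeal.Fiber A) ≃ₜ PrimeSpectrum (p.asIdeal.ResidueField ⊗[k] S) :=
      PrimeSpectrum.homeomorphOfRingEquiv
        (Algebra.TensorProduct.cancelBaseChange k R p.asIdeal.ResidueField p.asIdeal.ResidueField S).toRingEquiv
    haveI := hS p.asIdeal.ResidueField
    exact ((PrimeSpectrum.preimageHomeomorphFiber R A p).trans e₁).irreducibleSpace_iff.mpr inferInstance
  refine ⟨?_, ?_, ?_⟩
  · intro P hP
    haveI := hP.1.1
    refine ⟨⟨Ideal.IsPrime.comap _, bot_le⟩, fun p hp hle => ?_⟩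
    haveI := hp.1
    by_contra hcon
    obtain ⟨Q, hQP, hQ, hQp⟩ := Ideal.exists_ideal_lt_liesOver_of_lt P
      (lt_of_le_not_ge hle hcon : p < Ideal.comap (algebraMap R A) P) (q := P.under R)
    exact hQP.not_ge (hP.2 ⟨hQ, bot_le⟩ hQP.le)
  · intro P hP P' hP' hPP'
    haveI := hP.1.1
    haveI := hP'.1.1
    let p : PrimeSpectrum R := ⟨P.comap (algebraMap R A), Ideal.IsPrime.comap _⟩
    haveI := hirr p
    obtain ⟨η, hη⟩ : ∃ η : PrimeSpectrum.comap (algebraMap R A) ⁻¹' {p}, ∀ z, η ⤳ z := by
      haveI := hS p.asIdeal.ResidueField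
      let e := (PrimeSpectrum.preimageHomeomorphFiber R A p).trans (PrimeSpectrum.homeomorphOfRingEquiv
        (Algebra.TensorProduct.cancelBaseChange k R p.asIdeal.ResidueField p.asIdeal.ResidueField S).toRingEquiv)
      obtain ⟨η, hη⟩ := QuasiSober.sober (IrreducibleSpace.isIrreducible_univ (PrimeSpectrum (p.asIdeal.ResidueField ⊗[k] S))) isClosed_univ
      refine ⟨e.symm η, fun z => ?_⟩
      have := (isGenericPoint_iff_specializes.mp hη (e z)).mpr trivial
      simpa using this.map e.symm.continuous
    have h1 : η.1.asIdeal ≤ P := (PrimeSpectrum.le_iff_specializes η.1 ⟨P, inferInstance⟩).mpr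
      ((hη ⟨⟨P, inferInstance⟩, rfl⟩).map continuous_subtype_val)
    have h2 : η.1.asIdeal ≤ P' := (PrimeSpectrum.le_iff_specializes η.1 ⟨P', inferInstance⟩).mpr
      ((hη ⟨⟨P', inferInstance⟩, PrimeSpectrum.ext hPP'.symm⟩).map continuous_subtype_val)
    exact le_antisymm ((hP.2 ⟨η.1.2, bot_le⟩ h1).trans h2) ((hP'.2 ⟨η.1.2, bot_le⟩ h2).trans h1)
  · intro p hp
    haveI := hp.1.1
    let pp : PrimeSpectrum R := ⟨p, inferInstance⟩
    obtain ⟨⟨q, hq⟩⟩ := (hirr pp).toNonempty
    obtain ⟨P, hP, hPq⟩ := Ideal.exists_minimalPrimes_le (bot_le : (⊥ : Ideal A) ≤ q.asIdeal)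
    haveI := hP.1.1
    refine ⟨P, hP, le_antisymm ?_ ?_⟩
    · exact (Ideal.comap_mono hPq).trans (le_of_eq (congrArg PrimeSpectrum.asIdeal hq))
    · exact hp.2 ⟨Ideal.IsPrime.comap _, bot_le⟩
        ((Ideal.comap_mono hPq).trans (le_of_eq (congrArg PrimeSpectrum.asIdeal hq)))

end Groth.Agent.S9626
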