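import Groth.Statements.S9627
import Mathlib.RingTheory.Flat.Basic
import Mathlib.LinearAlgebra.Basis.VectorSpace
import Mathlib.LinearAlgebra.TensorProduct.RightExactness
import Mathlib.RingTheory.TensorProduct.Maps
import Mathlib.RingTheory.Localization.FractionRing
import Mathlib.RingTheory.Nilpotent.Lemmas

set_option autoImplicit false
universe u
open CAlg
open scoped TensorProduct

namespace Groth.Agent.S9627

open TensorProduct in
/-- Let K/k be a field extension such that Spec(k' ⊗_k K) is irreducible for every field extension k'/k,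
and let S be a K-algebra such that Spec(K' ⊗_K S) is irreducible for every field extension K'/K.
Then Spec(k' ⊗_k S) is irreducible for every field extension k'/k: S is geometrically irreducible
over k. Here the test fields k'/k and K'/K range over field extensions in the common universe of k
and K; this is equivalent to the unrestricted notions, since an algebraic closure of the base field
suffices as a test. -/
theorem result {k K S : Type u} [Field k] [Field K] [Algebra k K] [CommRing S] [Algebra K S] [Algebra k S] [IsScalarTower k K S]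
    (hK : ∀ (k' : Type u) [Field k'] [Algebra k k'], IrreducibleSpace (PrimeSpectrum (k' ⊗[k] K)))
    (hS : ∀ (K' : Type u) [Field K'] [Algebra K K'], IrreducibleSpace (PrimeSpectrum (K' ⊗[K] S))) :
    ∀ (k' : Type u) [Field k'] [Algebra k k'], IrreducibleSpace (PrimeSpectrum (k' ⊗[k] S)) := by
  classical
  intro k' _ _
  let B := K ⊗[k] k'
  haveI hBirr : IrreducibleSpace (PrimeSpectrum B) :=
    haveI := hK k'
    (PrimeSpectrum.homeomorphOfRingEquiv (Algebra.TensorProduct.comm k k' K).toRingEquiv).irreducibleSpace_iff.mp inferInstance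
  haveI hBp : (nilradical B).IsPrime := PrimeSpectrum.irreducibleSpace_iff_isPrime_nilradical.mp hBirr
  let F := FractionRing (B ⧸ nilradical B)
  haveI : IrreducibleSpace (PrimeSpectrum (S ⊗[K] F)) :=
    haveI := hS F
    (PrimeSpectrum.homeomorphOfRingEquiv (Algebra.TensorProduct.comm K F S).toRingEquiv).irreducibleSpace_iff.mp inferInstance
  let π : B →ₐ[K] B ⧸ nilradical B := Ideal.Quotient.mkₐ K (nilradical B)
  let ι : B ⧸ nilradical B →ₐ[K] F := IsScalarTower.toAlgHom K _ F
  let Φ : S ⊗[K] B →ₐ[K] S ⊗[K] F := Algebra.TensorProduct.map (AlgHom.id K S) (ι.comp π)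
  have hnil : ∀ x, Φ x = 0 → IsNilpotent x := by
    intro x hx
    have h1 : Algebra.TensorProduct.map (AlgHom.id K S) π x = 0 := by
      have hinj : Function.Injective (Algebra.TensorProduct.map (AlgHom.id K S) ι) :=
        Module.Flat.lTensor_preserves_injective_linearMap (M := S) ι.toLinearMap (IsFractionRing.injective _ F)
      refine hinj ?_
      rw [map_zero, ← hx, ← AlgHom.comp_apply, ← Algebra.TensorProduct.map_comp, AlgHom.id_comp]
    have h2 := Algebra.TensorProduct.lTensor_ker (A := S) π Ideal.Quotient.mk_surjective
    have h3 : x ∈ (RingHom.ker π).map (Algebra.TensorProduct.includeRight : B →ₐ[K] S ⊗[K] B) := by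
      rw [← h2]; exact h1
    rw [← mem_nilradical]
    refine Ideal.map_le_iff_le_comap.mpr ?_ h3
    intro b hb
    have : IsNilpotent b := Ideal.Quotient.eq_zero_iff_mem.mp hb
    exact this.map (Algebra.TensorProduct.includeRight : B →ₐ[K] S ⊗[K] B)
  have heq : nilradical (S ⊗[K] B) = (nilradical (S ⊗[K] F)).comap Φ.toRingHom := by
    refine le_antisymm (fun x hx => IsNilpotent.map hx Φ) fun x hx => ?_
    obtain ⟨n, hn⟩ := hx
    have hn' : Φ (x ^ n) = 0 := by rw [map_pow]; exact hn
    obtain ⟨m, hm⟩ := hnil _ hn'
    exact ⟨n * m, by rw [pow_mul]; exact hm⟩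
  have hirr : IrreducibleSpace (PrimeSpectrum (S ⊗[K] B)) := by
    rw [PrimeSpectrum.irreducibleSpace_iff_isPrime_nilradical, heq]
    haveI := PrimeSpectrum.irreducibleSpace_iff_isPrime_nilradical.mp (inferInstance : IrreducibleSpace (PrimeSpectrum (S ⊗[K] F)))
    exact Ideal.IsPrime.comap _
  exact (PrimeSpectrum.homeomorphOfRingEquiv
    (((Algebra.TensorProduct.cancelBaseChange k K K S k').toRingEquiv).trans
      (Algebra.TensorProduct.comm k S k').toRingEquiv)).irreducibleSpace_iff.mp hirr

end Groth.Agent.S9627
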