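import Groth.Statements.S9630
import Groth.Agent.SepTensor.Basic
import Mathlib.FieldTheory.SeparableClosure
import Mathlib.RingTheory.Flat.Basic

set_option autoImplicit false
universe u
open CAlg Groth.Agent
open scoped TensorProduct

namespace Groth.Agent.S9630

open TensorProduct in
theorem irr_iff (A : Type u) [CommRing A] :
    IrreducibleSpace (PrimeSpectrum A) ↔ (nilradical A).IsPrime := by
  rw [irreducibleSpace_def, Set.top_eq_univ, PrimeSpectrum.isIrreducible_iff_vanishingIdeal_isPrime,
    PrimeSpectrum.vanishingIdeal_univ]

theorem irr_of_injective {A B : Type u} [CommRing A] [CommRing B] (f : A →+* B)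
    (hf : Function.Injective f) (hB : IrreducibleSpace (PrimeSpectrum B)) :
    IrreducibleSpace (PrimeSpectrum A) := by
  rw [irr_iff] at hB ⊢
  have h : nilradical A = (nilradical B).comap f := by
    ext x
    simp only [Ideal.mem_comap, mem_nilradical, IsNilpotent.map_iff hf]
  rw [h]
  exact hB.comap f

variable {k R : Type u} [Field k] [CommRing R] [Algebra k R]

open TensorProduct in
theorem exists_finite_sub (L : Type u) [Field L] [Algebra k L] [Algebra.IsAlgebraic k L]
    (x : L ⊗[k] R) : ∃ F : IntermediateField k L, FiniteDimensional k F ∧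
      x ∈ Set.range (Algebra.TensorProduct.map F.val (AlgHom.id k R)) := by
  induction x using TensorProduct.induction_on with
  | zero => exact ⟨⊥, inferInstance, 0, map_zero _⟩
  | tmul a r =>
      refine ⟨IntermediateField.adjoin k {a}, IntermediateField.adjoin.finiteDimensional
        (Algebra.IsIntegral.isIntegral a),
        ⟨a, IntermediateField.mem_adjoin_simple_self k a⟩ ⊗ₜ r, ?_⟩
      rfl
  | add x y hx hy =>
      obtain ⟨F, hF, u, rfl⟩ := hx
      obtain ⟨G, hG, v, rfl⟩ := hy
      let iF : F →ₐ[k] (F ⊔ G : IntermediateField k L) := IntermediateField.inclusion le_sup_left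
      let iG : G →ₐ[k] (F ⊔ G : IntermediateField k L) := IntermediateField.inclusion le_sup_right
      refine ⟨F ⊔ G, IntermediateField.finiteDimensional_sup F G,
        Algebra.TensorProduct.map iF (AlgHom.id k R) u +
        Algebra.TensorProduct.map iG (AlgHom.id k R) v, ?_⟩
      have e1 : (F ⊔ G).val.comp (IntermediateField.inclusion (le_sup_left : F ≤ F ⊔ G)) = F.val := rfl
      have e2 : (F ⊔ G).val.comp (IntermediateField.inclusion (le_sup_right : G ≤ F ⊔ G)) = G.val := rfl
      rw [map_add]
      congr 1
      · conv_rhs => rw [← e1, ← AlgHom.id_comp (AlgHom.id k R), Algebra.TensorProduct.map_comp]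
        rfl
      · conv_rhs => rw [← e2, ← AlgHom.id_comp (AlgHom.id k R), Algebra.TensorProduct.map_comp]
        rfl

open TensorProduct in
theorem map_injective {F L : Type u} [Field F] [Field L] [Algebra k F] [Algebra k L] (g : F →ₐ[k] L) :
    Function.Injective (Algebra.TensorProduct.map g (AlgHom.id k R)) :=
  Module.Flat.rTensor_preserves_injective_linearMap (M := R) g.toLinearMap g.injective

open TensorProduct in
theorem sep_closure' (L : Type u) [Field L] [Algebra k L] [Algebra.IsSeparable k L]
    (h : ∀ (k' : Type u) [Field k'] [Algebra k k'] [Module.Finite k k'] [Algebra.IsSeparable k k'],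
      IrreducibleSpace (PrimeSpectrum (k' ⊗[k] R))) :
    IrreducibleSpace (PrimeSpectrum (L ⊗[k] R)) := by
  refine (irr_iff (L ⊗[k] R)).2 ?_
  have hF : ∀ (F : IntermediateField k L), FiniteDimensional k F →
      (nilradical (F ⊗[k] R)).IsPrime := fun F hF => by
    have := h F
    exact (irr_iff (F ⊗[k] R)).1 this
  refine ⟨?_, ?_⟩
  · intro htop
    have h1 : (1 : L ⊗[k] R) ∈ nilradical _ := htop ▸ Submodule.mem_top
    rw [mem_nilradical, ← map_one (Algebra.TensorProduct.map
      (⊥ : IntermediateField k L).val (AlgHom.id k R)),
      IsNilpotent.map_iff (map_injective _), ← mem_nilradical] at h1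
    exact (hF ⊥ inferInstance).ne_top ((Ideal.eq_top_iff_one _).2 h1)
  · intro x y hxy
    obtain ⟨F, hF', u, rfl⟩ := exists_finite_sub (R := R) _ x
    obtain ⟨G, hG', v, rfl⟩ := exists_finite_sub (R := R) _ y
    let iF : F →ₐ[k] (F ⊔ G : IntermediateField k _) := IntermediateField.inclusion le_sup_left
    let iG : G →ₐ[k] (F ⊔ G : IntermediateField k _) := IntermediateField.inclusion le_sup_right
    have e1 : Algebra.TensorProduct.map F.val (AlgHom.id k R) =
        (Algebra.TensorProduct.map (F ⊔ G).val (AlgHom.id k R)).comp
          (Algebra.TensorProduct.map iF (AlgHom.id k R)) := by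
      rw [← Algebra.TensorProduct.map_comp]; rfl
    have e2 : Algebra.TensorProduct.map G.val (AlgHom.id k R) =
        (Algebra.TensorProduct.map (F ⊔ G).val (AlgHom.id k R)).comp
          (Algebra.TensorProduct.map iG (AlgHom.id k R)) := by
      rw [← Algebra.TensorProduct.map_comp]; rfl
    rw [e1, e2] at hxy ⊢
    simp only [AlgHom.comp_apply, mem_nilradical] at hxy ⊢
    rw [← map_mul, IsNilpotent.map_iff (map_injective _), ← mem_nilradical] at hxy
    rcases (hF (F ⊔ G) (IntermediateField.finiteDimensional_sup F G)).mem_or_mem hxy with h' | h'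
    · exact Or.inl ((mem_nilradical.1 h').map _)
    · exact Or.inr ((mem_nilradical.1 h').map _)

open TensorProduct in
theorem sep_closure
    (h : ∀ (k' : Type u) [Field k'] [Algebra k k'] [Module.Finite k k'] [Algebra.IsSeparable k k'],
      IrreducibleSpace (PrimeSpectrum (k' ⊗[k] R))) :
    IrreducibleSpace (PrimeSpectrum (SeparableClosure k ⊗[k] R)) :=
  sep_closure' (SeparableClosure k) h

open TensorProduct in
theorem alg_closure (h : IrreducibleSpace (PrimeSpectrum (SeparableClosure k ⊗[k] R))) :
    IrreducibleSpace (PrimeSpectrum (AlgebraicClosure k ⊗[k] R)) := by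
  haveI : IsPurelyInseparable (SeparableClosure k) (AlgebraicClosure k) :=
    separableClosure.isPurelyInseparable k (AlgebraicClosure k)
  let e := (PrimeSpectrum.homeomorphOfRingEquiv ((Algebra.TensorProduct.cancelBaseChange k (SeparableClosure k)
    (SeparableClosure k) (AlgebraicClosure k) R).symm.trans
      (Algebra.TensorProduct.comm (SeparableClosure k) (AlgebraicClosure k)
        (SeparableClosure k ⊗[k] R))).toRingEquiv).trans
    (PrimeSpectrum.isHomeomorph_comap_of_isPurelyInseparable (SeparableClosure k) (AlgebraicClosure k)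
      (SeparableClosure k ⊗[k] R)).homeomorph
  exact e.symm.surjective.irreducibleSpace e.symm.continuous

open TensorProduct in
theorem any_field (h : IrreducibleSpace (PrimeSpectrum (AlgebraicClosure k ⊗[k] R)))
    (k' : Type u) [Field k'] [Algebra k k'] : IrreducibleSpace (PrimeSpectrum (k' ⊗[k] R)) := by
  let M := AlgebraicClosure k'
  let φ : AlgebraicClosure k →ₐ[k] M := IsAlgClosed.lift
  letI : Algebra (AlgebraicClosure k) M := φ.toRingHom.toAlgebra
  haveI : IsScalarTower k (AlgebraicClosure k) M := IsScalarTower.of_algebraMap_eq' φ.comp_algebraMap.symm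
  have hM : IrreducibleSpace (PrimeSpectrum (M ⊗[k] R)) := by
    haveI := h
    haveI : IrreducibleSpace (PrimeSpectrum M) := PrimeSpectrum.irreducibleSpace
    haveI := SepTensor.irreducible_tensor (k := AlgebraicClosure k) (A := M)
      (B := AlgebraicClosure k ⊗[k] R)
    let e := PrimeSpectrum.homeomorphOfRingEquiv (Algebra.TensorProduct.cancelBaseChange k
      (AlgebraicClosure k) (AlgebraicClosure k) M R).toRingEquiv
    exact e.surjective.irreducibleSpace e.continuous
  exact irr_of_injective (Algebra.TensorProduct.map (IsScalarTower.toAlgHom k k' M)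
    (AlgHom.id k R)).toRingHom (map_injective _) hM

/-- For a field k and a k-algebra R the following are equivalent: (1) Spec(k' ⊗_k R) is irreducible for
every field extension k'/k; (2) the same for every finite separable extension k'/k; (3) Spec(k^sep
⊗_k R) is irreducible for the separable closure k^sep; (4) Spec(k̄ ⊗_k R) is irreducible for the
algebraic closure k̄. Here the test fields range over field extensions in the universe of k; this is
equivalent to the unrestricted notion, since an algebraic closure of k suffices as a test. -/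
theorem result {k R : Type u} [Field k] [CommRing R] [Algebra k R] :
    [∀ (k' : Type u) [Field k'] [Algebra k k'], IrreducibleSpace (PrimeSpectrum (k' ⊗[k] R)),
      ∀ (k' : Type u) [Field k'] [Algebra k k'] [Module.Finite k k'] [Algebra.IsSeparable k k'], IrreducibleSpace (PrimeSpectrum (k' ⊗[k] R)),
      IrreducibleSpace (PrimeSpectrum (SeparableClosure k ⊗[k] R)),
      IrreducibleSpace (PrimeSpectrum (AlgebraicClosure k ⊗[k] R))].TFAE := by
  tfae_have 1 → 2 := fun h k' _ _ _ _ => h k'
  tfae_have 2 → 3 := fun h => sep_closure h
  tfae_have 3 → 4 := fun h => alg_closure h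
  tfae_have 4 → 1 := fun h k' _ _ => any_field h k'
  tfae_finish

end Groth.Agent.S9630
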