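import Groth.Statements.S9631
import Mathlib.RingTheory.Spectrum.Prime.RingHom

set_option autoImplicit false
universe u
open CAlg

namespace Groth.Agent.S9631

/-- For a ring map φ : R → S the following are equivalent: (1) the induced map Spec(S) → Spec(R) is
surjective; (2) every ideal I of R satisfies φ⁻¹(√(IS)) = √I; (3) every radical ideal I of R
satisfies φ⁻¹(IS) = I; (4) every prime ideal p of R satisfies φ⁻¹(pS) = p. -/
theorem result {R S : Type u} [CommRing R] [CommRing S] (φ : R →+* S) :
    [Function.Surjective (PrimeSpectrum.comap φ),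
      ∀ I : Ideal R, ((I.map φ).radical).comap φ = I.radical,
      ∀ I : Ideal R, I.IsRadical → (I.map φ).comap φ = I,
      ∀ p : Ideal R, p.IsPrime → (p.map φ).comap φ = p].TFAE := by
  tfae_have 1 → 2 := fun h1 I => by
    refine le_antisymm ?_ ?_
    · rw [Ideal.radical_eq_sInf I]
      refine le_sInf fun p ⟨hIp, hp⟩ => ?_
      obtain ⟨P, hP⟩ := h1 ⟨p, hp⟩
      have hP' : P.asIdeal.comap φ = p := congrArg PrimeSpectrum.asIdeal hP
      rw [← hP']
      refine Ideal.comap_mono (P.2.radical_le_iff.2 ?_)
      exact Ideal.map_le_iff_le_comap.2 (hIp.trans hP'.ge)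
    · rw [← Ideal.map_le_iff_le_comap]
      exact Ideal.map_radical_le φ
  tfae_have 2 → 3 := fun h2 I hI => by
    refine le_antisymm ?_ Ideal.le_comap_map
    calc (I.map φ).comap φ ≤ ((I.map φ).radical).comap φ := Ideal.comap_mono Ideal.le_radical
      _ = I.radical := h2 I
      _ = I := hI.radical
  tfae_have 3 → 4 := fun h3 p hp => h3 p hp.isRadical
  tfae_have 4 → 1 := fun h4 p => by
    have : p ∈ Set.range (PrimeSpectrum.comap φ) :=
      (PrimeSpectrum.mem_range_comap_iff φ).2 (h4 p.asIdeal p.2)
    exact this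
  tfae_finish

end Groth.Agent.S9631
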