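import Groth.Statements.S9633
import Mathlib.RingTheory.Spectrum.Prime.Topology
import Mathlib.Topology.Connected.TotallyDisconnected
import Mathlib.Topology.Separation.Hausdorff
import Mathlib.Topology.Connected.Separation

set_option autoImplicit false
universe u
open CAlg

namespace Groth.Agent.S9633

/-- For a ring R with spectrum X the following are equivalent: (1) X is profinite, i.e. compact,
Hausdorff and totally disconnected; (2) X is Hausdorff; (3) X is totally disconnected; (4) every
quasi-compact open subset of X is closed; (5) there are no nontrivial inclusions among prime ideals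
of R; (6) every prime ideal of R is maximal; (7) every prime ideal of R is a minimal prime; (8)
every standard open D(f) is closed. -/
theorem result {R : Type u} [CommRing R] :
    [CompactSpace (PrimeSpectrum R) ∧ T2Space (PrimeSpectrum R) ∧ TotallyDisconnectedSpace (PrimeSpectrum R),
      T2Space (PrimeSpectrum R),
      TotallyDisconnectedSpace (PrimeSpectrum R),
      ∀ W : Set (PrimeSpectrum R), IsOpen W → IsCompact W → IsClosed W,
      ∀ p q : PrimeSpectrum R, p ≤ q → p = q,
      ∀ p : Ideal R, p.IsPrime → p.IsMaximal,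
      ∀ p : Ideal R, p.IsPrime → p ∈ minimalPrimes R,
      ∀ f : R, IsClosed (PrimeSpectrum.basicOpen f : Set (PrimeSpectrum R))].TFAE := by
  classical
  tfae_have 1 → 2 := fun h => h.2.1
  tfae_have 1 → 3 := fun h => h.2.2
  tfae_have 1 → 4 := fun h W _ hW => by
    have := h.2.1
    exact hW.isClosed
  tfae_have 4 → 8 := fun h f => h _ (PrimeSpectrum.basicOpen f).isOpen (PrimeSpectrum.isCompact_basicOpen f)
  tfae_have 2 → 6 := by
    intro h p hp
    exact (PrimeSpectrum.isClosed_singleton_iff_isMaximal ⟨p, hp⟩).1 isClosed_singleton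
  tfae_have 3 → 6 := by
    intro h p hp
    refine (PrimeSpectrum.isClosed_singleton_iff_isMaximal ⟨p, hp⟩).1 ?_
    rw [← totallyDisconnectedSpace_iff_connectedComponent_singleton.1 h ⟨p, hp⟩]
    exact isClosed_connectedComponent
  tfae_have 6 → 7 := fun h p hp => by
    refine ⟨⟨hp, bot_le⟩, fun q hq hqp => ?_⟩
    rw [(h q hq.1).eq_of_le hp.ne_top hqp]
  tfae_have 7 → 5 := fun h p q hpq => by
    have : p.asIdeal = q.asIdeal := le_antisymm hpq ((h _ q.isPrime).2 ⟨p.isPrime, bot_le⟩ hpq)
    exact PrimeSpectrum.ext this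
  tfae_have 5 → 6 := fun h p hp => by
    obtain ⟨m, hm, hpm⟩ := Ideal.exists_le_maximal p hp.ne_top
    have h1 := congrArg PrimeSpectrum.asIdeal (h ⟨p, hp⟩ ⟨m, hm.isPrime⟩ hpm)
    exact (show p = m from h1) ▸ hm
  tfae_have 6 → 8 := by
    intro h f
    rw [← isOpen_compl_iff, isOpen_iff_forall_mem_open]
    intro p hp
    have hfp : f ∈ p.asIdeal := by simpa using hp
    let T : Submonoid R := p.asIdeal.primeCompl ⊔ Submonoid.powers f
    have h0 : (0 : R) ∈ T := by
      by_contra h0
      have hdis : Disjoint ((⊥ : Ideal R) : Set R) (T : Set R) := by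
        rw [Submodule.bot_coe]; exact Set.disjoint_singleton_left.2 h0
      obtain ⟨q, hq, -, hqT⟩ := Ideal.exists_le_prime_disjoint _ T hdis
      have hle : q ≤ p.asIdeal := fun a ha => by
        by_contra hap
        exact Set.disjoint_left.1 hqT ha (Submonoid.mem_sup_left hap)
      rw [← (h q hq).eq_of_le p.isPrime.ne_top hle] at hfp
      exact Set.disjoint_left.1 hqT hfp (Submonoid.mem_sup_right (Submonoid.mem_powers f))
    obtain ⟨s, hs, c, ⟨k, rfl⟩, h1⟩ := Submonoid.mem_sup.1 h0
    refine ⟨_, ?_, (PrimeSpectrum.basicOpen s).isOpen, hs⟩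
    intro q hq hqf
    have h2 : s * f ^ k ∈ q.asIdeal := h1 ▸ q.asIdeal.zero_mem
    exact (q.isPrime.mem_or_mem h2).elim hq fun h3 => hqf (q.isPrime.mem_of_pow_mem _ h3)
  tfae_have 8 → 1 := by
    intro h
    have : TotallySeparatedSpace (PrimeSpectrum R) := by
      refine totallySeparatedSpace_iff_exists_isClopen.2 fun p q hpq => ?_
      obtain ⟨f, hf⟩ : ∃ f, ¬(f ∈ p.asIdeal ↔ f ∈ q.asIdeal) := by
        by_contra hh
        push Not at hh
        exact hpq (PrimeSpectrum.ext (Ideal.ext hh))
      by_cases hp : f ∈ p.asIdeal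
      · exact ⟨(PrimeSpectrum.basicOpen f : Set (PrimeSpectrum R))ᶜ, (IsClopen.compl ⟨h f, (PrimeSpectrum.basicOpen f).isOpen⟩), fun hh => hh hp, by
          rw [compl_compl]; exact fun hh => hf (iff_of_true hp hh)⟩
      · exact ⟨_, ⟨h f, (PrimeSpectrum.basicOpen f).isOpen⟩, hp, fun hh => hf (iff_of_false hp hh)⟩
    exact ⟨inferInstance, inferInstance, inferInstance⟩
  tfae_finish

end Groth.Agent.S9633
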