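import Groth.Statements.S9636
import Groth.Agent.GeomProp.NormalSep
import Mathlib.RingTheory.IntegralClosure.Algebra.Basic
import Mathlib.Algebra.Polynomial.Div
import Mathlib.Tactic.LinearCombination

set_option autoImplicit false
universe u
open CAlg Groth.Agent
open scoped TensorProduct

namespace Groth.Agent.S9636

open TensorProduct in
/-- Let k'/k be a separable algebraic field extension. Then for some multiplicative subset S of k' ⊗_k
k' the multiplication map k' ⊗_k k' → k' is a localization at S: there is a ring isomorphism S⁻¹(k'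
⊗_k k') ≅ k' carrying the localization map to the multiplication map. -/
theorem result {k k' : Type u} [Field k] [Field k'] [Algebra k k'] [Algebra.IsSeparable k k'] :
    ∃ (S : Submonoid (k' ⊗[k] k')) (e : Localization S ≃+* k'), ∀ x : k' ⊗[k] k', e (algebraMap (k' ⊗[k] k') (Localization S) x) = Algebra.TensorProduct.lmul' (S := k') k x := by
  let μ : k' ⊗[k] k' →ₐ[k'] k' := Algebra.TensorProduct.lmul'' k
  have hμ : ∀ z, μ z = Algebra.TensorProduct.lmul' (S := k') k z := fun z => rfl
  let P : Ideal (k' ⊗[k] k') := RingHom.ker μ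
  haveI : P.IsPrime := RingHom.ker_isPrime _
  haveI := GeomProp.geomReduced_of_isSeparable k k'
  haveI : IsReduced (k' ⊗[k] k') := inferInstance
  haveI : Algebra.IsIntegral k k' := Algebra.IsAlgebraic.isIntegral
  have hkill : ∀ x ∈ P, ∃ t ∉ P, x * t = 0 := by
    intro x hx
    obtain ⟨g, hg, hgx⟩ := (Algebra.IsIntegral.isIntegral (R := k') x)
    obtain ⟨q, hq, hq0⟩ := Polynomial.exists_eq_pow_rootMultiplicity_mul_and_not_dvd g hg.ne_zero 0
    refine ⟨Polynomial.aeval x q, fun h => hq0 ?_, ?_⟩
    · rw [Polynomial.dvd_iff_isRoot, Polynomial.IsRoot]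
      have h' : μ (Polynomial.aeval x q) = 0 := h
      rw [← Polynomial.aeval_algHom_apply, show μ x = 0 from hx] at h'
      simpa using h'
    · refine IsReduced.eq_zero _ ⟨Polynomial.rootMultiplicity 0 g + 1, ?_⟩
      have h1 : x ^ Polynomial.rootMultiplicity 0 g * Polynomial.aeval x q = 0 := by
        have h2 : Polynomial.aeval x g = 0 := hgx
        rw [hq] at h2
        simpa using h2
      rw [mul_pow, pow_succ, pow_succ']
      linear_combination x * (Polynomial.aeval x q) ^ Polynomial.rootMultiplicity 0 g * h1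
  let f : Localization P.primeCompl →+* k' := IsLocalization.lift (M := P.primeCompl) (g := μ.toRingHom) fun y =>
    IsUnit.mk0 _ fun h => y.2 (show μ y.1 = 0 from h)
  have hf : Function.Bijective f := by
    constructor
    · rw [injective_iff_map_eq_zero]
      intro z hz
      obtain ⟨x, s, rfl⟩ := IsLocalization.exists_mk'_eq P.primeCompl z
      rw [IsLocalization.lift_mk'_spec, mul_zero] at hz
      obtain ⟨t, ht, hxt⟩ := hkill x hz
      exact (IsLocalization.mk'_eq_zero_iff x s).2 ⟨⟨t, ht⟩, by rw [mul_comm]; exact hxt⟩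
    · intro a
      refine ⟨algebraMap _ _ (a ⊗ₜ[k] (1 : k')), ?_⟩
      rw [IsLocalization.lift_eq]
      show μ (a ⊗ₜ[k] (1 : k')) = a
      rw [hμ, Algebra.TensorProduct.lmul'_apply_tmul, mul_one]
  exact ⟨P.primeCompl, RingEquiv.ofBijective f hf, fun x => (IsLocalization.lift_eq _ x).trans (hμ x)⟩

end Groth.Agent.S9636
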