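import Groth.Statements.S9637
import Mathlib.RingTheory.Ideal.AssociatedPrime.Finiteness

set_option autoImplicit false
universe u
open CAlg

namespace Groth.Agent.S9637

/-- Let R be a local Noetherian ring, I an ideal contained in its maximal ideal, and M a finite
R-module. Then I contains an M-regular element (one acting injectively on M) if and only if no
associated prime of M contains I. -/
theorem result {R : Type u} [CommRing R] [IsNoetherianRing R] [IsLocalRing R] (I : Ideal R) (hI : I ≤ IsLocalRing.maximalIdeal R) (M : Type u) [AddCommGroup M] [Module R M] [Module.Finite R M] :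
    (∃ x ∈ I, IsSMulRegular M x) ↔ ∀ q ∈ associatedPrimes R M, ¬ I ≤ q := by
  have hun := biUnion_associatedPrimes_eq_zero_divisors R M
  constructor
  · rintro ⟨x, hxI, hx⟩ q hq hIq
    have : x ∈ ⋃ p ∈ associatedPrimes R M, (p : Set R) := Set.mem_biUnion hq (hIq hxI)
    rw [hun] at this
    obtain ⟨m, hm, hxm⟩ := this
    exact hm (hx.right_eq_zero_of_smul hxm)
  · intro h
    by_contra! hno
    have hfin := associatedPrimes.finite R M
    have hsub : (I : Set R) ⊆ ⋃ q ∈ (hfin.toFinset : Set (Ideal R)), (q : Set R) := by
      intro x hx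
      have h2 : x ∈ { r : R | ∃ m : M, m ≠ 0 ∧ r • m = 0 } := by
        by_contra hc
        refine hno x hx fun a b hab => ?_
        by_contra hne
        refine hc ⟨a - b, sub_ne_zero.2 hne, ?_⟩
        rw [smul_sub]
        exact sub_eq_zero.2 hab
      rw [← hun] at h2
      simpa using h2
    obtain ⟨q, hq, hIq⟩ := (Ideal.subset_union_prime (f := fun q : Ideal R => q) ⊥ ⊥
      (fun q hq _ _ => (AssociatedPrimes.mem_iff.1 ((Set.Finite.mem_toFinset hfin).1 hq)).isPrime)).1 hsub
    exact h q ((Set.Finite.mem_toFinset hfin).1 hq) hIq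

end Groth.Agent.S9637
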