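import Groth.Statements.S9638
import Mathlib.RingTheory.Flat.TorsionFree
import Mathlib.Algebra.Module.LocalizedModule.IsLocalization
import Mathlib.RingTheory.Localization.Ideal

set_option autoImplicit false
universe u
open CAlg

namespace Groth.Agent.S9638

/-- Let R → S be a ring map with R a domain with fraction field K, and N an S-module flat over R.
Writing T for the image in S of the nonzero elements of R, so that T⁻¹S = S ⊗_R K and T⁻¹N = N ⊗_R
K, the associated primes of N over S (primes equal to the annihilator of an element) coincide with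
those of T⁻¹N over S, and these are exactly the inverse images in S of the associated primes of T⁻¹N
over T⁻¹S. -/
theorem result {R S : Type u} [CommRing R] [IsDomain R] [CommRing S] [Algebra R S] (N : Type u) [AddCommGroup N] [Module S N] [Module R N] [IsScalarTower R S N] [Module.Flat R N] :
    FlatCA.ass S N = FlatCA.ass S (LocalizedModule (Algebra.algebraMapSubmonoid S (nonZeroDivisors R)) N) ∧
      FlatCA.ass S N = Ideal.comap (algebraMap S (Localization (Algebra.algebraMapSubmonoid S (nonZeroDivisors R)))) '' FlatCA.ass (Localization (Algebra.algebraMapSubmonoid S (nonZeroDivisors R))) (LocalizedModule (Algebra.algebraMapSubmonoid S (nonZeroDivisors R)) N) := by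
  classical
  let T := Algebra.algebraMapSubmonoid S (nonZeroDivisors R)
  let Sl := Localization T
  let j := LocalizedModule.mkLinearMap T N
  have hT : ∀ t ∈ T, ∀ n : N, t • n = 0 → n = 0 := by
    rintro _ ⟨r, hr, rfl⟩ n hn
    rw [algebraMap_smul] at hn
    exact (smul_eq_zero.1 hn).resolve_left (nonZeroDivisors.ne_zero hr)
  have hj : Function.Injective j := (injective_iff_map_eq_zero j).2 fun n hn => by
    obtain ⟨t, ht⟩ := (IsLocalizedModule.eq_zero_iff T j).1 hn
    exact hT _ t.2 n ht
  have hx : ∀ x : LocalizedModule T N, ∃ (n : N), (Submodule.span S {x}).annihilator = (Submodule.span S {n}).annihilator ∧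
      ∀ s : S, algebraMap S Sl s • x = 0 ↔ s • n = 0 := by
    intro x
    obtain ⟨⟨n, t⟩, hnt⟩ := IsLocalizedModule.surj T j x
    have key : ∀ s : S, s • x = 0 ↔ s • n = 0 := fun s => by
      rw [← map_eq_zero_iff j hj, map_smul, ← show t • x = j n from hnt, Submonoid.smul_def, smul_comm]
      exact ⟨fun h => by rw [h, smul_zero], fun h => ((Module.End.isUnit_iff _).1 (IsLocalizedModule.map_units j t)).1 (h.trans (map_zero _).symm)⟩
    exact ⟨n, by ext s; rw [Submodule.mem_annihilator_span_singleton, Submodule.mem_annihilator_span_singleton, key], fun s => by rw [algebraMap_smul, key]⟩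
  have hjn : ∀ n : N, (Submodule.span S {j n}).annihilator = (Submodule.span S {n}).annihilator := fun n => by
    ext s
    rw [Submodule.mem_annihilator_span_singleton, Submodule.mem_annihilator_span_singleton, ← map_smul, map_eq_zero_iff j hj]
  refine ⟨Set.ext fun q => ⟨fun ⟨hq, n, hn⟩ => ⟨hq, j n, hn.trans (hjn n).symm⟩, fun ⟨hq, x, hxq⟩ => ?_⟩, Set.ext fun q => ⟨fun ⟨hq, n, hn⟩ => ?_, ?_⟩⟩
  · obtain ⟨n, hn, -⟩ := hx x
    exact ⟨hq, n, hxq.trans hn⟩
  · set Q := (Submodule.span Sl {j n}).annihilator with hQ
    have hcomap : Q.comap (algebraMap S Sl) = q := by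
      rw [hn, ← hjn]
      ext s
      rw [Ideal.mem_comap, Submodule.mem_annihilator_span_singleton, Submodule.mem_annihilator_span_singleton, algebraMap_smul]
    refine ⟨Q, ⟨?_, j n, rfl⟩, hcomap⟩
    rw [IsLocalization.isPrime_iff_isPrime_disjoint T Sl, Ideal.under_def, hcomap]
    refine ⟨hq, Set.disjoint_left.2 fun t ht htq => hq.ne_top ((Ideal.eq_top_iff_one q).2 ?_)⟩
    rw [SetLike.mem_coe, hn, Submodule.mem_annihilator_span_singleton] at htq
    rw [hn, Submodule.mem_annihilator_span_singleton, one_smul]
    exact hT t ht n htq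
  · rintro ⟨Q, ⟨hQp, x, hxQ⟩, rfl⟩
    obtain ⟨n, -, hns⟩ := hx x
    refine ⟨Ideal.IsPrime.comap _, n, ?_⟩
    ext s
    rw [Ideal.mem_comap, hxQ, Submodule.mem_annihilator_span_singleton, hns, Submodule.mem_annihilator_span_singleton]

end Groth.Agent.S9638
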