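import Groth.Statements.S9639
import Mathlib.RingTheory.Spectrum.Prime.Topology
import Mathlib.RingTheory.Flat.Basic

set_option autoImplicit false
universe u
open CAlg

namespace Groth.Agent.S9639

open TensorProduct in
/-- Let k be a field and S a k-algebra such that Spec(k' ⊗_k S) is connected for every field extension
k'/k. Then every k-subalgebra of S has the same property. Here the test fields range over field
extensions in the universe of k; this is equivalent to the unrestricted notion, since an algebraic
closure of k suffices as a test. -/
theorem result {k S : Type u} [Field k] [CommRing S] [Algebra k S]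
    (hS : ∀ (k' : Type u) [Field k'] [Algebra k k'], ConnectedSpace (PrimeSpectrum (k' ⊗[k] S))) (S' : Subalgebra k S) :
    ∀ (k' : Type u) [Field k'] [Algebra k k'], ConnectedSpace (PrimeSpectrum (k' ⊗[k] S')) := by
  intro k' _ _
  haveI := hS k'
  let φ := (Algebra.TensorProduct.map (AlgHom.id k k') S'.val).toRingHom
  have hinj : Function.Injective φ := by
    have := Module.Flat.lTensor_preserves_injective_linearMap (M := k') S'.val.toLinearMap Subtype.val_injective
    intro a b h
    exact this h
  have hd : DenseRange (PrimeSpectrum.comap φ) :=
    (PrimeSpectrum.denseRange_comap_iff_ker_le_nilRadical φ).mpr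
      (by rw [(RingHom.injective_iff_ker_eq_bot φ).mp hinj]; exact bot_le)
  haveI : Nonempty (PrimeSpectrum (k' ⊗[k] S')) := ⟨PrimeSpectrum.comap φ (Classical.arbitrary _)⟩
  haveI := hd.preconnectedSpace (PrimeSpectrum.continuous_comap φ)
  exact ⟨inferInstance⟩

end Groth.Agent.S9639
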