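import Groth.Statements.S9642
import Mathlib.RingTheory.LocalRing.ResidueField.Fiber

set_option autoImplicit false
universe u
open CAlg

namespace Groth.Agent.S9642

/-- In the general form stated there: let R → S be a ring map inducing an open map Spec(S) → Spec(R),
with Spec(R) irreducible, such that for a dense set of primes p of R the fibre ring κ(p) ⊗_R S has
irreducible spectrum. Then Spec(S) is irreducible. The flat and finitely presented case is the
special case in which the map on spectra is open by fppf-openness. -/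
theorem result {R S : Type u} [CommRing R] [CommRing S] [Algebra R S]
    (hopen : IsOpenMap (PrimeSpectrum.comap (algebraMap R S))) [IrreducibleSpace (PrimeSpectrum R)]
    (D : Set (PrimeSpectrum R)) (hD : Dense D) (hfib : ∀ p ∈ D, IrreducibleSpace (PrimeSpectrum (p.asIdeal.Fiber S))) :
    IrreducibleSpace (PrimeSpectrum S) := by
  classical
  obtain ⟨p₀, hp₀⟩ := hD.nonempty
  haveI := hfib p₀ hp₀
  haveI : Nonempty (PrimeSpectrum S) :=
    ⟨((PrimeSpectrum.preimageHomeomorphFiber R S p₀).symm (Classical.arbitrary _)).1⟩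
  refine @IrreducibleSpace.mk _ _ ⟨?_⟩ inferInstance
  intro U V hU hV hUne hVne
  obtain ⟨x, -, hx⟩ := hUne
  obtain ⟨y, -, hy⟩ := hVne
  obtain ⟨p, hp, hpD⟩ := hD.inter_open_nonempty _ ((hopen U hU).inter (hopen V hV))
    (nonempty_preirreducible_inter (hopen U hU) (hopen V hV) ⟨_, x, hx, rfl⟩ ⟨_, y, hy, rfl⟩)
  haveI := hfib p hpD
  let e := (PrimeSpectrum.preimageHomeomorphFiber R S p).symm
  let g : PrimeSpectrum (p.asIdeal.Fiber S) → PrimeSpectrum S := fun z => (e z).1
  have hg : Continuous g := continuous_subtype_val.comp e.continuous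
  obtain ⟨⟨a, ha, hap⟩, ⟨b, hb, hbp⟩⟩ := hp
  obtain ⟨z, hz⟩ := nonempty_preirreducible_inter (hU.preimage hg) (hV.preimage hg)
    ⟨e.symm ⟨a, hap⟩, by simp [g, ha]⟩ ⟨e.symm ⟨b, hbp⟩, by simp [g, hb]⟩
  exact ⟨g z, Set.mem_univ _, hz.1, hz.2⟩

end Groth.Agent.S9642
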