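import Groth.Statements.S9643
import Mathlib.RingTheory.Support

set_option autoImplicit false
universe u
open CAlg

namespace Groth.Agent.S9643

/-- Let R be a Noetherian ring, M a finite R-module and 0 = M_0 ⊆ M_1 ⊆ ⋯ ⊆ M_n = M a chain of
submodules whose successive quotients M_i/M_{i-1} are isomorphic to R/p_i for prime ideals p_i. Then
the primes minimal among p_1, …, p_n are exactly the primes minimal in the support of M. -/
theorem result {R : Type u} [CommRing R] [IsNoetherianRing R] (M : Type u) [AddCommGroup M] [Module R M] [Module.Finite R M]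
    {n : ℕ} (N : Fin (n + 1) → Submodule R M) (hN : Monotone N) (h0 : N 0 = ⊥) (hlast : N (Fin.last n) = ⊤)
    (p : Fin n → PrimeSpectrum R)
    (hquot : ∀ i : Fin n, Nonempty ((↥(N i.succ) ⧸ Submodule.comap (N i.succ).subtype (N i.castSucc)) ≃ₗ[R] (R ⧸ (p i).asIdeal))) :
    {q : PrimeSpectrum R | Minimal (fun x => x ∈ Set.range p) q} = {q : PrimeSpectrum R | Minimal (fun x => x ∈ Module.support R M) q} := by
  have key : Module.support R M = ⋃ i, PrimeSpectrum.zeroLocus (p i).asIdeal := by
    have hstep : ∀ k : Fin (n + 1), Module.support R (N k) = ⋃ i ∈ {i : Fin n | i.castSucc < k}, PrimeSpectrum.zeroLocus (p i).asIdeal := by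
      intro k
      induction k using Fin.induction with
      | zero =>
        haveI : Subsingleton (N 0) := by rw [h0]; infer_instance
        rw [Module.support_eq_empty]
        simp
      | succ i ih =>
        obtain ⟨e⟩ := hquot i
        rw [Module.support_of_exact (f := Submodule.inclusion (hN (Fin.castSucc_le_succ i))) (g := Submodule.mkQ (Submodule.comap (N i.succ).subtype (N i.castSucc))) ?_ (Submodule.inclusion_injective _) (Submodule.mkQ_surjective _),
          e.support_eq, Module.support_eq_zeroLocus (M := R ⧸ (p i).asIdeal), Ideal.annihilator_quotient, ih]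
        · ext x
          simp only [Set.mem_union, Set.mem_iUnion, Set.mem_ofPred_eq, exists_prop, Fin.castSucc_lt_succ_iff]
          constructor
          · rintro (⟨j, hj, hx⟩ | hx)
            · exact ⟨j, le_of_lt (Fin.castSucc_lt_castSucc_iff.1 hj), hx⟩
            · exact ⟨i, le_rfl, hx⟩
          · rintro ⟨j, hj, hx⟩
            rcases hj.lt_or_eq with hlt | rfl
            · exact Or.inl ⟨j, Fin.castSucc_lt_castSucc_iff.2 hlt, hx⟩
            · exact Or.inr hx
        · intro x
          rw [Submodule.mkQ_apply, Submodule.Quotient.mk_eq_zero, Submodule.mem_comap]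
          constructor
          · intro hx; exact ⟨⟨x.1, hx⟩, rfl⟩
          · rintro ⟨y, rfl⟩; exact y.2
    have := hstep (Fin.last n)
    rw [hlast, Submodule.topEquiv.support_eq] at this
    rw [this]
    ext x
    simp [Fin.castSucc_lt_last]
  ext q
  simp only [Set.mem_ofPred_eq]
  constructor
  · rintro ⟨⟨i, rfl⟩, hmin⟩
    refine ⟨by rw [key]; exact Set.mem_iUnion.2 ⟨i, (PrimeSpectrum.mem_zeroLocus _ _).2 le_rfl⟩, fun x hx hle => ?_⟩
    rw [key] at hx
    obtain ⟨j, hj⟩ := Set.mem_iUnion.1 hx
    have hjx : p j ≤ x := (PrimeSpectrum.mem_zeroLocus _ _).1 hj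
    exact (hmin ⟨j, rfl⟩ (hjx.trans hle)).trans hjx
  · rintro ⟨hq, hmin⟩
    rw [key] at hq
    obtain ⟨j, hj⟩ := Set.mem_iUnion.1 hq
    have hjq : p j ≤ q := (PrimeSpectrum.mem_zeroLocus _ _).1 hj
    have hj' : p j ∈ Module.support R M := by
      rw [key]; exact Set.mem_iUnion.2 ⟨j, (PrimeSpectrum.mem_zeroLocus _ _).2 le_rfl⟩
    obtain rfl : q = p j := le_antisymm (hmin hj' hjq) hjq
    refine ⟨⟨j, rfl⟩, fun x ⟨l, hl⟩ hle => hmin ?_ hle⟩
    rw [← hl, key]
    exact Set.mem_iUnion.2 ⟨l, (PrimeSpectrum.mem_zeroLocus _ _).2 le_rfl⟩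

end Groth.Agent.S9643
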