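import Groth.Statements.S9644
import Mathlib.RingTheory.Ideal.AssociatedPrime.Localization
import Mathlib.RingTheory.Ideal.AssociatedPrime.Finiteness
import Mathlib.RingTheory.Spectrum.Prime.Topology

set_option autoImplicit false
universe u
open CAlg

namespace Groth.Agent.S9644

/-- Let R be a Noetherian ring and M a finite R-module. Among the submodules K' of M whose support is
nowhere dense inside Supp(M) there is a largest one, K. The quotient M' = M/K then satisfies
Supp(M') = Supp(M), its associated primes are pairwise incomparable (no embedded ones), and whenever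
f ∈ R belongs to every embedded associated prime of M the localized map M_f → M'_f is bijective. -/
theorem result {R : Type u} [CommRing R] [IsNoetherianRing R] (M : Type u) [AddCommGroup M] [Module R M] [Module.Finite R M] :
    ∃ K : Submodule R M,
      IsGreatest {K' : Submodule R M | ∀ U : Set (PrimeSpectrum R), IsOpen U → U ∩ Module.support R M ⊆ closure (Module.support R ↥K') → U ∩ Module.support R M = ∅} K ∧
      Module.support R (M ⧸ K) = Module.support R M ∧
      (∀ p ∈ associatedPrimes R (M ⧸ K), ∀ q ∈ associatedPrimes R (M ⧸ K), p ≤ q → p = q) ∧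
      ∀ f : R, (∀ p ∈ associatedPrimes R M, ¬ Minimal (fun x => x ∈ associatedPrimes R M) p → f ∈ p) →
        Function.Bijective (LocalizedModule.map (Submonoid.powers f) K.mkQ) := by
  classical
  set Min := (Module.annihilator R M).minimalPrimes with hMin
  have hfinMin : Min.Finite := Ideal.finite_minimalPrimes_of_isNoetherianRing R _
  have hsupp : ∀ x : PrimeSpectrum R, x ∈ Module.support R M ↔ Module.annihilator R M ≤ x.asIdeal := fun x => by
    rw [Module.support_eq_zeroLocus]; rfl
  let K : Submodule R M :=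
    { carrier := {m | ∀ p ∈ Min, ∃ s : R, s ∉ p ∧ s • m = 0}
      add_mem' := fun {a b} ha hb p hp => by
        obtain ⟨s, hs, hsa⟩ := ha p hp
        obtain ⟨t, ht, htb⟩ := hb p hp
        exact ⟨s * t, hp.1.1.mul_notMem hs ht, by
          rw [smul_add, mul_comm, mul_smul, hsa, smul_zero, mul_comm, mul_smul, htb, smul_zero, add_zero]⟩
      zero_mem' := fun p hp => ⟨1, fun h => hp.1.1.ne_top ((Ideal.eq_top_iff_one _).2 h), smul_zero _⟩
      smul_mem' := fun c a ha p hp => by
        obtain ⟨s, hs, hsa⟩ := ha p hp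
        exact ⟨s, hs, by rw [smul_comm, hsa, smul_zero]⟩ }
  have hKnot : ∀ (p : PrimeSpectrum R), p.asIdeal ∈ Min → p ∉ Module.support R K := fun p hp h => by
    obtain ⟨⟨m, hm⟩, hne⟩ := Module.mem_support_iff'.1 h
    obtain ⟨s, hs, hsm⟩ := hm _ hp
    exact hne s hs (Subtype.ext hsm)
  have hmin_mem : ∀ x ∈ Module.support R M, ∃ p : PrimeSpectrum R, p.asIdeal ∈ Min ∧ p ≤ x := fun x hx => by
    obtain ⟨p, hp, hle⟩ := Ideal.exists_minimalPrimes_le ((hsupp x).1 hx)
    exact ⟨⟨p, hp.1.1⟩, hp, hle⟩
  have hgen : ∀ {U : Set (PrimeSpectrum R)}, IsOpen U → ∀ {p x : PrimeSpectrum R}, p ≤ x → x ∈ U → p ∈ U :=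
    fun hU _ _ h hx => ((PrimeSpectrum.le_iff_specializes _ _).1 h).mem_open hU hx
  have hquot : ∀ (p : PrimeSpectrum R), p.asIdeal ∈ Min → p ∈ Module.support R (M ⧸ K) := fun p hp => by
    obtain ⟨m, hm⟩ := Module.mem_support_iff'.1 ((hsupp p).2 hp.1.2)
    refine Module.mem_support_iff'.2 ⟨Submodule.Quotient.mk m, fun r hr h => ?_⟩
    rw [← Submodule.Quotient.mk_smul, Submodule.Quotient.mk_eq_zero] at h
    obtain ⟨s, hs, hsm⟩ := h _ hp
    exact hm (s * r) (p.isPrime.mul_notMem hs hr) (by rw [mul_smul, hsm])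
  refine ⟨K, ⟨?_, ?_⟩, ?_, ?_, ?_⟩
  · intro U hU hle
    have hcl : IsClosed (Module.support R K) := by
      rw [Module.support_eq_zeroLocus]; exact PrimeSpectrum.isClosed_zeroLocus _
    rw [hcl.closure_eq] at hle
    refine Set.eq_empty_iff_forall_notMem.2 fun x hx => ?_
    obtain ⟨p, hp, hpx⟩ := hmin_mem x hx.2
    exact hKnot p hp (hle ⟨hgen hU hpx hx.1, (hsupp p).2 hp.1.2⟩)
  · intro K' hK' m hm p hp
    by_contra hcon
    push_neg at hcon
    let P : PrimeSpectrum R := ⟨p, hp.1.1⟩
    have hPK' : P ∈ Module.support R K' := Module.mem_support_iff'.2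
      ⟨⟨m, hm⟩, fun r hr h => hcon r hr (congrArg Subtype.val h)⟩
    have hU : IsOpen (⋂ q ∈ Min \ {p}, (PrimeSpectrum.zeroLocus (q : Set R))ᶜ) :=
      (hfinMin.diff (t := {p})).isOpen_biInter fun q _ => (PrimeSpectrum.isClosed_zeroLocus _).isOpen_compl
    have hempty := hK' _ hU fun x hx => by
      obtain ⟨q, hq, hqx⟩ := hmin_mem x hx.2
      have hqp : q.asIdeal = p := by
        by_contra hne
        exact Set.mem_iInter₂.1 hx.1 q.asIdeal ⟨hq, hne⟩ hqx
      exact subset_closure (Module.mem_support_mono (show P.asIdeal ≤ x.asIdeal from hqp.ge.trans hqx) hPK')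
    refine Set.eq_empty_iff_forall_notMem.1 hempty P ⟨Set.mem_iInter₂.2 fun q hq hle => hq.2 ?_, (hsupp P).2 hp.1.2⟩
    exact le_antisymm hle (hp.2 hq.1.1 hle)
  · refine le_antisymm (Module.support_subset_of_surjective K.mkQ K.mkQ_surjective) fun x hx => ?_
    obtain ⟨p, hp, hpx⟩ := hmin_mem x hx
    exact Module.mem_support_mono hpx (hquot p hp)
  · have hass : ∀ q ∈ associatedPrimes R (M ⧸ K), q ∈ Min := fun q hq => by
      haveI := hq.isPrime
      have hqann : Module.annihilator R M ≤ q :=
        le_trans (K.mkQ.annihilator_le_of_surjective K.mkQ_surjective) (Submodule.annihilator_top.ge.trans hq.annihilator_le)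
      obtain ⟨p', hp', hp'q⟩ := Ideal.exists_minimalPrimes_le hqann
      obtain ⟨_, x, hx⟩ := isAssociatedPrime_iff.1 hq
      obtain ⟨m, rfl⟩ := Submodule.Quotient.mk_surjective K x
      have hmK : m ∉ K := fun h => hq.isPrime.ne_top (by
        rw [hx, Ideal.eq_top_iff_one, Submodule.mem_colon_singleton, one_smul, Submodule.mem_bot,
          Submodule.Quotient.mk_eq_zero]
        exact h)
      obtain ⟨p, hp, hcon⟩ : ∃ p ∈ Min, ∀ s : R, s ∉ p → s • m ≠ 0 := by
        by_contra h
        push_neg at h
        exact hmK h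
      have hqp : q ≤ p := fun r hr => by
        rw [hx, Submodule.mem_colon_singleton, Submodule.mem_bot, ← Submodule.Quotient.mk_smul,
          Submodule.Quotient.mk_eq_zero] at hr
        by_contra hrp
        obtain ⟨s, hs, hsm⟩ := hr p hp
        exact hcon (s * r) (hp.1.1.mul_notMem hs hrp) (by rw [mul_smul, hsm])
      have : p' = p := le_antisymm (hp'q.trans hqp) (hp.2 hp'.1 (hp'q.trans hqp))
      exact le_antisymm hqp (this ▸ hp'q) ▸ hp
    exact fun p hp q hq h => le_antisymm h ((hass q hq).2 (hass p hp).1 h)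
  · intro f hf
    refine ⟨(injective_iff_map_eq_zero _).2 fun z hz => ?_,
      LocalizedModule.map_surjective _ _ K.mkQ_surjective⟩
    induction z using LocalizedModule.induction_on with
    | h m s =>
      rw [LocalizedModule.map_mk] at hz
      obtain ⟨⟨_, n, rfl⟩, hn⟩ := LocalizedModule.mk_eq.1 (hz.trans (LocalizedModule.zero_mk 1).symm)
      have hk : f ^ n • m ∈ K := by
        rw [← Submodule.Quotient.mk_eq_zero, Submodule.Quotient.mk_smul]
        simpa [Submonoid.smul_def] using hn
      suffices ∃ N : ℕ, f ^ N • (f ^ n • m) = 0 by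
        obtain ⟨N, hN⟩ := this
        rw [← LocalizedModule.zero_mk 1]
        refine LocalizedModule.mk_eq.2 ⟨⟨f ^ (N + n), N + n, rfl⟩, ?_⟩
        simp [Submonoid.smul_def, pow_add, mul_smul, hN]
      let W := R ∙ (f ^ n • m)
      suffices f ∈ (Module.annihilator R W).radical by
        obtain ⟨N, hN⟩ := this
        exact ⟨N, congrArg Subtype.val (Module.mem_annihilator.1 hN ⟨_, Submodule.mem_span_singleton_self _⟩)⟩
      rw [← Ideal.sInf_minimalPrimes]
      refine Submodule.mem_sInf.2 fun p hp => ?_
      have hpW : p ∈ associatedPrimes R W := Module.associatedPrimes.minimalPrimes_annihilator_subset_associatedPrimes R _ hp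
      refine hf p (associatedPrimes.subset_of_injective (Submodule.injective_subtype W) hpW) fun hmin => ?_
      have hpann : Module.annihilator R M ≤ p :=
        le_trans (W.subtype.annihilator_le_of_injective W.injective_subtype) hp.1.2
      haveI := hp.1.1
      obtain ⟨p₀, hp₀, hle⟩ := Ideal.exists_minimalPrimes_le hpann
      have hpMin : p ∈ Min := by
        have := le_antisymm (hmin.2 (Module.associatedPrimes.minimalPrimes_annihilator_subset_associatedPrimes R M hp₀) hle) hle
        exact this ▸ hp₀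
      obtain ⟨s, hs, hsm⟩ := hk p hpMin
      refine hs (hp.1.2 (Module.mem_annihilator.2 fun w => ?_))
      obtain ⟨c, hc⟩ := Submodule.mem_span_singleton.1 w.2
      exact Subtype.ext (show s • (w : M) = 0 by rw [← hc, smul_comm, hsm, smul_zero])

end Groth.Agent.S9644
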