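import Groth.Statements.S9645
import Mathlib.RingTheory.Localization.Integral

set_option autoImplicit false
universe u
open CAlg

namespace Groth.Agent.S9645

/-- Integral closure commutes with localization. Let A → B be a ring map, S a multiplicative subset of
A, and A_S, B_S the localizations of A at S and of B at the image of S. Then an element x of B_S is
integral over A_S if and only if x·s = b for some s ∈ S and some b ∈ B integral over A (images taken
in B_S); that is, the integral closure of A_S in B_S is S⁻¹B' for B' the integral closure of A in B. -/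
theorem result {A B As Bs : Type u} [CommRing A] [CommRing B] [CommRing As] [CommRing Bs] [Algebra A B] [Algebra A As] [Algebra B Bs] [Algebra As Bs] [Algebra A Bs] [IsScalarTower A B Bs] [IsScalarTower A As Bs]
    (S : Submonoid A) [IsLocalization S As] [IsLocalization (Algebra.algebraMapSubmonoid B S) Bs] (x : Bs) :
    IsIntegral As x ↔ ∃ b : B, IsIntegral A b ∧ ∃ s ∈ S, x * algebraMap A Bs s = algebraMap B Bs b := by
  constructor
  · intro hx
    obtain ⟨m, hm⟩ := IsIntegral.exists_multiple_integral_of_isLocalization (M := S) (Rₘ := As) x hx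
    obtain ⟨⟨b, t⟩, hbt⟩ := IsLocalization.surj (Algebra.algebraMapSubmonoid B S) (m • x)
    obtain ⟨t₀, ht₀, ht⟩ := t.2
    have hb : IsIntegral A (algebraMap B Bs b) := by
      rw [← hbt, show (t : B) = algebraMap A B t₀ from ht.symm, ← IsScalarTower.algebraMap_apply]
      exact hm.mul isIntegral_algebraMap
    obtain ⟨m₂, hm₂, hint⟩ := IsLocalization.exists_isIntegral_smul_of_isIntegral_map (R := A) (Sₘ := Bs) S hb
    refine ⟨m₂ • b, hint, m₂ * m * t₀, S.mul_mem (S.mul_mem hm₂ m.2) ht₀, ?_⟩
    rw [Algebra.smul_def, map_mul (algebraMap B Bs), ← hbt, show (t : B) = algebraMap A B t₀ from ht.symm,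
      ← IsScalarTower.algebraMap_apply, ← IsScalarTower.algebraMap_apply, Submonoid.smul_def, Algebra.smul_def,
      map_mul, map_mul]
    ring
  · rintro ⟨b, hb, s, hs, h⟩
    have h1 : IsIntegral As (algebraMap B Bs b) := (hb.map (IsScalarTower.toAlgHom A B Bs)).tower_top
    obtain ⟨v, hv⟩ := IsLocalization.map_units As (⟨s, hs⟩ : S)
    have h2 : x = algebraMap As Bs (↑v⁻¹ : As) * algebraMap B Bs b := by
      rw [← h, IsScalarTower.algebraMap_apply A As Bs s, show algebraMap A As s = (v : As) from hv.symm,
        mul_comm x, ← mul_assoc, ← map_mul, Units.inv_mul, map_one, one_mul]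
    rw [h2]
    exact isIntegral_algebraMap.mul h1

end Groth.Agent.S9645
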