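import Groth.Statements.S9646
import Mathlib.RingTheory.Localization.Integral
import Mathlib.RingTheory.Localization.AtPrime.Basic
import Mathlib.RingTheory.Localization.BaseChange

set_option autoImplicit false
universe u
open CAlg

namespace Groth.Agent.S9646

/-- (2) ⇒ (1): let R → S be a ring map and x ∈ S. If for every prime ideal p of R the image of x in S_p
(the localization of S at the image of R ∖ p) is integral over R_p, then x is integral over R. Here
R_p and S_p are any rings satisfying the localization universal properties. -/
theorem result {R S : Type u} [CommRing R] [CommRing S] [Algebra R S] (x : S)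
    (h : ∀ (p : Ideal R) [p.IsPrime] (Rp Sp : Type u) [CommRing Rp] [CommRing Sp] [Algebra R Rp] [Algebra S Sp] [Algebra Rp Sp] [Algebra R Sp] [IsScalarTower R S Sp] [IsScalarTower R Rp Sp] [IsLocalization.AtPrime Rp p] [IsLocalization (Algebra.algebraMapSubmonoid S p.primeCompl) Sp], IsIntegral Rp (algebraMap S Sp x)) :
    IsIntegral R x := by
  let I : Ideal R :=
    { carrier := {r | IsIntegral R (r • x)}
      zero_mem' := by simp [isIntegral_zero]
      add_mem' := fun {a b} ha hb => by
        change IsIntegral R ((a + b) • x)
        rw [add_smul]; exact ha.add hb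
      smul_mem' := fun c a ha => by
        change IsIntegral R ((c • a) • x)
        rw [smul_eq_mul, mul_smul]; exact ha.smul c }
  by_contra hx
  have hne : I ≠ ⊤ := fun hI => hx (by
    have : (1 : R) ∈ I := hI ▸ Submodule.mem_top
    simpa [I] using! this)
  obtain ⟨p, hp, hle⟩ := Ideal.exists_le_maximal I hne
  haveI := hp.isPrime
  let Rp := Localization.AtPrime p
  let Sp := Localization (Algebra.algebraMapSubmonoid S p.primeCompl)
  letI : Algebra Rp Sp := localizationAlgebra p.primeCompl S
  haveI : IsScalarTower R Rp Sp := IsScalarTower.of_algebraMap_eq fun r => by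
    rw [IsScalarTower.algebraMap_apply R S Sp]
    exact (IsLocalization.map_eq _ r).symm
  have hint := h p Rp Sp
  obtain ⟨m, hm⟩ := IsIntegral.exists_multiple_integral_of_isLocalization (M := p.primeCompl) (Rₘ := Rp) _ hint
  have hm' : IsIntegral R (algebraMap S Sp ((m : R) • x)) := by
    rw [Algebra.smul_def, map_mul, ← IsScalarTower.algebraMap_apply, ← Algebra.smul_def, ← Submonoid.smul_def]
    exact hm
  obtain ⟨m₂, hm₂, hint2⟩ := IsLocalization.exists_isIntegral_smul_of_isIntegral_map (R := R) (Sₘ := Sp) p.primeCompl hm'
  rw [← mul_smul] at hint2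
  exact (p.primeCompl.mul_mem hm₂ m.2) (hle hint2)

end Groth.Agent.S9646
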