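import Groth.Statements.S9647
import Mathlib.RingTheory.Invariant.Profinite
import Mathlib.FieldTheory.Galois.Infinite
import Mathlib.FieldTheory.Galois.Profinite
import Mathlib.RingTheory.TensorProduct.Free
import Mathlib.Algebra.Ring.Action.Group
import Mathlib.Topology.Algebra.MulAction
import Mathlib.LinearAlgebra.Dimension.Free


set_option autoImplicit false
set_option maxHeartbeats 1000000
universe u
open CAlg
open scoped Pointwise TensorProduct

namespace Groth.Agent.S9647

open TensorProduct in
set_option backward.isDefEq.respectTransparency false in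
theorem aux {k E K : Type u} [Field k] [Field E] [Field K] [Algebra k E] [IsGalois k E] [Algebra k K]
    (P Q : Ideal (E ⊗[k] K)) [P.IsPrime] [Q.IsPrime] :
    ∃ σ : E ≃ₐ[k] E, Q = P.comap (Algebra.TensorProduct.map (σ : E →ₐ[k] E) (AlgHom.id k K)) := by
  classical
  let : Algebra K (E ⊗[k] K) := Algebra.TensorProduct.rightAlgebra
  let act : (E ≃ₐ[k] E) →* RingAut (E ⊗[k] K) :=
    { toFun := fun g => (Algebra.TensorProduct.congr g (AlgEquiv.refl : K ≃ₐ[k] K)).toRingEquiv
      map_one' := RingEquiv.ext fun z => by
        induction z using TensorProduct.induction_on <;> simp_all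
      map_mul' := fun g h => RingEquiv.ext fun z => by
        induction z using TensorProduct.induction_on <;> simp_all }
  let : MulSemiringAction (E ≃ₐ[k] E)
      (E ⊗[k] K) :=
    { smul := fun g z => act g z
      one_smul := fun z => by change act 1 z = z; rw [map_one]; rfl
      mul_smul := fun g h z => by change act (g * h) z = act g (act h z); rw [map_mul]; rfl
      smul_zero := fun g => map_zero (act g)
      smul_add := fun g => map_add (act g)
      smul_one := fun g => map_one (act g)
      smul_mul := fun g => map_mul (act g) }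
  have hsmul : ∀ (g : E ≃ₐ[k] E) (a : E) (x : K), g • (a ⊗ₜ[k] x) = g a ⊗ₜ[k] x := fun g a x => by
    change act g (a ⊗ₜ[k] x) = _
    simp [act]
  haveI : SMulCommClass (E ≃ₐ[k] E) K
      (E ⊗[k] K) := ⟨fun g c z => by
    have hc : g • ((1 : E) ⊗ₜ[k] c) = (1 : E) ⊗ₜ[k] c := by
      rw [hsmul, map_one]
    rw [Algebra.smul_def, Algebra.smul_def]
    exact (map_mul (act g) _ _).trans (congrArg (· * g • z) hc)⟩
  let : TopologicalSpace (E ⊗[k] K) := ⊥
  haveI : DiscreteTopology (E ⊗[k] K) := ⟨rfl⟩
  let b := Module.Free.chooseBasis k K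
  let c := b.baseChange (E)
  have hrepr : ∀ (g : E ≃ₐ[k] E) (z : E ⊗[k] K) i, c.repr (g • z) i = g (c.repr z i) := by
    intro g z i
    induction z using TensorProduct.induction_on with
    | zero => simp
    | add x y hx hy => simp [smul_add, hx, hy]
    | tmul a x =>
      rw [hsmul]
      simp only [c, Module.Basis.baseChange_repr_tmul, map_smul]
  haveI : Algebra.IsInvariant K (E ⊗[k] K)
      (E ≃ₐ[k] E) := ⟨fun z hz => by
    refine ⟨∑ i ∈ (c.repr z).support, ?_, ?_⟩
    · have h0 : c.repr z i ∈ Set.range (algebraMap k (E)) :=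
        (InfiniteGalois.mem_range_algebraMap_iff_fixed _).2 fun g => by
          exact (hrepr g z i).symm.trans (congrArg (fun w => c.repr w i) (hz g))
      exact h0.choose • b i
    · rw [map_sum]
      conv_rhs => rw [← c.linearCombination_repr z, Finsupp.linearCombination_apply, Finsupp.sum]
      refine Finset.sum_congr rfl fun i _ => ?_
      have h0 : c.repr z i ∈ Set.range (algebraMap k (E)) :=
        (InfiniteGalois.mem_range_algebraMap_iff_fixed _).2 fun g => by
          exact (hrepr g z i).symm.trans (congrArg (fun w => c.repr w i) (hz g))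
      conv_rhs => rw [← h0.choose_spec, algebraMap_smul]
      change (1 : E) ⊗ₜ[k] (h0.choose • b i) = _
      rw [TensorProduct.tmul_smul]
      simp [c]⟩
  haveI : ContinuousSMul (E ≃ₐ[k] E)
      (E ⊗[k] K) := by
    rw [continuousSMul_iff_stabilizer_isOpen]
    intro z
    let E := IntermediateField.adjoin k
      (((c.repr z).support.image fun i => c.repr z i : Finset _) : Set (E))
    haveI : FiniteDimensional k E :=
      IntermediateField.finiteDimensional_adjoin fun x _ => Algebra.IsIntegral.isIntegral x
    refine Subgroup.isOpen_mono ?_ (IntermediateField.fixingSubgroup_isOpen E)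
    intro g hg
    refine c.repr.injective (Finsupp.ext fun i => ?_)
    rw [hrepr]
    by_cases hi : i ∈ (c.repr z).support
    · exact (IntermediateField.mem_fixingSubgroup_iff E g).1 hg _
        (IntermediateField.subset_adjoin k _ (Finset.mem_image_of_mem _ hi))
    · rw [Finsupp.notMem_support_iff.1 hi, map_zero]
  have hbot : ∀ (I : Ideal (E ⊗[k] K)), I.IsPrime → I.under K = ⊥ := fun I hI =>
    (Ideal.eq_bot_or_top _).resolve_right (Ideal.IsPrime.ne_top (inferInstance : (I.under K).IsPrime))
  have hunder : P.under K = Q.under K := (hbot P inferInstance).trans (hbot Q inferInstance).symm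
  obtain ⟨g, hg⟩ : ∃ g : E ≃ₐ[k] E, Q = g • P := by
    refine Algebra.IsInvariant.exists_smul_of_under_eq_of_profinite (A := K)
      (B := E ⊗[k] K) (G := E ≃ₐ[k] E) P Q ?_
    exact hunder
  refine ⟨g⁻¹, ?_⟩
  rw [hg, Ideal.pointwise_smul_eq_comap]
  ext z
  simp only [Ideal.mem_comap]
  refine iff_of_eq (congrArg (· ∈ P) ?_)
  change g⁻¹ • z = _
  induction z using TensorProduct.induction_on with
  | zero => rw [smul_zero, map_zero]
  | add x y hx hy => rw [smul_add, hx, hy, map_add]
  | tmul a x =>
    rw [hsmul, Algebra.TensorProduct.map_tmul]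
    rfl


/-- Let K/k be a field extension and k^sep a separable algebraic closure of k. Then the automorphism
group of k^sep over k acts transitively on the primes of k^sep ⊗_k K: for any two primes P, Q there
is a k-automorphism σ of k^sep with Q the inverse image of P under σ ⊗ id_K. -/
theorem result {k K : Type u} [Field k] [Field K] [Algebra k K]
    (P Q : Ideal (SeparableClosure k ⊗[k] K)) [P.IsPrime] [Q.IsPrime] :
    ∃ σ : SeparableClosure k ≃ₐ[k] SeparableClosure k, Q = P.comap (Algebra.TensorProduct.map (σ : SeparableClosure k →ₐ[k] SeparableClosure k) (AlgHom.id k K)) := by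
  exact aux P Q

end Groth.Agent.S9647
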