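import Groth.Statements.S9648
import Groth.Agent.FlatCAFib.Basic
import Mathlib.LinearAlgebra.TensorProduct.Quotient

set_option autoImplicit false
universe u
open CAlg

attribute [local instance] Algebra.TensorProduct.rightAlgebra

namespace Groth.Agent.S9648

open TensorProduct in
/-- The inclusion, valid for any ring R: let R → S be a ring map, M an R-module and N an S-module which
is flat over R. For an associated prime p of M (a prime equal to the annihilator of an element) and
an associated prime Q of the fibre module N ⊗_R κ(p) over the fibre ring S ⊗_R κ(p), the inverse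
image of Q in S is an associated prime of N ⊗_R M. -/
theorem result {R S : Type u} [CommRing R] [CommRing S] [Algebra R S] (M : Type u) [AddCommGroup M] [Module R M] (N : Type u) [AddCommGroup N] [Module S N] [Module R N] [IsScalarTower R S N] [Module.Flat R N]
    (p : Ideal R) [p.IsPrime] (hp : p ∈ FlatCA.ass R M) (Q : Ideal (p.Fiber S)) (hQ : Q ∈ FlatCA.ass (p.Fiber S) (FlatCA.fiberMod p S N)) :
    Q.comap (Algebra.TensorProduct.includeRight (R := R) (A := p.ResidueField) (B := S)).toRingHom ∈ FlatCA.ass S (N ⊗[R] M) := by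
  obtain ⟨hQp, z, hz⟩ := hQ
  obtain ⟨r, hr, n, hn⟩ := Groth.Agent.FlatCAFib.exists_smul_eq p N z
  obtain ⟨-, m, hm⟩ := hp
  let g : (R ⧸ p) →ₗ[R] M := p.liftQ (LinearMap.toSpanSingleton R M m) fun a ha => by
    rw [hm, Submodule.mem_annihilator_span_singleton] at ha
    exact ha
  have hg : Function.Injective g := by
    rw [← LinearMap.ker_eq_bot, Submodule.ker_liftQ_eq_bot]
    intro a ha
    rw [hm, Submodule.mem_annihilator_span_singleton]
    exact ha
  obtain ⟨n, rfl⟩ := Submodule.Quotient.mk_surjective _ n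
  refine ⟨hQp.comap _, n ⊗ₜ[R] m, ?_⟩
  ext s
  have h₁ : Algebra.TensorProduct.includeRight (R := R) (A := p.ResidueField) s ∈ Q ↔ s • z = 0 := by
    rw [hz, Submodule.mem_annihilator_span_singleton]
    let w : (p.Fiber S) ⊗[S] N := z
    show Algebra.TensorProduct.includeRight (R := R) (A := p.ResidueField) s • w = 0 ↔ s • w = 0
    rw [← algebraMap_smul (p.Fiber S) s w]
    rfl
  have h₂ : s • z = 0 ↔ (Submodule.Quotient.mk (s • n) : N ⧸ (p.map (algebraMap R S) • (⊤ : Submodule S N))) = 0 := by
    refine ⟨fun h => ?_, fun h => ?_⟩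
    · have h' : Groth.Agent.FlatCAFib.jmap p N (Submodule.Quotient.mk (p := p.map (algebraMap R S) • (⊤ : Submodule S N)) (s • n)) = 0 := by
        rw [Submodule.Quotient.mk_smul, map_smul, ← hn, smul_comm, h, smul_zero]
      obtain ⟨r', hr', h''⟩ := (Groth.Agent.FlatCAFib.jmap_eq_zero_iff p N _).1 h'
      exact Groth.Agent.FlatCAFib.eq_zero_of_smul p N hr' _ h''
    · refine Groth.Agent.FlatCAFib.eq_zero_of_smul_fib p N hr _ ?_
      rw [smul_comm, hn, ← map_smul, ← Submodule.Quotient.mk_smul, h, map_zero]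
  have h₃ : (Submodule.Quotient.mk (s • n) : N ⧸ (p.map (algebraMap R S) • (⊤ : Submodule S N))) = 0 ↔
      s • (n ⊗ₜ[R] m) = 0 := by
    rw [Submodule.Quotient.mk_eq_zero, ← Submodule.restrictScalars_mem R, Ideal.smul_restrictScalars,
      Submodule.restrictScalars_top, TensorProduct.smul_tmul']
    have he : (s • n) ⊗ₜ[R] Ideal.Quotient.mk p 1 = 0 ↔ s • n ∈ (p • ⊤ : Submodule R N) := by
      rw [← (TensorProduct.tensorQuotEquivQuotSMul N p).map_eq_zero_iff,
        TensorProduct.tensorQuotEquivQuotSMul_tmul_mk, one_smul, Submodule.Quotient.mk_eq_zero]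
    rw [← he, ← (Module.Flat.lTensor_preserves_injective_linearMap (M := N) g hg).eq_iff, map_zero,
      LinearMap.lTensor_tmul]
    show (s • n) ⊗ₜ[R] ((1 : R) • m) = 0 ↔ _
    rw [one_smul]
  rw [Ideal.mem_comap, Submodule.mem_annihilator_span_singleton]
  exact h₁.trans (h₂.trans h₃)

end Groth.Agent.S9648
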