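import Groth.Statements.S9649
import Groth.Agent.S2451
import Mathlib.FieldTheory.SeparablyGenerated
import Mathlib.RingTheory.Etale.Field

set_option autoImplicit false
universe u
open CAlg Groth.Agent

namespace Groth.Agent.S9649

/-- A separably generated field extension is separable. Precisely: let K/k be a field extension
admitting a transcendence basis x over whose generated subfield k(x) the field K is separable
algebraic; then every finitely generated subextension K' of K/k also admits such a transcendence
basis. -/
theorem result {k K : Type u} [Field k] [Field K] [Algebra k K]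
    (h : ∃ (ι : Type u) (x : ι → K), IsTranscendenceBasis k x ∧ Algebra.IsSeparable (IntermediateField.adjoin k (Set.range x)) K)
    (K' : IntermediateField k K) (hK' : ∃ s : Finset K, IntermediateField.adjoin k (s : Set K) = K') :
    ∃ (ι : Type u) (x : ι → K'), IsTranscendenceBasis k x ∧ Algebra.IsSeparable (IntermediateField.adjoin k (Set.range x)) K' := by
  classical
  obtain ⟨ι, x, hx, hsep⟩ := h
  let L := IntermediateField.adjoin k (Set.range x)
  haveI : Algebra.IsSeparable L K := hsep
  haveI : Algebra.FormallySmooth k L :=
    haveI : Algebra.FormallySmooth (MvPolynomial ι k) (FractionRing (MvPolynomial ι k)) :=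
      Algebra.FormallySmooth.of_isLocalization (nonZeroDivisors (MvPolynomial ι k))
    haveI := Algebra.FormallySmooth.comp k (MvPolynomial ι k) (FractionRing (MvPolynomial ι k))
    Algebra.FormallySmooth.of_equiv hx.1.aevalEquivField
  haveI : Algebra.FormallyEtale L K := Algebra.FormallyEtale.of_isSeparable L K
  haveI : Algebra.FormallySmooth k K := Algebra.FormallySmooth.comp k L K
  haveI : Algebra.IsGeometricallyReduced k K := S2451.result.1 inferInstance
  haveI : Algebra.IsGeometricallyReduced k K' := Algebra.IsGeometricallyReduced.of_injective K'.val K'.val.injective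
  haveI : Algebra.EssFiniteType k K' := by
    obtain ⟨s, hs⟩ := hK'
    exact IntermediateField.essFiniteType_iff.2 (hs ▸ IntermediateField.fg_adjoin_of_finite s.finite_toSet)
  obtain ⟨t, ht, htsep⟩ : ∃ t : Finset K', IsTranscendenceBasis k ((↑) : t → K') ∧
      Algebra.IsSeparable (IntermediateField.adjoin k (t : Set K')) K' := by
    obtain _ | ⟨p, hp, hpk⟩ := CharP.exists' k
    · exact exists_isTranscendenceBasis_and_isSeparable_of_perfectField k K'
    · exact exists_isTranscendenceBasis_and_isSeparable_of_linearIndepOn_pow_of_essFiniteType p hp.out
        fun s hs => S2451.linearIndepOn_pow p hp.out s hs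
  refine ⟨↥t, ((↑) : t → K'), ht, ?_⟩
  have hr : Set.range ((↑) : t → K') = (t : Set K') := Subtype.range_coe
  rw [hr]; exact htsep

end Groth.Agent.S9649
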