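import Groth.Statements.S9650
import Mathlib.FieldTheory.PrimitiveElement
import Mathlib.FieldTheory.IntermediateField.Adjoin.Algebra
import Mathlib.FieldTheory.SeparablyGenerated

set_option autoImplicit false
universe u
open CAlg

namespace Groth.Agent.S9650

/-- Let K/k be a finitely generated field extension that is separably generated, i.e. admits a
transcendence basis over whose generated subfield K is separable algebraic. Then K is generated over
k by finitely many elements x_1, …, x_r, y such that the x_i form a transcendence basis of K/k and y
is separable over the subfield k(x_1, …, x_r). -/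
theorem result {k K : Type u} [Field k] [Field K] [Algebra k K]
    (hfg : ∃ s : Finset K, IntermediateField.adjoin k (s : Set K) = ⊤)
    (hsep : ∃ (ι : Type u) (x : ι → K), IsTranscendenceBasis k x ∧ Algebra.IsSeparable (IntermediateField.adjoin k (Set.range x)) K) :
    ∃ (r : ℕ) (x : Fin r → K) (y : K), IsTranscendenceBasis k x ∧ IntermediateField.adjoin k (insert y (Set.range x)) = ⊤ ∧ IsSeparable (IntermediateField.adjoin k (Set.range x)) y := by
  classical
  obtain ⟨s, hs⟩ := hfg
  obtain ⟨ι, x, hx, hxs⟩ := hsep
  haveI : Algebra.EssFiniteType k K := IntermediateField.fg_top_iff.mp ⟨s, hs⟩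
  have hfin : Finite ι := by
    haveI : Algebra.IsAlgebraic (Algebra.adjoin k (s : Set K)) K := by
      rw [← IntermediateField.isAlgebraic_adjoin_iff_top, hs, Algebra.isAlgebraic_iff_isIntegral]
      exact Algebra.isIntegral_of_surjective IntermediateField.topEquiv.surjective
    obtain ⟨t, hts, ht⟩ := exists_isTranscendenceBasis_subset (R := k) (s : Set K)
    haveI : Finite t := (s.finite_toSet.subset hts).to_subtype
    exact Cardinal.lt_aleph0_iff_finite.mp
      ((ht.cardinalMk_eq hx) ▸ Cardinal.lt_aleph0_iff_finite.mpr ‹Finite t›)
  let e : Fin (Nat.card ι) ≃ ι := (Finite.equivFin ι).symm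
  refine ⟨Nat.card ι, x ∘ e, ?_⟩
  have hr : Set.range (x ∘ e) = Set.range x := e.surjective.range_comp x
  rw [hr]
  let L := IntermediateField.adjoin k (Set.range x)
  haveI : Algebra.IsSeparable L K := hxs
  haveI : Algebra.EssFiniteType L K := Algebra.EssFiniteType.of_comp k L K
  haveI : FiniteDimensional L K := Algebra.finite_of_essFiniteType_of_isAlgebraic
  obtain ⟨y, hy⟩ := Field.exists_primitive_element L K
  refine ⟨y, hx.comp_equiv e, ?_, Algebra.IsSeparable.isSeparable L y⟩
  have h1 := congrArg (IntermediateField.restrictScalars k) hy
  rw [IntermediateField.restrictScalars_top, IntermediateField.adjoin_adjoin_left] at h1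
  rw [← h1, Set.union_singleton]

end Groth.Agent.S9650
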