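import Groth.Statements.S9654
import Mathlib


set_option autoImplicit false
universe u
open CAlg

namespace Groth.Agent.S9654

theorem mul_mem_sup {R K : Type*} [CommRing R] [CommRing K] [Algebra R K] {a b w : K} (hab : a * b = 1)
    (hw : w ∈ (Algebra.adjoin R ({b} : Set K)).toSubmodule) :
    a * w ∈ (Algebra.adjoin R ({a} : Set K)).toSubmodule ⊔ (Algebra.adjoin R ({b} : Set K)).toSubmodule := by
  obtain ⟨P, rfl⟩ := (Algebra.adjoin_singleton_eq_range_aeval R b ▸ hw : w ∈ (Polynomial.aeval b).range)
  show a * Polynomial.aeval b P ∈ _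
  rw [← Polynomial.divX_mul_X_add P, map_add, map_mul, Polynomial.aeval_X, Polynomial.aeval_C, mul_add,
    mul_left_comm, hab, mul_one, mul_comm a, ← Algebra.smul_def]
  exact Submodule.add_mem _ (Submodule.mem_sup_right (Polynomial.aeval_mem_adjoin_singleton R b))
    (Submodule.mem_sup_left (Submodule.smul_mem _ _ (Algebra.self_mem_adjoin_singleton R a)))

theorem isIntegral_of_inter {R K : Type*} [CommRing R] [CommRing K] [Algebra R K] {a b z : K} (hab : a * b = 1)
    (hza : z ∈ (Algebra.adjoin R ({a} : Set K)).toSubmodule)
    (hzb : z ∈ (Algebra.adjoin R ({b} : Set K)).toSubmodule) : IsIntegral R z := by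
  obtain ⟨P, hP⟩ := (Algebra.adjoin_singleton_eq_range_aeval R a ▸ hza : z ∈ (Polynomial.aeval a).range)
  obtain ⟨Q, hQ⟩ := (Algebra.adjoin_singleton_eq_range_aeval R b ▸ hzb : z ∈ (Polynomial.aeval b).range)
  set N := P.natDegree + Q.natDegree + 1 with hN
  let M : Submodule R K := Submodule.span R ((fun i => a ^ i) '' (Set.Iio N))
  haveI : Module.Finite R M := Module.Finite.span_of_finite R ((Set.finite_Iio N).image _)
  have hmul : ∀ w ∈ M, z * w ∈ M := by
    intro w hw
    induction hw using Submodule.span_induction with
    | mem w hw =>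
      obtain ⟨i, hi, rfl⟩ := hw
      simp only [Set.mem_Iio] at hi
      by_cases hiQ : Q.natDegree ≤ i
      · rw [← hQ]
        show Polynomial.aeval b Q * a ^ i ∈ M
        rw [Polynomial.aeval_eq_sum_range, Finset.sum_mul]
        refine Submodule.sum_mem _ fun j hj => ?_
        rw [smul_mul_assoc]
        refine Submodule.smul_mem _ _ (Submodule.subset_span ⟨i - j, by simp only [Set.mem_Iio]; omega, ?_⟩)
        rw [Finset.mem_range] at hj
        have e : a ^ i = a ^ j * a ^ (i - j) := by rw [← pow_add, Nat.add_sub_cancel' (by omega)]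
        show a ^ (i - j) = b ^ j * a ^ i
        rw [e, ← mul_assoc, ← mul_pow, mul_comm b a, hab, one_pow, one_mul]
      · rw [← hP]
        show Polynomial.aeval a P * a ^ i ∈ M
        rw [Polynomial.aeval_eq_sum_range, Finset.sum_mul]
        refine Submodule.sum_mem _ fun j hj => ?_
        rw [smul_mul_assoc, ← pow_add]
        rw [Finset.mem_range] at hj
        exact Submodule.smul_mem _ _ (Submodule.subset_span ⟨j + i, by simp only [Set.mem_Iio]; omega, rfl⟩)
    | zero => rw [mul_zero]; exact M.zero_mem
    | add u v _ _ hu hv => rw [mul_add]; exact M.add_mem hu hv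
    | smul c u _ hu => rw [mul_smul_comm]; exact M.smul_mem c hu
  let φ : Module.End R M := (LinearMap.mulLeft R z).restrict hmul
  obtain ⟨p, hp, hp0⟩ := LinearMap.exists_monic_and_aeval_eq_zero R φ
  refine ⟨p, hp, ?_⟩
  have h1 : (1 : K) ∈ M := Submodule.subset_span ⟨0, by simp [hN], pow_zero a⟩
  have key : ∀ q : Polynomial R, ((Polynomial.aeval φ q) ⟨1, h1⟩ : K) = Polynomial.aeval z q := by
    intro q
    induction q using Polynomial.induction_on' with
    | add f g hf hg => simp [hf, hg]
    | monomial n r =>
      have hn : ∀ n : ℕ, ((φ ^ n) ⟨1, h1⟩ : K) = z ^ n := by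
        intro n
        induction n with
        | zero => simp
        | succ n ih =>
          rw [pow_succ' φ, Module.End.mul_apply, pow_succ' z, ← ih]
          rfl
      simp [Polynomial.aeval_monomial, hn, Algebra.smul_def]
  rw [← Polynomial.aeval_def, ← key, show Polynomial.aeval φ p = 0 from hp0]
  rfl

theorem mem_bot_of_int {R : Type u} [CommRing R] (x m : R) (hx : x ∈ nonZeroDivisors R)
    (hm : m ∈ nonZeroDivisors R) (hxm : x ∣ m) (hint : IsIntegrallyClosedIn R (Localization.Away x))
    (b : Localization.Away m) (hb : ∃ y, algebraMap R (Localization.Away m) x * b = algebraMap R _ y)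
    {z : Localization.Away m} (hzb : z ∈ (Algebra.adjoin R ({b} : Set (Localization.Away m))).toSubmodule)
    (hz : IsIntegral R z) : z ∈ (⊥ : Subalgebra R (Localization.Away m)).toSubmodule := by
  have hu : IsUnit (algebraMap R (Localization.Away m) x) :=
    isUnit_of_dvd_unit (map_dvd _ hxm) (IsLocalization.Away.algebraMap_isUnit m)
  let ι : Localization.Away x →ₐ[R] Localization.Away m :=
    ⟨IsLocalization.Away.lift x hu, fun r => IsLocalization.Away.lift_eq x hu r⟩
  have hι : Function.Injective ι := by
    refine (IsLocalization.lift_injective_iff _).2 fun p q => ⟨fun h => ?_, fun h => ?_⟩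
    · exact congrArg _ (IsLocalization.injective (Localization.Away x)
        (Submonoid.powers_le.2 hx) h)
    · exact congrArg _ (IsLocalization.injective (Localization.Away m)
        (Submonoid.powers_le.2 hm) h)
  obtain ⟨y, hy⟩ := hb
  have hb' : ι (algebraMap R _ y * IsLocalization.Away.invSelf x) = b := by
    apply hu.mul_left_cancel
    rw [map_mul, AlgHom.commutes, hy]
    have : algebraMap R (Localization.Away m) x * ι (IsLocalization.Away.invSelf x) = 1 := by
      rw [← ι.commutes, ← map_mul, IsLocalization.Away.mul_invSelf, map_one]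
    rw [mul_left_comm, this, mul_one]
  have hmem : z ∈ ι.range := by
    refine Algebra.adjoin_le ?_ hzb
    rintro _ rfl
    exact ⟨_, hb'⟩
  obtain ⟨w, rfl⟩ := hmem
  obtain ⟨r, hr⟩ := IsIntegrallyClosedIn.algebraMap_eq_of_integral (R := R)
    ((isIntegral_algHom_iff ι hι).1 hz)
  exact Algebra.mem_bot.2 ⟨r, by rw [← ι.commutes, hr]; rfl⟩


/-- Let R be a ring and x, y ∈ R nonzerodivisors. In the localization R_{xy} let a = x/y and b = y/x,
and let R[a], R[b], R[a, b] be the R-subalgebras they generate. If R is integrally closed in R_x or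
in R_y, then the sequence 0 → R → R[a] ⊕ R[b] → R[a, b] → 0 (difference map, then sum map) is short
exact; equivalently R[a] ∩ R[b] is the image of R and R[a] + R[b] = R[a, b] inside R_{xy}. -/
theorem result {R : Type u} [CommRing R] (x y : R) (hx : x ∈ nonZeroDivisors R) (hy : y ∈ nonZeroDivisors R)
    (hint : IsIntegrallyClosedIn R (Localization.Away x) ∨ IsIntegrallyClosedIn R (Localization.Away y)) :
    (Algebra.adjoin R {algebraMap R (Localization.Away (x * y)) (x * x) * IsLocalization.Away.invSelf (x * y)}).toSubmodule ⊓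
        (Algebra.adjoin R {algebraMap R (Localization.Away (x * y)) (y * y) * IsLocalization.Away.invSelf (x * y)}).toSubmodule =
        (⊥ : Subalgebra R (Localization.Away (x * y))).toSubmodule ∧
      (Algebra.adjoin R {algebraMap R (Localization.Away (x * y)) (x * x) * IsLocalization.Away.invSelf (x * y)}).toSubmodule ⊔
        (Algebra.adjoin R {algebraMap R (Localization.Away (x * y)) (y * y) * IsLocalization.Away.invSelf (x * y)}).toSubmodule =
        (Algebra.adjoin R {algebraMap R (Localization.Away (x * y)) (x * x) * IsLocalization.Away.invSelf (x * y), algebraMap R (Localization.Away (x * y)) (y * y) * IsLocalization.Away.invSelf (x * y)}).toSubmodule := by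
  set K := Localization.Away (x * y)
  set a : K := algebraMap R K (x * x) * IsLocalization.Away.invSelf (x * y) with ha
  set b : K := algebraMap R K (y * y) * IsLocalization.Away.invSelf (x * y) with hb
  have hu : algebraMap R K (x * y) * IsLocalization.Away.invSelf (x * y) = 1 :=
    IsLocalization.Away.mul_invSelf _
  have hab : a * b = 1 := by
    rw [ha, hb]
    calc _ = (algebraMap R K (x * y) * IsLocalization.Away.invSelf (x * y)) ^ 2 := by
          simp only [map_mul]; ring
      _ = 1 := by rw [hu, one_pow]
  have hxb : algebraMap R K x * b = algebraMap R K y := by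
    rw [hb]
    calc _ = algebraMap R K y * (algebraMap R K (x * y) * IsLocalization.Away.invSelf (x * y)) := by
          simp only [map_mul]; ring
      _ = _ := by rw [hu, mul_one]
  have hya : algebraMap R K y * a = algebraMap R K x := by
    rw [ha]
    calc _ = algebraMap R K x * (algebraMap R K (x * y) * IsLocalization.Away.invSelf (x * y)) := by
          simp only [map_mul]; ring
      _ = _ := by rw [hu, mul_one]
  constructor
  · refine le_antisymm (fun z hz => ?_) (le_inf ?_ ?_)
    · obtain ⟨hza, hzb⟩ := hz
      have hzint : IsIntegral R z := isIntegral_of_inter hab hza hzb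
      rcases hint with hint | hint
      · exact mem_bot_of_int x (x * y) hx (Submonoid.mul_mem _ hx hy) (dvd_mul_right x y) hint b ⟨y, hxb⟩ hzb hzint
      · exact mem_bot_of_int y (x * y) hy (Submonoid.mul_mem _ hx hy) (dvd_mul_left y x) hint a ⟨x, hya⟩ hza hzint
    · exact fun z hz => (bot_le : (⊥ : Subalgebra R K) ≤ _) hz
    · exact fun z hz => (bot_le : (⊥ : Subalgebra R K) ≤ _) hz
  · refine le_antisymm (sup_le (fun z hz => Algebra.adjoin_mono (by simp) hz)
      (fun z hz => Algebra.adjoin_mono (by simp) hz)) ?_
    set A₁ := (Algebra.adjoin R ({a} : Set K)).toSubmodule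
    set A₂ := (Algebra.adjoin R ({b} : Set K)).toSubmodule
    have hstab : ∀ c ∈ ({a, b} : Set K), ∀ w ∈ A₁ ⊔ A₂, c * w ∈ A₁ ⊔ A₂ := by
      intro c hc w hw
      obtain ⟨w₁, hw₁, w₂, hw₂, rfl⟩ := Submodule.mem_sup.1 hw
      rw [mul_add]
      rcases hc with rfl | hc
      · exact Submodule.add_mem _ (Submodule.mem_sup_left (Subalgebra.mul_mem _ (Algebra.self_mem_adjoin_singleton R _) hw₁))
          (mul_mem_sup hab hw₂)
      · rw [Set.mem_singleton_iff] at hc; subst hc
        refine Submodule.add_mem _ ?_ (Submodule.mem_sup_right (Subalgebra.mul_mem _ (Algebra.self_mem_adjoin_singleton R _) hw₂))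
        exact sup_comm A₂ A₁ ▸ mul_mem_sup (mul_comm a b ▸ hab) hw₁
    intro z hz
    have : z * 1 ∈ A₁ ⊔ A₂ := by
      induction hz using Algebra.adjoin_induction with
      | mem c hc => exact hstab c hc 1 (Submodule.mem_sup_left (Subalgebra.one_mem _))
      | algebraMap r => rw [mul_one]; exact Submodule.mem_sup_left (Subalgebra.algebraMap_mem _ r)
      | add p q _ _ hp hq => rw [add_mul]; exact Submodule.add_mem _ hp hq
      | mul p q hp hq ihp ihq =>
        rw [mul_one] at ihp ihq ⊢
        suffices ∀ w ∈ A₁ ⊔ A₂, p * w ∈ A₁ ⊔ A₂ from this q ihq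
        clear ihp
        induction hp using Algebra.adjoin_induction with
        | mem c hc => exact hstab c hc
        | algebraMap r => exact fun w hw => by rw [← Algebra.smul_def]; exact Submodule.smul_mem _ r hw
        | add s t _ _ hs ht => exact fun w hw => by rw [add_mul]; exact Submodule.add_mem _ (hs w hw) (ht w hw)
        | mul s t _ _ hs ht => exact fun w hw => by rw [mul_assoc]; exact hs _ (ht w hw)
    rwa [mul_one] at this

end Groth.Agent.S9654
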