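import Groth.Statements.S9655
import Mathlib.RingTheory.EssentialFiniteness
import Mathlib.RingTheory.Valuation.LocalSubring
import Mathlib.RingTheory.MvPolynomial.Basic
import Mathlib.RingTheory.LocalRing.ResidueField.Basic
import Mathlib.RingTheory.Localization.AtPrime.Basic
import Mathlib.Tactic.Ring

set_option autoImplicit false
universe u
open CAlg

namespace Groth.Agent.S9655

/-- Let R and S be local rings and R → S a ring map, not necessarily local, that is essentially of
finite type. Then for some n there is a maximal ideal m of the polynomial ring R[x_1, …, x_n] lying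
over the maximal ideal of R, together with an R-algebra map φ : R[x_1, …, x_n]_m → S making S a
localization of the image of φ; thus S arises from R[x_1, …, x_n]_m by passing to a quotient and
then localizing. -/
theorem result {R S : Type u} [CommRing R] [CommRing S] [Algebra R S] [IsLocalRing R] [IsLocalRing S] [Algebra.EssFiniteType R S] :
    ∃ (n : ℕ) (m : Ideal (MvPolynomial (Fin n) R)) (_ : m.IsMaximal), m.under R = IsLocalRing.maximalIdeal R ∧
      ∃ (φ : Localization.AtPrime m →ₐ[R] S) (T : Submonoid φ.range), IsLocalization T S := by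
  classical
  obtain ⟨s, hs⟩ := (inferInstance : Algebra.EssFiniteType R S).cond
  let κ := IsLocalRing.ResidueField S
  let res := IsLocalRing.residue S
  obtain ⟨V, hV, hloc⟩ := IsLocalRing.exists_factor_valuationRing (res.comp (algebraMap R S))
  let n := s.card
  let e := s.equivFin
  let y : Fin n → S := fun i => if res (e.symm i : S) ∈ V then (e.symm i : S) else Ring.inverse (e.symm i : S)
  have hyV : ∀ i, res (y i) ∈ V := by
    intro i
    simp only [y]
    split
    · assumption
    · next h =>
      rcases V.mem_or_inv_mem (res (e.symm i : S)) with h' | h'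
      · exact absurd h' h
      · have hu : IsUnit (e.symm i : S) := by
          by_contra hn
          exact h (by rw [(IsLocalRing.residue_eq_zero_iff _).mpr hn]; exact V.zero_mem)
        obtain ⟨u, hu⟩ := hu
        rw [← hu, Ring.inverse_unit, map_units_inv]
        rwa [← hu] at h'
  let ev : MvPolynomial (Fin n) R →ₐ[R] S := MvPolynomial.aeval y
  have hev : ∀ f, res (ev f) ∈ V := by
    intro f
    induction f using MvPolynomial.induction_on with
    | C c => simpa [ev] using hV c
    | add f g hf hg => rw [map_add, map_add]; exact add_mem hf hg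
    | mul_X f i hf => rw [map_mul, map_mul]; exact mul_mem hf (by simpa [ev] using hyV i)
  let ψ : MvPolynomial (Fin n) R →+* V := (res.comp ev.toRingHom).codRestrict V.toSubring hev
  let Q := (IsLocalRing.maximalIdeal V).comap ψ
  haveI : Q.IsPrime := Ideal.IsPrime.comap ψ
  obtain ⟨m, hm, hQm⟩ := Ideal.exists_le_maximal Q (Ideal.IsPrime.ne_top inferInstance)
  have hmR : m.under R = IsLocalRing.maximalIdeal R := by
    haveI := hm
    refine le_antisymm (IsLocalRing.le_maximalIdeal (Ideal.IsPrime.ne_top (Ideal.IsPrime.comap _))) fun r hr => ?_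
    show algebraMap R (MvPolynomial (Fin n) R) r ∈ m
    refine hQm ?_
    show ψ (algebraMap R _ r) ∈ IsLocalRing.maximalIdeal V
    rw [IsLocalRing.mem_maximalIdeal]
    intro hu
    refine (IsLocalRing.mem_maximalIdeal r).mp hr (hloc.map_nonunit r ?_)
    have e : (⟨res (algebraMap R S r), hV r⟩ : V) = ψ (algebraMap R _ r) := Subtype.ext (by
      show res (algebraMap R S r) = res (ev (algebraMap R _ r))
      rw [ev.commutes])
    show IsUnit (⟨res (algebraMap R S r), hV r⟩ : V)
    rw [e]; exact hu
  haveI := hm
  haveI : m.IsPrime := hm.isPrime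
  have hunit : ∀ f : m.primeCompl, IsUnit (ev f.1) := by
    intro f
    by_contra hn
    apply f.2
    apply hQm
    show ψ f.1 ∈ IsLocalRing.maximalIdeal V
    have : ψ f.1 = 0 := Subtype.ext ((IsLocalRing.residue_eq_zero_iff _).mpr hn)
    rw [this]; exact zero_mem _
  let φ : Localization.AtPrime m →ₐ[R] S :=
    IsLocalization.liftAlgHom (M := m.primeCompl) (f := ev) hunit
  let T : Submonoid φ.range := (IsUnit.submonoid S).comap φ.range.val
  refine ⟨n, m, hm, hmR, φ, T, ?_⟩
  have hy : ∀ i, y i ∈ φ.range := fun i => ⟨algebraMap (MvPolynomial (Fin n) R) (Localization.AtPrime m) (MvPolynomial.X i), by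
    simp only [φ, AlgHom.toRingHom_eq_coe, RingHom.coe_coe, IsLocalization.coe_liftAlgHom, IsLocalization.lift_eq]
    simp [ev]⟩
  let F : Subalgebra R S :=
    { carrier := {z | ∃ t ∈ φ.range, IsUnit t ∧ z * t ∈ φ.range}
      mul_mem' := fun {a b} ⟨t, ht, hu, hat⟩ ⟨t', ht', hu', hbt⟩ =>
        ⟨t * t', mul_mem ht ht', hu.mul hu', by
          rw [show a * b * (t * t') = (a * t) * (b * t') by ring]; exact mul_mem hat hbt⟩
      add_mem' := fun {a b} ⟨t, ht, hu, hat⟩ ⟨t', ht', hu', hbt⟩ =>
        ⟨t * t', mul_mem ht ht', hu.mul hu', by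
          rw [show (a + b) * (t * t') = (a * t) * t' + (b * t') * t by ring]
          exact add_mem (mul_mem hat ht') (mul_mem hbt ht)⟩
      algebraMap_mem' := fun r => ⟨1, one_mem _, isUnit_one, by rw [mul_one]; exact φ.range.algebraMap_mem r⟩ }
  have hF : Algebra.adjoin R (s : Set S) ≤ F := by
    rw [Algebra.adjoin_le_iff]
    intro z hz
    let i := e ⟨z, hz⟩
    have hzi : (e.symm i : S) = z := by simp [i]
    have hyi := hy i
    simp only [y, hzi] at hyi
    split at hyi
    · exact ⟨1, one_mem _, isUnit_one, by rwa [mul_one]⟩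
    · next h =>
      have hu : IsUnit z := by
        by_contra hn
        exact h (by rw [(IsLocalRing.residue_eq_zero_iff _).mpr hn]; exact V.zero_mem)
      exact ⟨Ring.inverse z, hyi, hu.ringInverse, by rw [Ring.mul_inverse_cancel z hu]; exact one_mem _⟩
  constructor
  constructor
  · exact fun t => t.2
  · intro z
    haveI := hs
    obtain ⟨⟨a, ⟨b, hb⟩⟩, hab⟩ := IsLocalization.surj ((IsUnit.submonoid S).comap (algebraMap (Algebra.adjoin R (s : Set S)) S)) z
    obtain ⟨t, ht, htu, hat⟩ := hF a.2
    obtain ⟨t', ht', htu', hbt⟩ := hF b.2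
    refine ⟨(⟨(a : S) * t * t', mul_mem hat ht'⟩, ⟨⟨(b : S) * t' * t, mul_mem hbt ht⟩, (IsUnit.mul hb htu').mul htu⟩), ?_⟩
    show z * ((b : S) * t' * t) = (a : S) * t * t'
    have hab' : z * (b : S) = (a : S) := hab
    rw [← hab']; ring
  · intro a b h
    exact ⟨1, by rw [Subtype.ext h]⟩

end Groth.Agent.S9655
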