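import Groth.Statements.S9656
import Mathlib.RingTheory.IntegralClosure.IsIntegralClosure.Basic
import Mathlib.Algebra.Polynomial.Lifts
import Mathlib.Algebra.BigOperators.Pi

set_option autoImplicit false
universe u
open CAlg

namespace Groth.Agent.S9656

/-- Let R_i → S_i be ring maps indexed by a finite type ι, with product map R = Π R_i → S = Π S_i. Then
an element (s_i) of S is integral over R exactly when s_i is integral over R_i for every i; so
integral closure in a finite product is computed factor by factor. -/
theorem result {ι : Type u} [Fintype ι] {R S : ι → Type u} [∀ i, CommRing (R i)] [∀ i, CommRing (S i)] (f : ∀ i, R i →+* S i) (s : ∀ i, S i) :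
    (RingHom.pi fun i => (f i).comp (Pi.evalRingHom R i)).IsIntegralElem s ↔ ∀ i, (f i).IsIntegralElem (s i) := by
  classical
  let F := RingHom.pi fun i => (f i).comp (Pi.evalRingHom R i)
  constructor
  · rintro ⟨P, hP, hev⟩ i
    refine ⟨P.map (Pi.evalRingHom R i), hP.map _, ?_⟩
    rw [Polynomial.eval₂_map]
    have := congrArg (Pi.evalRingHom S i) hev
    rw [Polynomial.hom_eval₂, map_zero] at this
    exact this
  · intro h
    have hs : s = ∑ i, Pi.single i (s i) := (Finset.univ_sum_single s).symm
    have hone : ∀ i, F.IsIntegralElem (Pi.single i (s i)) := by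
      intro i
      rcases subsingleton_or_nontrivial (R i) with hR | hR
      · have hs0 : s i = 0 := by
          have h01 : (1 : S i) = 0 := by rw [← map_one (f i), Subsingleton.elim (1 : R i) 0, map_zero]
          rw [← mul_one (s i), h01, mul_zero]
        rw [hs0, Pi.single_zero]
        exact RingHom.isIntegralElem_zero F
      obtain ⟨p, hp, hpev⟩ := h i
      have hsurj : Function.Surjective (Pi.evalRingHom R i) := fun r => ⟨Pi.single i r, by simp⟩
      obtain ⟨q, hqp, -, hq⟩ := Polynomial.lifts_and_degree_eq_and_monic
        ((Polynomial.lifts_iff_coeff_lifts _).2 fun n => hsurj (p.coeff n)) hp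
      refine ⟨Polynomial.X * q, Polynomial.monic_X.mul hq, ?_⟩
      rw [Polynomial.eval₂_mul, Polynomial.eval₂_X]
      funext j
      rw [Pi.mul_apply, Pi.zero_apply]
      by_cases hj : j = i
      · subst hj
        have : (Polynomial.eval₂ F (Pi.single j (s j)) q) j = Polynomial.eval₂ (f j) (s j) p := by
          rw [← hqp, Polynomial.eval₂_map]
          have := Polynomial.hom_eval₂ q F (Pi.evalRingHom S j) (Pi.single j (s j))
          simpa [F] using! this
        rw [this, hpev, mul_zero]
      · rw [Pi.single_eq_of_ne hj, zero_mul]
    rw [hs]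
    exact Finset.sum_induction _ F.IsIntegralElem (fun a b => RingHom.IsIntegralElem.add F)
      (RingHom.isIntegralElem_zero F) fun i _ => hone i

end Groth.Agent.S9656
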