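import Groth.Statements.S9657
import Mathlib

set_option autoImplicit false
set_option backward.isDefEq.respectTransparency false
set_option linter.style.haveILetI false
universe u
open CAlg

namespace Groth.Agent.S9657

open TensorProduct

theorem tmul_algebraMap {R A B : Type*} [CommRing R] [CommRing A] [CommRing B] [Algebra R A] [Algebra R B] (c : R) :
    (algebraMap R A c) ⊗ₜ[R] (1 : B) = (1 : A) ⊗ₜ[R] algebraMap R B c := by
  rw [Algebra.algebraMap_eq_smul_one, Algebra.algebraMap_eq_smul_one, TensorProduct.smul_tmul]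

/-- Ring maps out of a tensor product. -/
theorem exists_hom {k A B T : Type u} [CommRing k] [CommRing A] [CommRing B] [CommRing T] [Algebra k A] [Algebra k B]
    (a : A →+* T) (b : B →+* T) (h : ∀ c, a (algebraMap k A c) = b (algebraMap k B c)) :
    ∃ φ : A ⊗[k] B →+* T, ∀ x y, φ (x ⊗ₜ y) = a x * b y := by
  letI : Algebra k T := (a.comp (algebraMap k A)).toAlgebra
  let a' : A →ₐ[k] T := { a with commutes' := fun c => rfl }
  let b' : B →ₐ[k] T := { b with commutes' := fun c => (h c).symm }
  exact ⟨(Algebra.TensorProduct.lift a' b' fun _ _ => Commute.all _ _).toRingHom,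
    fun x y => Algebra.TensorProduct.lift_tmul a' b' (fun _ _ => Commute.all _ _) x y⟩

/-- Points with values in a domain factor through the tensor product of the function fields. -/
theorem key {k K : Type u} [Field k] [Field K] [Algebra k K]
    (kt Kt : Type u) [Field kt] [Field Kt] [Algebra (Polynomial k) kt] [IsFractionRing (Polynomial k) kt]
    [Algebra (Polynomial K) Kt] [IsFractionRing (Polynomial K) Kt] [Algebra kt Kt]
    (hcompat : ∀ p : Polynomial k, algebraMap kt Kt (algebraMap (Polynomial k) kt p) =
      algebraMap (Polynomial K) Kt (Polynomial.map (algebraMap k K) p))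
    {k' : Type u} [Field k'] [Algebra k k'] [Algebra kt (FractionRing (Polynomial k'))]
    (hL : ∀ q : Polynomial k, algebraMap kt (FractionRing (Polynomial k')) (algebraMap _ kt q) =
      algebraMap (Polynomial k') _ (q.map (algebraMap k k')))
    (χ : k' ⊗[k] K →+* FractionRing (Polynomial k') ⊗[kt] Kt)
    (hχ : ∀ x y, χ (x ⊗ₜ y) =
      (algebraMap (Polynomial k') (FractionRing (Polynomial k')) (Polynomial.C x) ⊗ₜ[kt] (1 : Kt)) *
        ((1 : FractionRing (Polynomial k')) ⊗ₜ[kt] algebraMap (Polynomial K) Kt (Polynomial.C y)))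
    {D : Type u} [CommRing D] [IsDomain D] (π : k' ⊗[k] K →+* D) (z : k' ⊗[k] K) (hz : IsNilpotent (χ z)) :
    π z = 0 := by
  let a : k' →+* D := π.comp Algebra.TensorProduct.includeLeftRingHom
  let b : K →+* D := π.comp (Algebra.TensorProduct.includeRight : K →ₐ[k] k' ⊗[k] K).toRingHom
  let A' : FractionRing (Polynomial k') →+* FractionRing (Polynomial D) :=
    IsFractionRing.lift (K := FractionRing (Polynomial k'))
      (g := (algebraMap (Polynomial D) (FractionRing (Polynomial D))).comp (Polynomial.mapRingHom a))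
      ((IsFractionRing.injective _ _).comp (Polynomial.map_injective a a.injective))
  let B' : Kt →+* FractionRing (Polynomial D) := IsFractionRing.lift (K := Kt)
      (g := (algebraMap (Polynomial D) (FractionRing (Polynomial D))).comp (Polynomial.mapRingHom b))
      ((IsFractionRing.injective _ _).comp (Polynomial.map_injective b b.injective))
  obtain ⟨Φ, hΦ⟩ := exists_hom (k := kt) A' B' (fun c => by
    refine RingHom.congr_fun (IsLocalization.ringHom_ext (nonZeroDivisors (Polynomial k))
      (j := A'.comp (algebraMap kt (FractionRing (Polynomial k')))) (k := B'.comp (algebraMap kt Kt)) ?_) c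
    refine RingHom.ext fun q => ?_
    show A' (algebraMap kt _ (algebraMap _ _ q)) = B' (algebraMap kt Kt (algebraMap _ _ q))
    rw [hcompat, hL, IsFractionRing.lift_algebraMap, IsFractionRing.lift_algebraMap]
    simp only [RingHom.comp_apply, Polynomial.coe_mapRingHom, Polynomial.map_map]
    congr 2
    refine RingHom.ext fun c => congrArg π ?_
    exact tmul_algebraMap c)
  have hΦχ : ∀ w, Φ (χ w) = algebraMap (Polynomial D) (FractionRing (Polynomial D)) (Polynomial.C (π w)) := by
    intro w
    induction w using TensorProduct.induction_on with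
    | zero => simp only [map_zero]
    | add x y hx hy => simp only [map_add, hx, hy]
    | tmul x y =>
      rw [hχ, map_mul, hΦ, hΦ, map_one, map_one, one_mul, mul_one, IsFractionRing.lift_algebraMap,
        IsFractionRing.lift_algebraMap]
      simp only [RingHom.comp_apply, Polynomial.coe_mapRingHom, Polynomial.map_C]
      rw [← map_mul, ← map_mul]
      refine congrArg _ (congrArg _ ?_)
      show π (x ⊗ₜ[k] (1 : K)) * π ((1 : k') ⊗ₜ[k] y) = _
      rw [← map_mul, Algebra.TensorProduct.tmul_mul_tmul, one_mul, mul_one]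
  have h0 : Φ (χ z) = 0 := isNilpotent_iff_eq_zero.mp (IsNilpotent.map hz Φ)
  rw [hΦχ, ← map_zero (algebraMap (Polynomial D) (FractionRing (Polynomial D)))] at h0
  exact Polynomial.C_eq_zero.mp (IsFractionRing.injective _ _ h0)

/-- Let K/k be a field extension and let k(t) ⊆ K(t) be the purely transcendental extensions in one
variable, realised as fraction fields of k[t] and K[t] compatibly with k[t] → K[t]. Then K is
geometrically irreducible over k (Spec(k' ⊗_k K) irreducible for every field extension k'/k) if and
only if K(t) is geometrically irreducible over k(t). Here the test fields range over field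
extensions of k, respectively of k(t), in the universe of k; this is equivalent to the unrestricted
notions, since an algebraic closure of the base field suffices as a test. -/
theorem result {k K : Type u} [Field k] [Field K] [Algebra k K]
    (kt Kt : Type u) [Field kt] [Field Kt] [Algebra (Polynomial k) kt] [IsFractionRing (Polynomial k) kt] [Algebra (Polynomial K) Kt] [IsFractionRing (Polynomial K) Kt]
    [Algebra kt Kt] (hcompat : ∀ p : Polynomial k, algebraMap kt Kt (algebraMap (Polynomial k) kt p) = algebraMap (Polynomial K) Kt (Polynomial.map (algebraMap k K) p)) :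
    (∀ (k' : Type u) [Field k'] [Algebra k k'], IrreducibleSpace (PrimeSpectrum (k' ⊗[k] K))) ↔
      ∀ (L : Type u) [Field L] [Algebra kt L], IrreducibleSpace (PrimeSpectrum (L ⊗[kt] Kt)) := by
  classical
  have inj := IsFractionRing.injective (Polynomial k) kt
  have injK := IsFractionRing.injective (Polynomial K) Kt
  constructor
  · intro H L _ _
    letI : Algebra k L := ((algebraMap kt L).comp ((algebraMap (Polynomial k) kt).comp Polynomial.C)).toAlgebra
    rw [PrimeSpectrum.irreducibleSpace_iff_isPrime_nilradical]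
    have hP := PrimeSpectrum.irreducibleSpace_iff_isPrime_nilradical.mp (H L)
    obtain ⟨θ, hθ⟩ := exists_hom (k := k) (A := L) (B := K) (T := L ⊗[kt] Kt)
      Algebra.TensorProduct.includeLeftRingHom
      ((Algebra.TensorProduct.includeRight : Kt →ₐ[kt] L ⊗[kt] Kt).toRingHom.comp
        ((algebraMap (Polynomial K) Kt).comp Polynomial.C)) (fun c => by
      show (algebraMap kt L (algebraMap (Polynomial k) kt (Polynomial.C c))) ⊗ₜ[kt] (1 : Kt) =
        (1 : L) ⊗ₜ[kt] algebraMap (Polynomial K) Kt (Polynomial.C (algebraMap k K c))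
      rw [← Polynomial.map_C, ← hcompat]
      exact tmul_algebraMap _)
    let t : L := algebraMap kt L (algebraMap (Polynomial k) kt Polynomial.X)
    let ρ : Polynomial K →+* L ⊗[k] K := Polynomial.eval₂RingHom
      (Algebra.TensorProduct.includeRight : K →ₐ[k] L ⊗[k] K).toRingHom (t ⊗ₜ 1)
    have hρ : θ.comp ρ = (Algebra.TensorProduct.includeRight : Kt →ₐ[kt] L ⊗[kt] Kt).toRingHom.comp
        (algebraMap (Polynomial K) Kt) := by
      refine Polynomial.ringHom_ext (fun y => ?_) ?_
      · show θ (Polynomial.eval₂ _ _ (Polynomial.C y)) = (1 : L) ⊗ₜ[kt] algebraMap (Polynomial K) Kt (Polynomial.C y)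
        rw [Polynomial.eval₂_C]
        show θ ((1 : L) ⊗ₜ[k] y) = _
        rw [hθ, map_one, one_mul]; rfl
      · show θ (Polynomial.eval₂ _ _ Polynomial.X) = (1 : L) ⊗ₜ[kt] algebraMap (Polynomial K) Kt Polynomial.X
        rw [Polynomial.eval₂_X, hθ, map_one, mul_one, ← Polynomial.map_X (algebraMap k K), ← hcompat]
        show t ⊗ₜ[kt] (1 : Kt) = _
        exact tmul_algebraMap _
    haveI : Nontrivial (L ⊗[kt] Kt) := (Module.FaithfullyFlat.nontrivial_tensorProduct_iff_left kt L).mpr inferInstance
    have hunit : ∀ g : Polynomial K, g ≠ 0 → IsUnit (θ (ρ g)) := fun g hg => by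
      rw [← RingHom.comp_apply, hρ]
      exact (IsUnit.mk0 _ fun h => hg (injK (h.trans (map_zero _).symm))).map
        (Algebra.TensorProduct.includeRight : Kt →ₐ[kt] L ⊗[kt] Kt).toRingHom
    have hsurj : ∀ z, ∃ (g : Polynomial K) (w : L ⊗[k] K), g ≠ 0 ∧ z * θ (ρ g) = θ w := by
      intro z
      induction z using TensorProduct.induction_on with
      | zero => exact ⟨1, 0, one_ne_zero, by simp⟩
      | add a b ha hb =>
        obtain ⟨g₁, w₁, hg₁, h₁⟩ := ha
        obtain ⟨g₂, w₂, hg₂, h₂⟩ := hb
        refine ⟨g₁ * g₂, w₁ * ρ g₂ + w₂ * ρ g₁, mul_ne_zero hg₁ hg₂, ?_⟩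
        simp only [map_mul, map_add, ← h₁, ← h₂]
        ring
      | tmul x y =>
        obtain ⟨h, g, hg, rfl⟩ := IsFractionRing.div_surjective (Polynomial K) y
        have hg0 := nonZeroDivisors.ne_zero hg
        refine ⟨g, (x ⊗ₜ 1) * ρ h, hg0, ?_⟩
        rw [map_mul, hθ, map_one, mul_one, ← RingHom.comp_apply, ← RingHom.comp_apply, hρ]
        show _ * ((1 : L) ⊗ₜ[kt] _) = (x ⊗ₜ[kt] (1 : Kt)) * ((1 : L) ⊗ₜ[kt] _)
        rw [Algebra.TensorProduct.tmul_mul_tmul, Algebra.TensorProduct.tmul_mul_tmul, one_mul, mul_one,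
          div_mul_cancel₀ _ (fun h => hg0 (injK (h.trans (map_zero _).symm)))]
    let S : Submonoid (L ⊗[k] K) := (nonZeroDivisors (Polynomial K)).map ρ
    let τ : Kt →+* Localization S := IsLocalization.lift (M := nonZeroDivisors (Polynomial K))
      (g := (algebraMap (L ⊗[k] K) (Localization S)).comp ρ) fun g =>
        IsLocalization.map_units (Localization S) (⟨ρ g, g.1, g.2, rfl⟩ : S)
    obtain ⟨ξ, hξ⟩ := exists_hom (k := kt) (A := L) (B := Kt) (T := Localization S)
      ((algebraMap (L ⊗[k] K) (Localization S)).comp Algebra.TensorProduct.includeLeftRingHom) τ (fun c => by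
      refine RingHom.congr_fun (IsLocalization.ringHom_ext (nonZeroDivisors (Polynomial k))
        (j := ((algebraMap (L ⊗[k] K) (Localization S)).comp Algebra.TensorProduct.includeLeftRingHom).comp
          (algebraMap kt L)) (k := τ.comp (algebraMap kt Kt)) ?_) c
      refine Polynomial.ringHom_ext (fun y => ?_) ?_
      · show algebraMap (L ⊗[k] K) (Localization S) (algebraMap k L y ⊗ₜ 1) = τ (algebraMap kt Kt _)
        rw [hcompat, IsLocalization.lift_eq, Polynomial.map_C]
        simp only [RingHom.comp_apply, ρ, Polynomial.coe_eval₂RingHom, Polynomial.eval₂_C]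
        refine congrArg _ ?_
        show _ = (1 : L) ⊗ₜ[k] algebraMap k K y
        rw [Algebra.algebraMap_eq_smul_one, Algebra.algebraMap_eq_smul_one, TensorProduct.smul_tmul]
      · show algebraMap (L ⊗[k] K) (Localization S) (t ⊗ₜ 1) = τ (algebraMap kt Kt _)
        rw [hcompat, IsLocalization.lift_eq, Polynomial.map_X]
        simp only [RingHom.comp_apply, ρ, Polynomial.coe_eval₂RingHom, Polynomial.eval₂_X])
    have hξθ : ξ.comp θ = algebraMap (L ⊗[k] K) (Localization S) := by
      refine RingHom.ext fun z => ?_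
      induction z using TensorProduct.induction_on with
      | zero => simp only [map_zero]
      | add a b ha hb => simp only [map_add, ha, hb]
      | tmul x y =>
        rw [RingHom.comp_apply, hθ, map_mul]
        show ξ (x ⊗ₜ[kt] (1 : Kt)) * ξ ((1 : L) ⊗ₜ[kt] algebraMap (Polynomial K) Kt (Polynomial.C y)) = _
        rw [hξ, hξ, map_one, map_one, one_mul, mul_one, IsLocalization.lift_eq]
        simp only [RingHom.comp_apply, ρ, Polynomial.coe_eval₂RingHom, Polynomial.eval₂_C]
        rw [← map_mul]
        show algebraMap _ _ ((x ⊗ₜ[k] (1 : K)) * ((1 : L) ⊗ₜ[k] y)) = _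
        rw [Algebra.TensorProduct.tmul_mul_tmul, one_mul, mul_one]
    refine Ideal.isPrime_iff.mpr ⟨fun h => ?_, fun {a b} hab => ?_⟩
    · exact not_isNilpotent_one (mem_nilradical.mp (h ▸ Submodule.mem_top : (1 : L ⊗[kt] Kt) ∈ nilradical _))
    · obtain ⟨g₁, w₁, hg₁, h₁⟩ := hsurj a
      obtain ⟨g₂, w₂, hg₂, h₂⟩ := hsurj b
      rw [← (hunit g₁ hg₁).unit_spec] at h₁
      rw [← (hunit g₂ hg₂).unit_spec] at h₂
      have hn : IsNilpotent (ξ (θ (w₁ * w₂))) := by
        refine IsNilpotent.map ?_ ξ
        rw [map_mul, ← h₁, ← h₂, mul_mul_mul_comm]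
        exact Commute.isNilpotent_mul_right (Commute.all _ _) hab
      rw [← RingHom.comp_apply, hξθ] at hn
      obtain ⟨N, hN⟩ := hn
      rw [← map_pow, IsLocalization.map_eq_zero_iff S] at hN
      obtain ⟨⟨s, g, hg, rfl⟩, hs⟩ := hN
      have hgP : ρ g ∉ nilradical (L ⊗[k] K) := fun h =>
        (hunit g (nonZeroDivisors.ne_zero hg)).not_isNilpotent (IsNilpotent.map h θ)
      have hw : w₁ * w₂ ∈ nilradical (L ⊗[k] K) :=
        hP.mem_of_pow_mem N ((hP.mem_or_mem (show ρ g * (w₁ * w₂) ^ N ∈ nilradical _ by
          rw [show ρ g * (w₁ * w₂) ^ N = 0 from hs]; exact zero_mem _)).resolve_left hgP)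
      rcases hP.mem_or_mem hw with hw1 | hw2
      · refine Or.inl ?_
        have := Commute.isNilpotent_mul_right (y := (((hunit g₁ hg₁).unit⁻¹ : (L ⊗[kt] Kt)ˣ) : L ⊗[kt] Kt)) (Commute.all _ _) (h₁ ▸ IsNilpotent.map hw1 θ)
        rwa [Units.mul_inv_cancel_right] at this
      · refine Or.inr ?_
        have := Commute.isNilpotent_mul_right (y := (((hunit g₂ hg₂).unit⁻¹ : (L ⊗[kt] Kt)ˣ) : L ⊗[kt] Kt)) (Commute.all _ _) (h₂ ▸ IsNilpotent.map hw2 θ)
        rwa [Units.mul_inv_cancel_right] at this
  · intro H k' _ _
    let Q : Polynomial k →+* FractionRing (Polynomial k') :=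
      (algebraMap (Polynomial k') (FractionRing (Polynomial k'))).comp (Polynomial.mapRingHom (algebraMap k k'))
    have hQ : Function.Injective Q := (IsFractionRing.injective _ _).comp
      (Polynomial.map_injective _ (algebraMap k k').injective)
    letI : Algebra kt (FractionRing (Polynomial k')) := (IsFractionRing.lift (K := kt) hQ).toAlgebra
    have hN := PrimeSpectrum.irreducibleSpace_iff_isPrime_nilradical.mp (H (FractionRing (Polynomial k')))
    obtain ⟨χ, hχ⟩ := exists_hom (k := k) (A := k') (B := K) (T := FractionRing (Polynomial k') ⊗[kt] Kt)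
      ((Algebra.TensorProduct.includeLeftRingHom).comp
        ((algebraMap (Polynomial k') (FractionRing (Polynomial k'))).comp Polynomial.C))
      ((Algebra.TensorProduct.includeRight : Kt →ₐ[kt] FractionRing (Polynomial k') ⊗[kt] Kt).toRingHom.comp
        ((algebraMap (Polynomial K) Kt).comp Polynomial.C)) (fun c => by
      show algebraMap _ (FractionRing (Polynomial k')) (Polynomial.C (algebraMap k k' c)) ⊗ₜ[kt] (1 : Kt) =
        (1 : FractionRing (Polynomial k')) ⊗ₜ[kt] algebraMap (Polynomial K) Kt (Polynomial.C (algebraMap k K c))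
      have e : algebraMap (Polynomial k') (FractionRing (Polynomial k')) (Polynomial.C (algebraMap k k' c)) =
          algebraMap kt (FractionRing (Polynomial k')) (algebraMap (Polynomial k) kt (Polynomial.C c)) := by
        show _ = IsFractionRing.lift (K := kt) hQ _
        rw [IsFractionRing.lift_algebraMap, ← Polynomial.map_C]
        rfl
      rw [e, ← Polynomial.map_C, ← hcompat]
      exact tmul_algebraMap _)
    rw [PrimeSpectrum.irreducibleSpace_iff_isPrime_nilradical]
    suffices h : ∀ P : Ideal (k' ⊗[k] K), P.IsPrime → (nilradical _).comap χ ≤ P by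
      have e : nilradical (k' ⊗[k] K) = (nilradical _).comap χ := by
        refine le_antisymm (fun z hz => IsNilpotent.map hz χ) ?_
        rw [nilradical_eq_sInf (R := k' ⊗[k] K)]
        exact le_sInf fun P hP => h P hP
      rw [e]
      exact Ideal.IsPrime.comap χ
    intro P hP
    haveI := hP
    intro z hz
    exact Ideal.Quotient.eq_zero_iff_mem.mp (key kt Kt hcompat
      (fun q => IsFractionRing.lift_algebraMap hQ q) χ hχ (Ideal.Quotient.mk P) z (Ideal.mem_comap.mp hz))

end Groth.Agent.S9657
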