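import Groth.Statements.S9658
import Mathlib.Algebra.Module.LocalizedModule.Basic
import Mathlib.RingTheory.Ideal.Operations
import Mathlib.RingTheory.Ideal.Span

set_option autoImplicit false
universe u
open CAlg

namespace Groth.Agent.S9658

/-- Let R be a ring, f_1, …, f_n ∈ R generating the unit ideal and M an R-module. With M_i = M_{f_i},
M_ij = M_{f_i f_j} (any localizations, with the canonical compatible maps M → M_i → M_ij), the
sequence 0 → M → ⊕ M_i → ⊕ M_ij is exact: an element of M whose image vanishes in every M_i is zero,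
and every family (m_i ∈ M_i) such that m_i and m_j have the same image in M_ij for all i, j is the
image of an element of M. -/
theorem result {R : Type u} [CommRing R] {ι : Type u} [Fintype ι] (f : ι → R) (hf : Ideal.span (Set.range f) = ⊤)
    (M : Type u) [AddCommGroup M] [Module R M]
    (Mi : ι → Type u) [∀ i, AddCommGroup (Mi i)] [∀ i, Module R (Mi i)] (g : ∀ i, M →ₗ[R] Mi i) [∀ i, IsLocalizedModule (Submonoid.powers (f i)) (g i)]
    (Mij : ι → ι → Type u) [∀ i j, AddCommGroup (Mij i j)] [∀ i j, Module R (Mij i j)] (gij : ∀ i j, M →ₗ[R] Mij i j) [∀ i j, IsLocalizedModule (Submonoid.powers (f i * f j)) (gij i j)]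
    (ρ₁ : ∀ i j, Mi i →ₗ[R] Mij i j) (hρ₁ : ∀ i j, ρ₁ i j ∘ₗ g i = gij i j) (ρ₂ : ∀ i j, Mi j →ₗ[R] Mij i j) (hρ₂ : ∀ i j, ρ₂ i j ∘ₗ g j = gij i j) :
    (∀ m : M, (∀ i, g i m = 0) → m = 0) ∧
      ∀ s : ∀ i, Mi i, (∀ i j, ρ₁ i j (s i) = ρ₂ i j (s j)) → ∃ m : M, ∀ i, g i m = s i := by
  classical
  have hpart : ∀ N : ℕ, ∃ a : ι → R, ∑ i, a i * f i ^ N = 1 := fun N => by
    have h1 : (1 : R) ∈ Ideal.span (Set.range fun i => f i ^ N) := by
      have := Ideal.span_pow_eq_top (Set.range f) hf N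
      rw [← Set.range_comp] at this
      exact this ▸ Submodule.mem_top
    exact (Ideal.mem_span_range_iff_exists_fun).1 h1
  refine ⟨fun m hm => ?_, fun s hs => ?_⟩
  · have h1 : ∀ i, ∃ k : ℕ, f i ^ k • m = 0 := fun i => by
      obtain ⟨⟨_, k, rfl⟩, hk⟩ := (IsLocalizedModule.eq_zero_iff (Submonoid.powers (f i)) (g i)).1 (hm i)
      exact ⟨k, hk⟩
    choose k hk using h1
    obtain ⟨a, ha⟩ := hpart (∑ i, k i)
    rw [← one_smul R m, ← ha, Finset.sum_smul]
    refine Finset.sum_eq_zero fun i _ => ?_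
    rw [mul_smul, ← Nat.sub_add_cancel (Finset.single_le_sum (f := k) (fun _ _ => Nat.zero_le _) (Finset.mem_univ i)), pow_add, mul_smul, hk, smul_zero, smul_zero]
  · have h1 : ∀ i, ∃ (k : ℕ) (m : M), f i ^ k • s i = g i m := fun i => by
      obtain ⟨⟨m, ⟨_, k, rfl⟩⟩, hk⟩ := IsLocalizedModule.surj (Submonoid.powers (f i)) (g i) (s i)
      exact ⟨k, m, hk⟩
    choose k m hm using h1
    let N := ∑ i, k i
    obtain ⟨m₁, hm₁⟩ : ∃ m₁ : ι → M, ∀ i, f i ^ N • s i = g i (m₁ i) := ⟨fun i => f i ^ (N - k i) • m i, fun i => by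
      rw [map_smul, ← hm, ← mul_smul, ← pow_add, Nat.sub_add_cancel (Finset.single_le_sum (f := k) (fun _ _ => Nat.zero_le _) (Finset.mem_univ i))]⟩
    have h2 : ∀ i j, ∃ K : ℕ, (f i * f j) ^ K • (f j ^ N • m₁ i - f i ^ N • m₁ j) = 0 := fun i j => by
      have h3 : gij i j (f j ^ N • m₁ i - f i ^ N • m₁ j) = 0 := by
        rw [map_sub, map_smul, map_smul, ← LinearMap.congr_fun (hρ₁ i j) (m₁ i), ← LinearMap.congr_fun (hρ₂ i j) (m₁ j),
          LinearMap.comp_apply, LinearMap.comp_apply, ← hm₁, ← hm₁, map_smul, map_smul, hs, smul_comm, sub_self]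
      obtain ⟨⟨_, K, rfl⟩, hK⟩ := (IsLocalizedModule.eq_zero_iff (Submonoid.powers (f i * f j)) (gij i j)).1 h3
      exact ⟨K, hK⟩
    choose K hK using h2
    let L := ∑ i, ∑ j, K i j
    have hKL : ∀ i j, K i j ≤ L := fun i j => (Finset.single_le_sum (f := K i) (fun _ _ => Nat.zero_le _) (Finset.mem_univ j)).trans
      (Finset.single_le_sum (f := fun i => ∑ j, K i j) (fun _ _ => Nat.zero_le _) (Finset.mem_univ i))
    let m₂ := fun i => f i ^ L • m₁ i
    have hm₂ : ∀ i j, f j ^ (N + L) • m₂ i = f i ^ (N + L) • m₂ j := fun i j => by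
      have h3 : (f i * f j) ^ L • (f j ^ N • m₁ i - f i ^ N • m₁ j) = 0 := by
        rw [← Nat.sub_add_cancel (hKL i j), pow_add, mul_smul, hK, smul_zero]
      rw [smul_sub, sub_eq_zero] at h3
      simp only [m₂, smul_smul] at h3 ⊢
      convert h3 using 2 <;> ring
    obtain ⟨a, ha⟩ := hpart (N + L)
    refine ⟨∑ i, a i • m₂ i, fun j => ?_⟩
    have hu := IsLocalizedModule.map_units (g j) (⟨f j ^ (N + L), ⟨_, rfl⟩⟩ : Submonoid.powers (f j))
    refine ((Module.End.isUnit_iff _).1 hu).1 ?_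
    show f j ^ (N + L) • g j _ = f j ^ (N + L) • s j
    have h4 : f j ^ (N + L) • (∑ i, a i • m₂ i) = m₂ j := by
      rw [Finset.smul_sum]
      simp only [smul_comm (f j ^ (N + L)) (a _), hm₂ _ j]
      conv_rhs => rw [← one_smul R (m₂ j), ← ha, Finset.sum_smul]
      simp only [mul_smul]
    rw [← map_smul, h4, map_smul, ← hm₁, ← mul_smul, ← pow_add, add_comm]

end Groth.Agent.S9658
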