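import Groth.Statements.S9659
import Mathlib.RingTheory.GradedAlgebra.Radical
import Mathlib.Tactic.Ring
import Mathlib.RingTheory.Ideal.Maps

set_option autoImplicit false
universe u
open CAlg

namespace Groth.Agent.S9659

/-- Let S be a ℤ-graded ring which contains an invertible homogeneous element of positive degree. Then
the set of homogeneous prime ideals of S, with the topology induced from Spec(S), maps
homeomorphically onto Spec(S₀) by p ↦ p ∩ S₀. -/
theorem result {R S : Type u} [CommRing R] [CommRing S] [Algebra R S] (𝒜 : ℤ → Submodule R S) [GradedAlgebra 𝒜]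
    (f : S) (d : ℤ) (hd : 0 < d) (hf : f ∈ 𝒜 d) (hu : IsUnit f) :
    IsHomeomorph (fun p : {p : PrimeSpectrum S // p.asIdeal.IsHomogeneous 𝒜} => PrimeSpectrum.comap (SetLike.GradeZero.subring 𝒜).subtype p.1) := by
  classical
  let S0 := SetLike.GradeZero.subring 𝒜
  obtain ⟨D, rfl⟩ : ∃ D : ℕ, d = (D : ℤ) := ⟨d.toNat, (Int.toNat_of_nonneg hd.le).symm⟩
  have hD : 0 < D := by exact_mod_cast hd
  obtain ⟨u, hu'⟩ := hu.exists_right_inv
  let v : S := (DirectSum.decompose 𝒜 u (-(D : ℤ)) : S)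
  have hvm : v ∈ 𝒜 (-(D : ℤ)) := SetLike.coe_mem _
  have hv : f * v = 1 := by
    have h1 := congrArg (fun x => (DirectSum.decompose 𝒜 x (0 : ℤ) : S)) hu'
    simp only at h1
    rw [DirectSum.decompose_of_mem_same 𝒜 SetLike.GradedOne.one_mem, mul_comm] at h1
    rw [show (0 : ℤ) = -(D : ℤ) + (D : ℤ) by ring, DirectSum.coe_decompose_mul_add_of_right_mem 𝒜 hf] at h1
    rw [mul_comm]
    exact h1
  let t : ℤ → S := fun i => if 0 ≤ i then v ^ i.toNat else f ^ (-i).toNat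
  have ht : ∀ i, t i ∈ 𝒜 (-(i * D)) := by
    intro i
    by_cases hi : 0 ≤ i
    · have := SetLike.pow_mem_graded i.toNat hvm
      simp only [t, if_pos hi]
      convert this using 2
      rw [nsmul_eq_mul, Int.toNat_of_nonneg hi]; ring
    · have := SetLike.pow_mem_graded (-i).toNat hf
      simp only [t, if_neg hi]
      convert this using 2
      rw [nsmul_eq_mul, Int.toNat_of_nonneg (by omega)]; ring
  have htu : ∀ i, IsUnit (t i) := fun i => by
    have hvu : IsUnit v := IsUnit.of_mul_eq_one f (by rw [mul_comm]; exact hv)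
    have hfu : IsUnit f := IsUnit.of_mul_eq_one v hv
    simp only [t]
    split <;> [exact hvu.pow _; exact hfu.pow _]
  let e : ∀ (i : ℤ) (a : S), a ∈ 𝒜 i → S0 := fun i a ha => ⟨a ^ D * t i, by
    have h1 := SetLike.mul_mem_graded (SetLike.pow_mem_graded D ha) (ht i)
    rwa [nsmul_eq_mul, show ((D : ℤ) * i + -(i * D)) = 0 by ring] at h1⟩
  have he : ∀ (p : Ideal S) [p.IsPrime] (i : ℤ) (a : S) (ha : a ∈ 𝒜 i), a ∈ p ↔ e i a ha ∈ p.comap S0.subtype := by
    intro p _ i a ha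
    show a ∈ p ↔ a ^ D * t i ∈ p
    refine ⟨fun h => p.mul_mem_right _ (Ideal.pow_mem_of_mem p h D hD), fun h => ?_⟩
    refine Ideal.IsPrime.mem_of_pow_mem ‹_› D ((Ideal.IsPrime.mem_or_mem ‹_› h).resolve_right fun h2 => ?_)
    exact Ideal.IsPrime.ne_top ‹_› (Ideal.eq_top_of_isUnit_mem _ h2 (htu i))
  have hsurj : ∀ P : PrimeSpectrum S0, ∃ Q : Ideal S, Q.IsPrime ∧ Q.IsHomogeneous 𝒜 ∧ Q.comap S0.subtype = P.asIdeal := by
    intro P
    let PS := Ideal.span (Subtype.val '' (P.asIdeal : Set S0) : Set S)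
    have hPSh : PS.IsHomogeneous 𝒜 := Ideal.homogeneous_span 𝒜 _ (by
      rintro _ ⟨x, -, rfl⟩
      exact ⟨0, x.2⟩)
    have hcon : ∀ x : S0, (x : S) ∈ PS → x ∈ P.asIdeal := by
      intro x hx
      obtain ⟨c, hc⟩ := Submodule.mem_span_set.1 hx
      have h0 := congrArg (fun z => (DirectSum.decompose 𝒜 z (0 : ℤ) : S)) hc.2
      simp only [Finsupp.sum] at h0
      rw [DirectSum.decompose_of_mem_same 𝒜 x.2, DirectSum.decompose_sum, DFinsupp.finsetSum_apply, AddSubmonoidClass.coe_finsetSum] at h0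
      have hmem : ∀ z ∈ c.support, z ∈ 𝒜 0 ∧ ∀ hz : z ∈ S0, (⟨z, hz⟩ : S0) ∈ P.asIdeal := fun z hz => by
        obtain ⟨y, hy, rfl⟩ := hc.1 hz
        exact ⟨y.2, fun _ => hy⟩
      have hx' : x = ∑ z ∈ c.support.attach, (⟨DirectSum.decompose 𝒜 (c z.1) (0 : ℤ), SetLike.coe_mem _⟩ : S0) * ⟨z.1, (hmem z.1 z.2).1⟩ := by
        refine Subtype.ext ?_
        rw [← h0, AddSubmonoidClass.coe_finsetSum, ← Finset.sum_attach c.support]
        refine Finset.sum_congr rfl fun z _ => ?_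
        rw [smul_eq_mul, DirectSum.coe_decompose_mul_of_right_mem_zero 𝒜 (hmem z.1 z.2).1]
        rfl
      rw [hx']
      exact Ideal.sum_mem _ fun z _ => Ideal.mul_mem_left _ _ ((hmem z.1 z.2).2 _)
    have hQc : ∀ x : S0, (x : S) ∈ PS.radical ↔ x ∈ P.asIdeal := fun x =>
      ⟨fun ⟨n, hn⟩ => P.isPrime.mem_of_pow_mem n (hcon (x ^ n) hn), fun hx => Ideal.le_radical (Ideal.subset_span ⟨x, hx, rfl⟩)⟩
    refine ⟨PS.radical, ?_, hPSh.radical, Ideal.ext hQc⟩
    refine hPSh.radical.isPrime_of_homogeneous_mem_or_mem (fun htop => P.isPrime.ne_top ?_) ?_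
    · rw [Ideal.eq_top_iff_one]
      exact (hQc 1).1 (htop ▸ Submodule.mem_top)
    · rintro a b ⟨i, ha⟩ ⟨j, hb⟩ hab
      have hmul : e i a ha * e j b hb ∈ P.asIdeal := (hQc _).1 (by
        show (a ^ D * t i) * (b ^ D * t j) ∈ PS.radical
        rw [show (a ^ D * t i) * (b ^ D * t j) = (a * b) ^ D * (t i * t j) by ring]
        exact Ideal.mul_mem_right _ _ (Ideal.pow_mem_of_mem _ hab D hD))
      have back : ∀ (i : ℤ) (a : S) (ha : a ∈ 𝒜 i), e i a ha ∈ P.asIdeal → a ∈ PS.radical := fun i a ha h => by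
        obtain ⟨m, hm⟩ := Ideal.le_radical (Ideal.subset_span ⟨_, h, rfl⟩ : (e i a ha : S) ∈ PS)
        rw [show ((e i a ha : S)) ^ m = a ^ (D * m) * t i ^ m by rw [pow_mul]; exact mul_pow _ _ m,
          Ideal.mul_unit_mem_iff_mem _ ((htu i).pow m)] at hm
        exact ⟨D * m, hm⟩
      exact (P.isPrime.mem_or_mem hmul).imp (back i a ha) (back j b hb)
  refine ⟨(PrimeSpectrum.continuous_comap _).comp continuous_subtype_val, ?_, ?_, ?_⟩
  · intro U hU
    obtain ⟨V, hV, rfl⟩ := isOpen_induced_iff.1 hU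
    rw [isOpen_iff_forall_mem_open]
    rintro _ ⟨⟨p, hp⟩, hpV, rfl⟩
    obtain ⟨_, ⟨g, rfl⟩, hgp, hgV⟩ := PrimeSpectrum.isTopologicalBasis_basic_opens.exists_subset_of_mem_open hpV hV
    obtain ⟨i, hi⟩ : ∃ i, (DirectSum.decompose 𝒜 g i : S) ∉ p.asIdeal := by
      by_contra hc
      push Not at hc
      exact hgp ((Ideal.IsHomogeneous.mem_iff 𝒜 hp).2 hc)
    refine ⟨(PrimeSpectrum.basicOpen (e i _ (SetLike.coe_mem (DirectSum.decompose 𝒜 g i))) : Set (PrimeSpectrum S0)), ?_,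
      (PrimeSpectrum.basicOpen _).2, fun h => hi ((he p.asIdeal i _ (SetLike.coe_mem (DirectSum.decompose 𝒜 g i))).2 h)⟩
    intro P hP
    obtain ⟨Q, hQp, hQh, hQc⟩ := hsurj P
    refine ⟨⟨⟨Q, hQp⟩, hQh⟩, hgV ?_, PrimeSpectrum.ext hQc⟩
    intro hgQ
    refine hP ?_
    show _ ∈ P.asIdeal
    rw [← hQc]
    exact (he Q i _ (SetLike.coe_mem (DirectSum.decompose 𝒜 g i))).1 ((Ideal.IsHomogeneous.mem_iff 𝒜 hQh).1 hgQ i)
  · rintro ⟨p, hp⟩ ⟨q, hq⟩ h
    have hc : p.asIdeal.comap S0.subtype = q.asIdeal.comap S0.subtype := congrArg PrimeSpectrum.asIdeal h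
    refine Subtype.ext (PrimeSpectrum.ext (Ideal.ext fun x => ?_))
    rw [Ideal.IsHomogeneous.mem_iff 𝒜 hp, Ideal.IsHomogeneous.mem_iff 𝒜 hq]
    refine forall_congr' fun i => ?_
    rw [he p.asIdeal i _ (SetLike.coe_mem _), he q.asIdeal i _ (SetLike.coe_mem _), hc]
  · intro P
    obtain ⟨Q, hQp, hQh, hQc⟩ := hsurj P
    exact ⟨⟨⟨Q, hQp⟩, hQh⟩, PrimeSpectrum.ext hQc⟩

end Groth.Agent.S9659
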