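import Groth.Statements.S9660
import Mathlib.RingTheory.GradedAlgebra.Radical
import Mathlib.AlgebraicGeometry.ProjectiveSpectrum.Topology

set_option autoImplicit false
universe u
open CAlg

namespace Groth.Agent.S9660

/-- Let S be an ℕ-graded ring and I a homogeneous ideal of S. Then V₊(I) ⊆ Proj(S) is empty if and only
if S₊ ⊆ √I. -/
theorem result {R S : Type u} [CommRing R] [CommRing S] [Algebra R S] (𝒜 : ℕ → Submodule R S) [GradedAlgebra 𝒜] (I : HomogeneousIdeal 𝒜) :
    ProjectiveSpectrum.zeroLocus 𝒜 (I : Set S) = ∅ ↔ (HomogeneousIdeal.irrelevant 𝒜).toIdeal ≤ I.toIdeal.radical := by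
  constructor
  · intro h
    rw [Ideal.radical_eq_sInf]
    refine le_sInf fun P ⟨hIP, hP⟩ => ?_
    by_contra hle
    have hc := hP.homogeneousCore (𝒜 := 𝒜)
    have h1 : (⟨P.homogeneousCore 𝒜, hc, fun h2 => hle (le_trans h2 (Ideal.toIdeal_homogeneousCore_le 𝒜 P))⟩ : ProjectiveSpectrum 𝒜) ∈ ProjectiveSpectrum.zeroLocus 𝒜 (I : Set S) := by
      show (I : Set S) ⊆ (P.homogeneousCore 𝒜 : Set S)
      have h2 := Ideal.homogeneousCore_mono 𝒜 hIP
      have h3 : I.toIdeal.homogeneousCore 𝒜 = I := HomogeneousIdeal.ext (Ideal.IsHomogeneous.toIdeal_homogeneousCore_eq_self I.isHomogeneous)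
      rw [h3] at h2
      exact h2
    rw [h] at h1
    exact h1
  · intro h
    refine Set.eq_empty_of_forall_notMem fun x hx => x.not_irrelevant_le ?_
    exact h.trans (x.isPrime.radical_le_iff.2 hx)

end Groth.Agent.S9660
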