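import Groth.Statements.S9661
import Groth.Agent.CIHilb.Degree

set_option autoImplicit false
universe u
attribute [local instance] MvPolynomial.gradedAlgebra
open CAlg

namespace Groth.Agent.S9661

open Groth.Agent.CIHilb MvPolynomial Filter in
theorem main {k : Type u} [Field k] (n : ℕ)
    (I : Ideal (MvPolynomial (Fin (n + 1)) k)) (hI : I.IsHomogeneous (CohB1.polyGrading n k)) (hne : I ≠ ⊥) :
    ∃ P : Polynomial ℚ, P.degree < (n : WithBot ℕ) ∧ ∃ N : ℕ, ∀ m : ℕ, N ≤ m →
      (hfun I m : ℚ) = P.eval (m : ℚ) := by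
  obtain ⟨P, hP, -, -, hdeg⟩ := good I hI
  refine ⟨P, ?_, eventually_atTop.mp hP⟩
  rcases eq_or_ne P 0 with rfl | h0
  · simp
  have h1 := hdeg h0
  obtain ⟨x, hxI, hx⟩ := Submodule.exists_mem_ne_zero_of_ne_bot hne
  have h2 := ringKrullDim_quotient_succ_le_of_nonZeroDivisor (mem_nonZeroDivisors_of_ne_zero hx)
  have h3 : Ideal.span {x} ≤ I := (Ideal.span_singleton_le_iff_mem I).mpr hxI
  have h4 := dim_mono h3
  have h5 : ringKrullDim (MvPolynomial (Fin (n + 1)) k) = ((n + 1 : ℕ) : WithBot ℕ∞) := by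
    rw [MvPolynomial.ringKrullDim_of_isNoetherianRing, ringKrullDim_eq_zero_of_field, zero_add, Nat.card_fin]
  rw [h5] at h2
  have h6 := (add_le_add_left (h1 ▸ h4) 1).trans h2
  have h7 : P.natDegree + 1 + 1 ≤ n + 1 := by exact_mod_cast h6
  rw [Polynomial.degree_eq_natDegree h0]
  exact_mod_cast (by omega : P.natDegree < n)


/-- Let k be a field, d ≥ 1, and I a nonzero homogeneous ideal of the standard-graded polynomial ring
k[X_1, …, X_d]; put M = k[X_1, …, X_d]/I. Then the function n ↦ dim_k M_n (equal to dim_k of the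
degree-n part of the polynomial ring minus dim_k of the degree-n part of I) coincides for all large
n with a polynomial of degree < d - 1, the zero polynomial if d = 1. -/
theorem result {k : Type u} [Field k] (d : ℕ) (hd : 0 < d)
    (I : HomogeneousIdeal (MvPolynomial.homogeneousSubmodule (Fin d) k)) (hI : I ≠ ⊥) :
    ∃ P : Polynomial ℚ, P.degree < ((d - 1 : ℕ) : WithBot ℕ) ∧ ∃ N : ℕ, ∀ n : ℕ, N ≤ n →
      ((Module.finrank k ↥(MvPolynomial.homogeneousSubmodule (Fin d) k n) : ℚ) -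
        (Module.finrank k ↥(I.toIdeal.restrictScalars k ⊓ MvPolynomial.homogeneousSubmodule (Fin d) k n) : ℚ)) = P.eval (n : ℚ) := by
  obtain ⟨n, rfl⟩ : ∃ n, d = n + 1 := ⟨d - 1, by omega⟩
  have hne : I.toIdeal ≠ ⊥ := fun h => hI (HomogeneousIdeal.toIdeal_injective (by rw [h, HomogeneousIdeal.toIdeal_bot]))
  obtain ⟨P, hP, N, hN⟩ := main n I.toIdeal I.isHomogeneous hne
  refine ⟨P, by simpa using hP, N, fun m hm => ?_⟩
  rw [← hN m hm, Groth.Agent.CIHilb.hfun]
  push_cast
  rfl

end Groth.Agent.S9661
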