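import Groth.Statements.S9662
import Mathlib
import Groth.Agent.K0Res.Main

set_option linter.style.haveILetI false

set_option autoImplicit false
universe u
open CategoryTheory
open CAlg

namespace Groth.Agent.S9662

open CategoryTheory DirectSum

section IsPoly

variable {G : Type u} [AddCommGroup G]

/-- Eventually an integral combination of binomial coefficients. -/
def IsPoly (f : ℕ → G) : Prop :=
  ∃ (r : ℕ) (a : ℕ → G) (N : ℕ), (∀ i, r ≤ i → a i = 0) ∧
    ∀ n, N ≤ n → f n = ∑ i ∈ Finset.range r, (n.choose i : ℤ) • a i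

theorem IsPoly.extend {f : ℕ → G} {r N : ℕ} {a : ℕ → G} (h0 : ∀ i, r ≤ i → a i = 0)
    (h : ∀ n, N ≤ n → f n = ∑ i ∈ Finset.range r, (n.choose i : ℤ) • a i) {s : ℕ} (hs : r ≤ s) :
    ∀ n, N ≤ n → f n = ∑ i ∈ Finset.range s, (n.choose i : ℤ) • a i := fun n hn => by
  rw [h n hn]
  refine Finset.sum_subset (Finset.range_subset_range.2 hs) fun i _ hi => ?_
  rw [h0 i (by simpa using hi), smul_zero]

theorem IsPoly.of_eventually {f g : ℕ → G} {M : ℕ} (h : ∀ n, M ≤ n → f n = g n) (hg : IsPoly g) : IsPoly f := by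
  obtain ⟨r, a, N, h0, hN⟩ := hg
  exact ⟨r, a, max N M, h0, fun n hn => (h n (le_of_max_le_right hn)).trans (hN n (le_of_max_le_left hn))⟩

theorem IsPoly.zero : IsPoly (fun _ => (0 : G)) := ⟨0, 0, 0, fun _ _ => rfl, fun _ _ => by simp⟩

theorem IsPoly.sub {f g : ℕ → G} (hf : IsPoly f) (hg : IsPoly g) : IsPoly (fun n => f n - g n) := by
  obtain ⟨r, a, N, h0, hN⟩ := hf
  obtain ⟨s, b, M, k0, hM⟩ := hg
  refine ⟨max r s, fun i => a i - b i, max N M, fun i hi => ?_, fun n hn => ?_⟩
  · show a i - b i = 0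
    rw [h0 i (le_of_max_le_left hi), k0 i (le_of_max_le_right hi), sub_zero]
  · show f n - g n = _
    rw [IsPoly.extend h0 hN (le_max_left r s) n (le_of_max_le_left hn),
      IsPoly.extend k0 hM (le_max_right r s) n (le_of_max_le_right hn), ← Finset.sum_sub_distrib]
    simp only [smul_sub]

theorem IsPoly.shift {f : ℕ → G} (hf : IsPoly f) : IsPoly (fun n => f (n + 1)) := by
  obtain ⟨r, a, N, h0, hN⟩ := hf
  refine ⟨r, fun i => a i + a (i + 1), N, fun i hi => ?_, fun n hn => ?_⟩
  · show a i + a (i + 1) = 0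
    rw [h0 i hi, h0 (i + 1) (by omega), add_zero]
  · have h1 := IsPoly.extend h0 hN (Nat.le_succ r) (n + 1) (by omega)
    show f (n + 1) = _
    rw [h1, Finset.sum_range_succ']
    simp only [Nat.choose_succ_succ, Nat.cast_add, add_smul, smul_add, Finset.sum_add_distrib]
    have h2 := Finset.sum_range_succ' (fun i => (n.choose i : ℤ) • a i) r
    rw [Finset.sum_range_succ, h0 r le_rfl, smul_zero, add_zero] at h2
    rw [h2]
    simp only [Nat.choose_zero_right]
    abel

theorem IsPoly.antidiff {f g : ℕ → G} (hg : IsPoly g) (h : ∀ n, f (n + 1) - f n = g n) : IsPoly f := by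
  obtain ⟨r, a, N, h0, hN⟩ := hg
  let c : G := f N - ∑ i ∈ Finset.range r, (N.choose (i + 1) : ℤ) • a i
  refine ⟨r + 1, fun i => if i = 0 then c else a (i - 1), N, fun i hi => ?_, fun n hn => ?_⟩
  · show (if i = 0 then c else a (i - 1)) = 0
    rw [if_neg (by omega), h0 (i - 1) (by omega)]
  rw [Finset.sum_range_succ']
  simp only [Nat.succ_ne_zero, if_false, Nat.add_sub_cancel, if_true, Nat.choose_zero_right, Nat.cast_one, one_smul]
  induction n, hn using Nat.le_induction with
  | base => simp [c]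
  | succ n hn ih =>
    rw [eq_add_of_sub_eq (h n), hN n hn, ih]
    simp only [Nat.choose_succ_succ, Nat.cast_add, add_smul, Finset.sum_add_distrib]
    abel

end IsPoly

variable {A S : Type u} [CommRing A] [CommRing S] [Algebra A S] (𝒜 : ℕ → Submodule A S) [GradedAlgebra 𝒜]
  {M : Type u} [AddCommGroup M] [Module A M] [Module S M] [IsScalarTower A S M]
  (ℳ : ℕ → Submodule A M) [DirectSum.Decomposition ℳ] [SetLike.GradedSMul 𝒜 ℳ]

/-- Projection to a degree. -/
noncomputable def pr (n : ℕ) : M →ₗ[A] M :=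
  (ℳ n).subtype ∘ₗ DirectSum.component A ℕ (fun i => ℳ i) n ∘ₗ (DirectSum.decomposeLinearEquiv ℳ).toLinearMap

omit [SetLike.GradedSMul 𝒜 ℳ] in
theorem pr_apply (n : ℕ) (m : M) : pr ℳ n m = (DirectSum.decompose ℳ m n : M) := rfl

omit [SetLike.GradedSMul 𝒜 ℳ] in
theorem pr_mem (n : ℕ) (m : M) : pr ℳ n m ∈ ℳ n := SetLike.coe_mem _

theorem pr_smul {k : ℕ} {s : S} (hs : s ∈ 𝒜 k) (n : ℕ) (m : M) : pr ℳ (k + n) (s • m) = s • pr ℳ n m := by
  induction m using DirectSum.Decomposition.inductionOn ℳ with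
  | zero => simp
  | add a b ha hb => rw [smul_add, map_add, ha, hb, map_add, smul_add]
  | @homogeneous j m =>
    have hm : s • (m : M) ∈ ℳ (k + j) := SetLike.GradedSMul.smul_mem hs m.2
    by_cases hj : j = n
    · subst hj
      rw [pr_apply, pr_apply, decompose_of_mem_same ℳ hm, decompose_of_mem_same ℳ m.2]
    · rw [pr_apply, pr_apply, decompose_of_mem_ne ℳ hm (by omega), decompose_of_mem_ne ℳ m.2 hj, smul_zero]

theorem pr_smul_low {k : ℕ} {s : S} (hs : s ∈ 𝒜 k) {n : ℕ} (hn : n < k) (m : M) : pr ℳ n (s • m) = 0 := by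
  induction m using DirectSum.Decomposition.inductionOn ℳ with
  | zero => simp
  | add a b ha hb => rw [smul_add, map_add, ha, hb, add_zero]
  | @homogeneous j m =>
    rw [pr_apply, decompose_of_mem_ne ℳ (SetLike.GradedSMul.smul_mem hs m.2) (by omega : k + j ≠ n)]

theorem pr_smul_mem {n : ℕ} {y : M} (hy : y ∈ ℳ n) (s : S) :
    pr ℳ n (s • y) = (DirectSum.decompose 𝒜 s 0 : S) • y := by
  induction s using DirectSum.Decomposition.inductionOn 𝒜 with
  | zero => simp
  | add a b ha hb => rw [add_smul, map_add, ha, hb, DirectSum.decompose_add, DirectSum.add_apply, Submodule.coe_add, add_smul]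
  | @homogeneous j s =>
    have hm : (s : S) • y ∈ ℳ (j + n) := SetLike.GradedSMul.smul_mem s.2 hy
    by_cases hj : j = 0
    · subst hj
      rw [zero_add] at hm
      rw [pr_apply, decompose_of_mem_same ℳ hm, decompose_of_mem_same 𝒜 s.2]
    · rw [pr_apply, decompose_of_mem_ne ℳ hm (by omega), decompose_of_mem_ne 𝒜 s.2 hj, zero_smul]

/-- Stable under the projections. -/
def IsHom (N : Submodule S M) : Prop := ∀ (n : ℕ), ∀ m ∈ N, pr ℳ n m ∈ N

/-- The piece of degree `n`. -/
abbrev piece (N : Submodule S M) (n : ℕ) : Submodule A M := N.restrictScalars A ⊓ ℳ n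

theorem piece_fg [IsNoetherian S M] (h0 : ∀ s ∈ 𝒜 0, s ∈ Set.range (algebraMap A S))
    (N : Submodule S M) (n : ℕ) : (piece ℳ N n).FG := by
  obtain ⟨T, hTsub, hT⟩ := (Submodule.fg_span_iff_fg_span_finset_subset _).1
    (IsNoetherian.noetherian (Submodule.span S ((piece ℳ N n : Submodule A M) : Set M)))
  refine ⟨T, le_antisymm (Submodule.span_le.2 hTsub) fun y hy => ?_⟩
  have hy' : y ∈ Submodule.span S (T : Set M) := hT ▸ Submodule.subset_span hy
  rw [show y = pr ℳ n y from (decompose_of_mem_same ℳ hy.2).symm]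
  have key : ∀ (s : S), ∀ z ∈ Submodule.span S (T : Set M), pr ℳ n (s • z) ∈ Submodule.span A (T : Set M) := by
    intro s z hz
    induction hz using Submodule.span_induction generalizing s with
    | mem w hw =>
      obtain ⟨a, ha⟩ := h0 _ (DirectSum.decompose 𝒜 s 0).2
      rw [pr_smul_mem 𝒜 ℳ (hTsub hw).2, ← ha, algebraMap_smul]
      exact Submodule.smul_mem _ _ (Submodule.subset_span hw)
    | zero => simp
    | add a b _ _ ha hb => rw [smul_add, map_add]; exact add_mem (ha s) (hb s)
    | smul c a _ ha => rw [smul_smul]; exact ha _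
  simpa using key 1 y hy'

/-- The class. -/
noncomputable abbrev cl (V : Type u) [AddCommGroup V] [Module A V] :=
  KZero.clSub (fun X : ModuleCat.{u} A => Module.Finite A X) (ModuleCat.of A V)

omit [Algebra A S] in
theorem cl_exact {U V W : Type u} [AddCommGroup U] [Module A U] [AddCommGroup V] [Module A V]
    [AddCommGroup W] [Module A W] [Module.Finite A U] [Module.Finite A V]
    (i : U →ₗ[A] V) (p : V →ₗ[A] W) (hi : Function.Injective i) (hp : Function.Surjective p)
    (hex : Function.Exact i p) : (cl V : KZero.K0sub (fun X : ModuleCat.{u} A => Module.Finite A X)) = cl U + cl W := by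
  haveI := Module.Finite.of_surjective p hp
  have hzero : ModuleCat.ofHom i ≫ ModuleCat.ofHom p = 0 := by
    ext x; exact hex.apply_apply_eq_zero x
  refine Groth.Agent.K0Res.clSub_add (fun X : ModuleCat.{u} A => Module.Finite A X)
    (S := ShortComplex.mk (ModuleCat.ofHom i) (ModuleCat.ofHom p) hzero) ?_ ‹_› ‹_› ‹_›
  exact
    { exact := (ShortComplex.moduleCat_exact_iff_range_eq_ker _).2 (LinearMap.exact_iff.1 hex).symm
      mono_f := (ModuleCat.mono_iff_injective _).2 hi
      epi_g := (ModuleCat.epi_iff_surjective _).2 hp }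

/-- The class of the degree `n` piece of `N / N'`. -/
noncomputable def phi (N N' : Submodule S M) (n : ℕ) : KZero.K0sub (fun X : ModuleCat.{u} A => Module.Finite A X) :=
  cl (piece ℳ N n) - cl (piece ℳ N' n)

theorem main [IsNoetherian S M] (h0 : ∀ s ∈ 𝒜 0, s ∈ Set.range (algebraMap A S))
    (G₀ : Finset S) (hG₀ : ∀ g ∈ G₀, g ∈ 𝒜 1)
    (hgen : ∀ k, 0 < k → ∀ s ∈ 𝒜 k, s ∈ Ideal.span (G₀ : Set S)) (G : Finset S) :
    G ⊆ G₀ → ∀ N N' : Submodule S M, N' ≤ N → IsHom ℳ N → IsHom ℳ N' →
      (∀ x ∈ G₀, x ∉ G → ∀ m ∈ N, x • m ∈ N') → IsPoly (phi ℳ N N') := by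
  classical
  induction G using Finset.induction_on with
  | empty =>
    intro _ N N' hle hN hN' hkill
    obtain ⟨T, hT⟩ := IsNoetherian.noetherian N
    let D : ℕ := T.sup fun t => (DirectSum.decompose ℳ t).support.sup id
    refine IsPoly.of_eventually (M := D + 1) (fun n hn => ?_) IsPoly.zero
    have heq : piece ℳ N n = piece ℳ N' n := by
      refine le_antisymm (fun m hm => ⟨?_, hm.2⟩) (inf_le_inf_right _ fun m hm => hle hm)
      have hkill' : ∀ t ∈ Ideal.span (G₀ : Set S), ∀ m ∈ N, t • m ∈ N' := by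
        intro t ht
        induction ht using Submodule.span_induction with
        | mem x hx => exact hkill x hx (Finset.notMem_empty x)
        | zero => intro m _; rw [zero_smul]; exact zero_mem _
        | add a b _ _ ha hb => intro m hm; rw [add_smul]; exact add_mem (ha m hm) (hb m hm)
        | smul c a _ ha => intro m hm; rw [smul_eq_mul, mul_smul]; exact N'.smul_mem c (ha m hm)
      rw [show m = pr ℳ n m from (decompose_of_mem_same ℳ hm.2).symm]
      have key : ∀ z ∈ Submodule.span S (T : Set M), ∀ (k : ℕ), ∀ s ∈ 𝒜 k, pr ℳ n (s • z) ∈ N' := by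
        intro z hz
        induction hz using Submodule.span_induction with
        | mem w hw =>
          intro k s hs
          rcases Nat.eq_zero_or_pos k with rfl | hk
          · have h1 := pr_smul 𝒜 ℳ hs n w
            rw [zero_add] at h1
            rw [h1]
            have : pr ℳ n w = 0 := by
              rw [pr_apply, ZeroMemClass.coe_eq_zero, ← DFinsupp.notMem_support_iff]
              intro hmem
              have h2 : n ≤ D := (Finset.le_sup (f := id) hmem).trans
                (Finset.le_sup (f := fun t => (DirectSum.decompose ℳ t).support.sup id) hw)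
              omega
            rw [this, smul_zero]
            exact zero_mem _
          · exact hN' n _ (hkill' s (hgen k hk s hs) w (hT ▸ Submodule.subset_span hw))
        | zero => intro k s _; simp
        | add a b _ _ ha hb => intro k s hs; rw [smul_add, map_add]; exact add_mem (ha k s hs) (hb k s hs)
        | smul c a _ ha =>
          intro k s hs
          rw [smul_smul, ← DirectSum.sum_support_decompose 𝒜 (s * c), Finset.sum_smul, map_sum]
          exact sum_mem fun j _ => ha j _ (SetLike.coe_mem _)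
      simpa using key m (hT.symm ▸ hm.1) 0 1 SetLike.GradedOne.one_mem
    exact sub_eq_zero.2 (congrArg (fun P : Submodule A M => cl (A := A) P) heq)
  | @insert x G hx ih =>
    intro hsub N N' hle hN hN' hkill
    have hx1 : x ∈ 𝒜 1 := hG₀ x (hsub (Finset.mem_insert_self x G))
    let K : Submodule S M := N ⊓ N'.comap (LinearMap.lsmul S M x)
    let L : Submodule S M := N.map (LinearMap.lsmul S M x) ⊔ N'
    have hK : IsHom ℳ K := fun n m hm => ⟨hN n m hm.1, by
      show x • pr ℳ n m ∈ N'
      rw [← pr_smul 𝒜 ℳ hx1]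
      exact hN' _ _ hm.2⟩
    have hL : IsHom ℳ L := fun n m hm => by
      obtain ⟨_, ⟨a, ha, rfl⟩, b, hb, rfl⟩ := Submodule.mem_sup.1 hm
      rw [map_add]
      refine add_mem ?_ (Submodule.mem_sup_right (hN' _ _ hb))
      rcases n with _ | n
      · rw [LinearMap.lsmul_apply, pr_smul_low 𝒜 ℳ hx1 Nat.zero_lt_one]; exact zero_mem _
      · rw [LinearMap.lsmul_apply, add_comm n 1, pr_smul 𝒜 ℳ hx1]
        exact Submodule.mem_sup_left ⟨_, hN _ _ ha, rfl⟩
    have hLN : L ≤ N := sup_le (by rintro _ ⟨a, ha, rfl⟩; exact N.smul_mem x ha) hle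
    have hKN' : N' ≤ K := le_inf hle fun m hm => N'.smul_mem x hm
    have hsub' : G ⊆ G₀ := (Finset.subset_insert x G).trans hsub
    have h1 := ih hsub' N L hLN hN hL fun y hy hyG m hm => by
      by_cases hyx : y = x
      · subst hyx; exact Submodule.mem_sup_left ⟨m, hm, rfl⟩
      · exact Submodule.mem_sup_right (hkill y hy (by simp [hyx, hyG]) m hm)
    have h2 := ih hsub' K N' hKN' hK hN' fun y hy hyG m hm => by
      by_cases hyx : y = x
      · subst hyx; exact hm.2
      · exact hkill y hy (by simp [hyx, hyG]) m hm.1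
    refine IsPoly.antidiff (h1.shift.sub h2) fun n => ?_
    have hf : ∀ U : Submodule S M, ∀ k, Module.Finite A (piece ℳ U k) := fun U k =>
      Module.Finite.iff_fg.2 (piece_fg 𝒜 ℳ h0 U k)
    let f : piece ℳ N n →ₗ[A] M ⧸ piece ℳ N' (n + 1) :=
      (piece ℳ N' (n + 1)).mkQ ∘ₗ ((LinearMap.lsmul S M x).restrictScalars A) ∘ₗ (piece ℳ N n).subtype
    let g : piece ℳ L (n + 1) →ₗ[A] M ⧸ piece ℳ N' (n + 1) :=
      (piece ℳ N' (n + 1)).mkQ ∘ₗ (piece ℳ L (n + 1)).subtype
    have hxmem : ∀ m : M, m ∈ ℳ n → x • m ∈ ℳ (n + 1) := fun m hm => by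
      rw [add_comm]; exact SetLike.GradedSMul.smul_mem hx1 hm
    have hrange : LinearMap.range f = LinearMap.range g := by
      refine le_antisymm ?_ ?_
      · rintro _ ⟨⟨m, hm⟩, rfl⟩
        exact ⟨⟨x • m, Submodule.mem_sup_left ⟨m, hm.1, rfl⟩, hxmem m hm.2⟩, rfl⟩
      · rintro _ ⟨⟨y, hy⟩, rfl⟩
        obtain ⟨_, ⟨a, ha, rfl⟩, b, hb, hab⟩ := Submodule.mem_sup.1 hy.1
        refine ⟨⟨pr ℳ n a, hN n a ha, pr_mem ℳ n a⟩, ?_⟩
        show Submodule.Quotient.mk (x • pr ℳ n a) = Submodule.Quotient.mk y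
        rw [Submodule.Quotient.eq]
        have hy' : y = pr ℳ (n + 1) y := (decompose_of_mem_same ℳ hy.2).symm
        rw [hy', ← hab, map_add, LinearMap.lsmul_apply, add_comm n 1, pr_smul 𝒜 ℳ hx1, sub_add_cancel_left]
        exact neg_mem ⟨hN' _ _ hb, pr_mem ℳ _ b⟩
    haveI := hf N n
    haveI := hf K n
    haveI := hf L (n + 1)
    haveI := hf N' (n + 1)
    have e1 : (cl (piece ℳ N n) : KZero.K0sub (fun X : ModuleCat.{u} A => Module.Finite A X)) =
        cl (piece ℳ K n) + cl (LinearMap.range f) := by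
      refine cl_exact (Submodule.inclusion (inf_le_inf_right _ fun m hm => hm.1)) f.rangeRestrict
        (Submodule.inclusion_injective _) f.surjective_rangeRestrict fun m => ?_
      refine ⟨fun hm => ?_, fun ⟨k, hk⟩ => ?_⟩
      · have h3 := (Submodule.Quotient.mk_eq_zero _).1 (congrArg Subtype.val hm)
        exact ⟨⟨m.1, ⟨m.2.1, h3.1⟩, m.2.2⟩, rfl⟩
      · subst hk
        exact Subtype.ext ((Submodule.Quotient.mk_eq_zero _).2 ⟨k.2.1.2, hxmem _ k.2.2⟩)
    have e2 : (cl (piece ℳ L (n + 1)) : KZero.K0sub (fun X : ModuleCat.{u} A => Module.Finite A X)) =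
        cl (piece ℳ N' (n + 1)) + cl (LinearMap.range f) := by
      rw [hrange]
      refine cl_exact (Submodule.inclusion (inf_le_inf_right _ fun m hm => Submodule.mem_sup_right hm)) g.rangeRestrict
        (Submodule.inclusion_injective _) g.surjective_rangeRestrict fun m => ?_
      refine ⟨fun hm => ?_, fun ⟨k, hk⟩ => ?_⟩
      · exact ⟨⟨m.1, (Submodule.Quotient.mk_eq_zero _).1 (congrArg Subtype.val hm)⟩, rfl⟩
      · subst hk
        exact Subtype.ext ((Submodule.Quotient.mk_eq_zero _).2 k.2)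
    simp only [phi, e1, e2]
    abel


/-- Let S be a Noetherian ℕ-graded ring, presented as a graded algebra over a ring A mapping onto S₀,
whose irrelevant ideal S₊ is generated as an ideal by the degree-1 part S₁, and let M be a finitely
generated graded S-module, graded in nonnegative degrees. (The published statement allows modules
graded in all integer degrees; this row takes modules graded in degrees ≥ 0, which loses nothing for
large n.) Write K'₀(A) for the Grothendieck group of finite A-modules (the free abelian group on the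
finite A-modules modulo the relations given by short exact sequences) and [M_n] for the class of the
finite A-module M_n. Then n ↦ [M_n] is a numerical polynomial: there are a_0, …, a_{r-1} in K'₀(A)
with [M_n] = Σ_i C(n, i) · a_i for all large n. (When A → S₀ is bijective K'₀(A) is K'₀(S₀), the
group of the published statement; in general the classes are taken after restricting scalars along A
→ S₀.) -/
theorem result {A S : Type u} [CommRing A] [CommRing S] [Algebra A S] [IsNoetherianRing S] (𝒜 : ℕ → Submodule A S) [GradedAlgebra 𝒜]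
    (h0 : ∀ s ∈ 𝒜 0, s ∈ Set.range (algebraMap A S))
    (h1 : (HomogeneousIdeal.irrelevant 𝒜).toIdeal = Ideal.span (𝒜 1 : Set S))
    (M : Type u) [AddCommGroup M] [Module A M] [Module S M] [IsScalarTower A S M] [Module.Finite S M] (ℳ : ℕ → Submodule A M) [DirectSum.Decomposition ℳ] [SetLike.GradedSMul 𝒜 ℳ] :
    ∃ (r : ℕ) (a : Fin r → KZero.K0sub (fun X : ModuleCat.{u} A => Module.Finite A X)) (N : ℕ), ∀ n : ℕ, N ≤ n →
      KZero.clSub (fun X : ModuleCat.{u} A => Module.Finite A X) (ModuleCat.of A ↥(ℳ n)) = ∑ i : Fin r, ((n.choose (i : ℕ) : ℕ) : ℤ) • a i := by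
  classical
  obtain ⟨G₀, hG₀, hspan⟩ := (Submodule.fg_span_iff_fg_span_finset_subset _).1
    (IsNoetherian.noetherian (Ideal.span (𝒜 1 : Set S)))
  have hgen : ∀ k, 0 < k → ∀ s ∈ 𝒜 k, s ∈ Ideal.span (G₀ : Set S) := fun k hk s hs => by
    have h2 := HomogeneousIdeal.mem_irrelevant_of_mem 𝒜 hk hs
    replace h2 : s ∈ (HomogeneousIdeal.irrelevant 𝒜).toIdeal := h2
    rw [h1] at h2
    exact (SetLike.ext_iff.1 hspan s).1 h2
  obtain ⟨r, a, N, -, hN⟩ := main 𝒜 ℳ h0 G₀ (fun g hg => hG₀ hg) hgen G₀ le_rfl ⊤ ⊥ bot_le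
    (fun n m _ => Submodule.mem_top) (fun n m hm => by rw [(Submodule.mem_bot S).1 hm, map_zero]; exact zero_mem _)
    (fun x hx hx' => absurd hx hx')
  refine ⟨r, fun i => a i, N, fun n hn => ?_⟩
  rw [Fin.sum_univ_eq_sum_range (fun i => ((n.choose i : ℕ) : ℤ) • a i), ← hN n hn]
  haveI : Module.Finite A (piece ℳ (⊤ : Submodule S M) n) := Module.Finite.iff_fg.2 (piece_fg 𝒜 ℳ h0 _ n)
  haveI : Module.Finite A (piece ℳ (⊥ : Submodule S M) n) := Module.Finite.iff_fg.2 (piece_fg 𝒜 ℳ h0 _ n)
  haveI : Module.Finite A (ℳ n) :=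
    Module.Finite.of_surjective (Submodule.inclusion (inf_le_right : piece ℳ (⊤ : Submodule S M) n ≤ ℳ n))
      fun y => ⟨⟨y.1, trivial, y.2⟩, rfl⟩
  let i : piece ℳ (⊤ : Submodule S M) n →ₗ[A] ℳ n := Submodule.inclusion inf_le_right
  have hbot : ∀ y : piece ℳ (⊥ : Submodule S M) n, y = 0 := fun y => Subtype.ext ((Submodule.mem_bot S).1 y.2.1)
  have e1 : (cl (piece ℳ (⊤ : Submodule S M) n) : KZero.K0sub (fun X : ModuleCat.{u} A => Module.Finite A X)) =
      cl (piece ℳ (⊥ : Submodule S M) n) + cl (ℳ n) :=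
    cl_exact (0 : piece ℳ (⊥ : Submodule S M) n →ₗ[A] piece ℳ (⊤ : Submodule S M) n) i
      (fun a b _ => (hbot a).trans (hbot b).symm) (fun y => ⟨⟨y.1, trivial, y.2⟩, rfl⟩)
      (fun y => ⟨fun hy => ⟨0, Subtype.ext (congrArg Subtype.val hy).symm⟩, fun ⟨k, hk⟩ => by rw [← hk]; rfl⟩)
  simp only [phi, e1, add_sub_cancel_left]

end Groth.Agent.S9662
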