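import Groth.Statements.S9663
import Mathlib

set_option autoImplicit false
universe u
open CAlg

namespace Groth.Agent.S9663

/-- Let R be a ring and f_i, i in a finite index set, elements of R (no condition on the ideal they
generate). Suppose given for each i an R-module M_i on which f_i acts invertibly, for each pair (i,
j) an R-linear isomorphism ψ_ij : (M_i)_{f_j} → (M_j)_{f_i}, and suppose the cocycle condition ψ_jk
∘ ψ_ij = ψ_ik holds as maps (M_i)_{f_j f_k} → (M_k)_{f_i f_j} for all triples (i, j, k). All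
localizations are given through their universal properties: (M_i)_{f_j} with its map g from M_i;
(M_i)_{f_j f_k} with its map t from M_i and the compatible maps u from (M_i)_{f_j} and v from
(M_i)_{f_k}; and the three localized isomorphisms Ψ₁ (ψ_ij on (M_i)_{f_j f_k}), Ψ₂ (ψ_jk on
(M_j)_{f_i f_k}) and Ψ₃ (ψ_ik on (M_i)_{f_j f_k}) are given as maps compatible with the ψ's. Let M ⊆
Π_i M_i be the submodule of families (m_i) with m_i/1 = ψ_ji(m_j/1) in (M_i)_{f_j} for all i, j.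
Then for each i the projection M → M_i exhibits M_i as the localization of M at f_i. -/
theorem result {R : Type u} [CommRing R] {ι : Type u} [Finite ι] (f : ι → R)
    (Mi : ι → Type u) [∀ i, AddCommGroup (Mi i)] [∀ i, Module R (Mi i)]
    (hMi : ∀ i, IsUnit (algebraMap R (Module.End R (Mi i)) (f i)))
    (Mij : ι → ι → Type u) [∀ i j, AddCommGroup (Mij i j)] [∀ i j, Module R (Mij i j)]
    (g : ∀ i j, Mi i →ₗ[R] Mij i j) [∀ i j, IsLocalizedModule (Submonoid.powers (f j)) (g i j)]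
    (ψ : ∀ i j, Mij i j ≃ₗ[R] Mij j i)
    (T : ι → ι → ι → Type u) [∀ i j k, AddCommGroup (T i j k)] [∀ i j k, Module R (T i j k)]
    (t : ∀ i j k, Mi i →ₗ[R] T i j k) [∀ i j k, IsLocalizedModule (Submonoid.powers (f j * f k)) (t i j k)]
    (u : ∀ i j k, Mij i j →ₗ[R] T i j k) (hu : ∀ i j k, u i j k ∘ₗ g i j = t i j k)
    (v : ∀ i j k, Mij i k →ₗ[R] T i j k) (hv : ∀ i j k, v i j k ∘ₗ g i k = t i j k)
    (Ψ₁ : ∀ i j k, T i j k →ₗ[R] T j i k) (hΨ₁ : ∀ i j k, Ψ₁ i j k ∘ₗ u i j k = u j i k ∘ₗ (ψ i j).toLinearMap)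
    (Ψ₂ : ∀ i j k, T j i k →ₗ[R] T k i j) (hΨ₂ : ∀ i j k, Ψ₂ i j k ∘ₗ v j i k = v k i j ∘ₗ (ψ j k).toLinearMap)
    (Ψ₃ : ∀ i j k, T i j k →ₗ[R] T k i j) (hΨ₃ : ∀ i j k, Ψ₃ i j k ∘ₗ v i j k = u k i j ∘ₗ (ψ i k).toLinearMap)
    (hcoc : ∀ i j k, Ψ₂ i j k ∘ₗ Ψ₁ i j k = Ψ₃ i j k)
    (M : Submodule R (∀ i, Mi i)) (hM : ∀ m : ∀ i, Mi i, m ∈ M ↔ ∀ i j, g i j (m i) = ψ j i (g j i (m j))) (i : ι) :
    IsLocalizedModule (Submonoid.powers (f i)) ((LinearMap.proj i).comp M.subtype : ↥M →ₗ[R] Mi i) := by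
  classical
  cases nonempty_fintype ι
  have hfu : ∀ (i j : ι) (z : Mij i j), f j • z = 0 → z = 0 := fun a b z hz =>
    IsLocalizedModule.smul_injective (g a b) (⟨f b, 1, pow_one _⟩ : Submonoid.powers (f b)) (hz.trans (smul_zero _).symm)
  have hfi : ∀ (a : ι) (z : Mi a) (n : ℕ), f a ^ n • z = 0 → z = 0 := fun a z n hz => by
    have h := ((Module.End.isUnit_iff _).1 ((hMi a).pow n)).1
    refine h (a₂ := 0) ?_
    rw [map_zero, ← map_pow]
    exact hz
  have hker : ∀ (a b c : ι) (φ : Mij a c →ₗ[R] T a b c), φ ∘ₗ g a c = t a b c → ∀ z, φ z = 0 →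
      ∃ n : ℕ, f b ^ n • z = 0 := by
    intro a b c φ hφ z hz
    obtain ⟨⟨y, ⟨_, s, rfl⟩⟩, hy⟩ := IsLocalizedModule.surj (Submonoid.powers (f c)) (g a c) z
    have ht : t a b c y = 0 := by
      rw [← hφ, LinearMap.comp_apply, ← hy, Submonoid.smul_def, map_smul, hz, smul_zero]
    obtain ⟨⟨_, d, rfl⟩, hd⟩ := (IsLocalizedModule.eq_zero_iff (Submonoid.powers (f b * f c)) (t a b c)).1 ht
    refine ⟨d, IsLocalizedModule.smul_injective (g a c) (⟨f c ^ (d + s), d + s, rfl⟩ : Submonoid.powers (f c)) ?_⟩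
    show f c ^ (d + s) • (f b ^ d • z) = f c ^ (d + s) • 0
    rw [Submonoid.smul_def] at hy hd
    rw [smul_zero, smul_smul, pow_add, show f c ^ d * f c ^ s * f b ^ d = (f b * f c) ^ d * f c ^ s by ring,
      mul_smul, hy, ← map_smul]
    show g a c ((f b * f c) ^ d • y) = 0
    rw [hd, map_zero]
  have hu' : ∀ a b c z, u a b c (g a b z) = t a b c z := fun a b c => LinearMap.congr_fun (hu a b c)
  have hv' : ∀ a b c z, v a b c (g a c z) = t a b c z := fun a b c => LinearMap.congr_fun (hv a b c)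
  have h₁ : ∀ a b c z, Ψ₁ a b c (u a b c z) = u b a c (ψ a b z) := fun a b c => LinearMap.congr_fun (hΨ₁ a b c)
  have h₂ : ∀ a b c z, Ψ₂ a b c (v b a c z) = v c a b (ψ b c z) := fun a b c => LinearMap.congr_fun (hΨ₂ a b c)
  have h₃ : ∀ a b c z, Ψ₃ a b c (v a b c z) = u c a b (ψ a c z) := fun a b c => LinearMap.congr_fun (hΨ₃ a b c)
  have hii : ∀ z, ψ i i z = z := by
    have huv : u i i i = v i i i := by
      refine IsLocalizedModule.ext (Submonoid.powers (f i)) (g i i) ?_ ((hu i i i).trans (hv i i i).symm)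
      rintro ⟨_, n, rfl⟩
      have hu2 := IsLocalizedModule.map_units (t i i i) (⟨(f i * f i) ^ n, n, rfl⟩ : Submonoid.powers (f i * f i))
      have hc : Commute (algebraMap R (Module.End R (T i i i)) (f i ^ n)) (algebraMap R (Module.End R (T i i i)) (f i ^ n)) :=
        Commute.refl _
      rw [show ((⟨(f i * f i) ^ n, n, rfl⟩ : Submonoid.powers (f i * f i)) : R) = f i ^ n * f i ^ n from
        mul_pow _ _ _, map_mul, hc.isUnit_mul_iff] at hu2
      exact hu2.1
    have hinj : Function.Injective (u i i i) := (injective_iff_map_eq_zero _).2 fun z hz => by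
      obtain ⟨n, hn⟩ := hker i i i (u i i i) (hu i i i) z hz
      exact IsLocalizedModule.smul_injective (g i i) (⟨f i ^ n, n, rfl⟩ : Submonoid.powers (f i))
        (hn.trans (smul_zero _).symm)
    intro z
    refine (ψ i i).injective (hinj ?_)
    have h := LinearMap.congr_fun (hcoc i i i) (u i i i z)
    rw [LinearMap.comp_apply, h₁, huv, h₂, h₃, ← huv] at h
    exact h
  refine ⟨fun x => ?_, fun x => ?_, fun {m₁ m₂} h => ?_⟩
  · obtain ⟨_, n, rfl⟩ := x
    rw [map_pow]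
    exact (hMi i).pow n
  · have hy : ∀ j, ∃ (n : ℕ) (y : Mi j), f i ^ n • ψ i j (g i j x) = g j i y := fun j => by
      obtain ⟨⟨y, ⟨_, n, rfl⟩⟩, hy⟩ := IsLocalizedModule.surj (Submonoid.powers (f i)) (g j i) (ψ i j (g i j x))
      exact ⟨n, y, hy⟩
    choose n y hy using hy
    let N := Finset.univ.sup n
    let y' : ∀ j, Mi j := fun j => f i ^ (N - n j) • y j
    have hy' : ∀ j, g j i (y' j) = f i ^ N • ψ i j (g i j x) := fun j => by
      rw [map_smul, ← hy, smul_smul, ← pow_add, Nat.sub_add_cancel (Finset.le_sup (Finset.mem_univ j))]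
    have hd : ∀ j k, ∃ d : ℕ, f i ^ d • (g k j (y' k) - ψ j k (g j k (y' j))) = 0 := fun j k => by
      refine hker k i j (v k i j) (hv k i j) _ ?_
      rw [map_sub, sub_eq_zero]
      calc v k i j (g k j (y' k)) = u k i j (g k i (y' k)) := by rw [hv', hu']
        _ = f i ^ N • Ψ₃ i j k (t i j k x) := by rw [hy', map_smul, ← hv' i j k, h₃]
        _ = f i ^ N • Ψ₂ i j k (Ψ₁ i j k (t i j k x)) := by rw [← hcoc, LinearMap.comp_apply]
        _ = Ψ₂ i j k (u j i k (g j i (y' j))) := by rw [hy', map_smul, map_smul, ← hu' i j k, h₁]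
        _ = Ψ₂ i j k (v j i k (g j k (y' j))) := by rw [hu', hv']
        _ = v k i j (ψ j k (g j k (y' j))) := h₂ _ _ _ _
    choose d hd using hd
    let D := Finset.univ.sup fun p : ι × ι => d p.1 p.2
    have hmem : (fun j => f i ^ D • y' j) ∈ M := (hM _).2 fun k j => by
      have h := congrArg (fun z => f i ^ (D - d j k) • z) (hd j k)
      simp only [smul_zero] at h
      rw [smul_smul, ← pow_add,
        Nat.sub_add_cancel (Finset.le_sup (f := fun p : ι × ι => d p.1 p.2) (Finset.mem_univ (j, k))), smul_sub,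
        sub_eq_zero] at h
      show g k j (f i ^ D • y' k) = ψ j k (g j k (f i ^ D • y' j))
      rw [map_smul (g k j), map_smul (g j k), map_smul (ψ j k)]
      exact h
    refine ⟨⟨⟨_, hmem⟩, ⟨f i ^ (D + N), D + N, rfl⟩⟩, ?_⟩
    show f i ^ (D + N) • x = f i ^ D • y' i
    have h := hy' i
    rw [hii, ← map_smul] at h
    obtain ⟨⟨_, e, rfl⟩, he⟩ := (IsLocalizedModule.eq_iff_exists (Submonoid.powers (f i)) (g i i)).1 h
    have he' : y' i = f i ^ N • x := by
      refine sub_eq_zero.1 (hfi i _ e ?_)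
      rw [smul_sub, sub_eq_zero]
      exact he
    rw [he', smul_smul, ← pow_add]
  · have h0 : ∀ j, ∃ n : ℕ, f i ^ n • ((m₁ : ∀ i, Mi i) j - (m₂ : ∀ i, Mi i) j) = 0 := fun j => by
      have e₁ := (hM _).1 (m₁ - m₂).2 j i
      rw [Submodule.coe_sub, Pi.sub_apply, Pi.sub_apply,
        show (m₁ : ∀ i, Mi i) i - (m₂ : ∀ i, Mi i) i = 0 from sub_eq_zero.2 h, map_zero, map_zero] at e₁
      obtain ⟨⟨_, n, rfl⟩, hn⟩ := (IsLocalizedModule.eq_zero_iff (Submonoid.powers (f i)) (g j i)).1 e₁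
      exact ⟨n, hn⟩
    choose n hn using h0
    refine ⟨⟨f i ^ Finset.univ.sup n, _, rfl⟩, Subtype.ext (funext fun j => ?_)⟩
    show f i ^ Finset.univ.sup n • (m₁ : ∀ i, Mi i) j = f i ^ Finset.univ.sup n • (m₂ : ∀ i, Mi i) j
    rw [← sub_eq_zero, ← smul_sub, ← Nat.sub_add_cancel (Finset.le_sup (f := n) (Finset.mem_univ j)), pow_add, mul_smul,
      hn, smul_zero]

end Groth.Agent.S9663
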