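import Groth.Statements.S9664
import Mathlib.RingTheory.LocalRing.ResidueField.Fiber

set_option autoImplicit false
universe u
open CAlg
open scoped TensorProduct

namespace Groth.Agent.S9664

/-- Let R → S be a ring map, N an S-module, q a prime of S and p the prime of R below q; an associated
prime of a module is a prime ideal equal to the annihilator of some element. Then q is an associated
prime of the S-module N ⊗_R κ(p) (the fibre module of N over p, an S-module by restriction of
scalars along S → S ⊗_R κ(p)) if and only if q is the inverse image in S of an associated prime of N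
⊗_R κ(p) regarded as a module over the fibre ring S ⊗_R κ(p). -/
theorem result {R S : Type u} [CommRing R] [CommRing S] [Algebra R S] (N : Type u) [AddCommGroup N] [Module S N] [Module R N] [IsScalarTower R S N]
    (p : Ideal R) [p.IsPrime] (q : Ideal S) [q.IsPrime] (hq : q.comap (algebraMap R S) = p) :
    q ∈ FlatCA.ass S (FlatCA.fiberMod p S N) ↔
      ∃ Q ∈ FlatCA.ass (p.Fiber S) (FlatCA.fiberMod p S N),
        Q.comap (Algebra.TensorProduct.includeRight (R := R) (A := p.ResidueField) (B := S)).toRingHom = q := by
  classical
  letI : Algebra S (p.Fiber S) := Algebra.TensorProduct.rightAlgebra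
  let ι : S →+* p.Fiber S := (Algebra.TensorProduct.includeRight (R := R) (A := p.ResidueField) (B := S)).toRingHom
  have hsmul' : ∀ (s : S) (x : (p.Fiber S) ⊗[S] N), s • x = ι s • x := by
    intro s x
    induction x using TensorProduct.induction_on with
    | zero => rw [smul_zero, smul_zero]
    | tmul a b => rw [TensorProduct.smul_tmul', TensorProduct.smul_tmul', Algebra.smul_def, smul_eq_mul]; rfl
    | add a b ha hb => rw [smul_add, smul_add, ha, hb]
  have hsmul : ∀ (s : S) (x : FlatCA.fiberMod p S N), s • x = ι s • x := hsmul'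
  have hann : ∀ x : FlatCA.fiberMod p S N, (Submodule.span S {x}).annihilator = ((Submodule.span (p.Fiber S) {x}).annihilator).comap ι := by
    intro x
    ext s
    rw [Ideal.mem_comap, Submodule.mem_annihilator_span_singleton, Submodule.mem_annihilator_span_singleton, hsmul]
  constructor
  · rintro ⟨hqp, x, hx⟩
    set Q := (Submodule.span (p.Fiber S) {x}).annihilator with hQ
    have hqQ : q = Q.comap ι := hx.trans (hann x)
    have hunit : ∀ r : R, r ∉ p → IsUnit (algebraMap R (p.Fiber S) r) := by
      intro r hr
      rw [IsScalarTower.algebraMap_apply R p.ResidueField (p.Fiber S)]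
      exact (IsUnit.mk0 _ (fun h => hr (Ideal.algebraMap_residueField_eq_zero.1 h))).map _
    have key : ∀ a : p.Fiber S, ∃ (u : p.Fiber S) (s : S), IsUnit u ∧ u * a = ι s := by
      intro a
      obtain ⟨r, hr, s, e⟩ := Ideal.Fiber.exists_smul_eq_one_tmul p a
      exact ⟨_, s, hunit r hr, by rw [← Algebra.smul_def, e]; rfl⟩
    refine ⟨Q, ⟨⟨?_, ?_⟩, x, rfl⟩, hqQ.symm⟩
    · intro htop
      exact hqp.ne_top (by rw [hqQ, htop, Ideal.comap_top])
    · intro a b hab
      obtain ⟨u, s, hu, hs⟩ := key a
      obtain ⟨v, t, hv, ht⟩ := key b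
      have h1 : s * t ∈ q := by
        rw [hqQ, Ideal.mem_comap, map_mul, ← hs, ← ht, mul_mul_mul_comm]
        exact Q.mul_mem_left _ hab
      rcases hqp.mem_or_mem h1 with h | h
      · left
        rw [hqQ, Ideal.mem_comap, ← hs, Ideal.unit_mul_mem_iff_mem _ hu] at h
        exact h
      · right
        rw [hqQ, Ideal.mem_comap, ← ht, Ideal.unit_mul_mem_iff_mem _ hv] at h
        exact h
  · rintro ⟨Q, ⟨hQp, x, hx⟩, hQq⟩
    refine ⟨inferInstance, x, ?_⟩
    rw [hann, ← hx]
    exact hQq.symm

end Groth.Agent.S9664
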