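import Groth.Statements.S9666
import Groth.Agent.FlatCAFib.Basic
import Mathlib.RingTheory.Noetherian.Basic

set_option autoImplicit false
universe u
open CAlg Groth.Agent

namespace Groth.Agent.S9666

/-- Part (3): (A ⊆ A_fin): let R → S be a ring map with S Noetherian, N an S-module, q a prime of S and
p the prime of R below q; an associated prime of a module is a prime ideal equal to the annihilator
of some element. If q is an associated prime of the S-module N ⊗_R κ(p) (the fibre module over p, an
S-module by restriction of scalars), then q is an associated prime of the S-module N/pN. -/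
theorem result {R S : Type u} [CommRing R] [CommRing S] [Algebra R S] (N : Type u) [AddCommGroup N] [Module S N] [Module R N] [IsScalarTower R S N] [IsNoetherianRing S]
    (p : Ideal R) [p.IsPrime] (q : Ideal S) [q.IsPrime] (hq : q.comap (algebraMap R S) = p)
    (h : q ∈ FlatCA.ass S (FlatCA.fiberMod p S N)) :
    q ∈ FlatCA.ass S (N ⧸ (p.map (algebraMap R S)) • (⊤ : Submodule S N)) := by
  classical
  obtain ⟨-, x, hx⟩ := h
  obtain ⟨r₀, hr₀, n, hn⟩ := FlatCAFib.exists_smul_eq p N x
  have hqT : ∀ r ∉ p, algebraMap R S r ∉ q := fun r hr h' => hr (by rw [← hq]; exact h')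
  obtain ⟨G, hG⟩ := (isNoetherian_def.1 (inferInstance : IsNoetherian S S)) q
  have hkill : ∀ g ∈ G, ∃ r ∉ p, algebraMap R S r • g • n = 0 := by
    intro g hg
    have h1 : g • x = 0 := Submodule.mem_annihilator_span_singleton _ _ |>.1 (hx ▸ hG ▸ Submodule.subset_span hg)
    have h2 : FlatCAFib.jmap p N (g • n) = 0 := by rw [map_smul, ← hn, smul_comm, h1, smul_zero]
    exact (FlatCAFib.jmap_eq_zero_iff p N _).1 h2
  choose r hr hrg using hkill
  let t := ∏ g : G, r g.1 g.2
  have ht : t ∉ p := fun h => by
    obtain ⟨g, -, hg⟩ := Ideal.IsPrime.prod_mem_iff.1 h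
    exact hr g.1 g.2 hg
  refine ⟨inferInstance, algebraMap R S t • n, le_antisymm ?_ fun s hs => ?_⟩
  · rw [← hG, Submodule.span_le]
    intro g hg
    rw [SetLike.mem_coe, Submodule.mem_annihilator_span_singleton, smul_comm]
    obtain ⟨c, hc⟩ := Finset.dvd_prod_of_mem (fun g : G => r g.1 g.2) (Finset.mem_univ (⟨g, hg⟩ : G))
    rw [show t = c * r g hg by rw [mul_comm]; exact hc, map_mul, mul_smul, hrg g hg, smul_zero]
  · rw [Submodule.mem_annihilator_span_singleton, smul_smul] at hs
    have h1 : (s * algebraMap R S t * algebraMap R S r₀) • x = 0 := by rw [mul_smul, hn, ← map_smul, hs, map_zero]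
    have h2 : s * algebraMap R S t * algebraMap R S r₀ ∈ q := hx ▸ (Submodule.mem_annihilator_span_singleton _ _).2 h1
    exact ((Ideal.IsPrime.mem_or_mem inferInstance h2).resolve_right (hqT r₀ hr₀) |> Ideal.IsPrime.mem_or_mem inferInstance).resolve_right (hqT t ht)

end Groth.Agent.S9666
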