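import Groth.Statements.S9667
import Mathlib.LinearAlgebra.TensorProduct.RightExactness
import Mathlib.LinearAlgebra.Finsupp.LinearCombination

set_option autoImplicit false
universe u
open CAlg
open scoped TensorProduct

namespace Groth.Agent.S9667

open TensorProduct in
/-- Part (3): (B = B_fin): let R → S be a ring map with S Noetherian, N an S-module, M an R-module and q
a prime of S; an associated prime of a module is a prime ideal equal to the annihilator of some
element. If q is an associated prime of the S-module N ⊗_R M, then there is a finitely generated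
R-submodule M' ⊆ M such that q is an associated prime of the S-module N ⊗_R M'. -/
theorem result {R S : Type u} [CommRing R] [CommRing S] [Algebra R S] (N : Type u) [AddCommGroup N] [Module S N] [Module R N] [IsScalarTower R S N] [IsNoetherianRing S]
    (M : Type u) [AddCommGroup M] [Module R M] (q : Ideal S) [q.IsPrime] (h : q ∈ FlatCA.ass S (N ⊗[R] M)) :
    ∃ M' : Submodule R M, M'.FG ∧ q ∈ FlatCA.ass S (N ⊗[R] ↥M') := by
  classical
  obtain ⟨hqp, z, hz⟩ := h
  let π : (M →₀ R) →ₗ[R] M := Finsupp.linearCombination R id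
  have hπ : Function.Surjective π := Finsupp.linearCombination_id_surjective R M
  let G : ∀ T : Finset M, (M →₀ R) →ₗ[R] ↥(Submodule.span R (T : Set M)) := fun T =>
    Finsupp.linearCombination R fun m => if hm : m ∈ T then ⟨m, Submodule.subset_span hm⟩ else 0
  have hG : ∀ (k : M →₀ R) (T : Finset M), k.support ⊆ T → (G T k : M) = π k := by
    intro k T hk
    simp only [G, π, Finsupp.linearCombination_apply, Finsupp.sum, Submodule.coe_sum, Submodule.coe_smul]
    refine Finset.sum_congr rfl fun m hm => ?_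
    rw [dif_pos (hk hm)]
    rfl
  let GS : ∀ T : Finset M, N ⊗[R] (M →₀ R) →ₗ[S] N ⊗[R] ↥(Submodule.span R (T : Set M)) := fun T =>
    TensorProduct.AlgebraTensorModule.map LinearMap.id (G T)
  let ι : ∀ T : Finset M, N ⊗[R] ↥(Submodule.span R (T : Set M)) →ₗ[S] N ⊗[R] M := fun T =>
    TensorProduct.AlgebraTensorModule.map LinearMap.id (Submodule.subtype _)
  obtain ⟨w, hw⟩ := LinearMap.lTensor_surjective N hπ z
  have hlift : ∀ x : N ⊗[R] (M →₀ R), ∃ T₀ : Finset M, ∀ T, T₀ ⊆ T → ι T (GS T x) = π.lTensor N x := by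
    intro x
    induction x with
    | zero => exact ⟨∅, fun T _ => by simp⟩
    | tmul n k => exact ⟨k.support, fun T hT => by simp [ι, GS, hG k T hT]⟩
    | add a b ha hb =>
      obtain ⟨Ta, hTa⟩ := ha
      obtain ⟨Tb, hTb⟩ := hb
      exact ⟨Ta ∪ Tb, fun T hT => by
        rw [map_add, map_add, map_add, hTa T (Finset.union_subset_left hT), hTb T (Finset.union_subset_right hT)]⟩
  have hker : ∀ y : N ⊗[R] LinearMap.ker π, ∃ T₀ : Finset M, ∀ T, T₀ ⊆ T →
      GS T ((LinearMap.ker π).subtype.lTensor N y) = 0 := by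
    intro y
    induction y with
    | zero => exact ⟨∅, fun T _ => by simp⟩
    | tmul n k =>
      refine ⟨(k : M →₀ R).support, fun T hT => ?_⟩
      have : G T (k : M →₀ R) = 0 := Subtype.ext ((hG _ T hT).trans (LinearMap.mem_ker.1 k.2))
      simp [GS, this]
    | add a b ha hb =>
      obtain ⟨Ta, hTa⟩ := ha
      obtain ⟨Tb, hTb⟩ := hb
      exact ⟨Ta ∪ Tb, fun T hT => by
        rw [map_add, map_add, hTa T (Finset.union_subset_left hT), hTb T (Finset.union_subset_right hT), add_zero]⟩
  obtain ⟨gs, hgs⟩ := IsNoetherian.noetherian q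
  have hgen : ∀ s : gs, ∃ T₀ : Finset M, ∀ T, T₀ ⊆ T → GS T ((s : S) • w) = 0 := by
    intro s
    have h0 : π.lTensor N ((s : S) • w) = 0 := by
      have hs : (s : S) • z = 0 := by
        rw [← Submodule.mem_annihilator_span_singleton, ← hz, ← hgs]
        exact Submodule.subset_span s.2
      rw [← hs, ← hw]
      exact map_smul (TensorProduct.AlgebraTensorModule.map (LinearMap.id (R := S) (M := N)) π) (s : S) w
    obtain ⟨y, hy⟩ := (@lTensor_exact R (LinearMap.ker π) (M →₀ R) M _ _ _ _ _ _ _ (Submodule.subtype _) π N _ _ (LinearMap.exact_subtype_ker_map π) hπ _).1 h0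
    obtain ⟨T₀, hT₀⟩ := hker y
    exact ⟨T₀, fun T hT => hy ▸ hT₀ T hT⟩
  choose Tg hTg using hgen
  obtain ⟨Tw, hTw⟩ := hlift w
  let T := Tw ∪ Finset.univ.biUnion Tg
  refine ⟨Submodule.span R (T : Set M), ⟨T, rfl⟩, hqp, GS T w, le_antisymm ?_ ?_⟩
  · rw [← hgs, Submodule.span_le]
    intro s hs
    rw [SetLike.mem_coe, Submodule.mem_annihilator_span_singleton, ← map_smul]
    exact hTg ⟨s, hs⟩ T ((Finset.subset_biUnion_of_mem Tg (Finset.mem_univ _)).trans Finset.subset_union_right)
  · intro s hs
    rw [Submodule.mem_annihilator_span_singleton] at hs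
    rw [hz, Submodule.mem_annihilator_span_singleton, ← hw, ← hTw T Finset.subset_union_left, ← map_smul, hs, map_zero]

end Groth.Agent.S9667
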