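import Groth.Statements.S9668
import Mathlib.RingTheory.Flat.Basic
import Mathlib.LinearAlgebra.TensorProduct.Finiteness
import Mathlib.RingTheory.TensorProduct.Basic

set_option autoImplicit false
universe u
open CAlg
open scoped TensorProduct

namespace Groth.Agent.S9668

open TensorProduct in
/-- Part (4): (B = B_fin): let R → S be a ring map, N an S-module flat over R, M an R-module and q a
prime of S; an associated prime of a module is a prime ideal equal to the annihilator of some
element. If q is an associated prime of the S-module N ⊗_R M, then there is a finitely generated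
R-submodule M' ⊆ M such that q is an associated prime of the S-module N ⊗_R M'. -/
theorem result {R S : Type u} [CommRing R] [CommRing S] [Algebra R S] (N : Type u) [AddCommGroup N] [Module S N] [Module R N] [IsScalarTower R S N] [Module.Flat R N]
    (M : Type u) [AddCommGroup M] [Module R M] (q : Ideal S) [q.IsPrime] (h : q ∈ FlatCA.ass S (N ⊗[R] M)) :
    ∃ M' : Submodule R M, M'.FG ∧ q ∈ FlatCA.ass S (N ⊗[R] ↥M') := by
  obtain ⟨hqp, z, hz⟩ := h
  obtain ⟨M', hfg, hzM⟩ : ∃ M' : Submodule R M, M'.FG ∧ z ∈ LinearMap.range (LinearMap.lTensor N M'.subtype) := by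
    clear hz
    induction z with
    | zero => exact ⟨⊥, Submodule.fg_bot, zero_mem _⟩
    | tmul a b => exact ⟨Submodule.span R {b}, Submodule.fg_span_singleton b, a ⊗ₜ ⟨b, Submodule.mem_span_singleton_self b⟩, rfl⟩
    | add a b ha hb =>
      obtain ⟨P, hP, a', rfl⟩ := ha
      obtain ⟨Q, hQ, b', rfl⟩ := hb
      refine ⟨P ⊔ Q, hP.sup hQ, (Submodule.inclusion (le_sup_left : P ≤ P ⊔ Q)).lTensor N a' + (Submodule.inclusion (le_sup_right : Q ≤ P ⊔ Q)).lTensor N b', ?_⟩
      rw [map_add, ← LinearMap.comp_apply, ← LinearMap.comp_apply, ← LinearMap.lTensor_comp, ← LinearMap.lTensor_comp, Submodule.subtype_comp_inclusion, Submodule.subtype_comp_inclusion]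
  obtain ⟨z', rfl⟩ := hzM
  refine ⟨M', hfg, hqp, z', ?_⟩
  rw [hz]
  ext s
  rw [Submodule.mem_annihilator_span_singleton, Submodule.mem_annihilator_span_singleton]
  let φ : N ⊗[R] M' →ₗ[S] N ⊗[R] M := TensorProduct.AlgebraTensorModule.map LinearMap.id M'.subtype
  have hinj : Function.Injective φ := Module.Flat.lTensor_preserves_injective_linearMap M'.subtype M'.subtype_injective
  rw [show LinearMap.lTensor N M'.subtype z' = φ z' from rfl, ← map_smul, map_eq_zero_iff φ hinj]

end Groth.Agent.S9668
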