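import Groth.Statements.S9669
import Groth.Agent.FlatCAFib.Basic

set_option autoImplicit false
universe u
open CAlg Groth.Agent

namespace Groth.Agent.S9669

/-- Part (4): (A = A_fin = A'_fin): let R → S be a ring map, N an S-module flat over R and p a prime of
R; an associated prime of a module is a prime ideal equal to the annihilator of some element. Then
the set of associated primes of the S-module N/pN equals the set of associated primes of the
S-module N ⊗_R κ(p) (the fibre module over p, an S-module by restriction of scalars), and every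
prime in this set lies over p. -/
theorem result {R S : Type u} [CommRing R] [CommRing S] [Algebra R S] (N : Type u) [AddCommGroup N] [Module S N] [Module R N] [IsScalarTower R S N] [Module.Flat R N] (p : Ideal R) [p.IsPrime] :
    FlatCA.ass S (N ⧸ (p.map (algebraMap R S)) • (⊤ : Submodule S N)) = FlatCA.ass S (FlatCA.fiberMod p S N) ∧
      ∀ q ∈ FlatCA.ass S (N ⧸ (p.map (algebraMap R S)) • (⊤ : Submodule S N)), q.comap (algebraMap R S) = p := by
  have hover : ∀ q ∈ FlatCA.ass S (N ⧸ (p.map (algebraMap R S)) • (⊤ : Submodule S N)), q.comap (algebraMap R S) = p := by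
    rintro q ⟨hqp, n, hn⟩
    refine le_antisymm (fun r hr => ?_) (fun r hr => ?_)
    · by_contra hrp
      rw [Ideal.mem_comap, hn, Submodule.mem_annihilator_span_singleton] at hr
      refine hqp.ne_top ((Ideal.eq_top_iff_one q).2 ?_)
      rw [hn, Submodule.mem_annihilator_span_singleton, one_smul]
      exact FlatCAFib.eq_zero_of_smul p N hrp n hr
    · rw [Ideal.mem_comap, hn, Submodule.mem_annihilator_span_singleton]
      exact FlatCAFib.smul_mk_eq_zero p N (Ideal.mem_map_of_mem _ hr) n
  refine ⟨Set.ext fun q => ⟨fun h => ?_, fun h => ?_⟩, hover⟩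
  · have hq := hover q h
    obtain ⟨hqp, n, hn⟩ := h
    exact ⟨hqp, FlatCAFib.jmap p N n, FlatCAFib.ann_jmap p N (fun r hr h' => hr (by rw [← hq]; exact h')) n hn⟩
  · obtain ⟨hqp, x, hx⟩ := h
    obtain ⟨r, hr, n, hn⟩ := FlatCAFib.exists_smul_eq p N x
    refine ⟨hqp, n, ?_⟩
    ext s
    rw [Submodule.mem_annihilator_span_singleton, hx, Submodule.mem_annihilator_span_singleton]
    constructor
    · intro h1
      have h2 : FlatCAFib.jmap p N (s • n) = 0 := by rw [map_smul, ← hn, smul_comm, h1, smul_zero]
      obtain ⟨t, ht, h3⟩ := (FlatCAFib.jmap_eq_zero_iff p N _).1 h2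
      exact FlatCAFib.eq_zero_of_smul p N ht _ h3
    · intro h1
      refine FlatCAFib.eq_zero_of_smul_fib p N hr _ ?_
      rw [smul_comm, hn, ← map_smul, h1, map_zero]

end Groth.Agent.S9669
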