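import Groth.Statements.S9670
import Groth.Agent.FlatCAFib.Basic
import Groth.Agent.S9669
import Mathlib.RingTheory.Ideal.AssociatedPrime.Finiteness
import Mathlib.LinearAlgebra.TensorProduct.RightExactness
import Mathlib.LinearAlgebra.TensorProduct.Quotient

set_option autoImplicit false
universe u
open CAlg Groth.Agent
open scoped TensorProduct

namespace Groth.Agent.S9670

open TensorProduct in
/-- Part (5): (B_fin ⊆ A_fin): let R → S be a ring map with R Noetherian, N an S-module flat over R, M a
finite R-module, q a prime of S and p the prime of R below q; an associated prime of a module is a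
prime ideal equal to the annihilator of some element. If q is an associated prime of the S-module N
⊗_R M, then q is an associated prime of the S-module N/pN. -/
theorem result {R S : Type u} [CommRing R] [CommRing S] [Algebra R S] (N : Type u) [AddCommGroup N] [Module S N] [Module R N] [IsScalarTower R S N] [IsNoetherianRing R] [Module.Flat R N]
    (M : Type u) [AddCommGroup M] [Module R M] [Module.Finite R M] (p : Ideal R) [p.IsPrime] (q : Ideal S) [q.IsPrime] (hq : q.comap (algebraMap R S) = p)
    (h : q ∈ FlatCA.ass S (N ⊗[R] M)) :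
    q ∈ FlatCA.ass S (N ⧸ (p.map (algebraMap R S)) • (⊤ : Submodule S N)) := by
  revert h
  refine IsNoetherianRing.induction_on_isQuotientEquivQuotientPrime (A := R) (inferInstance : Module.Finite R M)
    (motive := fun V _ _ _ => q ∈ FlatCA.ass S (N ⊗[R] V) → q ∈ FlatCA.ass S (N ⧸ (p.map (algebraMap R S)) • (⊤ : Submodule S N))) ?_ ?_ ?_
  · intro V _ _ _ _ ⟨hqp, z, hz⟩
    refine absurd ((Ideal.eq_top_iff_one q).2 ?_) hqp.ne_top
    rw [hz, Submodule.mem_annihilator_span_singleton, one_smul]
    clear hz
    induction z with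
    | zero => rfl
    | tmul a b => rw [Subsingleton.elim b 0, TensorProduct.tmul_zero]
    | add a b ha hb => rw [ha, hb, add_zero]
  · rintro V _ _ _ ⟨p', hp'⟩ e ⟨hqp, z, hz⟩
    haveI := hp'
    obtain ⟨n, hn⟩ : ∃ n : N, e.toLinearMap.lTensor N z = n ⊗ₜ[R] Ideal.Quotient.mk p' 1 := by
      refine ⟨?_, ?_⟩
      · exact Classical.choose (Submodule.Quotient.mk_surjective _ (TensorProduct.tensorQuotEquivQuotSMul N p' (e.toLinearMap.lTensor N z)))
      · apply (TensorProduct.tensorQuotEquivQuotSMul N p').injective
        rw [TensorProduct.tensorQuotEquivQuotSMul_tmul_mk, one_smul]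
        exact (Classical.choose_spec (Submodule.Quotient.mk_surjective _ (TensorProduct.tensorQuotEquivQuotSMul N p' (e.toLinearMap.lTensor N z)))).symm
    let φ : N ⊗[R] V →ₗ[S] N ⊗[R] (R ⧸ p') := TensorProduct.AlgebraTensorModule.map LinearMap.id e.toLinearMap
    have hφ : Function.Injective φ := (LinearEquiv.lTensor N e).injective
    have hmem : q ∈ FlatCA.ass S (N ⧸ (p'.map (algebraMap R S)) • (⊤ : Submodule S N)) := by
      refine ⟨hqp, Submodule.Quotient.mk n, ?_⟩
      ext s
      rw [Submodule.mem_annihilator_span_singleton, hz, Submodule.mem_annihilator_span_singleton,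
        ← map_eq_zero_iff φ hφ, map_smul, show φ z = n ⊗ₜ[R] Ideal.Quotient.mk p' 1 from hn, TensorProduct.smul_tmul',
        ← map_eq_zero_iff _ (TensorProduct.tensorQuotEquivQuotSMul N p').injective, TensorProduct.tensorQuotEquivQuotSMul_tmul_mk, one_smul,
        Submodule.Quotient.mk_eq_zero, ← Submodule.Quotient.mk_smul, Submodule.Quotient.mk_eq_zero,
        ← Submodule.restrictScalars_mem R (p'.map (algebraMap R S) • ⊤ : Submodule S N), Ideal.smul_restrictScalars, Submodule.restrictScalars_top]
    have hpp : p' = p := by rw [← hq]; exact ((S9669.result N p').2 q hmem).symm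
    subst hpp
    exact hmem
  · intro V₁ _ _ _ V₂ _ _ _ V₃ _ _ _ f g hf hg hfg h1 h3 ⟨hqp, z, hz⟩
    let φ : N ⊗[R] V₁ →ₗ[S] N ⊗[R] V₂ := TensorProduct.AlgebraTensorModule.map LinearMap.id f
    let ψ : N ⊗[R] V₂ →ₗ[S] N ⊗[R] V₃ := TensorProduct.AlgebraTensorModule.map LinearMap.id g
    have hφ : Function.Injective φ := Module.Flat.lTensor_preserves_injective_linearMap f hf
    by_cases hcase : ∀ s ∉ q, ψ (s • z) ≠ 0
    · refine h3 ⟨hqp, ψ z, ?_⟩
      ext s
      rw [Submodule.mem_annihilator_span_singleton, ← map_smul]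
      constructor
      · intro hs
        rw [hz, Submodule.mem_annihilator_span_singleton] at hs
        rw [hs, map_zero]
      · intro hs
        by_contra hsq
        exact hcase s hsq hs
    · push Not at hcase
      obtain ⟨s, hsq, hs⟩ := hcase
      obtain ⟨w, hw⟩ : ∃ w, φ w = s • z := (lTensor_exact N hfg hg (s • z)).1 hs
      refine h1 ⟨hqp, w, ?_⟩
      ext t
      rw [Submodule.mem_annihilator_span_singleton, ← map_eq_zero_iff φ hφ, map_smul, hw, smul_smul,
        ← Submodule.mem_annihilator_span_singleton, ← hz]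
      exact ⟨fun ht => Ideal.mul_mem_right _ _ ht, fun ht => (hqp.mem_or_mem ht).resolve_right hsq⟩

end Groth.Agent.S9670
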