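import Groth.Statements.S9671
import Mathlib.RingTheory.GradedAlgebra.HomogeneousLocalization
import Mathlib.RingTheory.MvPolynomial.Homogeneous
import Mathlib.RingTheory.FiniteType
import Mathlib.Algebra.DirectSum.Module

set_option autoImplicit false
universe u
open CAlg

namespace Groth.Agent.S9671

section
open MvPolynomial
variable (R R' : Type u) [CommRing R] [CommRing R'] [Algebra R R'] {n : ℕ} (v : Option (Fin n) → R')

/-- dehomogenisation data: `X_i ↦ (0, v_i T)` -/
noncomputable def psi : MvPolynomial (Option (Fin n)) R →ₐ[R] R × Polynomial R' :=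
  (aeval (fun _ => (0 : R))).prod (aeval fun i => Polynomial.C (v i) * Polynomial.X)

lemma psi_fst (p : MvPolynomial (Option (Fin n)) R) {d : ℕ} (hp : p.IsHomogeneous d) (hd : d ≠ 0) :
    (psi R R' v p).1 = 0 := by
  change aeval (fun _ => (0 : R)) p = 0
  rw [← Pi.zero_def, aeval_zero]
  simpa [constantCoeff_eq] using hp.coeff_eq_zero (d := 0) (by simpa using hd.symm)

lemma psi_snd (p : MvPolynomial (Option (Fin n)) R) {d : ℕ} (hp : p.IsHomogeneous d) :
    (psi R R' v p).2 = Polynomial.C (aeval v p) * Polynomial.X ^ d := by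
  change aeval (fun i => Polynomial.C (v i) * Polynomial.X) p = _
  conv_lhs => rw [p.as_sum]
  conv_rhs => rw [p.as_sum]
  rw [map_sum, map_sum, map_sum, Finset.sum_mul]
  refine Finset.sum_congr rfl fun m hm => ?_
  rw [aeval_monomial, aeval_monomial, map_mul]
  simp only [Finsupp.prod, mul_pow, Finset.prod_mul_distrib, Finset.prod_pow_eq_pow_sum, map_prod, map_pow]
  have hdeg : ∑ i ∈ m.support, m i = d := by
    have := hp (mem_support_iff.1 hm)
    simpa [Finsupp.weight_apply, Finsupp.sum] using this
  rw [hdeg, IsScalarTower.algebraMap_apply R R' (Polynomial R'), Polynomial.algebraMap_eq]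
  ring

/-- the pieces -/
noncomputable def piece (d : ℕ) : Submodule R (psi R R' v).range :=
  (homogeneousSubmodule (Option (Fin n)) R d).map (psi R R' v).rangeRestrict.toLinearMap

/-- the projection detecting degree -/
noncomputable def proj (d : ℕ) : R × Polynomial R' →ₗ[R] R × Polynomial R' :=
  LinearMap.prod (if d = 0 then LinearMap.fst R R (Polynomial R') else 0)
    (((Polynomial.monomial d).restrictScalars R) ∘ₗ ((Polynomial.lcoeff R' d).restrictScalars R) ∘ₗ LinearMap.snd R R (Polynomial R'))

lemma proj_piece {d e : ℕ} {x : (psi R R' v).range} (hx : x ∈ piece R R' v e) :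
    proj R R' d (x : R × Polynomial R') = if d = e then (x : R × Polynomial R') else 0 := by
  obtain ⟨p, hp, rfl⟩ := hx
  have hp' : p.IsHomogeneous e := hp
  have h1 : ((psi R R' v).rangeRestrict.toLinearMap p : R × Polynomial R') = psi R R' v p := rfl
  rw [h1]
  have h2 := psi_snd R R' v p hp'
  by_cases hde : d = e
  · subst hde
    rw [if_pos rfl]
    refine Prod.ext ?_ ?_
    · by_cases hd : d = 0
      · simp [proj, hd]
      · simp [proj, hd, psi_fst R R' v p hp' hd]
    · change Polynomial.monomial d ((psi R R' v p).2.coeff d) = (psi R R' v p).2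
      rw [h2, Polynomial.C_mul_X_pow_eq_monomial, Polynomial.coeff_monomial_same]
  · rw [if_neg hde]
    refine Prod.ext ?_ ?_
    · by_cases hd : d = 0
      · simp [proj, hd, psi_fst R R' v p hp' (fun he => hde (hd.trans he.symm))]
      · simp [proj, hd]
    · change Polynomial.monomial d ((psi R R' v p).2.coeff d) = 0
      rw [h2, Polynomial.C_mul_X_pow_eq_monomial, Polynomial.coeff_monomial, if_neg (Ne.symm hde), map_zero]

instance piece_gradedMonoid : SetLike.GradedMonoid (piece R R' v) where
  one_mem := ⟨1, isHomogeneous_one _ _, map_one (psi R R' v).rangeRestrict⟩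
  mul_mem := by
    rintro i j _ _ ⟨p, hp, rfl⟩ ⟨q, hq, rfl⟩
    exact ⟨p * q, IsHomogeneous.mul hp hq, map_mul (psi R R' v).rangeRestrict p q⟩

lemma piece_isInternal : DirectSum.IsInternal (piece R R' v) := by
  refine DirectSum.isInternal_submodule_of_iSupIndep_of_iSup_eq_top (fun d => ?_) (eq_top_iff.2 ?_)
  · refine Submodule.disjoint_def.2 fun x hx hx' => Subtype.ext ?_
    have h1 := proj_piece R R' v (d := d) hx
    rw [if_pos rfl] at h1
    rw [← h1]
    have hzero : (⨆ (e) (_ : e ≠ d), piece R R' v e) ≤ LinearMap.ker (proj R R' d ∘ₗ (psi R R' v).range.val.toLinearMap) :=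
      iSup₂_le fun e he y hy => by
        rw [LinearMap.mem_ker]
        exact (proj_piece R R' v hy).trans (if_neg (Ne.symm he))
    exact LinearMap.mem_ker.1 (hzero hx')
  · rintro ⟨x, p, rfl⟩ -
    have : (⟨psi R R' v p, p, rfl⟩ : (psi R R' v).range) =
        ∑ i ∈ Finset.range (p.totalDegree + 1), (psi R R' v).rangeRestrict (homogeneousComponent i p) := by
      rw [← map_sum, sum_homogeneousComponent]; rfl
    refine SetLike.mem_coe.1 (Set.mem_of_eq_of_mem (by exact this) ?_)
    exact Submodule.sum_mem _ fun i _ => Submodule.mem_iSup_of_mem i ⟨_, homogeneousComponent_isHomogeneous i p, rfl⟩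

@[reducible] noncomputable def pieceGraded : GradedAlgebra (piece R R' v) :=
  { piece_gradedMonoid R R' v, (piece_isInternal R R' v).chooseDecomposition with }

end

/-- Let R be a ring and R' an R-algebra of finite type. Then there are an ℕ-graded R-algebra S such that
R → S₀ is bijective and S is generated as an R-algebra by a finite set of degree-1 elements, an
element f ∈ S₁, and a ring isomorphism e between the degree-zero part S_(f) of the localization S_f
and R' which matches r/1 with the image of r in R' for every r ∈ R (so R' is identified with S_(f)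
as an R-algebra). The published statement also produces, from a finite R'-module, a finite graded
S-module whose degree-zero localization at f recovers it; that half is not part of this row. -/
theorem result (R R' : Type u) [CommRing R] [CommRing R'] [Algebra R R'] [Algebra.FiniteType R R'] :
    ∃ (S : Type u) (_ : CommRing S) (_ : Algebra R S) (𝒜 : ℕ → Submodule R S) (_ : GradedAlgebra 𝒜) (f : S) (_ : f ∈ 𝒜 1) (s : Finset S)
      (e : HomogeneousLocalization.Away 𝒜 f ≃+* R'),
      Function.Injective (algebraMap R S) ∧ (∀ x ∈ 𝒜 0, x ∈ Set.range (algebraMap R S)) ∧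
      (↑s ⊆ (𝒜 1 : Set S)) ∧ Algebra.adjoin R (s : Set S) = ⊤ ∧
      ∀ r : R, (e.symm (algebraMap R R' r)).val = algebraMap S (Localization.Away f) (algebraMap R S r) := by
  classical
  obtain ⟨n, π, hπ⟩ := Algebra.FiniteType.iff_quotient_mvPolynomial''.1 ‹Algebra.FiniteType R R'›
  let v : Option (Fin n) → R' := fun o => o.elim 1 fun i => π (MvPolynomial.X i)
  let ψ := psi R R' v
  let S := ψ.range
  let : GradedAlgebra (piece R R' v) := pieceGraded R R' v
  let f : S := ψ.rangeRestrict (MvPolynomial.X none)
  have hf : f ∈ piece R R' v 1 := ⟨_, MvPolynomial.isHomogeneous_X R none, rfl⟩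
  let g : S →+* R' := (Polynomial.evalRingHom 1).comp ((RingHom.snd R (Polynomial R')).comp S.val.toRingHom)
  have hgp : ∀ p, g (ψ.rangeRestrict p) = MvPolynomial.aeval v p := fun p => by
    change Polynomial.eval 1 (MvPolynomial.aeval (fun i => Polynomial.C (v i) * Polynomial.X) p) = _
    have h : ((Polynomial.aeval (1 : R')).restrictScalars R).comp (MvPolynomial.aeval fun i => Polynomial.C (v i) * Polynomial.X) =
        MvPolynomial.aeval v := MvPolynomial.algHom_ext fun i => by simp
    have := AlgHom.congr_fun h p
    simpa using this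
  have hgf : g f = 1 := by rw [hgp, MvPolynomial.aeval_X]; rfl
  let G : Localization.Away f →+* R' := IsLocalization.Away.lift f (g := g) (by rw [hgf]; exact isUnit_one)
  let e0 : HomogeneousLocalization.Away (piece R R' v) f →+* R' :=
    G.comp (algebraMap (HomogeneousLocalization.Away (piece R R' v) f) (Localization.Away f))
  have he0 : ∀ k x hx, e0 (HomogeneousLocalization.Away.mk (piece R R' v) hf k x hx) = g x := fun k x hx => by
    change G (HomogeneousLocalization.Away.mk (piece R R' v) hf k x hx).val = g x
    have h := congrArg G (IsLocalization.mk'_spec (Localization.Away f) x (⟨f ^ k, ⟨k, rfl⟩⟩ : Submonoid.powers f))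
    have hG : ∀ y : S, G (algebraMap S (Localization.Away f) y) = g y := fun y => IsLocalization.Away.lift_eq f _ y
    have h2 := (map_mul G _ _).symm.trans (h.trans (hG x))
    rw [map_pow, map_pow, hG, hgf, one_pow, mul_one] at h2
    rw [HomogeneousLocalization.Away.val_mk, Localization.mk_eq_mk']
    exact h2
  have hinj : Function.Injective e0 := by
    refine (injective_iff_map_eq_zero _).2 fun z hz => ?_
    obtain ⟨k, x, hx, rfl⟩ := HomogeneousLocalization.Away.mk_surjective (piece R R' v) hf z
    rw [he0] at hz
    obtain ⟨p, hp, rfl⟩ := hx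
    rw [smul_eq_mul, mul_one] at hp
    have hp' : p.IsHomogeneous k := hp
    have hxf : f * ψ.rangeRestrict p = 0 := by
      refine Subtype.ext ?_
      change ψ (MvPolynomial.X none) * ψ p = 0
      refine Prod.ext ?_ ?_
      · rw [Prod.fst_mul, psi_fst R R' v _ (MvPolynomial.isHomogeneous_X R none) one_ne_zero, zero_mul]; rfl
      · have hz' : MvPolynomial.aeval v p = 0 := (hgp p).symm.trans hz
        rw [Prod.snd_mul, psi_snd R R' v p hp', hz', map_zero, zero_mul, mul_zero]; rfl
    refine HomogeneousLocalization.val_injective _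
      (((HomogeneousLocalization.Away.val_mk (piece R R' v) k hf _ _).trans ?_).trans HomogeneousLocalization.val_zero.symm)
    rw [Localization.mk_eq_mk', IsLocalization.mk'_eq_zero_iff]
    exact ⟨⟨f, Submonoid.mem_powers f⟩, hxf⟩
  let sc : R → HomogeneousLocalization.Away (piece R R' v) f := fun r =>
    HomogeneousLocalization.Away.mk (piece R R' v) hf 0 (algebraMap R S r)
      ⟨MvPolynomial.C r, by simpa using MvPolynomial.isHomogeneous_C _ r, ψ.rangeRestrict.commutes r⟩
  have hsc : ∀ r, e0 (sc r) = algebraMap R R' r := fun r => by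
    refine (he0 0 _ _).trans ((congrArg g (ψ.rangeRestrict.commutes r).symm).trans ?_)
    rw [hgp, MvPolynomial.algebraMap_eq, MvPolynomial.aeval_C]
  have hsurj : Function.Surjective e0 := fun z => by
    obtain ⟨p, rfl⟩ := hπ z
    induction p using MvPolynomial.induction_on with
    | C r => exact ⟨sc r, (hsc r).trans (by simp)⟩
    | add p q hp hq =>
      obtain ⟨a, ha⟩ := hp; obtain ⟨b, hb⟩ := hq
      exact ⟨a + b, by rw [map_add, map_add, ha, hb]⟩
    | mul_X p i hp =>
      obtain ⟨a, ha⟩ := hp
      refine ⟨a * HomogeneousLocalization.Away.mk (piece R R' v) hf 1 (ψ.rangeRestrict (MvPolynomial.X (some i)))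
        (by rw [one_smul]; exact ⟨_, MvPolynomial.isHomogeneous_X R (some i), rfl⟩), ?_⟩
      rw [map_mul, map_mul, ha, he0, hgp, MvPolynomial.aeval_X]
      rfl
  let e := RingEquiv.ofBijective e0 ⟨hinj, hsurj⟩
  refine ⟨S, inferInstance, inferInstance, piece R R' v, inferInstance, f, hf,
    Finset.univ.image (fun i => ψ.rangeRestrict (MvPolynomial.X i)), e, ?_, ?_, ?_, ?_, fun r => ?_⟩
  · intro a b hab
    exact congrArg (fun s : S => (s : R × Polynomial R').1) hab
  · rintro _ ⟨p, hp, rfl⟩
    have hp' : p.IsHomogeneous 0 := hp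
    refine ⟨p.coeff 0, ?_⟩
    have : p = MvPolynomial.C (p.coeff 0) := MvPolynomial.totalDegree_eq_zero_iff_eq_C.1 (Nat.le_zero.1 hp'.totalDegree_le)
    conv_rhs => rw [this]
    exact (ψ.rangeRestrict.commutes _).symm
  · intro x hx
    obtain ⟨i, -, rfl⟩ := Finset.mem_image.1 hx
    exact ⟨_, MvPolynomial.isHomogeneous_X R i, rfl⟩
  · rw [Finset.coe_image, Finset.coe_univ, Set.image_univ, show (fun i => ψ.rangeRestrict (MvPolynomial.X i)) =
      ψ.rangeRestrict ∘ MvPolynomial.X from rfl, Set.range_comp, ← AlgHom.map_adjoin, MvPolynomial.adjoin_range_X,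
      Algebra.map_top, AlgHom.range_eq_top]
    exact ψ.rangeRestrict_surjective
  · rw [show e.symm (algebraMap R R' r) = sc r from e.symm_apply_eq.2 (hsc r).symm]
    refine (HomogeneousLocalization.Away.val_mk (piece R R' v) 0 hf _ _).trans ?_
    rw [Localization.mk_eq_mk', ← IsLocalization.mk'_one (M := Submonoid.powers f)]
    congr 1
    exact Subtype.ext (pow_zero f)

end Groth.Agent.S9671
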