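import Mathlib.AlgebraicGeometry.Normalization
import Mathlib.AlgebraicGeometry.Morphisms.Finite
import Mathlib.AlgebraicGeometry.Morphisms.FiniteType
import Mathlib.Topology.Irreducible
import Groth.Prelude.Def_Pi1
import Mathlib.Topology.LocallyFinite
import Groth.Agent.NormalizationNormal.Main
import Groth.Agent.S9672

set_option backward.isDefEq.respectTransparency false
set_option backward.isDefEq.respectTransparency.types false
-- import your own Groth.Agent.* helpers here

set_option autoImplicit false
universe u
open CategoryTheory CategoryTheory.Limits AlgebraicGeometry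
open Mor

namespace Groth.Agent.S9673

/-- Let f : Y ⟶ X be quasi-compact and quasi-separated, with Y normal and the irreducible components of
Y locally finite (equivalently, each quasi-compact open subset of Y meets only finitely many of
them). Let X' be the normalization of X in Y and f' : Y ⟶ X' the canonical morphism. Then X' is
normal with locally finitely many irreducible components (hence a disjoint union of normal integral
schemes), f' maps generic points of irreducible components of Y to generic points of irreducible
components of X', and over each generic point of a component of X' there lies exactly one generic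
point of a component of Y. (Dominance of f' holds for every quasi-compact quasi-separated f and is
not restated.) -/
theorem result {X Y : Scheme.{u}} (f : Y ⟶ X)
    [QuasiCompact f] [QuasiSeparated f] (hY : Pi1.IsNormalScheme Y)
    (hfin : LocallyFinite (fun Z : ↥(irreducibleComponents ↥Y) => (Z : Set ↥Y))) :
    Pi1.IsNormalScheme f.normalization ∧
    LocallyFinite (fun Z : ↥(irreducibleComponents ↥f.normalization) => (Z : Set ↥f.normalization)) ∧
    (∀ y : Y, closure {y} ∈ irreducibleComponents ↥Y →
      closure {f.toNormalization.base y} ∈ irreducibleComponents ↥f.normalization) ∧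
    (∀ x' : ↥f.normalization, closure {x'} ∈ irreducibleComponents ↥f.normalization →
      ∃! y : Y, closure {y} ∈ irreducibleComponents ↥Y ∧ f.toNormalization.base y = x') := by
  have himg : ∀ y : Y, closure ({y} : Set Y) ∈ irreducibleComponents ↥Y →
      closure {f.toNormalization.base y} ∈ irreducibleComponents ↥f.normalization :=
    Groth.Agent.NormalizationNormal.image_isMax f hY hfin
  refine ⟨Groth.Agent.NormalizationNormal.isNormal_normalization f hY hfin, fun c => ?_, himg, fun x' hx' => ?_⟩
  · obtain ⟨_, ⟨U, hU, rfl⟩, hcU, -⟩ := X.isBasis_affineOpens.exists_subset_of_mem_open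
      (show f.fromNormalization c ∈ (⊤ : X.Opens) from trivial) isOpen_univ
    refine ⟨(f.fromNormalization ⁻¹ᵁ U : f.normalization.Opens), (f.fromNormalization ⁻¹ᵁ U).2.mem_nhds hcU, ?_⟩
    have hK : IsCompact ((f ⁻¹ᵁ U : Y.Opens) : Set Y) := f.isCompact_preimage hU.isCompact
    have hg : ∀ Z : ↥(irreducibleComponents ↥Y), ∃ y, closure ({y} : Set Y) = Z.1 := fun Z =>
      ⟨Z.2.1.genericPoint, Z.2.1.closure_genericPoint (isClosed_of_mem_irreducibleComponents _ Z.2)⟩
    choose γ hγ using hg
    refine ((hfin.finite_nonempty_inter_compact hK).image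
      (fun Z => (⟨closure {f.toNormalization.base (γ Z)}, himg _ ((hγ Z).symm ▸ Z.2)⟩ :
        ↥(irreducibleComponents ↥f.normalization)))).subset ?_
    rintro ⟨Z', hZ'⟩ ⟨z, hz, hzU⟩
    have hgen : closure ({hZ'.1.genericPoint} : Set f.normalization) = Z' :=
      hZ'.1.closure_genericPoint (isClosed_of_mem_irreducibleComponents _ hZ')
    obtain ⟨y, hy, hyx⟩ := Groth.Agent.S9672.result f hZ'.1.genericPoint (by rw [hgen]; exact hZ')
    refine ⟨⟨closure {y}, hy⟩, ⟨y, subset_closure rfl, ?_⟩, Subtype.ext ?_⟩
    · have hmem : hZ'.1.genericPoint ∈ f.fromNormalization ⁻¹ᵁ U :=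
        (specializes_iff_mem_closure.2 (by rw [hgen]; exact hz)).mem_open (f.fromNormalization ⁻¹ᵁ U).2 hzU
      rw [← hyx] at hmem
      change f.fromNormalization (f.toNormalization y) ∈ U at hmem
      rwa [← Scheme.Hom.comp_apply, f.toNormalization_fromNormalization] at hmem
    · have hyy : γ ⟨closure {y}, hy⟩ = y :=
        (inseparable_iff_closure_eq.2 (hγ ⟨closure {y}, hy⟩)).eq
      change closure {f.toNormalization.base (γ ⟨closure {y}, hy⟩)} = Z'
      rw [hyy, hyx, hgen]
  · obtain ⟨y, hy, hyx⟩ := Groth.Agent.S9672.result f x' hx'
    exact ⟨y, ⟨hy, hyx⟩, fun y' ⟨hy', hyx'⟩ =>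
      Groth.Agent.NormalizationNormal.unique_over f hY hfin y' y hy' hy (hyx'.trans hyx.symm)⟩

end Groth.Agent.S9673
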