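import Groth.Statements.S9676
import Groth.Agent.NormDvr.Alg
import Groth.Agent.S9675

set_option autoImplicit false
universe u
open CategoryTheory CategoryTheory.Limits AlgebraicGeometry
open Mor

namespace Groth.Agent.S9676

/-- Let f : Y ⟶ X be of finite type with Y reduced and every affine open of X having Nagata coordinate
ring, and let X' be the normalization of X in Y. If x' is a point of X' whose local ring has
dimension 1 and over which the fibre of Y ⟶ X' is empty, then the local ring of X' at x' is a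
discrete valuation ring. (Such an f is automatically quasi-separated; the binder is carried only to
form the relative normalization.) -/
theorem result {X Y : Scheme.{u}} (f : Y ⟶ X)
    [LocallyOfFiniteType f] [QuasiCompact f] [QuasiSeparated f] [IsReduced Y]
    (hX : ∀ U : X.affineOpens, CAlg.IsNagata Γ(X, U))
    (x' : ↥f.normalization) (hdim : ringKrullDim (f.normalization.presheaf.stalk x') = 1)
    (hx' : x' ∉ Set.range f.toNormalization.base) :
    ∃ _ : IsDomain (f.normalization.presheaf.stalk x'),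
      IsDiscreteValuationRing (f.normalization.presheaf.stalk x') := by
  haveI : IsLocallyNoetherian X := ⟨fun U => (hX U).1⟩
  haveI : IsLocallyNoetherian Y := LocallyOfFiniteType.isLocallyNoetherian f
  haveI : IsFinite f.fromNormalization := S9675.result f hX
  haveI : IsLocallyNoetherian f.normalization := LocallyOfFiniteType.isLocallyNoetherian f.fromNormalization
  obtain ⟨U, hU, hxU, -⟩ := exists_isAffineOpen_mem_and_subset (X := X) (x := f.fromNormalization x') (U := ⊤) trivial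
  let W := f.fromNormalization ⁻¹ᵁ U
  let V := f ⁻¹ᵁ U
  have hW : IsAffineOpen W := hU.preimage f.fromNormalization
  have e : V ≤ f.toNormalization ⁻¹ᵁ W := by
    simp [V, W, ← Scheme.Hom.comp_preimage]
  let ψ := f.toNormalization.appLE W V e
  letI : Algebra Γ(X, U) Γ(Y, V) := (f.app U).hom.toAlgebra
  have hψ : ψ = (f.normalizationObjIso hU).hom ≫ CommRingCat.ofHom
      (integralClosure Γ(X, U) Γ(Y, V)).val.toRingHom := (f.normalizationObjIso_hom_val hU).symm
  letI : Algebra Γ(f.normalization, W) Γ(Y, V) := ψ.hom.toAlgebra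
  letI : Algebra Γ(X, U) Γ(f.normalization, W) := (f.fromNormalization.app U).hom.toAlgebra
  haveI : IsScalarTower Γ(X, U) Γ(f.normalization, W) Γ(Y, V) := IsScalarTower.of_algebraMap_eq fun a => by
    have h1 : f.fromNormalization.app U ≫ ψ = f.app U := by
      show f.fromNormalization.app U ≫ f.toNormalization.appLE (f.fromNormalization ⁻¹ᵁ U) (f ⁻¹ᵁ U) e = _
      rw [Scheme.Hom.app_eq_appLE, Scheme.Hom.appLE_comp_appLE, Scheme.Hom.app_eq_appLE]
      simp only [f.toNormalization_fromNormalization]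
    exact (congr($h1 a)).symm
  haveI : Algebra.IsIntegral Γ(X, U) Γ(f.normalization, W) :=
    algebraMap_isIntegral_iff.1 (f.fromNormalization.isIntegral_app U hU)
  have hinj : Function.Injective (algebraMap Γ(f.normalization, W) Γ(Y, V)) := by
    rw [RingHom.algebraMap_toAlgebra, hψ]
    intro a b hab
    exact (f.normalizationObjIso hU).commRingCatIsoToRingEquiv.injective (Subtype.ext hab)
  have hcl : ∀ b : Γ(Y, V), IsIntegral Γ(f.normalization, W) b →
      b ∈ Set.range (algebraMap Γ(f.normalization, W) Γ(Y, V)) := fun b hb => by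
    refine ⟨(f.normalizationObjIso hU).inv ⟨b, isIntegral_trans b hb⟩, ?_⟩
    rw [RingHom.algebraMap_toAlgebra, hψ]
    exact congrArg Subtype.val ((f.normalizationObjIso hU).commRingCatIsoToRingEquiv.apply_symm_apply _)
  haveI : IsNoetherianRing Γ(f.normalization, W) := IsLocallyNoetherian.component_noetherian ⟨W, hW⟩
  haveI : _root_.IsReduced Γ(f.normalization, W) :=
    isReduced_of_injective (algebraMap Γ(f.normalization, W) Γ(Y, V)) hinj
  have hxW : x' ∈ W := hxU
  let q := hW.primeIdealOf ⟨x', hxW⟩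
  letI := TopCat.Presheaf.algebra_section_stalk f.normalization.presheaf ⟨x', hxW⟩
  haveI := hW.isLocalization_stalk ⟨x', hxW⟩
  refine NormDvr.isDVR_atPrime (L := f.normalization.presheaf.stalk x') hinj hcl q.asIdeal hdim fun a ha => ?_
  have hmem : ∀ (z : f.normalization) (hz : z ∈ W) (c : Γ(f.normalization, W)),
      c ∈ (hW.primeIdealOf ⟨z, hz⟩).asIdeal ↔ z ∉ f.normalization.basicOpen c := by
    intro z hz c
    have h1 : hW.fromSpec ⁻¹ᵁ f.normalization.basicOpen c = PrimeSpectrum.basicOpen c :=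
      hW.fromSpec_preimage_basicOpen c
    have h2 : hW.fromSpec (hW.primeIdealOf ⟨z, hz⟩) ∈ f.normalization.basicOpen c ↔
        c ∉ (hW.primeIdealOf ⟨z, hz⟩).asIdeal := by
      show hW.primeIdealOf ⟨z, hz⟩ ∈ hW.fromSpec ⁻¹ᵁ f.normalization.basicOpen c ↔ _
      rw [h1]
      exact PrimeSpectrum.mem_basicOpen _ _
    rw [hW.fromSpec_primeIdealOf] at h2
    rw [h2, not_not]
  haveI : CompactSpace V.toScheme := isCompact_iff_compactSpace.mp (f.isCompact_preimage hU.isCompact)
  haveI : AlgebraicGeometry.IsNoetherian V.toScheme := {}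
  haveI : TopologicalSpace.NoetherianSpace V.toScheme := AlgebraicGeometry.IsNoetherian.noetherianSpace
  have hNS : TopologicalSpace.NoetherianSpace V.toScheme := inferInstance
  obtain ⟨T, hTfin, hTc, hTirr, hTeq⟩ := @TopologicalSpace.NoetherianSpace.exists_finite_set_isClosed_irreducible
    V.toScheme _ hNS
    ((Subtype.val : V.toScheme → Y) ⁻¹' ((Y.basicOpen (algebraMap Γ(f.normalization, W) Γ(Y, V) a) : Set Y)ᶜ))
    ((Y.basicOpen _).2.isClosed_compl.preimage continuous_subtype_val)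
  have hchoose : ∀ Z : T, ∃ c : Γ(f.normalization, W), c ∉ q.asIdeal ∧
      ∀ y ∈ Z.1, y.1 ∉ Y.basicOpen (algebraMap Γ(f.normalization, W) Γ(Y, V) c) := by
    intro Z
    obtain ⟨ζ, hζ⟩ := QuasiSober.sober (hTirr Z.1 Z.2) (hTc Z.1 Z.2)
    have hζa : ζ.1 ∉ Y.basicOpen (algebraMap Γ(f.normalization, W) Γ(Y, V) a) :=
      hTeq.ge (Set.mem_sUnion.2 ⟨Z.1, Z.2, hζ.mem⟩)
    let p := hW.primeIdealOf ⟨f.toNormalization ζ.1, e ζ.2⟩
    have hiff : ∀ c : Γ(f.normalization, W), c ∈ p.asIdeal ↔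
        ζ.1 ∉ Y.basicOpen (algebraMap Γ(f.normalization, W) Γ(Y, V) c) := fun c => by
      rw [hmem _ _ c, RingHom.algebraMap_toAlgebra]
      show _ ↔ ζ.1 ∉ Y.basicOpen (f.toNormalization.appLE W V e c)
      rw [Scheme.basicOpen_appLE]
      exact ⟨fun h h' => h h'.2, fun h h' => h ⟨ζ.2, h'⟩⟩
    have hpq : ¬ p.asIdeal ≤ q.asIdeal := fun hle => by
      have h1 : p = q := PrimeSpectrum.ext (ha _ p.2 hle ((hiff a).2 hζa))
      have h2 := congrArg hW.fromSpec h1
      rw [hW.fromSpec_primeIdealOf, hW.fromSpec_primeIdealOf] at h2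
      exact hx' ⟨_, h2⟩
    obtain ⟨c, hcp, hcq⟩ := SetLike.not_le_iff_exists.1 hpq
    refine ⟨c, hcq, fun y hy hyc => (hiff c).1 hcp ?_⟩
    exact ((hζ.specializes hy).map continuous_subtype_val).mem_open (Y.basicOpen _).2 hyc
  choose c hcq hc using hchoose
  haveI := hTfin.fintype
  let s := ∏ Z : T, c Z
  have hs : s ∉ q.asIdeal := fun h => by
    obtain ⟨Z, -, hZ⟩ := (Ideal.IsPrime.prod_mem_iff (hp := q.2)).1 h
    exact hcq Z hZ
  let A := algebraMap Γ(f.normalization, W) Γ(Y, V) a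
  let S := algebraMap Γ(f.normalization, W) Γ(Y, V) s
  have hle : Y.basicOpen S ≤ Y.basicOpen A := fun y hy => by
    by_contra hn
    have hyV : y ∈ V := Y.basicOpen_le _ hy
    obtain ⟨Z, hZ, hyZ⟩ := Set.mem_sUnion.1 (hTeq.le (show (⟨y, hyV⟩ : V.toScheme) ∈ _ from hn))
    refine hc ⟨Z, hZ⟩ ⟨y, hyV⟩ hyZ ?_
    have hdvd : c ⟨Z, hZ⟩ ∣ s := Finset.dvd_prod_of_mem c (Finset.mem_univ _)
    obtain ⟨r, hr⟩ := hdvd
    have h3 : y ∈ Y.basicOpen (algebraMap Γ(f.normalization, W) Γ(Y, V) (c ⟨Z, hZ⟩ * r)) := hr ▸ hy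
    rw [map_mul, Scheme.basicOpen_mul] at h3
    exact h3.1
  letI : Algebra Γ(Y, V) Γ(Y, Y.basicOpen S) := (Y.presheaf.map (homOfLE (Y.basicOpen_le S)).op).hom.toAlgebra
  haveI : IsLocalization.Away S Γ(Y, Y.basicOpen S) := isLocalization_basicOpen_of_qcqs
    (f.isCompact_preimage hU.isCompact) (f.isQuasiSeparated_preimage hU.isQuasiSeparated) S
  obtain ⟨v, hv⟩ : IsUnit (algebraMap Γ(Y, V) Γ(Y, Y.basicOpen S) A) := by
    have h1 := (AlgebraicGeometry.RingedSpace.isUnit_res_basicOpen _ A).map (Y.presheaf.map (homOfLE hle).op).hom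
    erw [← CommRingCat.comp_apply, ← Y.presheaf.map_comp] at h1
    exact h1
  obtain ⟨⟨b, ⟨_, n, rfl⟩⟩, hb⟩ := IsLocalization.surj (Submonoid.powers S) (↑v⁻¹ : Γ(Y, Y.basicOpen S))
  obtain ⟨⟨_, k, rfl⟩, hk⟩ := (IsLocalization.eq_iff_exists (Submonoid.powers S) Γ(Y, Y.basicOpen S)).1
    (show algebraMap Γ(Y, V) Γ(Y, Y.basicOpen S) (A * b) = algebraMap Γ(Y, V) Γ(Y, Y.basicOpen S) (S ^ n) by
      rw [map_mul, ← hb, ← mul_assoc, ← hv, Units.mul_inv, one_mul])
  refine ⟨s ^ (k + n), fun h => hs (q.2.mem_of_pow_mem _ h), S ^ k * b, ?_⟩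
  rw [map_pow, pow_add, mul_left_comm]
  exact hk

end Groth.Agent.S9676
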