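import Groth.Statements.S9677
import Groth.Agent.Birat.Generic

set_option autoImplicit false
universe u
open CategoryTheory CategoryTheory.Limits AlgebraicGeometry
open Mor

namespace Groth.Agent.S9677

/-- Suppose X and Y have finitely many irreducible components and f : X ⟶ Y is birational, i.e. f
restricts to a bijection between the generic points of the irreducible components of X and those of
Y and induces an isomorphism of local rings at every generic point of an irreducible component of X.
Then for any generic point y of a component of Y, pulling f back along the canonical map Spec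
O_{Y,y} ⟶ Y gives an isomorphism onto Spec O_{Y,y}. -/
theorem result {X Y : Scheme.{u}} (f : X ⟶ Y)
    (hXfin : (irreducibleComponents ↥X).Finite) (hYfin : (irreducibleComponents ↥Y).Finite)
    (hbij : Set.BijOn (fun x : X => f.base x) {x : X | closure {x} ∈ irreducibleComponents ↥X}
      {y : Y | closure {y} ∈ irreducibleComponents ↥Y})
    (hiso : ∀ x : X, closure {x} ∈ irreducibleComponents ↥X → IsIso (f.stalkMap x))
    (y : Y) (hy : closure {y} ∈ irreducibleComponents ↥Y) :
    IsIso (pullback.snd f (Y.fromSpecStalk y)) := by
  set_option backward.isDefEq.respectTransparency false in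
  obtain ⟨x, hx, hxy⟩ := hbij.surjOn hy
  change f x = y at hxy
  subst hxy
  haveI := hiso x hx
  let q := Y.fromSpecStalk (f x)
  have hone : ∀ p : (pullback f q : Scheme.{u}), pullback.fst f q p = x := by
    intro p
    have h0 : f (pullback.fst f q p) = q (pullback.snd f q p) := by
      rw [← Scheme.Hom.comp_apply, ← Scheme.Hom.comp_apply, pullback.condition]
    have h1 : f (pullback.fst f q p) ∈ Set.range q := ⟨_, h0.symm⟩
    rw [Scheme.range_fromSpecStalk] at h1
    obtain ⟨η, hη, hηw⟩ := Groth.Agent.DomLib.exists_max (pullback.fst f q p)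
    have h2 := Groth.Agent.DomLib.eq_of_specializes_max hy ((hηw.map f.continuous).trans h1)
    have h3 : η = x := hbij.injOn hη hx h2
    subst h3
    exact (Groth.Agent.Birat.eq_of_specializes_of_isIso f hηw
      (Groth.Agent.DomLib.eq_of_specializes_max hy h1)).symm
  haveI : Subsingleton (pullback f q : Scheme.{u}) :=
    ⟨fun a b => (pullback.fst f q).isEmbedding.injective ((hone a).trans (hone b).symm)⟩
  let a : Spec (Y.presheaf.stalk (f x)) ⟶ X := Spec.map (inv (f.stalkMap x)) ≫ X.fromSpecStalk x
  have ha : a ≫ f = 𝟙 _ ≫ q := by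
    rw [Category.assoc, ← Scheme.SpecMap_stalkMap_fromSpecStalk, ← Category.assoc, ← Spec.map_comp,
      IsIso.hom_inv_id, Spec.map_id]
  let s := pullback.lift a (𝟙 _) ha
  obtain ⟨p⟩ : Nonempty (pullback f q : Scheme.{u}) := ⟨s (IsLocalRing.closedPoint _)⟩
  haveI := Groth.Agent.Birat.isIso_fromSpecStalk_of_subsingleton p
  refine ⟨s, ?_, pullback.lift_snd _ _ _⟩
  rw [← cancel_mono (pullback.fst f q), Category.assoc, pullback.lift_fst, Category.id_comp,
    ← cancel_epi (Scheme.fromSpecStalk _ p)]
  obtain ⟨c, hc⟩ : ∃ c, (pullback f q).fromSpecStalk p ≫ pullback.fst f q = c ≫ X.fromSpecStalk x := by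
    rw [← Scheme.SpecMap_stalkMap_fromSpecStalk]
    generalize hz : Spec.map ((pullback.fst f q).stalkMap p) = m
    clear hz
    revert m
    rw [hone p]
    exact fun m => ⟨m, rfl⟩
  rw [hc]
  simp only [a, ← Category.assoc]
  congr 1
  have h := congrArg (fun t => t ≫ f) hc
  rw [Category.assoc, Category.assoc, pullback.condition, ← Scheme.SpecMap_stalkMap_fromSpecStalk f] at h
  rw [← Category.assoc, ← Category.assoc (f := c)] at h
  have h' := (cancel_mono q).1 h
  rw [h', Category.assoc, ← Spec.map_comp, IsIso.inv_hom_id, Spec.map_id, Category.comp_id]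

end Groth.Agent.S9677
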