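import Groth.Statements.S9681
import Groth.Agent.Birat.Germ

set_option autoImplicit false
universe u
open CategoryTheory CategoryTheory.Limits AlgebraicGeometry
open Mor

namespace Groth.Agent.S9681

/-- Suppose X and Y are integral S-schemes, each locally of finite type over S, with generic points x
and y. Then X and Y are S-birational (they admit S-isomorphic nonempty opens) if and only if x and y
map to the same point s of S and the residue fields of x and y are isomorphic as extensions of the
residue field of s. -/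
theorem result {S X Y : Scheme.{u}}
    [IsIntegral X] [IsIntegral Y] (sX : X ⟶ S) (sY : Y ⟶ S)
    [LocallyOfFiniteType sX] [LocallyOfFiniteType sY] :
    Scheme.BirationalOver sX sY ↔
      ∃ (hs : sX.base (genericPoint ↥X) = sY.base (genericPoint ↥Y))
        (e : X.residueField (genericPoint ↥X) ≅ Y.residueField (genericPoint ↥Y)),
        sX.residueFieldMap (genericPoint ↥X) ≫ e.hom =
          eqToHom (congrArg S.residueField hs) ≫ sY.residueFieldMap (genericPoint ↥Y) := by
  set_option backward.isDefEq.respectTransparency false in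
  have hX : IsIso (X.residue (genericPoint X)) := by
    rw [ConcreteCategory.isIso_iff_bijective]
    exact ⟨RingHom.injective (IsLocalRing.residue X.functionField), IsLocalRing.residue_surjective⟩
  have hY : IsIso (Y.residue (genericPoint Y)) := by
    rw [ConcreteCategory.isIso_iff_bijective]
    exact ⟨RingHom.injective (IsLocalRing.residue Y.functionField), IsLocalRing.residue_surjective⟩
  have hres : ∀ {a b : S} (h : a = b), eqToHom (congrArg S.presheaf.stalk h) ≫ S.residue b =
      S.residue a ≫ eqToHom (congrArg S.residueField h) := by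
    intro a b h; subst h; simp
  constructor
  · rintro ⟨φ, hφ⟩
    haveI hne : Nonempty (φ.source : Scheme.{u}) := by
      obtain ⟨z, hz⟩ := φ.dense_source.nonempty
      exact ⟨⟨z, hz⟩⟩
    haveI : IrreducibleSpace (φ.source : Scheme.{u}) := φ.source.ι.isOpenEmbedding.irreducibleSpace
    obtain ⟨hs, e, he⟩ : ∃ (hs : sX.base (genericPoint ↥X) = sY.base (genericPoint ↥Y))
        (e : X.presheaf.stalk (genericPoint ↥X) ≅ Y.presheaf.stalk (genericPoint ↥Y)),
        sX.stalkMap (genericPoint ↥X) ≫ e.hom =
          eqToHom (congrArg S.presheaf.stalk hs) ≫ sY.stalkMap (genericPoint ↥Y) := by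
      rw [← genericPoint_eq_of_isOpenImmersion φ.source.ι,
        ← genericPoint_eq_of_isOpenImmersion (φ.iso.hom ≫ φ.target.ι)]
      exact Groth.Agent.Birat.stalk_iso_of_isOpenImmersion sX sY φ.source.ι (φ.iso.hom ≫ φ.target.ι)
        (by rw [Category.assoc]; exact Eq.symm hφ) _
    refine ⟨hs, (asIso (X.residue _)).symm ≪≫ e ≪≫ asIso (Y.residue _), ?_⟩
    rw [← cancel_epi (S.residue _)]
    simp only [Iso.trans_hom, Iso.symm_hom, asIso_inv, asIso_hom]
    rw [← Category.assoc (S.residue _) (eqToHom _), ← hres hs, Category.assoc,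
      Scheme.residue_residueFieldMap, ← Category.assoc (eqToHom _), ← he]
    rw [← Category.assoc, Scheme.residue_residueFieldMap]
    simp only [Category.assoc, IsIso.hom_inv_id_assoc]
  · rintro ⟨hs, e, he⟩
    let e' : X.presheaf.stalk (genericPoint ↥X) ≅ Y.presheaf.stalk (genericPoint ↥Y) :=
      asIso (X.residue _) ≪≫ e ≪≫ (asIso (Y.residue _)).symm
    have he' : sX.stalkMap (genericPoint ↥X) ≫ e'.hom =
        eqToHom (congrArg S.presheaf.stalk hs) ≫ sY.stalkMap (genericPoint ↥Y) := by
      rw [← cancel_mono (Y.residue _)]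
      simp only [e', Iso.trans_hom, Iso.symm_hom, asIso_inv, asIso_hom, Category.assoc, IsIso.inv_hom_id,
        Category.comp_id]
      rw [← Category.assoc, ← Scheme.residue_residueFieldMap sX, Category.assoc, he, ← Category.assoc,
        ← hres hs, Category.assoc, Scheme.residue_residueFieldMap]
    have h1 : Spec.map e'.hom ≫ X.fromSpecStalk _ ≫ sX = Y.fromSpecStalk _ ≫ sY := by
      rw [← Scheme.SpecMap_stalkMap_fromSpecStalk sX, ← Category.assoc, ← Spec.map_comp, he', Spec.map_comp,
        Category.assoc, Groth.Agent.Birat.specMap_eqToHom_fromSpecStalk hs,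
        Scheme.SpecMap_stalkMap_fromSpecStalk]
    have h2 : Spec.map e'.inv ≫ Y.fromSpecStalk _ ≫ sY = X.fromSpecStalk _ ≫ sX := by
      rw [← h1, ← Category.assoc, ← Spec.map_comp, e'.hom_inv_id, Spec.map_id, Category.id_comp]
    obtain ⟨V₁, hV₁, g, hg, hg'⟩ := spread_out_of_isGermInjective' sY sX
      (Spec.map e'.hom ≫ X.fromSpecStalk _) (x := genericPoint Y) (by rw [Category.assoc]; exact h1)
    obtain ⟨U₁, hU₁, f, hf, hf'⟩ := spread_out_of_isGermInjective' sX sY
      (Spec.map e'.inv ≫ Y.fromSpecStalk _) (x := genericPoint X) (by rw [Category.assoc]; exact h2)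
    obtain ⟨U, hxU, V, hyV, F, hF, -, -, hF', -⟩ := Groth.Agent.Birat.exists_isIso sX sY hU₁ hV₁ f g hf' hg'
      (Spec.map e'.inv) (Spec.map e'.hom)
      (by rw [← Spec.map_comp, e'.hom_inv_id, Spec.map_id])
      (by rw [← Spec.map_comp, e'.inv_hom_id, Spec.map_id]) hf.symm hg.symm ⊤ trivial ⊤ trivial
    exact ⟨⟨U, U.isOpen.dense ⟨_, hxU⟩, V, V.isOpen.dense ⟨_, hyV⟩, asIso F⟩, hF'⟩

end Groth.Agent.S9681
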