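import Groth.Statements.S9682
import Groth.Agent.GenFibre.Basic

set_option autoImplicit false
set_option backward.isDefEq.respectTransparency false
universe u
open CategoryTheory CategoryTheory.Limits AlgebraicGeometry
open Mor

namespace Groth.Agent.S9682

/-- Take f : X ⟶ Y locally of finite type and η the generic point of some irreducible component of Y.
Three conditions turn out to coincide: (1) each point of X mapping to η is the generic point of some
irreducible component of X; (2) f is quasi-finite at every point over η; (3) f is quasi-finite at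
each point over η that is generic in some irreducible component of X. Stated as (1) iff (2) together
with (1) iff (3). -/
theorem result {X Y : Scheme.{u}} (f : X ⟶ Y)
    [LocallyOfFiniteType f] (η : Y) (hη : closure {η} ∈ irreducibleComponents ↥Y) :
    ((∀ x : X, f.base x = η → closure {x} ∈ irreducibleComponents ↥X) ↔
      (∀ x : X, f.base x = η → f.QuasiFiniteAt x)) ∧
    ((∀ x : X, f.base x = η → closure {x} ∈ irreducibleComponents ↥X) ↔
      (∀ x : X, f.base x = η → closure {x} ∈ irreducibleComponents ↥X → f.QuasiFiniteAt x)) := by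
  have hη' : Groth.Agent.Unibranch.IsMaxPt η := (Groth.Agent.GenFibre.isMaxPt_iff_mem η).2 hη
  have hmax : ∀ x : X, f x = η → (closure {x} ∈ irreducibleComponents ↥X ↔
      ∀ z, f z = η → z ⤳ x → z = x) := fun x hx =>
    (Groth.Agent.GenFibre.isMaxPt_iff_mem x).symm.trans (Groth.Agent.GenFibre.isMaxPt_iff f hη' hx)
  have h12 : (∀ x : X, f x = η → closure {x} ∈ irreducibleComponents ↥X) →
      ∀ x : X, f x = η → f.QuasiFiniteAt x := fun h x hx =>
    Groth.Agent.GenFibre.quasiFiniteAt_of_discrete f (Groth.Agent.GenFibre.discrete_of_max f (f x)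
      (by rw [hx]; exact fun y hy => (hmax y hy).1 (h y hy)))
  refine ⟨⟨h12, fun h x hx => (hmax x hx).2 fun z hz hzx =>
    Groth.Agent.GenFibre.eq_of_quasiFiniteAt f (h x hx) (hz.trans hx.symm) (Or.inl hzx)⟩,
    ⟨fun h x hx _ => h12 h x hx, fun h x hx => ?_⟩⟩
  obtain ⟨ζ, hζ, hζx⟩ := Groth.Agent.Unibranch.exists_isMaxPt_specializes x
  have hfζ : f ζ = η := hη' _ (hx ▸ hζx.map f.continuous)
  have hqf := h ζ hfζ hζ.mem_irreducibleComponents
  rw [Groth.Agent.GenFibre.eq_of_quasiFiniteAt f hqf (hx.trans hfζ.symm) (Or.inr hζx)]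
  exact hζ.mem_irreducibleComponents

end Groth.Agent.S9682
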