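import Groth.Statements.S9685
import Groth.Agent.FlatDim.DimTrdeg
import Groth.Agent.FlatDim.DimAdd

set_option autoImplicit false
set_option linter.style.haveILetI false
set_option backward.isDefEq.respectTransparency false
open Groth.Agent
universe u
open CategoryTheory CategoryTheory.Limits AlgebraicGeometry
open Mor

namespace Groth.Agent.S9685

/-- Let X and Y be integral schemes with Y locally Noetherian and f : X ⟶ Y dominant and locally of
finite type. If n is the transcendence degree of the function field of X over the function field of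
Y (computed on residue fields at the generic points), then dim X ≤ dim Y + n, and equality holds
when the underlying map of f is closed. -/
theorem result {X Y : Scheme.{u}} [IsIntegral X] [IsIntegral Y]
    [IsLocallyNoetherian Y] (f : X ⟶ Y) [IsDominant f] [LocallyOfFiniteType f] (n : ℕ)
    (hn : letI := (f.residueFieldMap (genericPoint ↥X)).hom.toAlgebra
      Algebra.trdeg (Y.residueField (f.base (genericPoint ↥X))) (X.residueField (genericPoint ↥X)) = n) :
    topologicalKrullDim ↥X ≤ topologicalKrullDim ↥Y + n ∧
      (IsClosedMap f.base → topologicalKrullDim ↥X = topologicalKrullDim ↥Y + n) := by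
  obtain ⟨h1, h2⟩ := FlatDim.chains_resTrdeg f (genericPoint ↥X) hn
  have hle : topologicalKrullDim ↥X ≤ topologicalKrullDim ↥Y + (n : WithBot ℕ∞) :=
    FlatDim.dim_le_of_resTrdeg f fun ξ hξ => ⟨n, le_rfl, by
      rw [← hξ (genericPoint ↥X) (genericPoint_specializes ξ)]; exact h1⟩
  refine ⟨hle, fun hcl => le_antisymm hle ?_⟩
  rw [add_comm]
  refine FlatDim.add_le_of_forall fun d hd => ?_
  obtain ⟨g, hg⟩ := Unibranch.exists_chain_of_le_topologicalKrullDim hd
  have hsurj : Set.range f.base = Set.univ := by
    rw [← hcl.isClosed_range.closure_eq]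
    exact f.denseRange.closure_eq
  obtain ⟨x₀, hx₀⟩ : g 0 ∈ Set.range f.base := hsurj ▸ Set.mem_univ _
  obtain ⟨z, -, -, hfz, hz⟩ := Catenary.exists_fibre_point f (genericPoint_specializes x₀) h2
  obtain ⟨m, hm, c, hc, -⟩ := FlatDim.exists_chain_lift f hcl.specializingMap d z g hg
    (hfz.trans hx₀) (hfz.symm ▸ hz)
  exact le_trans (Nat.cast_le.2 (by omega)) (Unibranch.natCast_le_topologicalKrullDim c hc)

end Groth.Agent.S9685
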