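import Groth.Statements.S9686
import Groth.Agent.FlatDim.DimTrdeg

set_option autoImplicit false
set_option linter.style.haveILetI false
set_option backward.isDefEq.respectTransparency false
open Groth.Agent
universe u
open CategoryTheory CategoryTheory.Limits AlgebraicGeometry
open Mor

namespace Groth.Agent.S9686

/-- Let Y be locally Noetherian and f : X ⟶ Y locally of finite type. If E bounds the transcendence
degree of κ(ξ) over κ(f ξ) for every generic point ξ of an irreducible component of X, then dim X ≤
dim Y + E. (The published bound is the supremum of these transcendence degrees; the statement with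
any upper bound E is equivalent.) -/
theorem result {X Y : Scheme.{u}} [IsLocallyNoetherian Y]
    (f : X ⟶ Y) [LocallyOfFiniteType f] (E : ℕ)
    (hE : ∀ ξ : X, closure {ξ} ∈ irreducibleComponents ↥X →
      letI := (f.residueFieldMap ξ).hom.toAlgebra
      Algebra.trdeg (Y.residueField (f.base ξ)) (X.residueField ξ) ≤ E) :
    topologicalKrullDim ↥X ≤ topologicalKrullDim ↥Y + E := by
  refine FlatDim.dim_le_of_resTrdeg f fun ξ hξ => ?_
  obtain ⟨b, e, -, he, -⟩ := SpRelDim.fibreDimAt_eq_add_resTrdeg f ξ
  have h : Dual3.resTrdeg f ξ ≤ (E : Cardinal.{u}) := hE ξ hξ.mem_irreducibleComponents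
  rw [he, Nat.cast_le] at h
  exact ⟨e, h, (FlatDim.chains_resTrdeg f ξ he).1⟩

end Groth.Agent.S9686
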