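import Groth.Statements.S9687
import Groth.Agent.DimFormula.Open

set_option autoImplicit false
universe u
open CategoryTheory CategoryTheory.Limits AlgebraicGeometry
open Mor

namespace Groth.Agent.S9687
open Groth.Agent.Unibranch Groth.Agent.EquidimPt Groth.Agent.DimFormula TopologicalSpace

/-- Let S be locally Noetherian, f : X ⟶ S locally of finite type and x a point of X with image s. Let n
be the transcendence degree of κ(x) over κ(s) and let E bound the transcendence degree of κ(ξ) over
κ(f ξ) for every generic point ξ of an irreducible component of X passing through x. Then dim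
O_{X,x} + n ≤ dim O_{S,s} + E. (The published statement takes E to be the maximum of these
transcendence degrees; the statement with any upper bound E is equivalent.) -/
theorem result {X S : Scheme.{u}} [IsLocallyNoetherian S]
    (f : X ⟶ S) [LocallyOfFiniteType f] (x : X) (n E : ℕ)
    (hn : letI := (f.residueFieldMap x).hom.toAlgebra
      Algebra.trdeg (S.residueField (f.base x)) (X.residueField x) = n)
    (hE : ∀ ξ : X, closure {ξ} ∈ irreducibleComponents ↥X → ξ ⤳ x →
      letI := (f.residueFieldMap ξ).hom.toAlgebra
      Algebra.trdeg (S.residueField (f.base ξ)) (X.residueField ξ) ≤ E) :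
    ringKrullDim (X.presheaf.stalk x) + n ≤ ringKrullDim (S.presheaf.stalk (f.base x)) + E := by
  haveI : IsLocallyNoetherian X := LocallyOfFiniteType.isLocallyNoetherian f
  obtain ⟨A, hA, -, ξ, hξ, hξx, hgen⟩ := exists_ringKrullDim_stalk x
  obtain ⟨c, hc, hcle, -⟩ := exists_ringKrullDim_stalk (f x)
  obtain ⟨δ, hδ, -, hδge⟩ := exists_trdeg_eq f x
  obtain ⟨e, he, hele, -⟩ := exists_trdeg_eq f ξ
  have hn' : δ = n := Nat.cast_injective (R := Cardinal.{u}) (hδ.symm.trans hn)
  have hE' : e ≤ E := by
    have := hE ξ hξ.mem_irreducibleComponents hξx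
    rw [he] at this
    exact_mod_cast this
  have h1 := dimension_inequality f hξx hgen
    (show GenLE (f ξ) (f x) c from fun n g h1 _ h3 => hcle n g h1 h3) hδge hele
  rw [hA, hc]
  exact_mod_cast (show A + n ≤ c + E by omega)

end Groth.Agent.S9687
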