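import Groth.Statements.S9692
import Groth.Agent.S1616

set_option autoImplicit false
universe u
open CategoryTheory CategoryTheory.Limits AlgebraicGeometry
open Mor

namespace Groth.Agent.S9692

/-- A composition of H-projective morphisms (closed immersions into a projective space P^n over the
target, followed by the projection) is H-projective. -/
theorem result {X Y Z : Scheme.{u}} (f : X ⟶ Y) (g : Y ⟶ Z)
    (hf : RelProj.IsHProjective f) (hg : RelProj.IsHProjective g) :
    RelProj.IsHProjective (f ≫ g) := by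
  set_option backward.isDefEq.respectTransparency false in
  obtain ⟨n, i, hi, rfl⟩ := hf
  obtain ⟨m, j, hj, rfl⟩ := hg
  haveI := hi
  haveI := hj
  let t := CohB1.ProjSpace.toSpec n (ULift.{u} ℤ)
  let a : CohB1.ProjSpaceOver n Y ⟶ CohB1.ProjSpaceOver n Z :=
    pullback.map t (specULiftZIsTerminal.from Y) t (specULiftZIsTerminal.from Z) (𝟙 _) (j ≫ CohB1.ProjSpaceOver.toBase m Z) (𝟙 _)
      (by simp) (specULiftZIsTerminal.hom_ext _ _)
  have hsq : IsPullback a (CohB1.ProjSpaceOver.toBase n Y) (CohB1.ProjSpaceOver.toBase n Z)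
      (j ≫ CohB1.ProjSpaceOver.toBase m Z) := by
    refine IsPullback.of_right (h₁₂ := pullback.fst t (specULiftZIsTerminal.from Z))
      (h₂₂ := specULiftZIsTerminal.from Z) (v₁₃ := t) ?_ ?_ (IsPullback.of_hasPullback _ _)
    · have e1 : a ≫ pullback.fst t (specULiftZIsTerminal.from Z) = pullback.fst t (specULiftZIsTerminal.from Y) := by
        simp [a]
      have e2 : (j ≫ CohB1.ProjSpaceOver.toBase m Z) ≫ specULiftZIsTerminal.from Z = specULiftZIsTerminal.from Y :=
        specULiftZIsTerminal.hom_ext _ _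
      rw [e1, e2]
      exact IsPullback.of_hasPullback _ _
    · exact pullback.lift_snd _ _ _
  let ψ : CohB1.ProjSpaceOver n Y ⟶ pullback (CohB1.ProjSpaceOver.toBase n Z) (CohB1.ProjSpaceOver.toBase m Z) :=
    pullback.lift a (CohB1.ProjSpaceOver.toBase n Y ≫ j) (by rw [Category.assoc, hsq.w])
  have hψ : IsPullback ψ (CohB1.ProjSpaceOver.toBase n Y) (pullback.snd _ _) j := by
    refine IsPullback.of_right (h₁₂ := pullback.fst _ _) (h₂₂ := CohB1.ProjSpaceOver.toBase m Z)
      (v₁₃ := CohB1.ProjSpaceOver.toBase n Z) ?_ (pullback.lift_snd _ _ _) (IsPullback.of_hasPullback _ _)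
    rw [pullback.lift_fst]
    exact hsq
  haveI : IsClosedImmersion ψ := MorphismProperty.of_isPullback (P := @IsClosedImmersion) hψ.flip hj
  obtain ⟨φ, hφ, hφ'⟩ := Groth.Agent.S1616.result Z n m
  haveI := hφ
  refine ⟨n * m + n + m, i ≫ ψ ≫ φ, inferInstance, ?_⟩
  rw [Category.assoc, Category.assoc, hφ', ← Category.assoc ψ, pullback.lift_fst, hsq.w, Category.assoc]

end Groth.Agent.S9692
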