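import Groth.Statements.S9693
import Groth.Agent.ProjMor.ProjSpaceBase

set_option autoImplicit false
universe u
open CategoryTheory CategoryTheory.Limits AlgebraicGeometry
open Mor

namespace Groth.Agent.S9693

/-- A base change of an H-projective morphism (a closed immersion into some P^n over the base followed
by the projection) is H-projective. -/
theorem result {X S S' : Scheme.{u}} (f : X ⟶ S) (hf : RelProj.IsHProjective f)
    (g : S' ⟶ S) : RelProj.IsHProjective (pullback.snd f g) := by
  set_option backward.isDefEq.respectTransparency false in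
  obtain ⟨n, i, hi, rfl⟩ := hf
  let t := CohB1.ProjSpace.toSpec n (ULift.{u} ℤ)
  let a : CohB1.ProjSpaceOver n S' ⟶ CohB1.ProjSpaceOver n S :=
    pullback.map t (specULiftZIsTerminal.from S') t (specULiftZIsTerminal.from S) (𝟙 _) g (𝟙 _)
      (by simp) (specULiftZIsTerminal.hom_ext _ _)
  have hsq : IsPullback a (CohB1.ProjSpaceOver.toBase n S') (CohB1.ProjSpaceOver.toBase n S) g := by
    refine IsPullback.of_right (h₁₂ := pullback.fst t (specULiftZIsTerminal.from S))
      (h₂₂ := specULiftZIsTerminal.from S) (v₁₃ := t) ?_ ?_ (IsPullback.of_hasPullback _ _)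
    · have e1 : a ≫ pullback.fst t (specULiftZIsTerminal.from S) = pullback.fst t (specULiftZIsTerminal.from S') := by
        simp [a]
      have e2 : g ≫ specULiftZIsTerminal.from S = specULiftZIsTerminal.from S' := specULiftZIsTerminal.hom_ext _ _
      rw [e1, e2]
      exact IsPullback.of_hasPullback _ _
    · exact pullback.lift_snd _ _ _
  let j : pullback (i ≫ CohB1.ProjSpaceOver.toBase n S) g ⟶ CohB1.ProjSpaceOver n S' :=
    hsq.lift (pullback.fst _ g ≫ i) (pullback.snd _ g) (by rw [Category.assoc, pullback.condition])
  refine ⟨n, j, ?_, hsq.lift_snd _ _ _⟩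
  have hsq2 : IsPullback (pullback.fst (i ≫ CohB1.ProjSpaceOver.toBase n S) g) j i a := by
    refine IsPullback.of_bot ?_ ?_ hsq
    · rw [hsq.lift_snd]; exact IsPullback.of_hasPullback _ _
    · exact (hsq.lift_fst _ _ _).symm
  exact MorphismProperty.of_isPullback hsq2 hi

end Groth.Agent.S9693
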