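import Groth.Statements.S9695
import Groth.Agent.ProjMor.VAmpleApply

set_option autoImplicit false
universe u
open CategoryTheory CategoryTheory.Limits AlgebraicGeometry
open Mor

namespace Groth.Agent.S9695

/-- Suppose f : X ⟶ S is a morphism of finite type and L is an invertible O_X-module. Then L is
f-relatively ample exactly when S can be covered by open subsets V with the following property: for
every such V there is an integer d ≥ 1 for which the tensor power L^{⊗d}, restricted to f⁻¹(V), is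
isomorphic to the pullback of O(1) under some V-immersion of f⁻¹(V) into a projective space P^n_V. -/
theorem result {X S : Scheme.{u}} (f : X ⟶ S)
    [LocallyOfFiniteType f] [QuasiCompact f] (L : X.Modules) (hLinv : PicF.IsInvertible L) :
    RelAmple.IsRelAmple f L ↔
      ∃ (ι : Type u) (V : ι → S.Opens), (⨆ j, V j) = ⊤ ∧
        ∀ j, ∃ d : ℕ, 0 < d ∧
          RelAmple.IsRelVeryAmplePn (f ∣_ V j) ((CohB1.tensorPow L d).restrict (f ⁻¹ᵁ V j).ι) := by
  constructor
  · intro h
    refine ⟨{V : S.Opens // IsAffineOpen V}, fun V => V.1, ?_, fun V => ?_⟩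
    · refine top_le_iff.mp fun y _ => ?_
      obtain ⟨V, hV, hyV, -⟩ := exists_isAffineOpen_mem_and_subset (x := y) (U := ⊤) trivial
      exact TopologicalSpace.Opens.mem_iSup.mpr ⟨⟨V, hV⟩, hyV⟩
    · have hA := h.2 ⟨V.1, V.2⟩
      obtain ⟨d, hd, hv⟩ := ProjMor.eventually_isRelVeryAmplePn (f ∣_ V.1) hA
      obtain ⟨e⟩ := TMul.nonempty_restrictPowIso (f ⁻¹ᵁ V.1).ι L d
      exact ⟨d, hd, ProjMor.isRelVeryAmplePn_congr e (hv d le_rfl)⟩
  · rintro ⟨ι, V, hV, h⟩
    refine TMul.isRelAmple_of_exists hLinv fun y => ?_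
    obtain ⟨j, hj⟩ := TopologicalSpace.Opens.mem_iSup.mp
      (show y ∈ (⨆ j, V j) by rw [hV]; trivial)
    obtain ⟨W, hW, hyW, hWV⟩ := exists_isAffineOpen_mem_and_subset hj
    obtain ⟨d, hd, hv⟩ := h j
    exact ⟨W, hyW, ProjMor.isAmple_restrict_of_isRelVeryAmplePn f hLinv hWV hW hd hv⟩

end Groth.Agent.S9695
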