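import Groth.Statements.S9700
import Groth.Agent.ValComp.Exist

set_option linter.style.haveILetI false
set_option backward.isDefEq.respectTransparency false

set_option autoImplicit false
universe u
open CategoryTheory CategoryTheory.Limits AlgebraicGeometry
open Mor

namespace Groth.Agent.S9700

/-- Let f : X ⟶ S and h : U ⟶ X be quasi-compact with h(U) dense in X. Suppose each valuative square
over f, whose map Spec K ⟶ X factors through h, has a unique diagonal lift. Then f is universally
closed, and f is also separated provided it is quasi-separated. -/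
theorem result {U X S : Scheme.{u}} (f : X ⟶ S) (h : U ⟶ X)
    [QuasiCompact f] [QuasiCompact h] (hd : DenseRange h.base)
    (H : ∀ sq : ValuativeCommSq f, (∃ i : Spec (.of sq.K) ⟶ U, i ≫ h = sq.i₁) →
      Nonempty (Unique sq.commSq.LiftStruct)) :
    UniversallyClosed f ∧ (QuasiSeparated f → IsSeparated f) := by
  have Hu : ∀ (z : ↥U) (R : ValuationSubring ↑(U.residueField z))
      (φ₁ φ₂ : Spec (CommRingCat.of ↥R) ⟶ X),
      Spec.map (CommRingCat.ofHom R.subtype) ≫ φ₁ = U.fromSpecResidueField z ≫ h →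
      Spec.map (CommRingCat.ofHom R.subtype) ≫ φ₂ = U.fromSpecResidueField z ≫ h →
      φ₁ ≫ f = φ₂ ≫ f → φ₁ = φ₂ := by
    intro z R φ₁ φ₂ e₁ e₂ e
    let S' : ValuativeCommSq f := ⟨R, U.residueField z, U.fromSpecResidueField z ≫ h, φ₂ ≫ f,
      ⟨by rw [← e₂, Category.assoc]; rfl⟩⟩
    obtain ⟨u⟩ := H S' ⟨U.fromSpecResidueField z, rfl⟩
    exact congrArg CommSq.LiftStruct.l
      ((u.eq_default ⟨φ₁, e₁, e⟩).trans (u.eq_default ⟨φ₂, e₂, rfl⟩).symm)
  refine ⟨?_, fun hqs => ?_⟩
  · refine UniversallyClosed.of_valuativeCriterion f ?_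
    rintro ⟨R, K, i₁, i₂, ⟨w⟩⟩
    let VK : ValuationSubring K :=
      ⟨(algebraMap R K).range, ValuationRing.isInteger_or_isInteger R⟩
    let ψ : R ≃+* VK := RingEquiv.ofBijective (algebraMap R K).rangeRestrict
      ⟨fun a b e => IsFractionRing.injective R K (congrArg Subtype.val e),
        (algebraMap R K).rangeRestrict_surjective⟩
    have hsub : CommRingCat.ofHom ψ.toRingHom ≫ CommRingCat.ofHom VK.subtype =
        CommRingCat.ofHom (algebraMap R K) := rfl
    obtain ⟨l, hl, hl'⟩ := Groth.Agent.ValComp.exists_lift_of_uniq h f hd Hu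
      (fun z R' φ hφ => by
        let S' : ValuativeCommSq f := ⟨R', U.residueField z, U.fromSpecResidueField z ≫ h, φ,
          ⟨by rw [Category.assoc, ← hφ]; rfl⟩⟩
        obtain ⟨u⟩ := H S' ⟨U.fromSpecResidueField z, rfl⟩
        exact ⟨u.default.l, u.default.fac_left, u.default.fac_right⟩) VK i₁
      (Spec.map (CommRingCat.ofHom ψ.toRingHom) ≫ i₂) (by
        rw [← Spec.map_comp_assoc, hsub]; exact w.symm)
    refine ⟨⟨⟨Spec.map (CommRingCat.ofHom ψ.symm.toRingHom) ≫ l, ?_, ?_⟩⟩⟩
    · have : CommRingCat.ofHom ψ.symm.toRingHom ≫ CommRingCat.ofHom (algebraMap R K) =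
          CommRingCat.ofHom VK.subtype := by
        ext x
        exact congrArg Subtype.val (ψ.apply_symm_apply x)
      rw [← Spec.map_comp_assoc, this, hl]
    · rw [Category.assoc, hl', ← Spec.map_comp_assoc]
      have : CommRingCat.ofHom ψ.toRingHom ≫ CommRingCat.ofHom ψ.symm.toRingHom = 𝟙 _ := by
        ext x
        exact ψ.symm_apply_apply x
      rw [this, Spec.map_id, Category.id_comp]
  · refine IsSeparated.of_valuativeCriterion f ?_
    rintro ⟨R, K, i₁, i₂, w⟩
    refine ⟨fun a b => ?_⟩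
    obtain ⟨l₁, ha, ha'⟩ := a
    obtain ⟨l₂, hb, hb'⟩ := b
    congr 1
    dsimp only at ha ha' hb hb'
    let VK : ValuationSubring K :=
      ⟨(algebraMap R K).range, ValuationRing.isInteger_or_isInteger R⟩
    let ψ : R ≃+* VK := RingEquiv.ofBijective (algebraMap R K).rangeRestrict
      ⟨fun a b e => IsFractionRing.injective R K (congrArg Subtype.val e),
        (algebraMap R K).rangeRestrict_surjective⟩
    have : IsIso (CommRingCat.ofHom ψ.toRingHom) := ψ.toCommRingCatIso.isIso_hom
    rw [← cancel_epi (Spec.map (CommRingCat.ofHom ψ.toRingHom))]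
    have hsub : CommRingCat.ofHom ψ.toRingHom ≫ CommRingCat.ofHom VK.subtype =
        CommRingCat.ofHom (algebraMap R K) := rfl
    refine Groth.Agent.ValComp.uniq_valuationSubring h f hd Hu VK _ _ ?_ ?_
    · rw [← Spec.map_comp_assoc, ← Spec.map_comp_assoc, hsub, ha, hb]
    · rw [Category.assoc, Category.assoc, ha', hb']

end Groth.Agent.S9700
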