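import Groth.Statements.S9701
import Groth.Agent.RatExt.Basic
import Mathlib.AlgebraicGeometry.Noetherian

set_option autoImplicit false
set_option linter.style.haveILetI false
universe u
open CategoryTheory CategoryTheory.Limits AlgebraicGeometry
open Mor

namespace Groth.Agent.S9701

theorem eq_of_isMax {X : Scheme.{u}} {x : X} [IsDomain (X.presheaf.stalk x)] {ζ : X} (hζx : ζ ⤳ x)
    (hmax : ∀ z : X, z ⤳ ζ → z = ζ) :
    ζ = X.fromSpecStalk x (⟨⊥, Ideal.isPrime_bot⟩ : PrimeSpectrum (X.presheaf.stalk x)) := by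
  have hζ : ζ ∈ Set.range (X.fromSpecStalk x) := by rw [Scheme.range_fromSpecStalk]; exact hζx
  obtain ⟨p, rfl⟩ := hζ
  refine (hmax _ (Specializes.map ?_ (X.fromSpecStalk x).continuous)).symm
  exact (PrimeSpectrum.le_iff_specializes _ _).1 bot_le

theorem exists_integral_open {X : Scheme.{u}} [IsReduced X] (hfin : (irreducibleComponents X).Finite) (x : X)
    [IsDomain (X.presheaf.stalk x)] : X.IsGermInjectiveAt x := by
  let S := {Z ∈ irreducibleComponents X | x ∉ Z}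
  have hScl : IsClosed (⋃ Z ∈ S, Z) :=
    (hfin.subset fun Z hZ => hZ.1).isClosed_biUnion fun Z hZ => isClosed_of_mem_irreducibleComponents Z hZ.1
  let W : X.Opens := ⟨(⋃ Z ∈ S, Z)ᶜ, hScl.isOpen_compl⟩
  have hxW : x ∈ W := fun h => by
    obtain ⟨Z, hZ, hxZ⟩ := Set.mem_iUnion₂.1 h
    exact hZ.2 hxZ
  have huniq : ∀ Z ∈ irreducibleComponents X, x ∈ Z → Z = irreducibleComponent x := by
    have key : ∀ Z ∈ irreducibleComponents X, x ∈ Z →
        Z = closure {X.fromSpecStalk x (⟨⊥, Ideal.isPrime_bot⟩ : PrimeSpectrum (X.presheaf.stalk x))} := by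
      intro Z hZ hxZ
      obtain ⟨ζ, hζ⟩ := QuasiSober.sober (α := X) hZ.1 (isClosed_of_mem_irreducibleComponents Z hZ)
      rw [← hζ.def, eq_of_isMax (hζ.specializes hxZ) fun z hz => ?_]
      have h1 : Z ≤ closure {z} := by
        rw [← hζ.def]; exact closure_minimal (Set.singleton_subset_iff.2 hz.mem_closure) isClosed_closure
      have h2 : z ∈ Z := hZ.2 isIrreducible_singleton.closure h1 (subset_closure rfl)
      exact (hz.antisymm (hζ.specializes h2)).eq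
    exact fun Z hZ hxZ => (key Z hZ hxZ).trans
      (key _ (irreducibleComponent_mem_irreducibleComponents x) mem_irreducibleComponent).symm
  have hWsub : (W : Set X) ⊆ irreducibleComponent x := fun z hz => by
    by_contra hne
    have hm : irreducibleComponent z ∈ irreducibleComponents X := irreducibleComponent_mem_irreducibleComponents z
    refine hz (Set.mem_iUnion₂.2 ⟨_, ⟨hm, fun h => hne ?_⟩, mem_irreducibleComponent⟩)
    rw [← huniq _ hm h]
    exact mem_irreducibleComponent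
  haveI : Nonempty W.toScheme := ⟨⟨x, hxW⟩⟩
  haveI : IrreducibleSpace W.toScheme := by
    haveI : PreirreducibleSpace W.toScheme := ⟨fun u v hu hv hu' hv' => by
      obtain ⟨a, -, ha⟩ := hu'
      obtain ⟨b, -, hb⟩ := hv'
      obtain ⟨c, -, hcu, hcv⟩ := (isIrreducible_irreducibleComponent (x := x)).2 _ _
        (W.ι ''ᵁ ⟨u, hu⟩).2 (W.ι ''ᵁ ⟨v, hv⟩).2 ⟨W.ι a, hWsub a.2, a, ha, rfl⟩ ⟨W.ι b, hWsub b.2, b, hb, rfl⟩
      obtain ⟨c₁, hc₁, rfl⟩ := hcu
      obtain ⟨c₂, hc₂, hc⟩ := hcv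
      obtain rfl := W.ι.isOpenEmbedding.injective hc
      exact ⟨c₂, trivial, hc₁, hc₂⟩⟩
    exact ⟨inferInstance⟩
  haveI : IsIntegral W.toScheme := isIntegral_of_irreducibleSpace_of_isReduced _
  haveI : W.toScheme.IsGermInjectiveAt (⟨x, hxW⟩ : W) := (inferInstance : W.toScheme.IsGermInjective) _
  exact (isGermInjectiveAt_iff_of_isOpenImmersion (f := W.ι) (x := (⟨x, hxW⟩ : W))).2 this

/-- Let p : X ⟶ S and q : Y ⟶ S with q proper, let x be a point of X whose local ring is a valuation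
ring, U ⊆ X an open with x in the closure of U, and f : U ⟶ Y a morphism over S. Assume that X is
Noetherian, or else that X is reduced and has only finitely many irreducible components. Then there
are an open U' of X containing U and x and a morphism f' : U' ⟶ Y over S extending f. -/
theorem result {X Y S : Scheme.{u}} (p : X ⟶ S) (q : Y ⟶ S)
    [IsProper q] (x : X) (U : X.Opens) (f : (U : Scheme.{u}) ⟶ Y) (hf : f ≫ q = U.ι ≫ p)
    (hx : x ∈ closure (U : Set ↥X))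
    (hX : (IsReduced X ∧ (irreducibleComponents ↥X).Finite) ∨ IsNoetherian X)
    (hdom : IsDomain (X.presheaf.stalk x)) (hval : @ValuationRing (X.presheaf.stalk x) _ hdom) :
    ∃ (U' : X.Opens) (hUU' : U ≤ U'), x ∈ U' ∧
      ∃ f' : (U' : Scheme.{u}) ⟶ Y, f' ≫ q = U'.ι ≫ p ∧ X.homOfLE hUU' ≫ f' = f := by
  haveI := hdom
  haveI : X.IsGermInjectiveAt x := by
    rcases hX with ⟨hred, hfin⟩ | hN
    · haveI := hred
      exact exists_integral_open hfin x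
    · haveI := hN; infer_instance
  obtain ⟨W, hxW, -, hint, -⟩ := SectionExt.exists_integral_nhd x ⊤ trivial
  let X₀ : X.Opens := U ⊔ W
  have hx₀ : x ∈ X₀ := (le_sup_right : W ≤ X₀) hxW
  let U₀ : X₀.toScheme.Opens := X₀.ι ⁻¹ᵁ U
  have hU₀ : Dense (U₀ : Set X₀.toScheme) := by
    refine dense_iff_inter_open.mpr fun O hO ⟨o, ho⟩ => ?_
    have hO' := (X₀.ι ''ᵁ ⟨O, hO⟩).2
    rcases o.2 with hoU | hoW
    · exact ⟨o, ho, hoU⟩
    · haveI := hint
      obtain ⟨w, hwW, hwU⟩ := mem_closure_iff.1 hx W W.isOpen hxW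
      obtain ⟨c, -, hc1, hc2⟩ := (IrreducibleSpace.isIrreducible_univ (X := W.toScheme)).2 (W.ι ⁻¹' (X₀.ι ''ᵁ ⟨O, hO⟩)) (W.ι ⁻¹' U)
        (hO'.preimage W.ι.continuous) (U.isOpen.preimage W.ι.continuous)
        ⟨⟨o.1, hoW⟩, trivial, o, ho, rfl⟩ ⟨⟨w, hwW⟩, trivial, hwU⟩
      obtain ⟨o', ho', ho''⟩ := hc1
      exact ⟨o', ho', show X₀.ι o' ∈ U from ho'' ▸ hc2⟩
  haveI : X₀.toScheme.IsGermInjectiveAt (⟨x, hx₀⟩ : X₀) :=
    (isGermInjectiveAt_iff_of_isOpenImmersion (f := X₀.ι) (x := (⟨x, hx₀⟩ : X₀))).1 ‹X.IsGermInjectiveAt x›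
  let e := X₀.stalkIso ⟨x, hx₀⟩
  haveI : IsDomain (X₀.toScheme.presheaf.stalk ⟨x, hx₀⟩) := e.commRingCatIsoToRingEquiv.toMulEquiv.isDomain _
  have hval₀ : ValuationRing (X₀.toScheme.presheaf.stalk ⟨x, hx₀⟩) :=
    haveI := hval
    e.commRingCatIsoToRingEquiv.symm.surjective.valuationRing _
  let r : U₀.toScheme ⟶ (U : Scheme.{u}) := IsOpenImmersion.lift U.ι (U₀.ι ≫ X₀.ι) (by
    rintro _ ⟨z, rfl⟩; rw [Scheme.Opens.range_ι]; exact z.2)
  have hr : r ≫ U.ι = U₀.ι ≫ X₀.ι := IsOpenImmersion.lift_fac _ _ _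
  obtain ⟨U', hUU', f', hxU', h1, h2⟩ := Groth.Agent.RatExt.exists_hom_nhd q (X₀.ι ≫ p) U₀ hU₀ (r ≫ f)
    (by rw [Category.assoc, hf, reassoc_of% hr]) ⟨x, hx₀⟩ hval₀
  let U'' : X.Opens := X₀.ι ''ᵁ U'
  have hUU'' : U ≤ U'' := fun z hz => ⟨⟨z, (le_sup_left : U ≤ X₀) hz⟩, hUU' hz, rfl⟩
  let l : (U'' : Scheme.{u}) ⟶ U'.toScheme := (X₀.ι.isoImage U').inv
  have hl : l ≫ U'.ι ≫ X₀.ι = U''.ι := by
    simp only [l, U'']
    exact Scheme.Hom.isoImage_inv_ι _ _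
  refine ⟨U'', hUU'', ⟨⟨x, hx₀⟩, hxU', rfl⟩, l ≫ f', ?_, ?_⟩
  · rw [Category.assoc, h1, reassoc_of% hl]
  · let k : (U : Scheme.{u}) ⟶ U₀.toScheme := IsOpenImmersion.lift (U₀.ι ≫ X₀.ι) U.ι (by
      rintro _ ⟨z, rfl⟩
      exact ⟨⟨⟨z.1, (le_sup_left : U ≤ X₀) z.2⟩, z.2⟩, rfl⟩)
    have hk : k ≫ U₀.ι ≫ X₀.ι = U.ι := IsOpenImmersion.lift_fac _ _ _
    have hkr : k ≫ r = 𝟙 _ := by rw [← cancel_mono U.ι, Category.assoc, hr, hk, Category.id_comp]
    have hkl : k ≫ X₀.toScheme.homOfLE hUU' = X.homOfLE hUU'' ≫ l := by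
      rw [← cancel_mono (U'.ι ≫ X₀.ι)]
      simp only [Category.assoc, Scheme.homOfLE_ι_assoc, hk, hl, Scheme.homOfLE_ι]
    rw [← reassoc_of% hkl, h2, reassoc_of% hkr]

end Groth.Agent.S9701
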