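import Groth.Statements.S9702
import Groth.Agent.GenFibre.Scheme
import Groth.Agent.SpQS.TrdegQF

set_option linter.style.haveILetI false

set_option autoImplicit false
universe u
open CategoryTheory CategoryTheory.Limits AlgebraicGeometry
open Mor

namespace Groth.Agent.S9702

/-- Let X, Y be integral and f : X ⟶ Y dominant and locally of finite type, with ξ the generic point of
X (so f ξ is the generic point of Y). Then the following are equivalent: the residue field of ξ is
finite over that of f ξ; some nonempty affine opens U ⊆ X and V ⊆ Y with f(U) ⊆ V have U ⟶ V finite;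
every point of X that f sends to the generic point of Y equals ξ. Under the extra assumption that f
is quasi-compact or separated, these are also equivalent to: f⁻¹(V) ⟶ V is finite for some nonempty
affine open V ⊆ Y. (The published statement also lists transcendence degree 0 of the function field
extension, which for this finitely generated extension is equivalent to finiteness; this row omits
it.) -/
theorem result {X Y : Scheme.{u}} [IsIntegral X] [IsIntegral Y] (f : X ⟶ Y)
    [IsDominant f] [LocallyOfFiniteType f] :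
    let ξ := genericPoint ↥X
    let A := letI := (f.residueFieldMap ξ).hom.toAlgebra
      Module.Finite (Y.residueField (f.base ξ)) (X.residueField ξ)
    let B := ∃ (U : X.Opens) (V : Y.Opens) (hUV : U ≤ f ⁻¹ᵁ V), IsAffineOpen U ∧ IsAffineOpen V ∧
      Nonempty ↥U ∧ IsFinite (f.resLE V U hUV)
    let C := ∀ x : X, f.base x = genericPoint ↥Y → x = ξ
    let D := ∃ V : Y.Opens, IsAffineOpen V ∧ Nonempty ↥V ∧ IsFinite (f ∣_ V)
    (A ↔ B) ∧ (A ↔ C) ∧ (IsSeparated f ∨ QuasiCompact f → (A ↔ D)) := by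
  intro ξ A B C D
  have hη : f.base ξ = genericPoint ↥Y := by
    have h1 := (genericPoint_spec ↥X).image f.continuous
    rw [Set.image_univ, f.denseRange.closure_range] at h1
    exact h1.eq (genericPoint_spec ↥Y)
  have hmax : Groth.Agent.Unibranch.IsMaxPt (genericPoint ↥Y) := fun z hz =>
    (hz.antisymm (genericPoint_specializes z)).eq
  have hqfA : f.QuasiFiniteAt ξ ↔ A := by
    constructor
    · exact fun h => Groth.Agent.SpQS.finite_residueFieldMap f h
    · intro hA
      have hX : IsField (X.presheaf.stalk ξ) := Field.toIsField X.functionField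
      have hinj : Function.Injective (X.residue ξ).hom := by
        letI := hX.toField
        exact RingHom.injective _
      have e : ((X.residue ξ).hom.comp (f.stalkMap ξ).hom).QuasiFinite := by
        rw [← CommRingCat.hom_comp, ← Scheme.residue_residueFieldMap, CommRingCat.hom_comp]
        exact RingHom.QuasiFinite.comp (RingHom.QuasiFinite.of_finite hA)
          (RingHom.QuasiFinite.of_finite (RingHom.Finite.of_surjective _ (Y.residue_surjective (f ξ))))
      let r := RingEquiv.ofBijective (X.residue ξ).hom ⟨hinj, X.residue_surjective ξ⟩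
      have := (RingHom.QuasiFinite.of_finite r.symm.finite).comp e
      rw [← RingHom.comp_assoc] at this
      have h1 : r.symm.toRingHom.comp (X.residue ξ).hom = RingHom.id _ :=
        RingHom.ext fun a => r.symm_apply_apply a
      rw [h1, RingHom.id_comp] at this
      exact this
  have hCA : C → A := by
    intro hC
    rw [← hqfA, Scheme.Hom.quasiFiniteAt_iff_isOpen_singleton_asFiber]
    have : ({f.asFiber ξ} : Set _) = Set.univ := by
      refine Set.eq_univ_of_forall fun z => Set.mem_singleton_iff.2 ?_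
      refine (f.fiberι (f ξ)).isEmbedding.injective ?_
      have hz : f ((f.fiberι (f ξ)) z) = f ξ := by
        have : (f.fiberι (f ξ)) z ∈ Set.range (f.fiberι (f ξ)) := ⟨z, rfl⟩
        rwa [Scheme.Hom.range_fiberι] at this
      rw [Scheme.Hom.fiberι_asFiber]
      exact hC _ (hz.trans hη)
    rw [this]; exact isOpen_univ
  have hAC : A → C := by
    intro hA x hx
    have ho : IsOpen ({f.asFiber ξ} : Set (f.fiber (f ξ))) :=
      Scheme.Hom.quasiFiniteAt_iff_isOpen_singleton_asFiber.1 (hqfA.2 hA)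
    haveI : JacobsonSpace (f.fiber (f ξ)) := (haveI : LocallyOfFiniteType (f.fiberToSpecResidueField (f ξ)) := MorphismProperty.pullback_snd _ _ inferInstance; LocallyOfFiniteType.jacobsonSpace (f.fiberToSpecResidueField (f ξ)))
    have hc : IsClosed ({f.asFiber ξ} : Set (f.fiber (f ξ))) := by
      obtain ⟨p, hp, hpc⟩ := nonempty_inter_closedPoints (Set.singleton_nonempty (f.asFiber ξ)) ho.isLocallyClosed
      rw [Set.mem_singleton_iff] at hp
      subst hp
      exact hpc
    obtain ⟨z, hz⟩ : x ∈ Set.range (f.fiberι (f ξ)) := by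
      rw [Scheme.Hom.range_fiberι]; exact hx.trans hη.symm
    have hs : f.asFiber ξ ⤳ z := by
      rw [← (f.fiberι (f ξ)).isEmbedding.isInducing.specializes_iff]
      rw [Scheme.Hom.fiberι_asFiber]
      exact genericPoint_specializes _
    have hzeq : z = f.asFiber ξ := hs.mem_closed hc rfl
    rw [← hz, hzeq, Scheme.Hom.fiberι_asFiber]
  have hξmem : ∀ U : X.Opens, Nonempty ↥U → ξ ∈ U := fun U ⟨y, hy⟩ =>
    (genericPoint_specializes y).mem_open U.2 hy
  have hηmem : ∀ V : Y.Opens, Nonempty ↥V → genericPoint ↥Y ∈ V := fun V ⟨y, hy⟩ =>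
    (genericPoint_specializes y).mem_open V.2 hy
  have hBA : B → A := by
    rintro ⟨U, V, hUV, -, -, hU, hfin⟩
    rw [← hqfA]
    haveI : LocallyQuasiFinite (U.ι ≫ f) := by
      rw [← Scheme.Hom.resLE_comp_ι f hUV]; infer_instance
    exact (Scheme.Hom.quasiFiniteAt_comp_iff_of_isOpenImmersion (f := U.ι) (g := f) (x := ⟨ξ, hξmem U hU⟩)).1
      ((U.ι ≫ f).quasiFiniteAt _)
  have hCB : C → B := by
    intro hC
    obtain ⟨V₀, hV₀, hηV, -⟩ := exists_isAffineOpen_mem_and_subset (U := (⊤ : Y.Opens)) (x := genericPoint ↥Y) trivial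
    obtain ⟨U₀, hU₀, hξU, hle⟩ := exists_isAffineOpen_mem_and_subset (U := f ⁻¹ᵁ V₀) (x := ξ)
      (show f.base ξ ∈ V₀ by rw [hη]; exact hηV)
    let g := f.resLE V₀ U₀ hle
    haveI : IsAffine (U₀ : Scheme) := hU₀
    haveI : IsAffine (V₀ : Scheme) := hV₀
    have hη0 : Groth.Agent.Unibranch.IsMaxPt (⟨genericPoint ↥Y, hηV⟩ : (V₀ : Scheme)) := fun z hz =>
      V₀.ι.isOpenEmbedding.injective (hmax _ (hz.map V₀.ι.continuous))
    have hfin : (g.base ⁻¹' {(⟨genericPoint ↥Y, hηV⟩ : (V₀ : Scheme))}).Finite := by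
      refine (Set.finite_singleton (⟨ξ, hξU⟩ : (U₀ : Scheme))).subset fun z hz => ?_
      refine U₀.ι.isOpenEmbedding.injective (hC _ ?_)
      exact (f.coe_resLE_apply (e := hle) z).symm.trans (congrArg V₀.ι hz)
    obtain ⟨V, hV, hηV', hgfin⟩ := Groth.Agent.GenFibre.exists_finite_nhd g hη0 hfin
    haveI := hgfin
    have hgV : IsAffineOpen (g ⁻¹ᵁ V) := hV.preimage g
    have hle' : U₀.ι ''ᵁ (g ⁻¹ᵁ V) ≤ f ⁻¹ᵁ (V₀.ι ''ᵁ V) := by
      rintro _ ⟨z, hz, rfl⟩
      exact ⟨g z, hz, f.coe_resLE_apply (e := hle) z⟩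
    refine ⟨U₀.ι ''ᵁ (g ⁻¹ᵁ V), V₀.ι ''ᵁ V, hle', hgV.image_of_isOpenImmersion _, hV.image_of_isOpenImmersion _,
      ⟨⟨ξ, ⟨ξ, hξU⟩, ?_, rfl⟩⟩, ?_⟩
    · show g ⟨ξ, hξU⟩ ∈ V
      have : g ⟨ξ, hξU⟩ = (⟨genericPoint ↥Y, hηV⟩ : (V₀ : Scheme)) :=
        V₀.ι.isOpenEmbedding.injective ((f.coe_resLE_apply (e := hle) ⟨ξ, hξU⟩).trans hη)
      rw [this]; exact hηV'
    · have : f.resLE (V₀.ι ''ᵁ V) (U₀.ι ''ᵁ (g ⁻¹ᵁ V)) hle' =
          (U₀.ι.isoImage (g ⁻¹ᵁ V)).inv ≫ (g ∣_ V) ≫ (V₀.ι.isoImage V).hom := by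
        rw [← cancel_mono (V₀.ι ''ᵁ V).ι, Scheme.Hom.resLE_comp_ι, Category.assoc, Category.assoc,
          Scheme.Hom.isoImage_hom_ι, morphismRestrict_ι_assoc, Scheme.Hom.resLE_comp_ι,
          Scheme.Hom.isoImage_inv_ι_assoc]
      rw [this]; infer_instance
  have hDB : D → B := by
    rintro ⟨V, hV, hne, hfin⟩
    haveI := hfin
    haveI : IsAffine (V : Scheme) := hV
    have haff : IsAffineOpen (f ⁻¹ᵁ V) := isAffine_of_isAffineHom (f ∣_ V)
    refine ⟨f ⁻¹ᵁ V, V, le_rfl, haff, hV, ⟨⟨ξ, ?_⟩⟩, ?_⟩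
    · show f.base ξ ∈ V
      rw [hη]; exact hηmem V hne
    · rw [Scheme.Hom.resLE_eq_morphismRestrict]; exact hfin
  refine ⟨⟨fun h => hCB (hAC h), hBA⟩, ⟨hAC, hCA⟩, fun hf => ⟨fun hA => ?_, fun h => hBA (hDB h)⟩⟩
  rcases hf with hf | hf
  · obtain ⟨U, V, hUV, hUa, hVa, hUne, hfin⟩ := hCB (hAC hA)
    refine ⟨V, hVa, ⟨⟨f.base ξ, hUV (hξmem U hUne)⟩⟩, ?_⟩
    haveI := hfin
    let j := X.homOfLE hUV
    have hj : j ≫ (f ∣_ V) = f.resLE V U hUV := by
      rw [← cancel_mono V.ι, Category.assoc, morphismRestrict_ι, Scheme.homOfLE_ι_assoc, Scheme.Hom.resLE_comp_ι]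
    haveI : IsFinite (j ≫ (f ∣_ V)) := by rw [hj]; infer_instance
    haveI : IsFinite j := IsFinite.of_comp j (f ∣_ V)
    haveI : Surjective j := ⟨fun z => by
      refine (?_ : Set.range j = Set.univ).ge trivial
      rw [← j.isClosedMap.isClosed_range.closure_eq]
      refine Set.eq_univ_of_forall fun w => ?_
      have hs : (⟨ξ, hUV (hξmem U hUne)⟩ : (f ⁻¹ᵁ V : Scheme)) ⤳ w := by
        refine (f ⁻¹ᵁ V).ι.isEmbedding.isInducing.specializes_iff.1 ?_
        exact genericPoint_specializes _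
      exact hs.mem_closed isClosed_closure (subset_closure ⟨⟨ξ, hξmem U hUne⟩,
        (f ⁻¹ᵁ V).ι.isOpenEmbedding.injective (by rw [← Scheme.Hom.comp_apply, Scheme.homOfLE_ι]; rfl)⟩)⟩
    haveI : IsIso j := (isIso_iff_isOpenImmersion_and_epi_base j).2 ⟨inferInstance, (TopCat.epi_iff_surjective _).2 j.surjective⟩
    rw [← MorphismProperty.cancel_left_of_respectsIso @IsFinite j]
    infer_instance
  · obtain ⟨V₀, hV₀, hηV, -⟩ := exists_isAffineOpen_mem_and_subset (U := (⊤ : Y.Opens)) (x := genericPoint ↥Y) trivial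
    obtain ⟨U₀, hU₀, hξU, hle⟩ := exists_isAffineOpen_mem_and_subset (U := f ⁻¹ᵁ V₀) (x := ξ)
      (show f.base ξ ∈ V₀ by rw [hη]; exact hηV)
    have hC := hAC hA
    obtain ⟨V, hV, hηV', -, hVfin⟩ := Groth.Agent.GenFibre.exists_finite_nhd_of_disjoint f hmax
      ((Set.finite_singleton ξ).subset hC) hV₀ hηV (fun _ => U₀) (fun _ => hU₀) (fun _ => hle)
      (fun x => by rw [hC x.1 x.2]; exact hξU) ⊤ trivial
      (fun i j hij => absurd (Subtype.ext ((hC i.1 i.2).trans (hC j.1 j.2).symm)) hij)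
    exact ⟨V, hV, ⟨⟨_, hηV'⟩⟩, hVfin⟩

end Groth.Agent.S9702
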