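import Groth.Statements.S9703
import Groth.Agent.SplitAlg.FiniteCover

set_option autoImplicit false
universe u
open CategoryTheory CategoryTheory.Limits AlgebraicGeometry
open Mor

open scoped TensorProduct
set_option backward.isDefEq.respectTransparency false
namespace Groth.Agent.S9703

/-- Let f : Y ⟶ X be finite with X affine. Then there exist a surjective finite locally free b : X' ⟶ X,
a finite locally free c : Z' ⟶ X' and a closed immersion i of Y' = X' ×_X Y into Z' over X' such
that Z' is, as a set, the union of finitely many closed subschemes each mapping isomorphically onto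
X'. (The published statement also records that Y' ⟶ Y is surjective finite locally free, which
follows by base change; this row omits it.) -/
theorem result {X Y : Scheme.{u}} [IsAffine X] (f : Y ⟶ X)
    [IsFinite f] :
    ∃ (X' : Scheme.{u}) (b : X' ⟶ X) (Z' : Scheme.{u}) (c : Z' ⟶ X') (i : pullback f b ⟶ Z'),
      Mor2.IsFinLocFree b ∧ Surjective b ∧ Mor2.IsFinLocFree c ∧ IsClosedImmersion i ∧
      i ≫ c = pullback.snd f b ∧
      ∃ (m : ℕ) (Zj : Fin m → Scheme.{u}) (ιj : ∀ j, Zj j ⟶ Z'),
        (∀ j, IsClosedImmersion (ιj j)) ∧ (∀ j, IsIso (ιj j ≫ c)) ∧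
        (⋃ j, Set.range (ιj j).base) = Set.univ := by
  haveI : IsAffine Y := isAffine_of_isAffineHom f
  let A := Γ(X, ⊤)
  let B := Γ(Y, ⊤)
  letI : Algebra A B := f.appTop.hom.toAlgebra
  haveI : Module.Finite A B := by
    have := (HasAffineProperty.iff_of_isAffine (P := @IsFinite) (f := f)).1 inferInstance
    exact this.2
  obtain ⟨A', _, _, _, _, _, C, _, _, _, _, π, hπ, m, ev, hev⟩ :=
    Groth.Agent.SplitAlg.exists_cover_sections (A := A) (B := B)
  let b₀ : Spec (CommRingCat.of A') ⟶ Spec A := Spec.map (CommRingCat.ofHom (algebraMap A A'))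
  let b : Spec (CommRingCat.of A') ⟶ X := b₀ ≫ X.isoSpec.inv
  let c : Spec (CommRingCat.of C) ⟶ Spec (CommRingCat.of A') := Spec.map (CommRingCat.ofHom (algebraMap A' C))
  have sq₀ := AlgebraicGeometry.isPullback_SpecMap_of_isPushout _ _ _ _
    (CommRingCat.isPushout_tensorProduct A A' B)
  have sqY : IsPullback (Y.isoSpec.inv) (Spec.map f.appTop) f X.isoSpec.inv :=
    IsPullback.of_horiz_isIso ⟨(Scheme.isoSpec_inv_naturality f).symm⟩
  have sq := sq₀.flip.paste_horiz sqY
  let i₀ : Spec (CommRingCat.of (A' ⊗[A] B)) ⟶ Spec (CommRingCat.of C) :=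
    Spec.map (CommRingCat.ofHom π.toRingHom)
  let e := sq.isoPullback
  haveI : IsClosedImmersion i₀ := IsClosedImmersion.spec_of_surjective _ hπ
  refine ⟨_, b, _, c, e.inv ≫ i₀, ?_, ?_, ?_, inferInstance, ?_, m, fun _ => Spec (CommRingCat.of A'),
    fun j => Spec.map (CommRingCat.ofHom (ev j).toRingHom), fun j => IsClosedImmersion.spec_of_surjective _
      (fun x => ⟨algebraMap A' C x, (ev j).commutes x⟩), fun j => ?_, ?_⟩
  · haveI : IsFinite b₀ := (IsFinite.SpecMap_iff _).2 (RingHom.finite_algebraMap.2 inferInstance)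
    haveI : Flat b₀ := HasRingHomProperty.Spec_iff.2 (RingHom.flat_algebraMap_iff.2 inferInstance)
    haveI : Module.FinitePresentation A A' := Module.finitePresentation_of_projective A A'
    haveI : LocallyOfFinitePresentation b₀ :=
      HasRingHomProperty.Spec_iff.2 (RingHom.finitePresentation_algebraMap.2 inferInstance)
    exact ⟨inferInstance, inferInstance, inferInstance⟩
  · haveI : Surjective b₀ := ⟨PrimeSpectrum.comap_surjective_of_faithfullyFlat⟩
    infer_instance
  · haveI : IsFinite c := (IsFinite.SpecMap_iff _).2 (RingHom.finite_algebraMap.2 inferInstance)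
    haveI : Flat c := HasRingHomProperty.Spec_iff.2 (RingHom.flat_algebraMap_iff.2 inferInstance)
    haveI : Module.FinitePresentation A' C := Module.finitePresentation_of_projective A' C
    haveI : LocallyOfFinitePresentation c :=
      HasRingHomProperty.Spec_iff.2 (RingHom.finitePresentation_algebraMap.2 inferInstance)
    exact ⟨inferInstance, inferInstance, inferInstance⟩
  · rw [Category.assoc, ← sq.isoPullback_inv_snd]
    congr 1
    rw [show i₀ ≫ c = Spec.map (CommRingCat.ofHom (π.toRingHom.comp (algebraMap A' C))) from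
      (Spec.map_comp _ _).symm, show π.toRingHom.comp (algebraMap A' C) = algebraMap A' (A' ⊗[A] B) from
      π.comp_algebraMap]
    rfl
  · rw [show Spec.map (CommRingCat.ofHom (ev j).toRingHom) ≫ c =
      Spec.map (CommRingCat.ofHom ((ev j).toRingHom.comp (algebraMap A' C))) from (Spec.map_comp _ _).symm,
      show (ev j).toRingHom.comp (algebraMap A' C) = RingHom.id A' from (ev j).comp_algebraMap]
    exact (Spec.map_id _).symm ▸ inferInstance
  · refine Set.eq_univ_of_forall fun q => ?_
    obtain ⟨j, hj⟩ := hev q.asIdeal q.isPrime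
    refine Set.mem_iUnion.2 ⟨j, ?_⟩
    show q ∈ Set.range (PrimeSpectrum.comap (ev j).toRingHom)
    rw [range_comap_of_surjective _ _ (fun x => ⟨algebraMap A' C x, (ev j).commutes x⟩)]
    exact hj

end Groth.Agent.S9703
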