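import Groth.Statements.S9712
import Groth.Agent.HQProj.Basic

set_option autoImplicit false
universe u
open CategoryTheory CategoryTheory.Limits AlgebraicGeometry
open Mor

namespace Groth.Agent.S9712

/-- A morphism f : X ⟶ S is locally quasi-projective (S is covered by opens U with f⁻¹(U) ⟶ U
quasi-projective) if and only if S is covered by opens U such that f⁻¹(U) ⟶ U is H-quasi-projective
(a quasi-compact immersion into some P^n_U followed by the projection). -/
theorem result {X S : Scheme.{u}} (f : X ⟶ S) :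
    (∀ s : S, ∃ U : S.Opens, s ∈ U ∧ RelProj.IsQuasiProjective (f ∣_ U)) ↔
      (∀ s : S, ∃ U : S.Opens, s ∈ U ∧ RelProj.IsHQuasiProjective (f ∣_ U)) := by
  set_option backward.isDefEq.respectTransparency false in
  constructor <;> intro h s
  · obtain ⟨U, hsU, hU⟩ := h s
    obtain ⟨W, hW, hsW, hWU⟩ := exists_isAffineOpen_mem_and_subset hsU
    have hle : W ≤ U := hWU
    refine ⟨W, hsW, ?_⟩
    have h1 := Groth.Agent.HQProj.isHQuasiProjective_restrict hU (W := U.ι ⁻¹ᵁ W)
      (hW.preimage_of_isOpenImmersion U.ι (by rw [Scheme.Opens.opensRange_ι]; exact hle))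
    have e := morphismRestrictRestrict f U (U.ι ⁻¹ᵁ W)
    have e2 := morphismRestrictEq f (show U.ι ''ᵁ (U.ι ⁻¹ᵁ W) = W by
      rw [Scheme.Hom.image_preimage_eq_opensRange_inf, Scheme.Opens.opensRange_ι, inf_eq_right.2 hle])
    let E := e ≪≫ e2
    exact Groth.Agent.HQProj.of_isPullback
      (IsPullback.of_horiz_isIso ⟨(E.inv.w : _)⟩) h1
  · obtain ⟨U, hsU, hU⟩ := h s
    obtain ⟨W, hW, hsW, hWU⟩ := exists_isAffineOpen_mem_and_subset hsU
    haveI : IsAffine W.toScheme := hW
    exact ⟨W, hsW, Groth.Agent.HQProj.isQuasiProjective_of_isAffine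
      (Groth.Agent.HQProj.restrict_of_le f hWU hU)⟩

end Groth.Agent.S9712
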