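import Groth.Statements.S9713
import Groth.Agent.S9704
import Groth.Agent.S9693

set_option autoImplicit false
universe u
open CategoryTheory CategoryTheory.Limits AlgebraicGeometry
open Mor

namespace Groth.Agent.S9713

/-- A base change of a locally projective morphism (every point of the base has an open neighbourhood U
with f⁻¹(U) ⟶ U projective) is locally projective. Here f⁻¹(U) ⟶ U projective means isomorphic over
U to the relative Proj of a quasi-coherent graded algebra generated by its finite-type degree-one
part; the published definition uses closed subschemes of P(E) with E of finite type, an equivalent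
condition. -/
theorem result {X S S' : Scheme.{u}} (f : X ⟶ S) (hf : RelProj.IsLocallyProjective f)
    (g : S' ⟶ S) : RelProj.IsLocallyProjective (pullback.snd f g) := by
  rw [Groth.Agent.S9704.result] at hf ⊢
  intro s'
  obtain ⟨U, hsU, hU⟩ := hf (g s')
  refine ⟨g ⁻¹ᵁ U, hsU, ?_⟩
  obtain ⟨n, i, hi, hif⟩ := Groth.Agent.S9693.result (f ∣_ U) hU (g ∣_ U)
  have h1 := ((isPullback_morphismRestrict (pullback.snd f g) (g ⁻¹ᵁ U))).flip.paste_horiz
    (IsPullback.of_hasPullback f g)
  have h2 := (IsPullback.of_hasPullback (f ∣_ U) (g ∣_ U)).paste_horiz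
    (isPullback_morphismRestrict f U).flip
  rw [morphismRestrict_ι g U] at h2
  let e := h1.isoIsPullback _ _ h2
  refine ⟨n, e.hom ≫ i, inferInstance, ?_⟩
  rw [Category.assoc, hif]
  exact IsPullback.isoIsPullback_hom_snd _ _ h1 h2

end Groth.Agent.S9713
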