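import Groth.Statements.S9714
import Mathlib
import Groth.Agent.UnivInjMor.MonoUnram

set_option autoImplicit false
universe u
open CategoryTheory CategoryTheory.Limits AlgebraicGeometry
open Mor

namespace Groth.Agent.S9714

/-- Let k be a field and X a scheme over k. The structure morphism X ⟶ Spec k is unramified (formally
unramified and locally of finite type) if and only if X is isomorphic over k to a disjoint union of
spectra of finite separable field extensions of k. -/
theorem result (k : Type u) [Field k] {X : Scheme.{u}}
    (f : X ⟶ Spec (CommRingCat.of k)) :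
    (FormallyUnramified f ∧ LocallyOfFiniteType f) ↔
      ∃ (ι : Type u) (K : ι → Type u) (_ : ∀ i, Field (K i)) (_ : ∀ i, Algebra k (K i)),
        (∀ i, FiniteDimensional k (K i) ∧ Algebra.IsSeparable k (K i)) ∧
        ∃ e : X ≅ ∐ (fun i => Spec (CommRingCat.of (K i))),
          e.hom ≫ Sigma.desc (fun i => Spec.map (CommRingCat.ofHom (algebraMap k (K i)))) = f := by
  set_option backward.isDefEq.respectTransparency false in
  constructor
  · rintro ⟨hu, hlft⟩
    haveI := hu
    haveI := hlft
    haveI := Groth.Agent.UnivInjMor.lqf_of_unramified f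
    haveI : DiscreteTopology X := by
      have h := f.isDiscrete_preimage_singleton (default : PrimeSpectrum k)
      have e : f ⁻¹' {(default : PrimeSpectrum k)} = Set.univ :=
        Set.eq_univ_of_forall fun x => Subsingleton.elim (α := PrimeSpectrum k) _ _
      rw [e] at h
      exact isDiscrete_univ_iff.1 h
    let U : X → X.Opens := fun x => ⟨{x}, isOpen_discrete _⟩
    have hU : ∀ x, IsAffineOpen (U x) := fun x => IsAffineOpen.of_subsingleton Set.subsingleton_singleton
    let φ : ∀ x, k →+* Γ(X, U x) := fun x =>
      ((Scheme.ΓSpecIso (CommRingCat.of k)).inv ≫ f.appLE ⊤ (U x) (by simp)).hom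
    have hspec : ∀ x, Spec.map (CommRingCat.ofHom (φ x)) = (hU x).fromSpec ≫ f := fun x => by
      rw [← (isAffineOpen_top _).SpecMap_appLE_fromSpec f (hU x) (by simp), IsAffineOpen.fromSpec_top,
        CommRingCat.ofHom_hom, Spec.map_comp, Scheme.isoSpec_Spec_inv]
    have hfield : ∀ x, IsField Γ(X, U x) ∧ (letI := (φ x).toAlgebra
        FiniteDimensional k Γ(X, U x) ∧ Algebra.FormallyUnramified k Γ(X, U x)) := fun x => by
      have hu' : (φ x).FormallyUnramified := by
        rw [← CommRingCat.hom_ofHom (φ x)]
        refine (HasRingHomProperty.Spec_iff (P := @FormallyUnramified)).1 ?_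
        rw [hspec]; exact MorphismProperty.comp_mem _ _ _ inferInstance hu
      have hft : (φ x).FiniteType := by
        rw [← CommRingCat.hom_ofHom (φ x)]
        refine (HasRingHomProperty.Spec_iff (P := @LocallyOfFiniteType)).1 ?_
        rw [hspec]; exact MorphismProperty.comp_mem _ _ _ inferInstance hlft
      letI := (φ x).toAlgebra
      haveI : Algebra.FormallyUnramified k Γ(X, U x) := hu'
      haveI : Algebra.FiniteType k Γ(X, U x) := hft
      haveI hred : _root_.IsReduced Γ(X, U x) := Algebra.FormallyUnramified.isReduced_of_field k _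
      refine ⟨?_, Algebra.FormallyUnramified.finite_of_free (R := k) (S := Γ(X, U x)), inferInstance⟩
      have hsub : ∀ p q : PrimeSpectrum Γ(X, U x), p = q := fun p q => by
        apply (hU x).fromSpec.isOpenEmbedding.injective
        have h1 : ∀ r : Spec Γ(X, U x), (hU x).fromSpec r = x := fun r => by
          have : (hU x).fromSpec r ∈ (U x : Set X) := by rw [← (hU x).range_fromSpec]; exact ⟨r, rfl⟩
          exact this
        exact (h1 p).trans (h1 q).symm
      haveI : Nontrivial Γ(X, U x) := by
        obtain ⟨r, -⟩ : x ∈ Set.range (hU x).fromSpec := by rw [(hU x).range_fromSpec]; rfl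
        exact PrimeSpectrum.nonempty_iff_nontrivial.1 ⟨r⟩
      refine ⟨exists_pair_ne _, mul_comm, fun {a} ha => ?_⟩
      by_contra hne
      have hnu : ¬ IsUnit a := fun h => hne ⟨_, h.mul_val_inv⟩
      obtain ⟨m, hm, ham⟩ := exists_max_ideal_of_mem_nonunits hnu
      refine ha (IsNilpotent.eq_zero ?_)
      rw [← mem_nilradical, nilradical_eq_sInf, Submodule.mem_sInf]
      intro q hq
      have := congrArg PrimeSpectrum.asIdeal (hsub ⟨m, hm.isPrime⟩ ⟨q, hq⟩)
      exact (show m = q from this) ▸ ham
    obtain ⟨hcol⟩ := nonempty_isColimit_cofanMk_of (fun x => (hU x).fromSpec)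
      (eq_top_iff.2 fun x _ => TopologicalSpace.Opens.mem_iSup.2 ⟨x, by
        rw [(hU x).opensRange_fromSpec]; exact rfl⟩)
      (fun x y hxy => by
        change Disjoint (hU x).fromSpec.opensRange (hU y).fromSpec.opensRange
        rw [(hU x).opensRange_fromSpec, (hU y).opensRange_fromSpec, disjoint_iff]
        ext z
        exact ⟨fun ⟨(h1 : z = x), (h2 : z = y)⟩ => (hxy (h1.symm.trans h2)).elim, fun h => h.elim⟩)
    letI : ∀ x, Field Γ(X, U x) := fun x => (hfield x).1.toField
    letI hal : ∀ x, Algebra k Γ(X, U x) := fun x => (φ x).toAlgebra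
    refine ⟨X, fun x => Γ(X, U x), fun x => (hfield x).1.toField, hal, fun x => ⟨(hfield x).2.1, ?_⟩, ?_⟩
    · haveI := (hfield x).2.1
      haveI : Algebra.FormallyUnramified k Γ(X, U x) := (hfield x).2.2
      exact Algebra.FormallyUnramified.isSeparable k _
    · refine ⟨(hcol.coconePointUniqueUpToIso (coproductIsCoproduct _)), ?_⟩
      apply hcol.hom_ext
      rintro ⟨x⟩
      rw [← Category.assoc, IsColimit.comp_coconePointUniqueUpToIso_hom]
      change Sigma.ι (fun i => Spec (CommRingCat.of Γ(X, U i))) x ≫ _ = _
      rw [Sigma.ι_desc]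
      exact hspec x
  · rintro ⟨ι, K, _, _, hK, e, rfl⟩
    refine ⟨?_, ?_⟩
    · rw [MorphismProperty.cancel_left_of_respectsIso @FormallyUnramified]
      refine IsZariskiLocalAtSource.sigmaDesc fun i => ?_
      haveI := (hK i).1
      haveI := (hK i).2
      haveI : Algebra.FormallyEtale k (K i) := Algebra.FormallyEtale.of_isSeparable _ _
      rw [HasRingHomProperty.Spec_iff (P := @FormallyUnramified), CommRingCat.hom_ofHom,
        RingHom.formallyUnramified_algebraMap]
      infer_instance
    · rw [MorphismProperty.cancel_left_of_respectsIso @LocallyOfFiniteType]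
      refine IsZariskiLocalAtSource.sigmaDesc fun i => ?_
      haveI := (hK i).1
      rw [HasRingHomProperty.Spec_iff (P := @LocallyOfFiniteType), CommRingCat.hom_ofHom,
        RingHom.finiteType_algebraMap]
      infer_instance

end Groth.Agent.S9714
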