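import Groth.Statements.S9721
import Mathlib
import Groth.Agent.LocStd.Basic

set_option autoImplicit false
universe u
open CategoryTheory AlgebraicGeometry
open Mor

namespace Groth.Agent.S9721

/-- Let f : X ⟶ S be a morphism, x a point of X and V an affine open neighbourhood of f(x) in S. Then f
is smooth on some open neighbourhood of x if and only if there is an affine open neighbourhood U of
x with f(U) ⊆ V such that the induced ring map Γ(S, V) ⟶ Γ(X, U) is standard smooth. -/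
theorem result {X S : Scheme.{u}} (f : X ⟶ S) (x : X)
    (V : S.Opens) (hV : IsAffineOpen V) (hxV : f x ∈ V) :
    (∃ W : X.Opens, x ∈ W ∧ Smooth (W.ι ≫ f)) ↔
      ∃ (U : X.Opens) (_ : IsAffineOpen U) (_ : x ∈ U) (e : U ≤ f ⁻¹ᵁ V),
        (f.appLE V U e).hom.IsStandardSmooth := by
  set_option backward.isDefEq.respectTransparency false in
  constructor
  · rintro ⟨W, hxW, hW⟩
    obtain ⟨U₀, hU₀, hx, hsub⟩ := exists_isAffineOpen_mem_and_subset
      (show x ∈ W ⊓ f ⁻¹ᵁ V from ⟨hxW, hxV⟩)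
    have e₀ : U₀ ≤ f ⁻¹ᵁ V := fun z hz => (hsub hz).2
    have hs : (f.appLE V U₀ e₀).hom.Smooth := Groth.Agent.LocStd.appLE_of_nhd (P := @Smooth)
      (fun j _ => inferInstance) f hW hV hU₀ (fun z hz => (hsub hz).1) e₀
    rw [RingHom.smooth_iff_locally_isStandardSmooth] at hs
    obtain ⟨s, hspan, hs⟩ := hs
    obtain ⟨t, hts, ht⟩ : ∃ t ∈ s, t ∉ (hU₀.primeIdealOf ⟨x, hx⟩).asIdeal := by
      by_contra! hc
      exact (hU₀.primeIdealOf ⟨x, hx⟩).2.ne_top (eq_top_iff.2 (hspan ▸ Ideal.span_le.2 hc))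
    exact Groth.Agent.LocStd.exists_chart (fun φ e h => RingHom.isStandardSmooth_respectsIso.left φ e h) f hU₀ e₀ hx t ht (hs t hts)
  · rintro ⟨U, hU, hx, e, h⟩
    refine ⟨U, hx, Groth.Agent.LocStd.nhd_of_appLE (P := @Smooth) (fun j _ => inferInstance) f hV hU e ?_⟩
    algebraize [(f.appLE V U e).hom]
    haveI : Algebra.IsStandardSmooth Γ(S, V) Γ(X, U) := h
    exact RingHom.smooth_algebraMap.2 (inferInstance : Algebra.Smooth Γ(S, V) Γ(X, U))

end Groth.Agent.S9721
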