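import Groth.Statements.S9723


set_option autoImplicit false
universe u
open FlatMor

namespace Groth.Agent.S9723

open AlgebraicGeometry CategoryTheory in
/-- Let f : X ⟶ S be formally étale (unique infinitesimal lifting against square-zero thickenings of
affine schemes), and let U be an open subscheme of X and V an open subscheme of S such that f maps U
into V. Then the restricted morphism U ⟶ V is formally étale. -/
theorem result {X S : Scheme.{u}} (f : X ⟶ S) (hf : MoreMor.IsFormallyEtaleHom f)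
    (U : X.Opens) (V : S.Opens) (h : U ≤ f ⁻¹ᵁ V) : MoreMor.IsFormallyEtaleHom (f.resLE V U h) := by
  intro A _ I hI a b h0
  have h' : Spec.map (CommRingCat.ofHom (Ideal.Quotient.mk I)) ≫ (b ≫ V.ι) = (a ≫ U.ι) ≫ f := by
    rw [← Category.assoc, h0, Category.assoc, Scheme.Hom.resLE_comp_ι, Category.assoc]
  obtain ⟨l, ⟨h₁, h₁'⟩, u₁⟩ := hf A I hI (a ≫ U.ι) (b ≫ V.ι) h'
  have hr : Set.range l ⊆ Set.range U.ι := by
    rintro _ ⟨p, rfl⟩
    have : IsNilpotent I := ⟨2, hI⟩
    obtain ⟨q, hq⟩ : p ∈ Set.range (PrimeSpectrum.comap (Ideal.Quotient.mk I)) := by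
      rw [range_comap_of_surjective _ _ Ideal.Quotient.mk_surjective, Ideal.mk_ker]
      intro x hx
      exact p.2.mem_of_pow_mem 2 (by
        have := Ideal.pow_mem_pow hx 2
        rw [hI, Ideal.mem_bot] at this
        rw [this]; exact zero_mem _)
    subst hq
    refine ⟨a q, ?_⟩
    have := congrArg (fun k : _ ⟶ X => k q) h₁
    exact ((Scheme.Hom.comp_apply _ _ _).symm.trans (this.symm.trans (Scheme.Hom.comp_apply _ _ _)))
  refine ⟨IsOpenImmersion.lift U.ι l hr, ⟨?_, ?_⟩, fun l' hl' => ?_⟩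
  · rw [← cancel_mono U.ι, Category.assoc, IsOpenImmersion.lift_fac, h₁]
  · rw [← cancel_mono V.ι, Category.assoc, Scheme.Hom.resLE_comp_ι, ← Category.assoc,
      IsOpenImmersion.lift_fac, h₁']
  · rw [← cancel_mono U.ι, IsOpenImmersion.lift_fac]
    refine u₁ _ ⟨by rw [← Category.assoc, hl'.1], ?_⟩
    rw [Category.assoc, ← Scheme.Hom.resLE_comp_ι f h, ← Category.assoc, hl'.2]

end Groth.Agent.S9723
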