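import Groth.Statements.S9725
import Groth.Agent.SmoothDiv.Core

set_option autoImplicit false
universe u
open FlatMor

namespace Groth.Agent.S9725

open AlgebraicGeometry CategoryTheory Limits in
/-- Let f : X ⟶ S be a morphism and x a point such that f is smooth on an open neighbourhood of x, and
let h be an element of the maximal ideal of the local ring O_{X,x} such that the image of dh in
Ω_{O_{X,x}/O_{S,f x}} ⊗ κ(x) (the fibre at x of the sheaf of differentials of X over S) is nonzero.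
Then there are an affine open U ∋ x and a nonzerodivisor h' of Γ(X, U) with germ h at x such that
the closed subscheme V(h') of U, an effective Cartier divisor through x, is smooth over S. -/
theorem result {X S : Scheme.{u}} (f : X ⟶ S) (x : X)
    (W : X.Opens) (hxW : x ∈ W) (hW : Smooth (W.ι ≫ f))
    (h : ↑(X.presheaf.stalk x)) (hm : h ∈ IsLocalRing.maximalIdeal ↑(X.presheaf.stalk x))
    (hd : letI := (f.stalkMap x).hom.toAlgebra
      (1 : IsLocalRing.ResidueField ↑(X.presheaf.stalk x)) ⊗ₜ[↑(X.presheaf.stalk x)]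
          (KaehlerDifferential.D ↑(S.presheaf.stalk (f x)) ↑(X.presheaf.stalk x) h) ≠ 0) :
    ∃ (U : X.Opens) (hU : IsAffineOpen U) (hx : x ∈ U) (h' : Γ(X, U)), X.presheaf.germ U x hx h' = h ∧
      h' ∈ nonZeroDivisors Γ(X, U) ∧
      Smooth (Spec.map (CommRingCat.ofHom (Ideal.Quotient.mk (Ideal.span {h'}))) ≫ hU.fromSpec ≫ f) := by
  obtain ⟨O, hxO, h₀, hh₀⟩ := X.presheaf.exists_germ_eq h
  obtain ⟨U₀, hU₀, hfx, -⟩ := exists_isAffineOpen_mem_and_subset (x := f x) (U := ⊤) trivial
  obtain ⟨V, hV, hxV, hVO⟩ := exists_isAffineOpen_mem_and_subset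
    (x := x) (U := O ⊓ W ⊓ f ⁻¹ᵁ U₀) ⟨⟨hxO, hxW⟩, hfx⟩
  have hVO' : V ≤ O := fun z hz => (hVO hz).1.1
  have hVW : V ≤ W := fun z hz => (hVO hz).1.2
  have hVU : V ≤ f ⁻¹ᵁ U₀ := fun z hz => (hVO hz).2
  let R := Γ(S, U₀)
  let B := Γ(X, V)
  let φ := f.appLE U₀ V hVU
  letI : Algebra R B := φ.hom.toAlgebra
  haveI : Algebra.Smooth R B := by
    haveI := hW
    haveI h1 : Smooth (hV.fromSpec ≫ f) := by
      have : hV.fromSpec ≫ f = (hV.isoSpec.inv ≫ X.homOfLE hVW) ≫ W.ι ≫ f := by
        rw [← IsAffineOpen.isoSpec_inv_ι, Category.assoc, Category.assoc, Scheme.homOfLE_ι_assoc]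
      rw [this]
      infer_instance
    rw [← IsAffineOpen.SpecMap_appLE_fromSpec f hU₀ hV hVU] at h1
    have h2 : Smooth (Spec.map φ) :=
      MorphismProperty.of_postcomp (W := @Smooth) (W' := @IsOpenImmersion) _ hU₀.fromSpec inferInstance h1
    rw [HasRingHomProperty.Spec_iff (P := @Smooth)] at h2
    exact h2
  let h' : B := X.presheaf.map (homOfLE hVO').op h₀
  have hh' : X.presheaf.germ V x hxV h' = h := by
    simp only [h', TopCat.Presheaf.germ_res_apply]
    exact hh₀
  -- comparison with the local rings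
  let Ss := S.presheaf.stalk (f x)
  let Xs := X.presheaf.stalk x
  letI : Algebra Ss Xs := (f.stalkMap x).hom.toAlgebra
  letI : Algebra R Ss := (S.presheaf.germ U₀ (f x) hfx).hom.toAlgebra
  letI : Algebra B Xs := (X.presheaf.germ V x hxV).hom.toAlgebra
  letI : Algebra R Xs := ((X.presheaf.germ V x hxV).hom.comp φ.hom).toAlgebra
  haveI : IsScalarTower R B Xs := IsScalarTower.of_algebraMap_eq' rfl
  haveI : IsScalarTower R Ss Xs := IsScalarTower.of_algebraMap_eq fun r => by
    change X.presheaf.germ V x hxV (f.appLE U₀ V hVU r) = f.stalkMap x (S.presheaf.germ U₀ (f x) hfx r)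
    rw [Scheme.Hom.appLE, ConcreteCategory.comp_apply, TopCat.Presheaf.germ_res_apply,
      Scheme.Hom.germ_stalkMap_apply]
  let ψ : TensorProduct B (IsLocalRing.ResidueField Xs) (KaehlerDifferential R B) →ₗ[(IsLocalRing.ResidueField Xs)] TensorProduct Xs (IsLocalRing.ResidueField Xs) (KaehlerDifferential Ss Xs) :=
    LinearMap.liftBaseChange (IsLocalRing.ResidueField Xs)
      (((TensorProduct.mk Xs (IsLocalRing.ResidueField Xs) (KaehlerDifferential Ss Xs) 1).restrictScalars B).comp
        (KaehlerDifferential.map R Ss B Xs))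
  have hdB : (1 : (IsLocalRing.ResidueField Xs)) ⊗ₜ[B] KaehlerDifferential.D R B h' ≠ 0 := by
    intro h0
    apply hd
    have h1 : ψ ((1 : (IsLocalRing.ResidueField Xs)) ⊗ₜ[B] KaehlerDifferential.D R B h') = 0 := by rw [h0, map_zero]
    rw [LinearMap.liftBaseChange_tmul, one_smul, LinearMap.comp_apply, KaehlerDifferential.map_D] at h1
    have h2 : algebraMap B Xs h' = h := hh'
    rw [h2] at h1
    exact h1
  obtain ⟨t, ht, hloc⟩ := Groth.Agent.SmoothDiv.exists_away h' (hV.primeIdealOf ⟨x, hxV⟩).asIdeal (IsLocalRing.ResidueField Xs) (by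
    intro b hb
    change IsLocalRing.residue Xs (X.presheaf.germ V x hxV b) = 0
    rw [IsLocalRing.residue_eq_zero_iff, IsLocalRing.mem_maximalIdeal, mem_nonunits_iff,
      ← Scheme.mem_basicOpen]
    intro hxb
    have : hV.primeIdealOf ⟨x, hxV⟩ ∈ hV.fromSpec ⁻¹ᵁ X.basicOpen b := by
      change hV.fromSpec (hV.primeIdealOf ⟨x, hxV⟩) ∈ X.basicOpen b
      rw [hV.fromSpec_primeIdealOf]
      exact hxb
    rw [hV.fromSpec_preimage_basicOpen] at this
    exact this hb) hdB
  have hxt : x ∈ X.basicOpen t := by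
    have : hV.primeIdealOf ⟨x, hxV⟩ ∈ hV.fromSpec ⁻¹ᵁ X.basicOpen t := by
      rw [hV.fromSpec_preimage_basicOpen]
      exact ht
    have h' : hV.fromSpec (hV.primeIdealOf ⟨x, hxV⟩) ∈ X.basicOpen t := this
    rwa [hV.fromSpec_primeIdealOf] at h'
  let U := X.basicOpen t
  let B' := Γ(X, U)
  let res : B ⟶ B' := X.presheaf.map (homOfLE (X.basicOpen_le t)).op
  letI : Algebra B B' := res.hom.toAlgebra
  haveI : IsLocalization.Away t B' := hV.isLocalization_basicOpen t
  letI : Algebra R B' := (res.hom.comp φ.hom).toAlgebra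
  haveI : IsScalarTower R B B' := IsScalarTower.of_algebraMap_eq' rfl
  obtain ⟨hnzd, hsm⟩ := hloc B'
  refine ⟨U, hV.basicOpen t, hxt, res h', ?_, hnzd, ?_⟩
  · simp only [res, TopCat.Presheaf.germ_res_apply]
    exact hh'
  · have hUU : U ≤ f ⁻¹ᵁ U₀ := (X.basicOpen_le t).trans hVU
    rw [← IsAffineOpen.SpecMap_appLE_fromSpec f hU₀ (hV.basicOpen t) hUU, ← Category.assoc, ← Spec.map_comp]
    haveI : Smooth (Spec.map (f.appLE U₀ U hUU ≫ CommRingCat.ofHom (Ideal.Quotient.mk (Ideal.span {res h'})))) := by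
      rw [HasRingHomProperty.Spec_iff (P := @Smooth)]
      have e : f.appLE U₀ U hUU = φ ≫ res := by
        simp only [φ, res, Scheme.Hom.appLE_map]
        rfl
      rw [e]
      exact RingHom.smooth_algebraMap.mpr hsm
    infer_instance

end Groth.Agent.S9725
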