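import Groth.Statements.S9724
import Groth.Agent.S9725
import Groth.Agent.SmoothDiv.SepPoint
import Groth.Agent.FibCrit.Scheme

set_option autoImplicit false
universe u
open FlatMor

namespace Groth.Agent.S9724

open AlgebraicGeometry CategoryTheory CategoryTheory.Limits

lemma isNoetherianRing_fibre_stalk {X S : Scheme.{u}} (f : X ⟶ S) (x : X) (W : X.Opens) (hxW : x ∈ W)
    [Smooth (W.ι ≫ f)] : IsNoetherianRing ↑((f.fiber (f x)).presheaf.stalk (f.asFiber x)) := by
  let j : pullback W.ι (f.fiberι (f x)) ⟶ f.fiber (f x) := pullback.snd _ _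
  let e := pullbackRightPullbackFstIso f (S.fromSpecResidueField (f x)) W.ι
  haveI : LocallyOfFinitePresentation (W.ι ≫ f) := inferInstance
  haveI : LocallyOfFiniteType (W.ι ≫ f) := inferInstance
  haveI : LocallyOfFiniteType (pullback.snd (W.ι ≫ f) (S.fromSpecResidueField (f x))) :=
    MorphismProperty.pullback_snd _ _ inferInstance
  haveI : LocallyOfFiniteType (e.hom ≫ pullback.snd (W.ι ≫ f) (S.fromSpecResidueField (f x))) :=
    inferInstance
  haveI : IsLocallyNoetherian (pullback W.ι (f.fiberι (f x))) :=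
    LocallyOfFiniteType.isLocallyNoetherian (e.hom ≫ pullback.snd (W.ι ≫ f) (S.fromSpecResidueField (f x)))
  obtain ⟨y, hy⟩ : f.asFiber x ∈ Set.range j := by
    rw [Scheme.Pullback.range_snd, Set.mem_preimage, Scheme.Opens.range_ι]
    show f.fiberι (f x) (f.asFiber x) ∈ W
    rw [show f.fiberι (f x) (f.asFiber x) = x from
      congrArg Subtype.val ((f.fiberHomeo (f x)).apply_symm_apply ⟨x, rfl⟩)]
    exact hxW
  rw [← hy]
  exact isNoetherianRing_of_ringEquiv _ (asIso (j.stalkMap y)).commRingCatIsoToRingEquiv.symm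


open AlgebraicGeometry CategoryTheory Limits in
/-- Let f : X ⟶ S be a morphism and x a point such that f is smooth on an open neighbourhood of x, the
residue field extension κ(x)/κ(f x) is separable (formally smooth), and x is not the generic point
of any irreducible component of the fibre over f x, i.e. (the fibre being smooth over a field near
x) the maximal ideal of the local ring of the fibre at x is nonzero. Then there are an affine open U
∋ x and a nonzerodivisor h' of Γ(X, U) vanishing at x such that the closed subscheme V(h') of U, an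
effective Cartier divisor through x, is smooth over S. -/
theorem result {X S : Scheme.{u}} (f : X ⟶ S) (x : X)
    (W : X.Opens) (hxW : x ∈ W) (hW : Smooth (W.ι ≫ f))
    (hsep : letI := (f.residueFieldMap x).hom.toAlgebra
      Algebra.FormallySmooth (S.residueField (f x)) (X.residueField x))
    (hgen : IsLocalRing.maximalIdeal ↑((f.fiber (f x)).presheaf.stalk (f.asFiber x)) ≠ ⊥) :
    ∃ (U : X.Opens) (hU : IsAffineOpen U) (hx : x ∈ U) (h' : Γ(X, U)), h' ∈ nonZeroDivisors Γ(X, U) ∧
      X.presheaf.germ U x hx h' ∈ IsLocalRing.maximalIdeal ↑(X.presheaf.stalk x) ∧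
      Smooth (Spec.map (CommRingCat.ofHom (Ideal.Quotient.mk (Ideal.span {h'}))) ≫ hU.fromSpec ≫ f) := by
  haveI := isNoetherianRing_fibre_stalk f x W hxW
  letI := (f.stalkMap x).hom.toAlgebra
  haveI : IsLocalHom (algebraMap ↑(S.presheaf.stalk (f x)) ↑(X.presheaf.stalk x)) :=
    inferInstanceAs (IsLocalHom (f.stalkMap x).hom)
  have hy : f.fiberι (f x) (f.asFiber x) = x :=
    congrArg Subtype.val ((f.fiberHomeo (f x)).apply_symm_apply ⟨x, rfl⟩)
  obtain ⟨-, hk, hs⟩ := Groth.Agent.FibCrit.ker_stalkCongr_comp f (f x) (f.asFiber x) x hy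
  obtain ⟨h, hm, hd⟩ := Groth.Agent.SmoothDiv.exists_tmul_D_ne_zero
    (O := ↑(S.presheaf.stalk (f x)))
    ((X.presheaf.stalkCongr (.of_eq hy)).inv ≫ (f.fiberι (f x)).stalkMap (f.asFiber x)).hom hs
    (fun o ho => RingHom.mem_ker.mp (hk ▸ Ideal.mem_map_of_mem _ ho)) (by
      have key : (IsLocalRing.ResidueField.instAlgebra : Algebra (IsLocalRing.ResidueField ↑(S.presheaf.stalk (f x)))
          (IsLocalRing.ResidueField ↑(X.presheaf.stalk x))) =
          (show IsLocalRing.ResidueField ↑(S.presheaf.stalk (f x)) →+* IsLocalRing.ResidueField ↑(X.presheaf.stalk x)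
            from (f.residueFieldMap x).hom).toAlgebra := by
        refine Algebra.algebra_ext _ _ fun r => ?_
        obtain ⟨o, rfl⟩ := IsLocalRing.residue_surjective r
        rfl
      rw [key]
      exact hsep) hgen
  obtain ⟨U, hU, hx, h', hg, hnzd, hsm⟩ := Groth.Agent.S9725.result f x W hxW hW h hm hd
  exact ⟨U, hU, hx, h', hnzd, hg ▸ hm, hsm⟩

end Groth.Agent.S9724
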