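import Groth.Statements.S9733
import Groth.Agent.OmegaThick.Affine

set_option autoImplicit false
set_option linter.style.haveILetI false
set_option backward.isDefEq.respectTransparency false
open Groth.Agent
universe u
open OmegaSh

namespace Groth.Agent.S9733

open AlgebraicGeometry CategoryTheory Limits in
/-- Let h : Z ⟶ X and f : Z ⟶ W make Z the fibre product of g : X ⟶ Y and a formally unramified h' : W ⟶
Y, and let (j : W ⟶ W', k : W' ⟶ Y) be universal first-order thickening data for h'. Then the map Z
⟶ X ×_Y W' with components h and f ≫ j, together with the first projection X ×_Y W' ⟶ X, is a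
universal first-order thickening for h. The published statement also asserts that h is formally
unramified and that the pullback along f of the conormal sheaf of W relative to Y surjects onto the
conormal sheaf of Z relative to X; this row states neither. -/
theorem result {Z X W Y W' : Scheme.{u}} (h : Z ⟶ X) (f : Z ⟶ W) (g : X ⟶ Y) (h' : W ⟶ Y)
    [FormallyUnramified h'] (hc : IsPullback h f g h') (j : W ⟶ W') (k : W' ⟶ Y) (hu : OmegaSh.IsUnivThickening h' j k) :
    OmegaSh.IsUnivThickening h (pullback.lift h (f ≫ j) (hc.w.trans (congrArg (f ≫ ·) hu.2.1).symm)) (pullback.fst g k) := by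
  have hsq : IsPullback (pullback.lift h (f ≫ j) (hc.w.trans (congrArg (f ≫ ·) hu.2.1).symm)) f
      (pullback.snd g k) j := by
    refine IsPullback.of_right ?_ (pullback.lift_snd _ _ _) (IsPullback.of_hasPullback g k)
    rw [pullback.lift_fst, hu.2.1]
    exact hc
  refine ⟨OmegaThick.fot_of_isPullback hu.1 hsq, pullback.lift_fst _ _ _, fun T T' t b a ht hab => ?_⟩
  obtain ⟨w, ⟨hw1, hw2⟩, hun⟩ := hu.2.2 T T' t (b ≫ g) (a ≫ f) ht (by
    rw [reassoc_of% hab, hc.w, Category.assoc])
  refine ⟨pullback.lift b w hw2.symm, ⟨?_, pullback.lift_fst _ _ _⟩, fun a' ha' => ?_⟩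
  · refine pullback.hom_ext ?_ ?_
    · simp [hab]
    · simp [hw1]
  · refine pullback.hom_ext (by simpa using ha'.2) ?_
    rw [pullback.lift_snd]
    refine hun _ ⟨?_, ?_⟩
    · rw [reassoc_of% ha'.1, pullback.lift_snd, Category.assoc]
    · rw [Category.assoc, ← pullback.condition, reassoc_of% ha'.2]

end Groth.Agent.S9733
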