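import Groth.Statements.S9734
import Mathlib
import Groth.Agent.Weighting.SplitAlg

set_option autoImplicit false
universe u
open FlatMor

namespace Groth.Agent.S9734

open AlgebraicGeometry CategoryTheory Limits in
theorem aux {S : Scheme.{u}} {R : CommRingCat.{u}} (j : Spec R ⟶ S) [IsOpenImmersion j] (x : Spec R)
    (k : Type u) [Field k] [Algebra (S.residueField (j x)) k] [FiniteDimensional (S.residueField (j x)) k]
    [Algebra.IsSeparable (S.residueField (j x)) k] :
    ∃ (U : Scheme.{u}) (g : U ⟶ S) (u : U) (hu : g u = j x), Etale g ∧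
      letI := ((S.residueFieldCongr hu).inv ≫ g.residueFieldMap u).hom.toAlgebra
      Nonempty (k ≃ₐ[S.residueField (j x)] U.residueField u) := by
  classical
  let ψ : (Spec R).residueField x ⟶ CommRingCat.of k :=
    inv (j.residueFieldMap x) ≫ CommRingCat.ofHom (algebraMap (S.residueField (j x)) k)
  let φ : CommRingCat.of x.asIdeal.ResidueField ⟶ CommRingCat.of k :=
    (Scheme.Spec.residueFieldIso R x).inv ≫ ψ
  let c0 : S.residueField (j x) ⟶ CommRingCat.of x.asIdeal.ResidueField :=
    j.residueFieldMap x ≫ (Scheme.Spec.residueFieldIso R x).hom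
  letI : Algebra x.asIdeal.ResidueField k := φ.hom.toAlgebra
  letI : Algebra R k := (φ.hom.comp (algebraMap R x.asIdeal.ResidueField)).toAlgebra
  haveI : IsScalarTower R x.asIdeal.ResidueField k := IsScalarTower.of_algebraMap_eq fun r => rfl
  letI : Algebra (S.residueField (j x)) x.asIdeal.ResidueField := c0.hom.toAlgebra
  have hφc : c0 ≫ φ = CommRingCat.ofHom (algebraMap (S.residueField (j x)) k) := by simp only [c0, φ, ψ, Category.assoc, Iso.hom_inv_id_assoc, IsIso.hom_inv_id_assoc]; rfl
  haveI : IsScalarTower (S.residueField (j x)) x.asIdeal.ResidueField k :=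
    IsScalarTower.of_algebraMap_eq fun r => (congr($(hφc) r)).symm
  obtain ⟨α, hα⟩ := Field.exists_primitive_element (S.residueField (j x)) k
  have hsep : IsSeparable x.asIdeal.ResidueField α :=
    IsSeparable.tower_top x.asIdeal.ResidueField (Algebra.IsSeparable.isSeparable (S.residueField (j x)) α)
  obtain ⟨R₀, _, _, _, v₀, c, hc, hcα⟩ :=
    Groth.Agent.Weighting.exists_etale_point_mem R x.asIdeal k α hsep
  let h₀ : R ⟶ CommRingCat.of R₀ := CommRingCat.ofHom (algebraMap R R₀)
  let g : Spec (CommRingCat.of R₀) ⟶ S := Spec.map h₀ ≫ j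
  let t' : Spec (CommRingCat.of k) ⟶ Spec (CommRingCat.of R₀) := Spec.map (CommRingCat.ofHom v₀.toRingHom)
  let u := t' (IsLocalRing.closedPoint k)
  let e : (Spec (CommRingCat.of R₀)).residueField u ⟶ CommRingCat.of k :=
    Scheme.descResidueField (Scheme.stalkClosedPointTo t')
  have ht : t' ≫ g = Spec.map (CommRingCat.ofHom (algebraMap (S.residueField (j x)) k)) ≫ S.fromSpecResidueField (j x) := by
    have h1 : t' ≫ Spec.map h₀ = Spec.map ψ ≫ (Spec R).fromSpecResidueField x := by
      rw [← Scheme.Spec.map_residueFieldIso_inv_eq_fromSpecResidueField, ← Spec.map_comp_assoc, ← Spec.map_comp, ← Spec.map_comp]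
      congr 1
      ext r
      exact v₀.commutes r
    rw [← hφc, ← Category.assoc, h1]
    simp only [Category.assoc]
    rw [← Scheme.Hom.SpecMap_residueFieldMap_fromSpecResidueField j x, ← Spec.map_comp_assoc]
    simp [φ, ψ, c0]
  have hu : g u = j x := by
    show (t' ≫ g) (IsLocalRing.closedPoint k) = j x
    rw [ht, Scheme.Hom.comp_apply]
    exact Scheme.fromSpecResidueField_apply _ _
  refine ⟨Spec (CommRingCat.of R₀), g, u, hu, ?_, ?_⟩
  · haveI : Etale (Spec.map h₀) := by
      rw [HasRingHomProperty.Spec_iff (P := @Etale)]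
      exact RingHom.etale_algebraMap.mpr inferInstance
    infer_instance
  · letI := ((S.residueFieldCongr hu).inv ≫ g.residueFieldMap u).hom.toAlgebra
    have he : ((S.residueFieldCongr hu).inv ≫ g.residueFieldMap u) ≫ e =
        CommRingCat.ofHom (algebraMap (S.residueField (j x)) k) := by
      have h1 : g.residueFieldMap u ≫ e = Scheme.descResidueField (Scheme.stalkClosedPointTo (t' ≫ g)) :=
        (Scheme.descResidueField_stalkClosedPointTo_comp g t').symm
      have h2 : (Scheme.SpecToEquivOfField k S) (t' ≫ g) = ⟨j x, CommRingCat.ofHom (algebraMap (S.residueField (j x)) k)⟩ := by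
        rw [ht]; exact (Scheme.SpecToEquivOfField k S).apply_symm_apply ⟨j x, _⟩
      obtain ⟨_, h3⟩ := Scheme.SpecToEquivOfField_eq_iff.mp h2
      rw [Category.assoc, h1]
      exact (congrArg ((S.residueFieldCongr hu).inv ≫ ·) h3).trans (Iso.inv_hom_id_assoc _ _)
    let E : (Spec (CommRingCat.of R₀)).residueField u →ₐ[S.residueField (j x)] k :=
      { e.hom with commutes' := fun r => congr($(he) r) }
    have hsurj : Function.Surjective E := by
      have hv : ∀ r : R₀, ∃ z, E z = v₀ r := fun r => by
        have h1 : Spec.map e ≫ (Spec (CommRingCat.of R₀)).fromSpecResidueField u = t' :=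
          Scheme.descResidueField_stalkClosedPointTo_fromSpecResidueField k _ t'
        rw [← Scheme.Spec.map_residueFieldIso_inv_eq_fromSpecResidueField, ← Spec.map_comp_assoc, ← Spec.map_comp, Spec.map_inj] at h1
        exact ⟨(Scheme.Spec.residueFieldIso (CommRingCat.of R₀) u).inv (algebraMap R₀ u.asIdeal.ResidueField r), congr($(h1) r)⟩
      have hα' : α ∈ E.fieldRange := by
        obtain ⟨r, hr⟩ := hcα
        have hmem1 : algebraMap R k c * α ∈ E.fieldRange := by rw [← hr]; exact hv r
        have hmem2 : algebraMap R k c ∈ E.fieldRange := by rw [← v₀.commutes c]; exact hv _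
        have := div_mem hmem1 hmem2
        rwa [mul_div_cancel_left₀ _ hc] at this
      intro z
      have : E.fieldRange = ⊤ := top_le_iff.mp (hα ▸ IntermediateField.adjoin_le_iff.mpr (by simpa using hα'))
      exact (this.ge trivial : z ∈ E.fieldRange)
    exact ⟨(AlgEquiv.ofBijective E ⟨RingHom.injective _, hsurj⟩).symm⟩


open AlgebraicGeometry CategoryTheory Limits in
/-- Let S be a scheme, s a point of S and k a finite separable field extension of the residue field
κ(s). Then there is an étale neighbourhood (U, u) ⟶ (S, s) whose residue field extension κ(u)/κ(s)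
is isomorphic to k/κ(s). -/
theorem result (S : Scheme.{u}) (s : S) (k : Type u) [Field k]
    [Algebra (S.residueField s) k] [FiniteDimensional (S.residueField s) k] [Algebra.IsSeparable (S.residueField s) k] :
    ∃ (U : Scheme.{u}) (g : U ⟶ S) (u : U) (hu : g u = s), Etale g ∧
      letI := ((S.residueFieldCongr hu).inv ≫ g.residueFieldMap u).hom.toAlgebra
      Nonempty (k ≃ₐ[S.residueField s] U.residueField u) := by
  classical
  obtain ⟨W, hW, hsW, -⟩ := exists_isAffineOpen_mem_and_subset (U := (⊤ : S.Opens)) (x := s) trivial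
  obtain ⟨x, rfl⟩ : ∃ x, hW.fromSpec x = s := by
    have : s ∈ Set.range hW.fromSpec := by rw [hW.range_fromSpec]; exact hsW
    exact this
  exact aux hW.fromSpec x k

end Groth.Agent.S9734
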