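import Groth.Statements.S9736
import Groth.Agent.S9148
import Groth.Agent.SyntLib.DescendPullback

set_option autoImplicit false
universe u
open FlatMor

namespace Groth.Agent.S9736

open AlgebraicGeometry CategoryTheory Limits in
/-- Let f : X ⟶ S be a standard syntomic morphism of affine schemes. Then f is the base change of a
morphism of finite type f₀ : X₀ ⟶ S₀ between affine schemes with S₀ of finite type over ℤ and f₀
standard syntomic. -/
theorem result {X S : Scheme.{u}} (f : X ⟶ S) [IsAffine X] [IsAffine S] (hf : Synt.IsStandardSyntomic f) :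
    ∃ (X₀ S₀ : Scheme.{u}) (f₀ : X₀ ⟶ S₀) (g : S ⟶ S₀) (g' : X ⟶ X₀), IsAffine X₀ ∧ IsAffine S₀ ∧ IsPullback g' f f₀ g ∧
      Algebra.FiniteType ℤ Γ(S₀, ⊤) ∧ LocallyOfFiniteType f₀ ∧ Synt.IsStandardSyntomic f₀ := by
  obtain ⟨R, _, n, c, F, hF, e₁, e₂, hcomm⟩ := hf
  obtain ⟨R₀, F₀, hft, hmap, hF₀⟩ := Groth.Agent.S9148.result R n c F hF
  obtain rfl : (fun i => MvPolynomial.map (algebraMap R₀ R) (F₀ i)) = F := funext hmap
  let S₀ := Synt.RelGCIRing R₀ n c F₀
  let S₁ := Synt.RelGCIRing R n c fun i => MvPolynomial.map (algebraMap R₀ R) (F₀ i)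
  have sq := SyntLib.isPullback_relGCI (R := R₀) (R' := R) F₀
  haveI : Algebra.FiniteType R₀ S₀ :=
    Algebra.FiniteType.of_surjective (Ideal.Quotient.mkₐ R₀ (Ideal.span (Set.range F₀))) Ideal.Quotient.mk_surjective
  refine ⟨Spec (CommRingCat.of S₀), Spec (CommRingCat.of R₀), Spec.map (CommRingCat.ofHom (algebraMap R₀ S₀)),
    e₂.hom ≫ Spec.map (CommRingCat.ofHom (algebraMap R₀ R)), e₁.hom ≫ Spec.map (CommRingCat.ofHom (Ideal.quotientMap _ (MvPolynomial.map (algebraMap R₀ R)) (SyntLib.hle_map F₀))),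
    inferInstance, inferInstance, ?_, ?_,
    (HasRingHomProperty.Spec_iff (P := @LocallyOfFiniteType)).mpr (RingHom.finiteType_algebraMap.mpr inferInstance),
    ⟨R₀, inferInstance, n, c, F₀, hF₀, Iso.refl _, Iso.refl _, by simp⟩⟩
  · refine sq.of_iso e₁.symm (Iso.refl _) e₂.symm (Iso.refl _) ?_ ?_ ?_ ?_
    all_goals (try simp)
    · rw [Iso.eq_inv_comp, ← Category.assoc, Iso.comp_inv_eq]
      exact hcomm
  · exact Algebra.FiniteType.equiv hft
      (Scheme.ΓSpecIso (CommRingCat.of R₀)).commRingCatIsoToRingEquiv.symm.toIntAlgEquiv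

end Groth.Agent.S9736
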