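import Groth.Statements.S9737
import Groth.Agent.AbsApprox.OverLim
import Groth.Agent.AbsApprox.Immersion
import Groth.Agent.AbsApprox.Cofinal
import Groth.Agent.LimMore.Hom

set_option autoImplicit false
universe u
open FlatMor
open CategoryTheory.Limits
set_option backward.isDefEq.respectTransparency false

namespace Groth.Agent.S9737

open AlgebraicGeometry CategoryTheory Limits in
/-- Suppose P and Q are classes of morphisms of schemes preserved by arbitrary pullback, and f : X ⟶ S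
is a finitely presented morphism of affine schemes. If f arises by pullback from a finite-type
morphism f₁ : X₁ ⟶ S₁ satisfying P, and also from a finite-type morphism f₂ : X₂ ⟶ S₂ satisfying Q,
where all four schemes are affine and Γ(S₁), Γ(S₂) are finitely generated ℤ-algebras, then f arises
by pullback from a single finite-type morphism f₀ : X₀ ⟶ S₀ of affine schemes, with Γ(S₀) finitely
generated over ℤ, satisfying both P and Q. -/
theorem result (P Q : MorphismProperty Scheme.{u}) [P.IsStableUnderBaseChange] [Q.IsStableUnderBaseChange]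
    {X S : Scheme.{u}} (f : X ⟶ S) [IsAffine X] [IsAffine S] [LocallyOfFinitePresentation f]
    {X₁ S₁ X₂ S₂ : Scheme.{u}} [IsAffine X₁] [IsAffine S₁] [IsAffine X₂] [IsAffine S₂]
    (f₁ : X₁ ⟶ S₁) (g₁ : S ⟶ S₁) (g₁' : X ⟶ X₁) (h₁ : IsPullback g₁' f f₁ g₁)
    (f₂ : X₂ ⟶ S₂) (g₂ : S ⟶ S₂) (g₂' : X ⟶ X₂) (h₂ : IsPullback g₂' f f₂ g₂)
    (hS₁ : Algebra.FiniteType ℤ Γ(S₁, ⊤)) (hS₂ : Algebra.FiniteType ℤ Γ(S₂, ⊤))
    [LocallyOfFiniteType f₁] [LocallyOfFiniteType f₂] (hP : P f₁) (hQ : Q f₂) :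
    ∃ (X₀ S₀ : Scheme.{u}) (f₀ : X₀ ⟶ S₀) (g : S ⟶ S₀) (g' : X ⟶ X₀), IsAffine X₀ ∧ IsAffine S₀ ∧ IsPullback g' f f₀ g ∧
      Algebra.FiniteType ℤ Γ(S₀, ⊤) ∧ LocallyOfFiniteType f₀ ∧ P f₀ ∧ Q f₀ := by
  classical
  let T : Scheme.{u} := Spec (CommRingCat.of (ULift.{u} ℤ))
  have hlft : ∀ (Y : Scheme.{u}) [IsAffine Y], Algebra.FiniteType ℤ Γ(Y, ⊤) →
      LocallyOfFiniteType (Limits.IsTerminal.from specULiftZIsTerminal Y) := by
    intro Y _ hY
    rw [HasRingHomProperty.iff_of_isAffine (P := @LocallyOfFiniteType)]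
    refine RingHom.FiniteType.of_comp_finiteType
      (f := ((Scheme.ΓSpecIso (CommRingCat.of (ULift.{u} ℤ))).inv.hom).comp ULift.ringEquiv.symm.toRingHom) ?_
    rw [RingHom.ext_int (RingHom.comp _ _) (algebraMap ℤ Γ(Y, ⊤))]
    exact RingHom.finiteType_algebraMap.2 hY
  haveI := hlft S₁ hS₁
  haveI := hlft S₂ hS₂
  let S' := pullback (Limits.IsTerminal.from specULiftZIsTerminal S₁) (Limits.IsTerminal.from specULiftZIsTerminal S₂)
  let p₁ : S' ⟶ S₁ := pullback.fst _ _
  let p₂ : S' ⟶ S₂ := pullback.snd _ _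
  let γ : S ⟶ S' := pullback.lift g₁ g₂ (specULiftZIsTerminal.hom_ext _ _)
  haveI : IsAffine S' := inferInstance
  haveI : LocallyOfFiniteType (Limits.IsTerminal.from specULiftZIsTerminal S') := by
    rw [show Limits.IsTerminal.from specULiftZIsTerminal S' = p₁ ≫ Limits.IsTerminal.from specULiftZIsTerminal S₁
      from specULiftZIsTerminal.hom_ext _ _]
    infer_instance
  obtain ⟨J, _, _, _, D, c, hl, e, h1, h2, h3⟩ := Groth.Agent.AbsApprox.exists_limit_over γ
  haveI : IsCofiltered Jᵒᵖ := isCofiltered_op_of_isFiltered _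
  haveI : CategoryTheory.IsConnected Jᵒᵖ := IsCofiltered.isConnected _
  let E := D ⋙ Over.forget S'
  let d := (Over.forget S').mapCone c
  have hd : IsLimit d := isLimitOfPreserves (Over.forget S') hl
  haveI hEaff : ∀ {i j : Jᵒᵖ} (a : i ⟶ j), IsAffineHom (E.map a) := fun a => h2 _ _ a
  haveI : ∀ i, CompactSpace (E.obj i) := fun i => (h1 i).2.2.2.1
  haveI : ∀ i, QuasiSeparatedSpace (E.obj i) := fun i => (h1 i).2.2.2.2
  let φ : d.pt ⟶ S := ((Over.forget S').mapIso e).hom
  haveI : IsIso φ := ((Over.forget S').mapIso e).isIso_hom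
  have hφ : φ ≫ γ = c.pt.hom := Over.w e.hom
  haveI : IsAffine d.pt := IsAffine.of_isIso φ
  obtain ⟨i₀, hi₀⟩ := Scheme.exists_isAffine_of_isLimit E _ hd
  haveI : IsAffine (E.obj i₀) := hi₀
  let t : E.obj i₀ ⟶ S' := (D.obj i₀).hom
  haveI : LocallyOfFinitePresentation t := (h1 i₀).1
  have hlftE : LocallyOfFiniteType (Limits.IsTerminal.from specULiftZIsTerminal (E.obj i₀)) := by
    rw [show Limits.IsTerminal.from specULiftZIsTerminal (E.obj i₀) = t ≫ Limits.IsTerminal.from specULiftZIsTerminal S'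
      from specULiftZIsTerminal.hom_ext _ _]
    infer_instance
  haveI : IsLocallyNoetherian (E.obj i₀) := Groth.Agent.AbsApprox.isLocallyNoetherian_of_lft hlftE
  let X' := pullback f φ
  let a : X' ⟶ d.pt := pullback.snd f φ
  let a₀ : pullback f₁ (t ≫ p₁) ⟶ E.obj i₀ := pullback.snd _ _
  let b₀ : pullback f₂ (t ≫ p₂) ⟶ E.obj i₀ := pullback.snd _ _
  have ht : d.π.app i₀ ≫ t = φ ≫ γ := (Over.w (c.π.app i₀)).trans hφ.symm
  have w₁ : (pullback.fst f φ ≫ g₁') ≫ f₁ = (a ≫ d.π.app i₀) ≫ t ≫ p₁ := by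
    simp only [Category.assoc, h₁.w, reassoc_of% ht, γ, p₁, pullback.lift_fst, a]
    rw [← Category.assoc, pullback.condition, Category.assoc]
  have w₂ : (pullback.fst f φ ≫ g₂') ≫ f₂ = (a ≫ d.π.app i₀) ≫ t ≫ p₂ := by
    simp only [Category.assoc, h₂.w, reassoc_of% ht, γ, p₂, pullback.lift_snd, a]
    rw [← Category.assoc, pullback.condition, Category.assoc]
  have hX : IsPullback (pullback.lift _ _ w₁) a a₀ (d.π.app i₀) := by
    refine IsPullback.of_right ?_ (pullback.lift_snd _ _ _) (IsPullback.of_hasPullback f₁ (t ≫ p₁))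
    rw [pullback.lift_fst, reassoc_of% ht, show φ ≫ γ ≫ p₁ = φ ≫ g₁ by simp [γ, p₁]]
    exact (IsPullback.of_hasPullback f φ).paste_horiz h₁
  have hY : IsPullback (pullback.lift _ _ w₂) a b₀ (d.π.app i₀) := by
    refine IsPullback.of_right ?_ (pullback.lift_snd _ _ _) (IsPullback.of_hasPullback f₂ (t ≫ p₂))
    rw [pullback.lift_fst, reassoc_of% ht, show φ ≫ γ ≫ p₂ = φ ≫ g₂ by simp [γ, p₂]]
    exact (IsPullback.of_hasPullback f φ).paste_horiz h₂
  haveI : LocallyOfFiniteType a₀ := inferInstance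
  haveI : LocallyOfFiniteType b₀ := inferInstance
  haveI : LocallyOfFinitePresentation a₀ := Groth.Agent.AbsApprox.lfp_of_lft_noetherian a₀
  haveI : LocallyOfFinitePresentation b₀ := Groth.Agent.AbsApprox.lfp_of_lft_noetherian b₀
  haveI : IsAffine (pullback f₁ (t ≫ p₁)) := inferInstance
  haveI : IsAffine (pullback f₂ (t ≫ p₂)) := inferInstance
  obtain ⟨j, fj, hfj, hfj'⟩ := Groth.Agent.LimMore.exists_hom E d hd a₀ b₀ hX hY (𝟙 X') (Category.id_comp a)
  haveI : IsAffine (E.obj j.left) := isAffine_of_isAffineHom (E.map j.hom)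
  let g₀ := Groth.Agent.LimDesc.toStage E b₀ j
  haveI : IsAffine (Groth.Agent.LimDesc.stage E b₀ j) := inferInstanceAs (IsAffine (pullback b₀ (E.map j.hom)))
  haveI : IsAffine (Groth.Agent.LimDesc.stage E a₀ j) := inferInstanceAs (IsAffine (pullback a₀ (E.map j.hom)))
  haveI : LocallyOfFinitePresentation (fj ≫ g₀) := by
    rw [hfj]; exact MorphismProperty.of_isPullback (Groth.Agent.LimDesc.isPullback_stage E a₀ j) ‹LocallyOfFinitePresentation a₀›
  haveI : LocallyOfFinitePresentation g₀ :=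
    MorphismProperty.of_isPullback (Groth.Agent.LimDesc.isPullback_stage E b₀ j) ‹LocallyOfFinitePresentation b₀›
  have hYj := Groth.Agent.LimDesc.isPullback_proj E b₀ d hY j
  have hXj : IsPullback (Groth.Agent.LimDesc.proj E a₀ d hX j) (𝟙 X') fj (Groth.Agent.LimDesc.proj E b₀ d hY j) := by
    refine IsPullback.of_bot ?_ hfj' hYj
    rw [Category.id_comp, hfj]
    exact Groth.Agent.LimDesc.isPullback_proj E a₀ d hX j
  obtain ⟨k, hk⟩ := Groth.Agent.LimMore.exists_isIso E d hd hYj hXj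
  haveI : IsAffine (E.obj k.left) := isAffine_of_isAffineHom (E.map k.hom)
  let f₀ := Groth.Agent.LimDesc.toStage E (fj ≫ g₀) k
  have hbase : P (fj ≫ g₀) := by
    rw [hfj]
    exact P.of_isPullback (Groth.Agent.LimDesc.isPullback_stage E a₀ j)
      (P.of_isPullback (IsPullback.of_hasPullback f₁ (t ≫ p₁)) hP)
  have hQk : Q (Groth.Agent.LimDesc.toStage E g₀ k) :=
    Q.of_isPullback (Groth.Agent.LimDesc.isPullback_stage E g₀ k)
      (Q.of_isPullback (Groth.Agent.LimDesc.isPullback_stage E b₀ j)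
        (Q.of_isPullback (IsPullback.of_hasPullback f₂ (t ≫ p₂)) hQ))
  have hbig : IsPullback (Groth.Agent.LimDesc.proj E a₀ d hX j) a (fj ≫ g₀) (d.π.app j.left) := by
    rw [hfj]; exact Groth.Agent.LimDesc.isPullback_proj E a₀ d hX j
  have hsq := Groth.Agent.LimDesc.isPullback_proj E (fj ≫ g₀) d hbig k
  let u : X ⟶ X' := pullback.lift (𝟙 X) (f ≫ inv φ) (by simp)
  haveI : IsIso u := by
    refine ⟨pullback.fst f φ, pullback.lift_fst _ _ _, ?_⟩
    apply pullback.hom_ext
    · simp [u]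
    · simp [u, pullback.condition_assoc]
  have hiso : IsPullback u f a (inv φ) := IsPullback.of_horiz_isIso ⟨by simp [u, a]⟩
  haveI : LocallyOfFiniteType f₀ :=
    MorphismProperty.of_isPullback (Groth.Agent.LimDesc.isPullback_stage E (fj ≫ g₀) k) inferInstance
  refine ⟨_, E.obj k.left, f₀, inv φ ≫ d.π.app k.left, u ≫ Groth.Agent.LimDesc.proj E (fj ≫ g₀) d hbig k,
    inferInstanceAs (IsAffine (pullback (fj ≫ g₀) (E.map k.hom))), inferInstance, hiso.paste_horiz hsq, ?_, inferInstance,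
    P.of_isPullback (Groth.Agent.LimDesc.isPullback_stage E (fj ≫ g₀) k) hbase, ?_⟩
  · refine Groth.Agent.AbsApprox.finiteType_sections ?_ (isAffineOpen_top _)
    rw [show Limits.IsTerminal.from specULiftZIsTerminal (E.obj k.left) = (D.obj k.left).hom ≫
      Limits.IsTerminal.from specULiftZIsTerminal S' from specULiftZIsTerminal.hom_ext _ _]
    haveI : LocallyOfFinitePresentation (D.obj k.left).hom := (h1 _).1
    infer_instance
  · haveI := hk
    have hh : Q (Groth.Agent.LimDesc.stageMap E g₀ fj k ≫ Groth.Agent.LimDesc.toStage E g₀ k) :=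
      (Q.cancel_left_of_respectsIso _ _).2 hQk
    rwa [Groth.Agent.LimDesc.stageMap_toStage] at hh

end Groth.Agent.S9737
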