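import Groth.Statements.S9738
import Mathlib
import Groth.Agent.S0396
import Groth.Agent.InjFibre.Stalk

set_option autoImplicit false
universe u
open FlatMor

namespace Groth.Agent.S9738

set_option linter.style.haveILetI false
open TensorProduct
open AlgebraicGeometry CategoryTheory in
theorem flat_of_flat_comp {W P Q : Scheme.{u}} (g : W ⟶ P) (i : P ⟶ Q) [Mono i] (h : Flat (g ≫ i)) : Flat g :=
  MorphismProperty.of_isPullback (P := @Flat) (IsPullback.of_horiz_isIso_mono (fst := 𝟙 W) (snd := g) (f := g ≫ i) (g := i) ⟨by simp⟩) h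

open AlgebraicGeometry CategoryTheory Limits in
/-- For a morphism f : X ⟶ S between locally Noetherian schemes, an ideal sheaf I on S with closed
subscheme Z, and Z_n the closed subscheme cut out by I^(n+1): if each base change X ×_S Z_n ⟶ Z_n is
flat, then f is flat at each point of X lying over Z. -/
theorem result {X S : Scheme.{u}} (f : X ⟶ S) [IsLocallyNoetherian X] [IsLocallyNoetherian S]
    (I : S.IdealSheafData) (h : ∀ n : ℕ, Flat (pullback.snd f (I ^ (n + 1)).subschemeι)) (x : X) (hx : f x ∈ I.support) :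
    (f.stalkMap x).hom.Flat := by
  obtain ⟨V, hV, hyV, -⟩ := exists_isAffineOpen_mem_and_subset (X := S) (x := f x) (U := ⊤) trivial
  obtain ⟨U, hU, hxU, e⟩ := exists_isAffineOpen_mem_and_subset (X := X) (x := x) (U := f ⁻¹ᵁ V) hyV
  let A := Γ(S, V)
  let B := Γ(X, U)
  letI : Algebra A B := (f.appLE V U e).hom.toAlgebra
  haveI : IsNoetherianRing A := IsLocallyNoetherian.component_noetherian ⟨V, hV⟩
  haveI : IsNoetherianRing B := IsLocallyNoetherian.component_noetherian ⟨U, hU⟩
  let a : Ideal A := I.ideal ⟨V, hV⟩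
  let q := (hU.primeIdealOf ⟨x, hxU⟩).asIdeal
  have hpI : a.map (algebraMap A B) ≤ q := by
    rw [Ideal.map_le_iff_le_comap,
      show q.comap (algebraMap A B) = (hV.primeIdealOf ⟨f x, e hxU⟩).asIdeal from
        congrArg PrimeSpectrum.asIdeal (IsAffineOpen.comap_primeIdealOf_appLE V hV U hU e hxU)]
    have h1 : f x ∈ S.zeroLocus (I.ideal ⟨V, hV⟩ : Set Γ(S, V)) :=
      ((Scheme.IdealSheafData.coe_support_inter I ⟨V, hV⟩).le ⟨hx, e hxU⟩).1
    intro s hs
    by_contra hns
    exact (Scheme.mem_zeroLocus_iff _ _ _).1 h1 s hs ((WeakAssLib.mem_primeIdealOf hV (e hxU) s).2 hns)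
  have hfl : ∀ n : ℕ, 0 < n → Module.Flat (A ⧸ a ^ n) ((A ⧸ a ^ n) ⊗[A] B) := by
    intro n hn
    obtain ⟨m, rfl⟩ : ∃ m, n = m + 1 := ⟨n - 1, by omega⟩
    let J := I ^ (m + 1)
    let A' : CommRingCat := CommRingCat.of (A ⧸ J.ideal ⟨V, hV⟩)
    change Module.Flat (A ⧸ J.ideal ⟨V, hV⟩) ((A ⧸ J.ideal ⟨V, hV⟩) ⊗[A] B)
    haveI := h m
    let sA' := Spec.map (CommRingCat.ofHom (algebraMap A (A ⧸ J.ideal ⟨V, hV⟩)))
    let sB := Spec.map (CommRingCat.ofHom (algebraMap A B))
    let c := J.subschemeCover.f ⟨V, hV⟩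
    have hc : sA' ≫ hV.fromSpec = c ≫ J.subschemeι := by
      rw [Scheme.IdealSheafData.subschemeCover_map_subschemeι, Scheme.IdealSheafData.glueDataObjι_ι]
    have hB : sB ≫ hV.fromSpec = hU.fromSpec ≫ f := IsAffineOpen.SpecMap_appLE_fromSpec f hV hU e
    let j := (pullbackSpecIso A (A ⧸ J.ideal ⟨V, hV⟩) B).inv ≫ (pullbackSymmetry sA' sB).hom ≫
      pullback.map sB sA' f J.subschemeι hU.fromSpec c hV.fromSpec hB hc
    have hj : j ≫ pullback.snd f J.subschemeι =
        Spec.map (CommRingCat.ofHom (algebraMap (A ⧸ J.ideal ⟨V, hV⟩) ((A ⧸ J.ideal ⟨V, hV⟩) ⊗[A] B))) ≫ c := by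
      simp only [j, Category.assoc, pullback.lift_snd, pullbackSymmetry_hom_comp_snd_assoc]
      rw [← Category.assoc, pullbackSpecIso_inv_fst']
    haveI : IsOpenImmersion hU.fromSpec := hU.isOpenImmersion_fromSpec
    haveI : IsOpenImmersion hV.fromSpec := hV.isOpenImmersion_fromSpec
    haveI : IsOpenImmersion (pullback.map sB sA' f J.subschemeι hU.fromSpec c hV.fromSpec hB hc) :=
      @Scheme.pullback_map_isOpenImmersion _ _ _ _ _ _ sB sA' f J.subschemeι hU.fromSpec c hV.fromSpec hB hc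
        hU.isOpenImmersion_fromSpec (J.subschemeCover.map_prop _) inferInstance
    haveI : IsOpenImmersion j := by dsimp only [j]; infer_instance
    haveI : Flat (j ≫ pullback.snd f J.subschemeι) := inferInstance
    rw [hj] at this
    have hflat := flat_of_flat_comp _ c this
    exact RingHom.flat_algebraMap_iff.1 (Flat.SpecMap_iff.1 hflat)
  haveI := S0396.result (R := A) (S := B) (M := B) a hfl q hpI
  letI := TopCat.Presheaf.algebra_section_stalk S.presheaf (⟨f x, e hxU⟩ : V)
  letI := TopCat.Presheaf.algebra_section_stalk X.presheaf (⟨x, hxU⟩ : U)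
  haveI : IsLocalization.AtPrime ↑(X.presheaf.stalk x) q := hU.isLocalization_stalk ⟨x, hxU⟩
  haveI : IsLocalization.AtPrime ↑(S.presheaf.stalk (f x)) (hV.primeIdealOf ⟨f x, e hxU⟩).asIdeal :=
    hV.isLocalization_stalk ⟨f x, e hxU⟩
  letI : Algebra ↑(S.presheaf.stalk (f x)) ↑(X.presheaf.stalk x) := (f.stalkMap x).hom.toAlgebra
  letI : Algebra A ↑(X.presheaf.stalk x) := ((algebraMap B ↑(X.presheaf.stalk x)).comp (algebraMap A B)).toAlgebra
  haveI : IsScalarTower A B ↑(X.presheaf.stalk x) := IsScalarTower.of_algebraMap_eq fun _ => rfl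
  haveI : IsScalarTower A ↑(S.presheaf.stalk (f x)) ↑(X.presheaf.stalk x) :=
    IsScalarTower.of_algebraMap_eq fun s => (FibCrit.germ_comm f V U e x hxU s).symm
  let g := Algebra.linearMap B ↑(X.presheaf.stalk x)
  haveI : IsLocalizedModule q.primeCompl g := inferInstance
  haveI : Module.Flat A ↑(X.presheaf.stalk x) :=
    Module.Flat.of_linearEquiv ((IsLocalizedModule.iso q.primeCompl g).symm.restrictScalars A)
  exact (Module.flat_iff_of_isLocalization ↑(S.presheaf.stalk (f x))
    (hV.primeIdealOf ⟨f x, e hxU⟩).asIdeal.primeCompl _).2 inferInstance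

end Groth.Agent.S9738
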