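import Groth.Statements.S9739
import Groth.Agent.EquidimPt.FlatChart
import Groth.Agent.EquidimPt.Component

set_option autoImplicit false
universe u
open FlatMor

namespace Groth.Agent.S9739
open Groth.Agent.Unibranch Groth.Agent.EquidimPt TopologicalSpace CategoryTheory.Limits

open AlgebraicGeometry CategoryTheory Limits in
/-- Let f : X ⟶ S be flat and locally of finite presentation, and let x' ⤳ x be points of X. Assume the
closure of x in its fibre is one of that fibre's irreducible components. Then the fibre through x'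
has the same local dimension at x' as the fibre through x has at x. -/
theorem result {X S : Scheme.{u}} (f : X ⟶ S) [Flat f] [LocallyOfFinitePresentation f]
    (x x' : X) (hsp : x' ⤳ x) (hgen : ∃ Z ∈ irreducibleComponents ↥(f.fiber (f x)), IsGenericPoint (f.asFiber x) Z) :
    FlatMor.fibreDimAt f x' = FlatMor.fibreDimAt f x := by
  obtain ⟨d, hd⟩ := exists_fibreDimAt_eq f x
  obtain ⟨U₀, hxU₀, hU₀⟩ := (fibreDimAt_le_iff f x).mp hd.le
  obtain ⟨U₁, hxU₁, -, hU₁⟩ := exists_opens_chainsLE f hxU₀ hU₀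
  obtain ⟨Z, hZ, hxZ⟩ := hgen
  have hmax : IsFibMax f x := fun w hw hwx => by
    have hwr : w ∈ Set.range (f.fiberι (f x)) := by rw [Scheme.Hom.range_fiberι]; exact hw
    obtain ⟨w', rfl⟩ := hwr
    have hsp : w' ⤳ f.asFiber x := (f.fiberι (f x)).isEmbedding.isInducing.specializes_iff.mp
      (by rw [f.fiberι_asFiber x]; exact hwx)
    have h2 : Z ⊆ closure {w'} := by
      rw [← hxZ.def]
      exact closure_minimal (Set.singleton_subset_iff.mpr hsp.mem_closure) isClosed_closure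
    have h3 := hZ.2 isIrreducible_singleton.closure h2
    have h4 : f.asFiber x ⤳ w' := hxZ.specializes (h3 (subset_closure rfl))
    exact (congrArg (f.fiberι (f x)) (hsp.antisymm h4).eq).trans (f.fiberι_asFiber x)
  refine le_antisymm (((fibreDimAt_le_iff f x').mpr ⟨U₁, hsp.mem_open U₁.2 hxU₁, hU₁ _⟩).trans hd.ge) ?_
  rw [hd]
  obtain ⟨U, g, hxU, hg, hflat, hlfp⟩ := exists_flat_chart f hmax hd
  refine (natCast_le_fibreDimAt_iff f x').mpr fun O hO => ?_
  have hx'U : x' ∈ U := hsp.mem_open U.2 hxU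
  let π := AffineSpace (ULift.{u} (Fin d)) S ↘ S
  have hπg : ∀ z : (U : Scheme.{u}), π (g z) = f (U.ι z) := fun z => by
    rw [← Scheme.Hom.comp_apply, hg]; rfl
  let P : (AffineSpace (ULift.{u} (Fin d)) S).Opens :=
    ⟨g '' (U.ι ⁻¹ᵁ O : (U : Scheme.{u}).Opens), g.isOpenMap _ (U.ι ⁻¹ᵁ O).2⟩
  have ha : g ⟨x', hx'U⟩ ∈ P := ⟨⟨x', hx'U⟩, hO, rfl⟩
  obtain ⟨c, hc, hc'⟩ := (natCast_le_fibreDimAt_iff π _).mp (le_fibreDimAt_affineSpace d _) P ha
  have key : ∀ i, ∃ z : (U : Scheme.{u}), U.ι z ∈ O ∧ g z = c i := fun i => (hc i).1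
  obtain ⟨b, hb⟩ : ∃ b : Fin (d + 1) → (U : Scheme.{u}), (∀ i, U.ι (b i) ∈ O ∧ g (b i) = c i) ∧
      ∀ i : Fin d, b i.castSucc ⤳ b i.succ := by
    exact exists_lift g c hc' key
  refine ⟨fun i => U.ι (b i), fun i => ⟨(hb.1 i).1, ?_⟩, fun i => ⟨(hb.2 i).map U.ι.continuous, fun h => ?_⟩⟩
  · show f (U.ι (b i)) = _
    rw [← hπg, (hb.1 i).2, (hc i).2, hπg]
    rfl
  · exact (hc' i).2 (by rw [← (hb.1 _).2, ← (hb.1 _).2, U.ι.isEmbedding.injective h])

end Groth.Agent.S9739
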