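import Groth.Statements.S9741
import Groth.Agent.OmegaThick.Affine

set_option autoImplicit false
set_option linter.style.haveILetI false
set_option backward.isDefEq.respectTransparency false
open Groth.Agent
universe u
open OmegaSh

namespace Groth.Agent.S9741

open AlgebraicGeometry CategoryTheory Limits in
/-- Let a : Z ⟶ Y and b : Y ⟶ X be formally unramified, let (i : Z ⟶ Z', c : Z' ⟶ X) be universal among
first order thickenings of Z relative to X (for a ≫ b), and (j : Y ⟶ Y', d : Y' ⟶ X) likewise for Y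
relative to X (for b). Then there is a morphism of thickenings m : Z' ⟶ Y' over X (i ≫ m = a ≫ j and
m ≫ d = c) such that Z ⟶ Y ×_{Y'} Z' (components a and i), together with the projection to Y, is
universal among first order thickenings of Z relative to Y (for a). The published statement also
asserts an exact sequence of conormal sheaves; this row states only the thickening assertion. -/
theorem result {Z Y X Z' Y' : Scheme.{u}} (a : Z ⟶ Y) (b : Y ⟶ X)
    [FormallyUnramified a] [FormallyUnramified b] (i : Z ⟶ Z') (c : Z' ⟶ X) (hZ : OmegaSh.IsUnivThickening (a ≫ b) i c)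
    (j : Y ⟶ Y') (d : Y' ⟶ X) (hY : OmegaSh.IsUnivThickening b j d) :
    ∃ (m : Z' ⟶ Y') (hm : i ≫ m = a ≫ j), m ≫ d = c ∧
      OmegaSh.IsUnivThickening a (pullback.lift a i hm.symm) (pullback.fst j m) := by
  obtain ⟨m, ⟨hm1, hm2⟩, hmu⟩ := hY.2.2 Z Z' i c a hZ.1 hZ.2.1
  refine ⟨m, hm1, hm2, ?_⟩
  have := OmegaThick.Fot.isClosedImmersion hY.1
  have : IsClosedImmersion (pullback.snd j m) := MorphismProperty.pullback_snd _ _ inferInstance
  refine ⟨OmegaThick.fot_of_comp_closed (s := pullback.snd j m) (by rw [pullback.lift_snd]; exact hZ.1),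
    pullback.lift_fst _ _ _, fun T T' t e g ht hte => ?_⟩
  obtain ⟨w, ⟨hw1, hw2⟩, hun⟩ := hZ.2.2 T T' t (e ≫ b) g ht (by rw [reassoc_of% hte])
  have hwm : e ≫ j = w ≫ m := (hY.2.2 T T' t (e ≫ b) (g ≫ a) ht (by rw [reassoc_of% hte, Category.assoc])).unique
    ⟨by rw [reassoc_of% hte, Category.assoc], by rw [Category.assoc, hY.2.1]⟩
    ⟨by rw [reassoc_of% hw1, hm1, Category.assoc], by rw [Category.assoc, hm2, hw2]⟩
  refine ⟨pullback.lift e w hwm, ⟨?_, pullback.lift_fst _ _ _⟩, fun a' ha' => ?_⟩
  · refine pullback.hom_ext ?_ ?_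
    · simp [hte]
    · simp [hw1]
  · refine pullback.hom_ext (by simpa using ha'.2) ?_
    rw [pullback.lift_snd]
    refine hun _ ⟨?_, ?_⟩
    · rw [reassoc_of% ha'.1, pullback.lift_snd]
    · rw [Category.assoc, ← hm2, ← pullback.condition_assoc, hY.2.1, reassoc_of% ha'.2]

end Groth.Agent.S9741
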