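import Groth.Statements.S9743
import Groth.Agent.RelPCS.RelFPMor
import Groth.Agent.QC.Localisation

set_option autoImplicit false
universe u
open Flatn

namespace Groth.Agent.S9743

open AlgebraicGeometry CategoryTheory Limits in
/-- Suppose π : X ⟶ Y is finite, g : Y ⟶ S is locally of finite type, and F is a quasi-coherent
O_X-module. Then F is relatively finitely presented over S via π ≫ g exactly when the direct image
π_*F is relatively finitely presented over S via g. -/
theorem result {X Y S : Scheme.{u}} (π : X ⟶ Y) (g : Y ⟶ S) [IsFinite π] [LocallyOfFiniteType g]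
    (F : X.Modules) [Coh.IsQCoh F] : Flatn.IsRelFP (π ≫ g) F ↔ Flatn.IsRelFP g ((Coh.push π).obj F) := by
  haveI : Coh.IsQCoh ((Coh.push π).obj F) := Groth.Agent.QC.isQCoh_pushforward (hM := ‹Coh.IsQCoh F›) π
  exact Groth.Agent.RelPCS.isRelFP_push_finite π g F

end Groth.Agent.S9743
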