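import Groth.Statements.S9750
import Groth.Agent.S1516
import Groth.Agent.OmegaThick.Affine
import Groth.Agent.Conormal.Basic
-- import your own Groth.Agent.* helpers here

set_option autoImplicit false
set_option linter.style.haveILetI false
set_option backward.isDefEq.respectTransparency false
universe u
open FlatMor

namespace Groth.Agent.S9750

open AlgebraicGeometry CategoryTheory Limits in
/-- An isomorphism is a first order thickening. -/
theorem fot_of_isIso {X X' : Scheme.{u}} (i : X ⟶ X') [IsIso i] : MoreMor.IsFirstOrderThickening i :=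
  Groth.Agent.OmegaThick.fot_of_ker_sq i fun x => by
    obtain ⟨U, hU, hxU, -⟩ := exists_isAffineOpen_mem_and_subset (X := X') (x := x) (U := ⊤) trivial
    refine ⟨⟨U, hU⟩, hxU, ?_⟩
    have : RingHom.ker (i.app U).hom = ⊥ :=
      (RingHom.injective_iff_ker_eq_bot _).1 (ConcreteCategory.bijective_of_isIso (i.app U)).1
    rw [this, pow_two, Ideal.bot_mul]

open AlgebraicGeometry CategoryTheory Limits in
/-- The conormal sheaf of an isomorphism vanishes. -/
theorem isZero_conormal {X X' : Scheme.{u}} (i : X ⟶ X') [IsIso i] : IsZero (Omega.conormal i) := by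
  rw [IsZero.iff_id_eq_zero]
  refine Groth.Agent.Conormal.hom_ext i _ _ fun U s => ?_
  have h0 : OmegaSh.idealSect i.ker U s = 0 :=
    (ConcreteCategory.bijective_of_isIso (i.app U)).1
      ((Groth.Agent.Conormal.app_idealSect i U s).trans (map_zero _).symm)
  have hs : s = 0 := Groth.Agent.Conormal.idealSect_injective _ _ (h0.trans (map_zero _).symm)
  rw [hs]
  simp

open AlgebraicGeometry CategoryTheory Limits in
/-- A first order thickening with zero conormal sheaf is an isomorphism. -/
theorem isIso_of_isZero {X X' : Scheme.{u}} (i : X ⟶ X') (hi : MoreMor.IsFirstOrderThickening i)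
    (h : IsZero (Omega.conormal i)) : IsIso i := by
  haveI := Groth.Agent.OmegaThick.Fot.isClosedImmersion hi
  rw [IsClosedImmersion.isIso_iff_ker_eq_bot]
  refine Scheme.IdealSheafData.ext (funext fun U => ?_)
  rw [Scheme.Hom.ker_apply, Scheme.IdealSheafData.ideal_bot, Pi.bot_apply, eq_bot_iff]
  intro t ht
  obtain ⟨s, hs⟩ := Groth.Agent.Conormal.exists_idealSect i U.1 t ht
  have hch : Groth.Agent.Conormal.IsChart i U.1 := ⟨U.2, inferInstance⟩
  have h0 : OmegaSh.conormalSect i U.1 s = 0 := by
    have := congr(($(h.eq_of_src (𝟙 _) 0)).app (i ⁻¹ᵁ U.1) (OmegaSh.conormalSect i U.1 s))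
    simpa using this
  have := (Groth.Agent.Conormal.conormalSect_eq_zero_iff i hch s).1 h0
  rwa [hs, Groth.Agent.OmegaThick.Fot.ker_sq hi U] at this

open AlgebraicGeometry CategoryTheory Limits in
/-- (1) ⇔ (2) ⇔ (3): a morphism f : X ⟶ S is formally étale (unique infinitesimal lifting against
square-zero thickenings of affine schemes) if and only if f is formally unramified and X, through
the identity and f, is its own universal square-zero (first order) thickening relative to f; and,
for f formally unramified with universal first order thickening data (i : X ⟶ X', h' : X' ⟶ S), f is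
formally étale if and only if the conormal sheaf of i (the conormal sheaf of f) is zero. The
published statement also lists a fourth equivalent condition, the vanishing of both the sheaf of
differentials and the conormal sheaf; this row omits it. -/
theorem result {X S : Scheme.{u}} (f : X ⟶ S) :
    (MoreMor.IsFormallyEtaleHom f ↔ FormallyUnramified f ∧ OmegaSh.IsUnivThickening f (𝟙 X) f) ∧
    (∀ {X' : Scheme.{u}} (i : X ⟶ X') (h' : X' ⟶ S) [QuasiCompact i], FormallyUnramified f →
      OmegaSh.IsUnivThickening f i h' → (MoreMor.IsFormallyEtaleHom f ↔ IsZero (Omega.conormal i))) := by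
  have h1 : MoreMor.IsFormallyEtaleHom f → OmegaSh.IsUnivThickening f (𝟙 X) f := fun hf =>
    ⟨fot_of_isIso _, Category.id_comp _, fun T T' j b a hj hab => by
      obtain ⟨l, hl, hu⟩ := Groth.Agent.S1516.result f hf j hj a b hab
      exact ⟨l, ⟨by rw [hl.1, Category.comp_id], hl.2⟩, fun l' hl' => hu l' ⟨by rw [hl'.1, Category.comp_id], hl'.2⟩⟩⟩
  have h2 : OmegaSh.IsUnivThickening f (𝟙 X) f → MoreMor.IsFormallyEtaleHom f := fun hu A _ I hI a b hab => by
    obtain ⟨l, hl, hl'⟩ := hu.2.2 _ _ _ b a (Groth.Agent.OmegaThick.fot_sq I hI) hab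
    exact ⟨l, ⟨by rw [hl.1, Category.comp_id], hl.2⟩, fun m hm => hl' m ⟨by rw [hm.1, Category.comp_id], hm.2⟩⟩
  refine ⟨⟨fun hf => ⟨Groth.Agent.InfLift.formallyUnramified_of_isFormallyEtaleHom f hf, h1 hf⟩,
    fun h => h2 h.2⟩, fun {X'} i h' _ _ hu => ⟨fun hf => ?_, fun hz => h2 ?_⟩⟩
  · obtain ⟨e, he, -⟩ := Groth.Agent.OmegaThick.exists_iso (h1 hf) hu
    rw [Category.id_comp] at he
    haveI : IsIso i := he ▸ inferInstance
    exact isZero_conormal i
  · haveI := isIso_of_isZero i hu.1 hz
    refine Groth.Agent.OmegaThick.univ_of_iso hu (asIso i) (Category.id_comp _) ?_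
    exact hu.2.1

end Groth.Agent.S9750
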