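import Groth.Statements.S9753
import Groth.Agent.BranchSup.Main
-- import your own Groth.Agent.* helpers here

set_option autoImplicit false
universe u
open Brnch

namespace Groth.Agent.S9753

open AlgebraicGeometry CategoryTheory Limits in
/-- Let X be a scheme and x ∈ X. Over all étale neighbourhoods (U, u) of (X, x) (g : U ⟶ X étale with g
u = x), take the count (in ℕ∞) of irreducible components of U containing u; the supremum of these
counts is the geometric branch number of X at x. -/
theorem result (X : Scheme.{u}) (x : X) :
    Brnch.numGeomBranchesAt X x = ⨆ (U : Scheme.{u}) (g : U ⟶ X) (u : U) (_ : Etale g ∧ g u = x),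
      {Z : Set ↑U | Z ∈ irreducibleComponents ↑U ∧ u ∈ Z}.encard := by
  rw [BranchSup.numGeomBranches_bot, BranchSup.geom_eq_iSup (fun y : X => (⊥ : Ideal (X.presheaf.stalk y))) x]
  simp only [Ideal.map_bot]
  exact iSup_congr fun U => iSup_congr fun g => iSup_congr fun u => iSup_congr fun _ =>
    (BranchSup.components_encard u).symm

end Groth.Agent.S9753
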