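import Groth.Statements.S9754
import Groth.Agent.BranchSup.Main
-- import your own Groth.Agent.* helpers here

set_option autoImplicit false
universe u
open Brnch

namespace Groth.Agent.S9754

open AlgebraicGeometry CategoryTheory Limits in
/-- For a morphism f : X ⟶ S and a point x of X over s = f x, the geometric branch count of the fibre
X_s at x equals the supremum, over étale neighbourhoods (U, u) of (X, x), of how many irreducible
components of U_s (the fibre of U ⟶ X ⟶ S over s) contain the point of U_s lying over u. -/
theorem result {X S : Scheme.{u}} (f : X ⟶ S) (x : X) :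
    Brnch.numGeomBranchesAt (f.fiber (f x)) (f.asFiber x) = ⨆ (U : Scheme.{u}) (g : U ⟶ X) (u : U) (_ : Etale g ∧ g u = x),
      {Z : Set ↑((g ≫ f).fiber (f x)) | Z ∈ irreducibleComponents ↑((g ≫ f).fiber (f x)) ∧
        ∃ u' ∈ Z, (g ≫ f).fiberι (f x) u' = u}.encard := by
  rw [BranchSup.fibre_numGeomBranches f (f x) (f.asFiber x) x (f.fiberι_asFiber x), BranchSup.geom_eq_iSup]
  refine iSup_congr fun U => iSup_congr fun g => iSup_congr fun u => iSup_congr fun h => ?_
  have hu : g u = x := h.2
  rw [← BranchSup.fibreIdeal_comp g f u]
  exact (BranchSup.fibre_components_encard (g ≫ f) (f x) u (by rw [Scheme.Hom.comp_apply, hu])).symm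

end Groth.Agent.S9754
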