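import Groth.Statements.S9756
import Mathlib
import Groth.Agent.FibCrit.Scheme
import Groth.Agent.S1348

set_option autoImplicit false
universe u
open FlatMor

namespace Groth.Agent.S9756

open AlgebraicGeometry CategoryTheory Limits in
/-- Let f : X ⟶ S be locally of finite presentation and flat at a point x, and assume the local ring of
the fibre X_{f x} at x has depth at least 1. Then there are an affine open U ∋ x and a
nonzerodivisor h' of Γ(X, U) vanishing at x such that the closed subscheme V(h') of U, an effective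
Cartier divisor through x, is flat and locally of finite presentation over S. The published
statement concludes that V(h') ⟶ S is of finite presentation; this row concludes only that it is
flat and locally of finite presentation, which is what the published argument (slicing by a lift of
a fibrewise nonzerodivisor) yields, and which is equivalent when S is quasi-separated, V(h') being
affine. -/
theorem result {X S : Scheme.{u}} (f : X ⟶ S) [LocallyOfFinitePresentation f] (x : X)
    (hflat : (f.stalkMap x).hom.Flat)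
    (hdepth : 1 ≤ LocCoh.depth ↑((f.fiber (f x)).presheaf.stalk (f.asFiber x)) ↑((f.fiber (f x)).presheaf.stalk (f.asFiber x))) :
    ∃ (U : X.Opens) (hU : IsAffineOpen U) (hx : x ∈ U) (h' : Γ(X, U)), h' ∈ nonZeroDivisors Γ(X, U) ∧
      X.presheaf.germ U x hx h' ∈ IsLocalRing.maximalIdeal ↑(X.presheaf.stalk x) ∧
      Flat (Spec.map (CommRingCat.ofHom (Ideal.Quotient.mk (Ideal.span {h'}))) ≫ hU.fromSpec ≫ f) ∧
      LocallyOfFinitePresentation (Spec.map (CommRingCat.ofHom (Ideal.Quotient.mk (Ideal.span {h'}))) ≫ hU.fromSpec ≫ f) := by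
  let B := ↑(X.presheaf.stalk x)
  let F := ↑((f.fiber (f x)).presheaf.stalk (f.asFiber x))
  let J : Ideal B := Ideal.map (f.stalkMap x).hom (IsLocalRing.maximalIdeal (S.presheaf.stalk (f x)))
  obtain ⟨-, hk, hsurj⟩ := FibCrit.ker_stalkCongr_comp f (f x) (f.asFiber x) x (f.fiberι_asFiber x)
  let σ := (X.presheaf.stalkCongr (.of_eq (f.fiberι_asFiber x))).inv ≫ (f.fiberι (f x)).stalkMap (f.asFiber x)
  have hne : IsLocalRing.maximalIdeal F • (⊤ : Submodule F F) ≠ ⊤ := by
    rw [smul_eq_mul, Ideal.mul_top]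
    exact Ideal.IsMaximal.ne_top inferInstance
  change 1 ≤ LocCoh.idealDepth (IsLocalRing.maximalIdeal F) F at hdepth
  rw [LocCoh.idealDepth, if_neg hne] at hdepth
  obtain ⟨r, hr, hrm⟩ : ∃ r : F, IsSMulRegular F r ∧ r ∈ IsLocalRing.maximalIdeal F := by
    by_contra hno
    refine absurd hdepth (not_le.2 (lt_of_le_of_lt (iSup_le fun rs => iSup_le fun ⟨h1, h2⟩ => ?_) zero_lt_one))
    rcases rs with _ | ⟨r, rs⟩
    · simp
    · exact absurd ⟨r, ((RingTheory.Sequence.isWeaklyRegular_cons_iff _ r rs).1 h1).1, h2 r (List.mem_cons_self ..)⟩ hno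
  obtain ⟨h, rfl⟩ := hsurj r
  have hmem : h ∈ IsLocalRing.maximalIdeal B := fun hu => hrm (hu.map σ.hom)
  have hreg : Ideal.Quotient.mk J h ∈ nonZeroDivisors (B ⧸ J) := by
    have h0 : ∀ y : B ⧸ J, Ideal.Quotient.mk J h * y = 0 → y = 0 := by
      intro y hy
      obtain ⟨y, rfl⟩ := Ideal.Quotient.mk_surjective y
      rw [← map_mul, Ideal.Quotient.eq_zero_iff_mem] at hy
      rw [Ideal.Quotient.eq_zero_iff_mem]
      have hJ : RingHom.ker σ.hom = J := hk
      rw [← hJ, RingHom.mem_ker] at hy ⊢
      rw [map_mul] at hy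
      exact hr.right_eq_zero_of_smul hy
    exact mem_nonZeroDivisors_iff.2 ⟨h0, fun y hy => h0 y (by rwa [mul_comm] at hy)⟩
  obtain ⟨U, hU, hx, h', hgerm, hnzd, hfl, hlfp⟩ := S1348.result f x hflat h hmem hreg
  exact ⟨U, hU, hx, h', hnzd, hgerm ▸ hmem, hfl, hlfp⟩

end Groth.Agent.S9756
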