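import Groth.Statements.S9757
import Groth.Agent.CMChart.Locus

set_option autoImplicit false
universe u
open FlatMor

namespace Groth.Agent.S9757

open AlgebraicGeometry CategoryTheory Limits in
/-- Suppose the morphism f : X ⟶ S is flat and locally of finite presentation. Then X contains open
subsets U_d, indexed by d ∈ ℕ, such that for every s ∈ S the union of all U_d intersects the fibre
X_s in a dense subset of X_s, and each U_d ⟶ S is of relative dimension d. Because U_d is open in X,
this is the same as requiring that at every point x of U_d the fibre of f containing x has local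
dimension d at x; that pointwise form is the one this row uses. -/
theorem result {X S : Scheme.{u}} (f : X ⟶ S) [Flat f] [LocallyOfFinitePresentation f] :
    ∃ U : ℕ → X.Opens, (∀ s : S, Dense ((f.fiberι s) ⁻¹' ((⨆ d, U d : X.Opens) : Set ↑X))) ∧
      ∀ (d : ℕ) (x : ↑X), x ∈ U d → FlatMor.fibreDimAt f x = d := by
  let U : ℕ → X.Opens := fun d => ⟨interior {x : X | FlatMor.fibreDimAt f x = d}, isOpen_interior⟩
  refine ⟨U, fun s => ?_, fun d x hx => interior_subset (s := {x : X | FlatMor.fibreDimAt f x = d}) hx⟩
  refine (Groth.Agent.CMChart.dense_isCMAt_fibre f s).mono (Set.preimage_mono fun x hx => ?_)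
  obtain ⟨d, V, g, hxV, -, -, -, h⟩ := Groth.Agent.CMChart.exists_cm_nhd f hx
  exact TopologicalSpace.Opens.mem_iSup.2 ⟨d, mem_interior.2 ⟨V, fun z hz => (h z hz).2, V.2, hxV⟩⟩

end Groth.Agent.S9757
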