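import Groth.Statements.S9758
import Groth.Agent.SyntLib.Koszul

set_option autoImplicit false
universe u
open FlatMor

namespace Groth.Agent.S9758

open AlgebraicGeometry CategoryTheory Limits in
/-- A morphism of schemes f : X ⟶ S is flat and a local complete intersection morphism (Koszul at every
point) if and only if it is syntomic. -/
theorem result {X S : Scheme.{u}} (f : X ⟶ S) :
    (Flat f ∧ ∀ x : X, Synt.IsKoszulAt f x) ↔ Synt.IsSyntomicMor f := by
  rw [SyntLib.isSyntomicMor_iff]
  constructor
  · rintro ⟨hflat, hk⟩
    haveI := hflat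
    exact SyntLib.synMor_of_flat_of_koszul f hk
  · intro h
    exact ⟨SyntLib.flat_of_synMor f h, SyntLib.isKoszulAt_of_synMor f h⟩

end Groth.Agent.S9758
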