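import Groth.Statements.S9759
import Groth.Agent.FlatSpread.Model

set_option autoImplicit false
universe u
open FlatMor

namespace Groth.Agent.S9759

open AlgebraicGeometry CategoryTheory Limits in
/-- Let f : X ⟶ S be a flat morphism of finite presentation between affine schemes. Then f is the base
change of a morphism of finite type f₀ : X₀ ⟶ S₀ between affine schemes with S₀ of finite type over
ℤ and f₀ flat. -/
theorem result {X S : Scheme.{u}} (f : X ⟶ S) [IsAffine X] [IsAffine S] [LocallyOfFinitePresentation f] [Flat f] :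
    ∃ (X₀ S₀ : Scheme.{u}) (f₀ : X₀ ⟶ S₀) (g : S ⟶ S₀) (g' : X ⟶ X₀), IsAffine X₀ ∧ IsAffine S₀ ∧ IsPullback g' f f₀ g ∧
      Algebra.FiniteType ℤ Γ(S₀, ⊤) ∧ LocallyOfFiniteType f₀ ∧ Flat f₀ := by
  let φ := f.appTop
  algebraize [φ.hom]
  have hfp : φ.hom.FinitePresentation := (HasRingHomProperty.iff_of_isAffine (P := @LocallyOfFinitePresentation)).1 ‹_›
  have hfl : φ.hom.Flat := (HasRingHomProperty.iff_of_isAffine (P := @Flat)).1 ‹_›
  haveI : Algebra.FinitePresentation Γ(S, ⊤) Γ(X, ⊤) := hfp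
  haveI : Module.Flat Γ(S, ⊤) Γ(X, ⊤) := hfl
  obtain ⟨R₀, _, _, S₀, _, _, _, _, _, _, hft, hft', hflat, hpush⟩ :=
    Groth.Agent.FlatSpread.exists_model_algebra Γ(S, ⊤) Γ(X, ⊤)
  have hpo : CategoryTheory.IsPushout (CommRingCat.ofHom (algebraMap R₀ Γ(S, ⊤))) (CommRingCat.ofHom (algebraMap R₀ S₀))
      (CommRingCat.ofHom (algebraMap Γ(S, ⊤) Γ(X, ⊤))) (CommRingCat.ofHom (algebraMap S₀ Γ(X, ⊤))) :=
    haveI := hpush; CommRingCat.isPushout_of_isPushout R₀ Γ(S, ⊤) S₀ Γ(X, ⊤)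
  have h1 := isPullback_SpecMap_of_isPushout _ _ _ _ hpo
  have h2 : IsPullback X.isoSpec.hom f (Spec.map f.appTop) S.isoSpec.hom :=
    IsPullback.of_horiz_isIso ⟨Scheme.isoSpec_hom_naturality f⟩
  refine ⟨Spec (CommRingCat.of S₀), Spec (CommRingCat.of R₀), Spec.map (CommRingCat.ofHom (algebraMap R₀ S₀)),
    S.isoSpec.hom ≫ Spec.map (CommRingCat.ofHom (algebraMap R₀ Γ(S, ⊤))),
    X.isoSpec.hom ≫ Spec.map (CommRingCat.ofHom (algebraMap S₀ Γ(X, ⊤))), inferInstance, inferInstance,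
    h2.paste_horiz h1.flip, ?_, ?_, ?_⟩
  · let e := (Scheme.ΓSpecIso (CommRingCat.of R₀)).commRingCatIsoToRingEquiv
    exact hft.equiv e.symm.toIntAlgEquiv
  · exact (HasRingHomProperty.Spec_iff (P := @LocallyOfFiniteType)).2 (RingHom.finiteType_algebraMap.2 hft')
  · exact (HasRingHomProperty.Spec_iff (P := @Flat)).2 (RingHom.flat_algebraMap_iff.2 hflat)

end Groth.Agent.S9759
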