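import Groth.Statements.S9760
import Groth.Agent.QC.Pullback
import Groth.Agent.ConsMod.Model
import Groth.Agent.LimDesc.DescendAffine
import Groth.Agent.LimModel.FgSubalgebra

set_option autoImplicit false
set_option linter.style.haveILetI false
universe u
open FlatMor

namespace Groth.Agent.S9760

open AlgebraicGeometry CategoryTheory Limits in
/-- Given affine schemes X and S, a finitely presented morphism f : X ⟶ S, and a finitely presented
quasi-coherent O_X-module F, the morphism f is a pullback, along some g' : X ⟶ X₀, of a finite type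
morphism f₀ : X₀ ⟶ S₀ of affine schemes with Γ(S₀) of finite type over ℤ, and there is a coherent
O_{X₀}-module F₀ whose pullback along g' is isomorphic to F. -/
theorem result {X S : Scheme.{u}} (f : X ⟶ S) [IsAffine X] [IsAffine S] [LocallyOfFinitePresentation f]
    (F : X.Modules) [Coh.IsQCoh F] (hF : CohB1.IsFP F) :
    ∃ (X₀ S₀ : Scheme.{u}) (f₀ : X₀ ⟶ S₀) (g : S ⟶ S₀) (g' : X ⟶ X₀), IsAffine X₀ ∧ IsAffine S₀ ∧ IsPullback g' f f₀ g ∧
      Algebra.FiniteType ℤ Γ(S₀, ⊤) ∧ LocallyOfFiniteType f₀ ∧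
      ∃ F₀ : X₀.Modules, Coh.IsCoh F₀ ∧ Nonempty ((Scheme.Modules.pullback g').obj F₀ ≅ F) := by
  let A : Type u := Γ(S, ⊤)
  let e : S ≅ Spec (CommRingCat.of A) := S.isoSpec
  let f' : X ⟶ (LimModel.fgCone A).pt := f ≫ e.hom
  haveI : IsCofiltered (LimModel.FgSub A)ᵒᵖ := isCofiltered_op_of_isFiltered _
  let D := LimModel.fgDiagram A
  let c := LimModel.fgCone A
  haveI : ∀ i, CompactSpace (D.obj i) := fun i => inferInstanceAs (CompactSpace ((LimModel.fgDiagram A).obj i))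
  haveI : ∀ i, QuasiSeparatedSpace (D.obj i) := fun i => inferInstanceAs (QuasiSeparatedSpace ((LimModel.fgDiagram A).obj i))
  haveI : IsAffine (LimModel.fgCone A).pt := inferInstanceAs (IsAffine (Spec (CommRingCat.of A)))
  haveI : LocallyOfFinitePresentation f' := inferInstanceAs (LocallyOfFinitePresentation (f ≫ e.hom))
  haveI : IsAffineHom f' := inferInstance
  obtain ⟨j, X₀, f₀, q, F₀, h1, h2, h3, hq, hqc, hfp, ⟨eF⟩⟩ :=
    ConsMod.exists_model_pair_cone D c (LimModel.fgIsLimit A) f' F hF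
  haveI : LocallyOfFinitePresentation (f₀ ≫ 𝟙 (D.obj j)) := by rw [Category.comp_id]; exact h1
  haveI : QuasiCompact (f₀ ≫ 𝟙 (D.obj j)) := by rw [Category.comp_id]; exact h2
  haveI : QuasiSeparated (f₀ ≫ 𝟙 (D.obj j)) := by rw [Category.comp_id]; exact h3
  have hY : IsPullback (c.π.app j) (𝟙 c.pt) (𝟙 (D.obj j)) (c.π.app j) := IsPullback.id_vert _
  obtain ⟨k, hk⟩ := LimDesc.exists_isAffineHom D c (LimModel.fgIsLimit A) f₀ (𝟙 (D.obj j)) hY hq
  haveI : IsIso (LimDesc.toStage D (𝟙 (D.obj j)) k) :=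
    (LimDesc.isPullback_stage D (𝟙 (D.obj j)) k).isIso_snd_of_isIso
  haveI hfk : IsAffineHom (LimDesc.toStage D (f₀ ≫ 𝟙 (D.obj j)) k) := by
    rw [← LimDesc.stageMap_toStage]
    infer_instance
  haveI : IsAffine (D.obj k.left) := inferInstanceAs (IsAffine ((LimModel.fgDiagram A).obj k.left))
  haveI hlfp : LocallyOfFinitePresentation (LimDesc.toStage D (f₀ ≫ 𝟙 (D.obj j)) k) :=
    MorphismProperty.of_isPullback (P := @LocallyOfFinitePresentation) (LimDesc.isPullback_stage D _ k) ‹_›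
  let hc' := LimDesc.isPullback_comp D (𝟙 (D.obj j)) c hY f₀ hq
  let qk := LimDesc.proj D (f₀ ≫ 𝟙 (D.obj j)) c hc' k
  have hp : IsPullback qk (f' ≫ 𝟙 c.pt) (LimDesc.toStage D (f₀ ≫ 𝟙 (D.obj j)) k) (c.π.app k.left) :=
    LimDesc.isPullback_proj _ _ _ _ _
  rw [Category.comp_id f'] at hp
  have hp' : IsPullback qk f (LimDesc.toStage D (f₀ ≫ 𝟙 (D.obj j)) k) (e.hom ≫ c.π.app k.left) :=
    hp.of_iso (Iso.refl _) (Iso.refl _) e.symm (Iso.refl _) (by simp)
      ((Category.assoc f e.hom e.inv).trans (by simp)) (by simp)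
      ((Category.comp_id _).trans (e.inv_hom_id_assoc (c.π.app k.left)).symm)
  haveI := hqc
  refine ⟨LimDesc.stage D (f₀ ≫ 𝟙 (D.obj j)) k, D.obj k.left, LimDesc.toStage D (f₀ ≫ 𝟙 (D.obj j)) k,
    e.hom ≫ c.π.app k.left, qk, isAffine_of_isAffineHom (LimDesc.toStage D (f₀ ≫ 𝟙 (D.obj j)) k),
    inferInstance, hp', ?_, inferInstance,
    (Scheme.Modules.pullback (LimDesc.toBase D (f₀ ≫ 𝟙 (D.obj j)) k)).obj F₀,
    QC.isCoh_pullback _ (⟨hqc, ModDesc.isFT_of_isFP hfp⟩ : Coh.IsCoh F₀),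
    ⟨(ModDesc.trIso qk _ (LimDesc.proj_toBase D _ c hc' k)).app F₀ ≪≫ eF⟩⟩
  haveI : Algebra.FiniteType ℤ ↥(k.left.unop.1 : Subalgebra ℤ A) :=
    (Subalgebra.fg_iff_finiteType _).mp k.left.unop.2
  exact Algebra.FiniteType.equiv ‹Algebra.FiniteType ℤ ↥(k.left.unop.1 : Subalgebra ℤ A)›
    (Scheme.ΓSpecIso (CommRingCat.of ↥(k.left.unop.1 : Subalgebra ℤ A))).symm.commRingCatIsoToRingEquiv.toIntAlgEquiv

end Groth.Agent.S9760
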