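import Groth.Statements.S9761
import Groth.Agent.ConsMod.Model
import Groth.Agent.FlatLimMod.Stage
import Groth.Agent.ModDesc.Iso

set_option autoImplicit false
universe u
open FlatMor
open CategoryTheory.Limits
set_option backward.isDefEq.respectTransparency false

namespace Groth.Agent.S9761

open AlgebraicGeometry CategoryTheory Limits in
/-- For a finitely presented morphism f : X ⟶ S of affine schemes and a quasi-coherent, finitely
presented O_X-module F that is flat over S, f is the base change along some g' : X ⟶ X₀ of a finite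
type morphism f₀ : X₀ ⟶ S₀ of affine schemes with S₀ of finite type over ℤ, and some coherent
O_{X₀}-module F₀, flat over S₀, satisfies g'^*F₀ ≅ F. -/
theorem result {X S : Scheme.{u}} (f : X ⟶ S) [IsAffine X] [IsAffine S] [LocallyOfFinitePresentation f]
    (F : X.Modules) [Coh.IsQCoh F] (hF : CohB1.IsFP F) (hfl : FlatMod.IsFlatOver f F) :
    ∃ (X₀ S₀ : Scheme.{u}) (f₀ : X₀ ⟶ S₀) (g : S ⟶ S₀) (g' : X ⟶ X₀), IsAffine X₀ ∧ IsAffine S₀ ∧ IsPullback g' f f₀ g ∧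
      Algebra.FiniteType ℤ Γ(S₀, ⊤) ∧ LocallyOfFiniteType f₀ ∧
      ∃ F₀ : X₀.Modules, Coh.IsCoh F₀ ∧ FlatMod.IsFlatOver f₀ F₀ ∧ Nonempty ((Scheme.Modules.pullback g').obj F₀ ≅ F) := by
  classical
  let A : Type u := Γ(S, ⊤)
  let f' : X ⟶ Spec (CommRingCat.of A) := f ≫ S.isoSpec.hom
  haveI : LocallyOfFinitePresentation f' := inferInstance
  obtain ⟨A₀, hA₀, X₀, f₀, q, F₀, hN, hf1, hf2, hf3, hsq, hq, hfp, hcoh, ⟨e⟩⟩ :=
    Groth.Agent.ConsMod.exists_model_pair f' F hF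
  let D := Groth.Agent.LimModel.fgDiagram A
  let c := Groth.Agent.LimModel.fgCone A
  have hc := Groth.Agent.LimModel.fgIsLimit A
  haveI : IsCofiltered (Groth.Agent.LimModel.FgSub A)ᵒᵖ := isCofiltered_op_of_isFiltered _
  let i₀ : (Groth.Agent.LimModel.FgSub A)ᵒᵖ := Opposite.op ⟨A₀, hA₀⟩
  let f₀' : X₀ ⟶ D.obj i₀ := f₀
  haveI : LocallyOfFinitePresentation f₀' := hf1
  haveI : QuasiCompact f₀' := hf2
  haveI : QuasiSeparated f₀' := hf3
  haveI : CompactSpace X₀ := QuasiCompact.compactSpace_of_compactSpace f₀'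
  haveI : QuasiSeparatedSpace X₀ := quasiSeparatedSpace_of_quasiSeparated f₀'
  haveI : IsIso (𝟙 c.pt) := inferInstanceAs (IsIso (𝟙 _))
  haveI : IsIso (𝟙 (D.obj i₀)) := inferInstanceAs (IsIso (𝟙 _))
  have hY : IsPullback (c.π.app i₀) (𝟙 c.pt) (𝟙 (D.obj i₀)) (c.π.app i₀) := IsPullback.of_vert_isIso ⟨(Category.comp_id _).trans (Category.id_comp _).symm⟩
  let fX : X ⟶ c.pt := f'
  have hX : IsPullback q fX f₀' (c.π.app i₀) := hsq
  have hflat : FlatMod.IsFlatOver fX ((Scheme.Modules.pullback q).obj F₀) := by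
    intro x
    have hsq' : IsPullback (𝟙 X) f' f S.isoSpec.inv := IsPullback.of_horiz_isIso ⟨by simp [f']⟩
    exact Groth.Agent.FlatLimMod.isFlatOverAt_of_iso _ ((Scheme.Modules.pullbackId X).app F ≪≫ e.symm)
      (Groth.Agent.FlatModBC.isFlatOverAt_baseChange hsq' F x (hfl _))
  obtain ⟨j₁, hj₁⟩ := Groth.Agent.FlatLimMod.exists_isFlatOver_stage D c hc f₀' (𝟙 (D.obj i₀)) hY hX F₀ hq hfp hflat
  have hXS := Groth.Agent.LimDesc.isPullback_comp D (𝟙 (D.obj i₀)) c hY f₀' hX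
  let T := Groth.Agent.LimDesc.tower D (f₀' ≫ 𝟙 (D.obj i₀))
  haveI : ∀ j, CompactSpace (T.obj j) := fun j => Groth.Agent.LimDesc.compactSpace_stage D _ j
  haveI : ∀ j, QuasiSeparatedSpace (T.obj j) := fun j => Groth.Agent.LimDesc.quasiSeparatedSpace_stage D _ j
  haveI : IsAffine (Groth.Agent.LimDesc.towerCone D (f₀' ≫ 𝟙 (D.obj i₀)) c hXS).pt := ‹IsAffine X›
  obtain ⟨j₂, hj₂⟩ := Scheme.exists_isAffine_of_isLimit T _
    (Groth.Agent.LimDesc.isLimitTowerCone D (f₀' ≫ 𝟙 (D.obj i₀)) c hXS hc)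
  obtain ⟨j, a₁, a₂, -⟩ := IsCofilteredOrEmpty.cone_objs j₁ j₂
  haveI : IsAffine (T.obj j₂) := hj₂
  haveI : IsAffine (Groth.Agent.LimDesc.stage D (f₀' ≫ 𝟙 (D.obj i₀)) j) := isAffine_of_isAffineHom (T.map a₂)
  have hiso : IsIso (Groth.Agent.LimDesc.toStage D (𝟙 (D.obj i₀)) j) :=
    (Groth.Agent.LimDesc.isPullback_stage D (𝟙 (D.obj i₀)) j).isIso_snd_of_isIso
  haveI : IsAffine (D.obj j.left) := inferInstanceAs (IsAffine (Spec (CommRingCat.of j.left.unop.1)))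
  haveI : IsAffine (Groth.Agent.LimDesc.stage D (𝟙 (D.obj i₀)) j) :=
    IsAffine.of_isIso (Groth.Agent.LimDesc.toStage D (𝟙 (D.obj i₀)) j)
  refine ⟨Groth.Agent.LimDesc.stage D (f₀' ≫ 𝟙 (D.obj i₀)) j, Groth.Agent.LimDesc.stage D (𝟙 (D.obj i₀)) j,
    Groth.Agent.LimDesc.stageMap D (𝟙 (D.obj i₀)) f₀' j,
    S.isoSpec.hom ≫ Groth.Agent.LimDesc.proj D (𝟙 (D.obj i₀)) c hY j,
    Groth.Agent.LimDesc.proj D (f₀' ≫ 𝟙 (D.obj i₀)) c hXS j, inferInstance, inferInstance, ?_, ?_, ?_,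
    (Scheme.Modules.pullback (Groth.Agent.LimDesc.toBase D (f₀' ≫ 𝟙 (D.obj i₀)) j)).obj F₀,
    ⟨Groth.Agent.QC.isQCoh_pullback _ hq, Groth.Agent.ModDesc.isFT_of_isFP (Groth.Agent.ModDesc.isFP_pullback _ hq hfp)⟩, ?_,
    ⟨(Groth.Agent.ModDesc.trIso _ _ (Groth.Agent.LimDesc.proj_toBase D (f₀' ≫ 𝟙 (D.obj i₀)) c hXS j)).app F₀ ≪≫ e⟩⟩
  · have h := (IsPullback.of_horiz_isIso (fst := 𝟙 X) (snd := f) (f := fX) (g := S.isoSpec.hom) ⟨Category.id_comp _⟩).paste_horiz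
      (Groth.Agent.LimDesc.isPullback_proj_stageMap D (𝟙 (D.obj i₀)) c hY f₀' hX j)
    rwa [Category.id_comp] at h
  · let ψ : Γ(D.obj j.left, ⊤) →+* Γ(Groth.Agent.LimDesc.stage D (𝟙 (D.obj i₀)) j, ⊤) :=
      (Groth.Agent.LimDesc.toStage D (𝟙 (D.obj i₀)) j).appTop.hom
    let η : ↥(j.left.unop.1) →+* Γ(D.obj j.left, ⊤) := (Scheme.ΓSpecIso (CommRingCat.of j.left.unop.1)).inv.hom
    haveI : Algebra.FiniteType ℤ ↥(j.left.unop.1) := (Subalgebra.fg_iff_finiteType _).mp j.left.unop.2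
    refine Algebra.FiniteType.of_surjective (R := ℤ) (ψ.comp η).toIntAlgHom ?_
    exact (ConcreteCategory.bijective_of_isIso (Groth.Agent.LimDesc.toStage D (𝟙 (D.obj i₀)) j).appTop).2.comp
      (ConcreteCategory.bijective_of_isIso (Scheme.ΓSpecIso (CommRingCat.of j.left.unop.1)).inv).2
  · exact MorphismProperty.of_isPullback (Groth.Agent.LimDesc.isPullback_stageMap D (𝟙 (D.obj i₀)) f₀' j) inferInstance
  · exact fun x => Groth.Agent.FlatLimMod.isFlatOverAt_trans D f₀' (𝟙 (D.obj i₀)) F₀ a₁ x (hj₁ _)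

end Groth.Agent.S9761
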