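import Groth.Statements.S9762
import Groth.Agent.TwConst.EtaleNbhd
import Groth.Agent.FpqcDescent.Sep

set_option autoImplicit false
universe u
open FlatMor

namespace Groth.Agent.S9762

open AlgebraicGeometry CategoryTheory Limits in
lemma isOpen_asFiber {X S : Scheme.{u}} (f : X ⟶ S) {s : S} {x : X} (hx : f x = s) (a : ↑(f.fiber s))
    (ha : f.fiberι s a = x) (h : IsOpen ({a} : Set ↑(f.fiber s))) : IsOpen ({f.asFiber x} : Set ↑(f.fiber (f x))) := by
  subst hx
  convert h
  refine (f.fiberι (f x)).isEmbedding.injective ?_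
  rw [ha]
  exact congrArg Subtype.val ((f.fiberHomeo (f x)).apply_symm_apply ⟨x, rfl⟩)


open AlgebraicGeometry CategoryTheory Limits in
/-- For f : X ⟶ S separated and locally of finite type, and a point s of S such that only finitely many
points of the fibre over s are isolated, some elementary étale neighbourhood (U, u) of (S, s) admits
an open and closed V ⊆ U ×_S X, finite over U, such that no point of the fibre over u lying outside
V is isolated in that fibre. The published statement also asserts that the complement of V has empty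
fibre over u when the fibre over s is finite; this row omits that clause. -/
theorem result {X S : Scheme.{u}} (f : X ⟶ S) [LocallyOfFiniteType f] [IsSeparated f] (s : S)
    (hfin : {x : ↑(f.fiber s) | IsOpen ({x} : Set ↑(f.fiber s))}.Finite) :
    ∃ (U : Scheme.{u}) (g : U ⟶ S) (u : U), Hens2.IsEtaleNbhd g u s ∧
      ∃ V : (pullback f g).Opens, IsClopen (V : Set ↑(pullback f g)) ∧ IsFinite (V.ι ≫ pullback.snd f g) ∧
        ∀ w : ↑((pullback.snd f g).fiber u), (pullback.snd f g).fiberι u w ∉ V →
          ¬ IsOpen ({w} : Set ↑((pullback.snd f g).fiber u)) := by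
  classical
  -- the isolated points of the fibre, as points of `X`
  let I : Set X := (f.fiberι s) '' {x : ↑(f.fiber s) | IsOpen ({x} : Set ↑(f.fiber s))}
  have hI : I.Finite := hfin.image _
  obtain ⟨n, ⟨eI⟩⟩ := @Finite.exists_equiv_fin _ hI.to_subtype
  let xs : Fin n → X := fun i => (eI.symm i).1
  have hxs : ∀ i, f (xs i) = s := by
    intro i
    obtain ⟨a, -, ha⟩ := (eI.symm i).2
    change f (eI.symm i).1 = s
    rw [← ha]
    exact ((f.fiberHomeo s) a).2
  have hqf : ∀ i, f.QuasiFiniteAt (xs i) := by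
    intro i
    obtain ⟨a, hao, ha⟩ := (eI.symm i).2
    rw [Scheme.Hom.quasiFiniteAt_iff_isOpen_singleton_asFiber]
    exact isOpen_asFiber f (hxs i) a ha hao
  obtain ⟨U, g, u, hg, hgu, hres, V, v, hV⟩ := Groth.Agent.TwConst.exists_nbhd_points f s xs hxs hqf
  haveI := hg
  haveI := hres
  -- the union of the pieces
  have hsup : ∀ t : Finset (Fin n), IsClopen ((t.sup V : (pullback f g).Opens) : Set ↑(pullback f g)) ∧
      IsFinite ((t.sup V).ι ≫ pullback.snd f g) := by
    intro t
    induction t using Finset.induction_on with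
    | empty =>
      rw [Finset.sup_empty]
      haveI : IsEmpty (⊥ : (pullback f g).Opens).toScheme := ⟨fun x => x.2⟩
      exact ⟨by simpa using isClopen_empty, inferInstance⟩
    | insert i t _ ih =>
      rw [Finset.sup_insert]
      haveI := ih.2
      haveI := (hV i).2.1
      refine ⟨?_, Groth.Agent.TwConst.isFinite_sup _ _ _⟩
      rw [TopologicalSpace.Opens.coe_sup]
      haveI : IsFinite (V i).ι := IsFinite.of_comp (V i).ι (pullback.snd f g)
      have hc := (V i).ι.isClosedMap.isClosed_range
      rw [Scheme.Opens.range_ι] at hc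
      exact IsClopen.union ⟨hc, (V i).2⟩ ih.1
  refine ⟨U, g, u, ⟨hg, hgu, ConcreteCategory.bijective_of_isIso _⟩, Finset.univ.sup V, (hsup _).1, (hsup _).2, ?_⟩
  intro w hw hwo
  set z := (pullback.snd f g).fiberι u w with hz
  have hzu : pullback.snd f g z = u := ((pullback.snd f g).fiberHomeo u w).2
  obtain ⟨O, hO, hOw⟩ := ((pullback.snd f g).fiberι u).isEmbedding.isInducing.isOpen_iff.mp hwo
  haveI : LocallyQuasiFinite g := Groth.Agent.FpqcDescent.locallyQuasiFinite_of_etale g
  -- shrink to a neighbourhood meeting `g ⁻¹ s` in `u` only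
  obtain ⟨N, hN, hNu⟩ : ∃ N : Set U, IsOpen N ∧ ∀ u' : U, g u' = s → (u' ∈ N ↔ u' = u) := by
    have := (Scheme.Hom.quasiFiniteAt_iff_isOpen_singleton_asFiber (f := g) (x := u)).mp (Scheme.Hom.quasiFiniteAt g u)
    obtain ⟨N, hN, hNu⟩ := (g.fiberι (g u)).isEmbedding.isInducing.isOpen_iff.mp this
    refine ⟨N, hN, fun u' hu' => ?_⟩
    obtain ⟨a, rfl⟩ : u' ∈ Set.range (g.fiberι (g u)) := by
      rw [Scheme.Hom.range_fiberι]; exact hu'.trans hgu.symm
    have := Set.ext_iff.mp hNu a
    simp only [Set.mem_preimage, Set.mem_singleton_iff] at this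
    rw [this]
    refine ⟨fun h => by rw [h]; exact congrArg Subtype.val ((g.fiberHomeo (g u)).apply_symm_apply ⟨u, rfl⟩),
      fun h => (g.fiberι (g u)).isEmbedding.injective (h.trans ?_)⟩
    exact (congrArg Subtype.val ((g.fiberHomeo (g u)).apply_symm_apply ⟨u, rfl⟩)).symm
  let O' : Set X := pullback.fst f g '' (O ∩ pullback.snd f g ⁻¹' N)
  have hO' : IsOpen O' := (pullback.fst f g).isOpenMap _ (hO.inter (hN.preimage (pullback.snd f g).continuous))
  have hzO : z ∈ O := (Set.ext_iff.mp hOw w).mpr rfl
  have hfz : f (pullback.fst f g z) = s := by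
    rw [← Scheme.Hom.comp_apply, pullback.condition, Scheme.Hom.comp_apply, hzu, hgu]
  obtain ⟨a, ha⟩ : pullback.fst f g z ∈ Set.range (f.fiberι s) := by
    rw [Scheme.Hom.range_fiberι]; exact hfz
  have hiso : IsOpen ({a} : Set ↑(f.fiber s)) := by
    have : f.fiberι s ⁻¹' O' = {a} := by
      ext b
      constructor
      · rintro ⟨z', ⟨hz'O, hz'N⟩, hb⟩
        have hb' : f (f.fiberι s b) = s := (f.fiberHomeo s b).2
        have hg' : g (pullback.snd f g z') = s := by
          rw [← Scheme.Hom.comp_apply, ← pullback.condition, Scheme.Hom.comp_apply, hb, hb']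
        obtain ⟨w', hw'⟩ : z' ∈ Set.range ((pullback.snd f g).fiberι u) := by
          rw [Scheme.Hom.range_fiberι]; exact (hNu _ hg').mp hz'N
        have : w' = w := (Set.ext_iff.mp hOw w').mp (show _ ∈ O by rw [hw']; exact hz'O)
        subst this
        refine (f.fiberι s).isEmbedding.injective ?_
        rw [← hb, ← hw', ← hz, ha]
      · rintro rfl
        exact ⟨z, ⟨hzO, show pullback.snd f g z ∈ N by rw [hzu]; exact (hNu u hgu).mpr rfl⟩, ha.symm⟩
    rw [← this]
    exact hO'.preimage (f.fiberι s).continuous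
  have hxI : pullback.fst f g z ∈ I := ⟨a, hiso, ha⟩
  let i := eI ⟨_, hxI⟩
  obtain ⟨hvV, -, hvu, -, hvx⟩ := hV i
  have : z = v i := Groth.Agent.TwConst.eq_of_fst_eq f g u hzu hvu (by rw [hvx]; simp [xs, i])
  exact hw ((Finset.le_sup (f := V) (Finset.mem_univ i)) (this ▸ hvV))

end Groth.Agent.S9762
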