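import Groth.Statements.S9763


set_option autoImplicit false
universe u
open FlatMor

namespace Groth.Agent.S9763

open AlgebraicGeometry CategoryTheory Limits in
/-- Let f : X ⟶ S be formally smooth (infinitesimal lifting against square-zero thickenings of affine
schemes), and let U be an open of X and V an open of S with U contained in the preimage of V under
f. Then the induced morphism U ⟶ V is formally smooth. -/
theorem result {X S : Scheme.{u}} (f : X ⟶ S) (hf : MoreMor.IsFormallySmoothHom f)
    (U : X.Opens) (V : S.Opens) (h : U ≤ f ⁻¹ᵁ V) : MoreMor.IsFormallySmoothHom (f.resLE V U h) := by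
  intro A _ I hI a b h0
  have h' : Spec.map (CommRingCat.ofHom (Ideal.Quotient.mk I)) ≫ (b ≫ V.ι) = (a ≫ U.ι) ≫ f := by
    rw [← Category.assoc, h0, Category.assoc, Scheme.Hom.resLE_comp_ι, Category.assoc]
  obtain ⟨l, h₁, h₁'⟩ := hf A I hI (a ≫ U.ι) (b ≫ V.ι) h'
  have hr : Set.range l ⊆ Set.range U.ι := by
    rintro _ ⟨p, rfl⟩
    have : IsNilpotent I := ⟨2, hI⟩
    obtain ⟨q, hq⟩ : p ∈ Set.range (PrimeSpectrum.comap (Ideal.Quotient.mk I)) := by
      rw [range_comap_of_surjective _ _ Ideal.Quotient.mk_surjective, Ideal.mk_ker]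
      intro x hx
      exact p.2.mem_of_pow_mem 2 (by
        have := Ideal.pow_mem_pow hx 2
        rw [hI, Ideal.mem_bot] at this
        rw [this]; exact zero_mem _)
    subst hq
    refine ⟨a q, ?_⟩
    have := congrArg (fun k : _ ⟶ X => k q) h₁
    exact ((Scheme.Hom.comp_apply _ _ _).symm.trans (this.symm.trans (Scheme.Hom.comp_apply _ _ _)))
  refine ⟨IsOpenImmersion.lift U.ι l hr, ?_, ?_⟩
  · rw [← cancel_mono U.ι, Category.assoc, IsOpenImmersion.lift_fac, h₁]
  · rw [← cancel_mono V.ι, Category.assoc, Scheme.Hom.resLE_comp_ι, ← Category.assoc,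
      IsOpenImmersion.lift_fac, h₁']

end Groth.Agent.S9763
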