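import Groth.Statements.S9764
import Mathlib
import Groth.Agent.GeomConn.Comp
import Groth.Agent.ConsEngine.Fiber

set_option autoImplicit false
universe u
open FlatMor

namespace Groth.Agent.S9764

open AlgebraicGeometry CategoryTheory Limits in
/-- For morphisms of schemes f : X ⟶ Y and g : Y' ⟶ Y, let f' : X' ⟶ Y' be obtained from f by pulling
back along g (a cartesian square with g' : X' ⟶ X). A point y' of Y' has geometrically irreducible
fibre under f' exactly when g y' has geometrically irreducible fibre under f. -/
theorem result {X Y X' Y' : Scheme.{u}} (f : X ⟶ Y) (g : Y' ⟶ Y) (f' : X' ⟶ Y') (g' : X' ⟶ X)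
    (hc : IsPullback g' f' f g) :
    {y' : ↑Y' | GeometricallyIrreducible (f'.fiberToSpecResidueField y')} =
      g ⁻¹' {y : ↑Y | GeometricallyIrreducible (f.fiberToSpecResidueField y)} := by
  ext y'
  have hsq := Groth.Agent.ConsEngine.isPullback_fiberBC hc y'
  have : Surjective (Spec.map (g.residueFieldMap y')) :=
    ⟨fun _ => ⟨IsLocalRing.closedPoint (Y'.residueField y'), @Subsingleton.elim (PrimeSpectrum (Y.residueField (g y'))) inferInstance _ _⟩⟩
  refine ⟨fun h => ?_, fun h => MorphismProperty.of_isPullback hsq h⟩
  have h1 : GeometricallyIrreducible (pullback.snd (f.fiberToSpecResidueField (g y')) (Spec.map (g.residueFieldMap y'))) := by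
    rw [← hsq.isoPullback_inv_snd]
    exact (MorphismProperty.cancel_left_of_respectsIso _ _ _).2 h
  rw [GeometricallyIrreducible.eq_geometrically] at h1 ⊢
  exact Groth.Agent.GeomConn.geometrically_descends _
    (fun A B q _ hA => Groth.Agent.GeomConn.irreducibleSpace_of_surjective A B q hA) _ _ h1

end Groth.Agent.S9764
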