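import Groth.Statements.S9769
import Groth.Agent.FlatFunLib.RelFlatLocus
import Groth.Agent.FlatFunLib.GenPts
import Groth.Agent.FibDepth.Global

set_option autoImplicit false
set_option backward.isDefEq.respectTransparency false
universe u
open FlatMor

namespace Groth.Agent.S9769

open CategoryTheory CategoryTheory.Limits AlgebraicGeometry TensorProduct

theorem moduleStalkOver_id {Z : Scheme.{u}} (M : Z.Modules) (z : Z) :
    FlatMod.moduleStalkOver (𝟙 Z) M z = (inferInstance : Module (Z.presheaf.stalk z) (M.presheaf.stalk z)) := by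
  refine Module.ext' _ _ fun a m => ?_
  show ((𝟙 Z : Z ⟶ Z).stalkMap z).hom a • m = _
  rw [Scheme.Hom.stalkMap_id]
  rfl

theorem flatAt_id_iff {Z : Scheme.{u}} (M : Z.Modules) (z : Z) :
    FlatMod.IsFlatOverAt (𝟙 Z) M z ↔ Module.Flat (Z.presheaf.stalk z) (M.presheaf.stalk z) := by
  show @Module.Flat (Z.presheaf.stalk z) (M.presheaf.stalk z) _ _ (FlatMod.moduleStalkOver (𝟙 Z) M z) ↔ _
  rw [moduleStalkOver_id]


open AlgebraicGeometry CategoryTheory Limits in
/-- Let f : X ⟶ S be locally of finite presentation and F a finitely presented O_X-module which is flat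
over S. Then the formation of the locus of points of X near which F is free (equivalently, for
finitely presented F, where the stalk of F is a free module) commutes with arbitrary base change:
for a cartesian square with g' : X' ⟶ X over S' ⟶ S, the free locus of (g')^*F is the preimage of
that of F. The published statement also asserts that this locus is open; this row states only that
its formation commutes with base change. -/
theorem result {X S X' S' : Scheme.{u}} (f : X ⟶ S) [LocallyOfFinitePresentation f]
    (F : X.Modules) (hF : CohB1.IsFP F) (hfl : FlatMod.IsFlatOver f F)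
    (g : S' ⟶ S) (f' : X' ⟶ S') (g' : X' ⟶ X) (hc : IsPullback g' f' f g) :
    {x' : ↑X' | Module.Free ↑(X'.presheaf.stalk x') ↑(((Scheme.Modules.pullback g').obj F).presheaf.stalk x')} =
      g' ⁻¹' {x : ↑X | Module.Free ↑(X.presheaf.stalk x) ↑(F.presheaf.stalk x)} := by
  have hq : Coh.IsQCoh F := FibDepth.isQCoh_of_isFP hF
  ext x'
  show Module.Free _ _ ↔ Module.Free _ _
  letI : Algebra (X.presheaf.stalk (g' x')) (X'.presheaf.stalk x') := (g'.stalkMap x').hom.toAlgebra
  let e : ((Scheme.Modules.pullback g').obj F).presheaf.stalk x' ≃ₗ[X'.presheaf.stalk x']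
      X'.presheaf.stalk x' ⊗[X.presheaf.stalk (g' x')] F.presheaf.stalk (g' x') :=
    ((KFlat.pullStalkIso g' x').app F).toLinearEquiv
  constructor
  · intro hfree
    haveI : LocallyOfFinitePresentation (𝟙 X ≫ f) := by rwa [Category.id_comp]
    have hflat : FlatMod.IsFlatOverAt (𝟙 X ≫ f) F (g' x') := by
      rw [Category.id_comp]
      exact hfl _
    have hx : FlatMod.IsFlatOverAt (𝟙 X') ((Scheme.Modules.pullback g').obj F) x' :=
      (flatAt_id_iff _ x').2 (haveI := hfree; Module.Flat.of_free)
    have h := FlatFunLib.isFlatOverAt_of_baseChange_base hc (IsPullback.of_vert_isIso ⟨by simp⟩) F hq hF x' hflat hx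
    obtain ⟨W, hW, hxW, -⟩ := exists_isAffineOpen_mem_and_subset (X := X) (x := g' x') (U := ⊤) trivial
    haveI := LocFree.finitePresentation_sections_of_isFP (M := F) hq hF hW
    haveI := LocFree.finite_stalk hW hq hxW (M := F)
    haveI := (flatAt_id_iff _ (g' x')).1 h
    exact Module.free_of_flat_of_isLocalRing
  · intro hfree
    exact Module.Free.of_equiv e.symm

end Groth.Agent.S9769
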