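import Groth.Statements.S9770
import Groth.Agent.S14786
import Groth.Agent.S9194
-- import your own Groth.Agent.* helpers here

set_option autoImplicit false
universe u
open CategoryTheory AlgebraicGeometry
open FlatMor

namespace Groth.Agent.S9770

/-- Let S = lim S_i be a cofiltered limit of schemes with affine transition morphisms, i₀ an index with
S_{i₀} quasi-compact and quasi-separated, and f₀ : X₀ ⟶ Y₀ a morphism of schemes over S_{i₀} with X₀
and Y₀ quasi-compact and quasi-separated and f₀ locally of finite presentation. Write f : X ⟶ Y for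
the pullback of f₀ along S ⟶ S_{i₀} (all base changes given by pullback squares). Assuming f is
universally open and locally quasi-finite (with locally of finite type, as the book's notion
includes), there is a stage S_i over S_{i₀} where the pulled-back morphism f_i : X_i ⟶ Y_i already
has both properties. -/
theorem result {I : Type u} [SmallCategory I] [IsCofiltered I]
    (D : I ⥤ Scheme.{u}) (c : Limits.Cone D) (hc : Limits.IsLimit c)
    [∀ (i j : I) (φ : i ⟶ j), IsAffineHom (D.map φ)] (i₀ : I) [CompactSpace (D.obj i₀)] [QuasiSeparatedSpace (D.obj i₀)]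
    {X₀ Y₀ : Scheme.{u}} (f₀ : X₀ ⟶ Y₀) (g₀ : Y₀ ⟶ D.obj i₀) [CompactSpace X₀] [QuasiSeparatedSpace X₀]
    [CompactSpace Y₀] [QuasiSeparatedSpace Y₀] [LocallyOfFinitePresentation f₀]
    {X Y : Scheme.{u}} (f : X ⟶ Y) (g : Y ⟶ c.pt) (qY : Y ⟶ Y₀) (qX : X ⟶ X₀)
    (hY : IsPullback qY g g₀ (c.π.app i₀)) (hX : IsPullback qX f f₀ qY)
    [LocallyQuasiFinite f] [LocallyOfFiniteType f] [UniversallyOpen f] :
    ∃ (i : I) (φ : i ⟶ i₀) (Xi Yi : Scheme.{u}) (fi : Xi ⟶ Yi) (gi : Yi ⟶ D.obj i) (pY : Yi ⟶ Y₀) (pX : Xi ⟶ X₀),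
      IsPullback pY gi g₀ (D.map φ) ∧ IsPullback pX fi f₀ pY ∧ LocallyQuasiFinite fi ∧ LocallyOfFiniteType fi ∧ UniversallyOpen fi := by
  classical
  haveI : ∀ {i j : I} (f : i ⟶ j), IsAffineHom (D.map f) := fun {i j} f => inferInstance
  haveI := quasiCompact_of_compactSpace g₀
  haveI := quasiCompact_of_compactSpace (f₀ ≫ g₀)
  haveI := quasiCompact_of_compactSpace f₀
  obtain ⟨j₁, h₁⟩ := Groth.Agent.LimDesc.exists_locallyQuasiFinite D c hc f₀ g₀ hY hX
  obtain ⟨j₂, h₂⟩ := Groth.Agent.S14786.exists_stage D c hc f₀ g₀ f g qY qX hY hX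
  obtain ⟨l, e₁, e₂, -⟩ := IsCofilteredOrEmpty.cone_objs j₁ j₂
  haveI : LocallyQuasiFinite (Groth.Agent.LimDesc.stageMap D g₀ f₀ l) :=
    MorphismProperty.of_isPullback (P := @LocallyQuasiFinite) (Groth.Agent.LimDesc.isPullback_trans_stageMap D g₀ f₀ e₁) h₁
  haveI : UniversallyOpen (Groth.Agent.LimDesc.stageMap D g₀ f₀ l) :=
    MorphismProperty.of_isPullback (P := @UniversallyOpen) (Groth.Agent.LimDesc.isPullback_trans_stageMap D g₀ f₀ e₂) h₂
  haveI : LocallyOfFiniteType (Groth.Agent.LimDesc.stageMap D g₀ f₀ l) :=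
    MorphismProperty.of_isPullback (P := @LocallyOfFiniteType) (Groth.Agent.LimDesc.isPullback_stageMap D g₀ f₀ l) inferInstance
  exact ⟨l.left, l.hom, _, _, Groth.Agent.LimDesc.stageMap D g₀ f₀ l, _, _, _,
    Groth.Agent.LimDesc.isPullback_stage D g₀ l, Groth.Agent.LimDesc.isPullback_stageMap D g₀ f₀ l,
    inferInstance, inferInstance, inferInstance⟩

end Groth.Agent.S9770
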