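import Groth.Statements.S9775
import Groth.Agent.TorCI.LciSch
import Groth.Agent.S7174
import Groth.Agent.S7069

set_option autoImplicit false
set_option linter.style.haveILetI false
set_option backward.isDefEq.respectTransparency false
open Groth.Agent
open AlgebraicGeometry
universe u
open FlatMor

namespace Groth.Agent.S9775

open AlgebraicGeometry CategoryTheory Limits in
/-- Let S be a locally Noetherian scheme, g : Y ⟶ S locally of finite type with Y regular (all local
rings regular), f : X ⟶ Y a morphism, and assume the composite f ≫ g is Koszul at every point of X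
(a local complete intersection morphism). Then f is Koszul at every point of X, and g is Koszul at
the point f x for each x ∈ X. -/
theorem result {X Y S : Scheme.{u}} (f : X ⟶ Y) (g : Y ⟶ S) [IsLocallyNoetherian S] [LocallyOfFiniteType g]
    (hY : Models.IsRegularScheme Y) (h : ∀ x : X, Synt.IsKoszulAt (f ≫ g) x) :
    (∀ x : X, Synt.IsKoszulAt f x) ∧ ∀ x : X, Synt.IsKoszulAt g (f x) := by
  haveI : IsLocallyNoetherian Y := LocallyOfFiniteType.isLocallyNoetherian g
  haveI : LocallyOfFiniteType (f ≫ g) := KoszulLib.locallyOfFiniteType_of_isKoszulAt (f ≫ g) h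
  haveI : LocallyOfFiniteType f := locallyOfFiniteType_of_comp f g
  have hpc : MoreMor.IsPseudoCoherentMor f := fun U V hU hV hUV => by
    letI := (f.appLE V U hUV).hom.toAlgebra
    haveI : Algebra.FiniteType Γ(Y, V) Γ(X, U) :=
      HasRingHomProperty.appLE @LocallyOfFiniteType f inferInstance ⟨V, hV⟩ ⟨U, hU⟩ hUV
    haveI : IsNoetherianRing Γ(Y, V) := IsLocallyNoetherian.component_noetherian ⟨V, hV⟩
    exact S7067.result Γ(Y, V) Γ(X, U)
  have hf : MoreMor.IsPerfectMor f := (S7174.result f hpc).2 fun x => by
    letI := (f.stalkMap x).hom.toAlgebra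
    haveI := hY (f x)
    obtain ⟨e, he⟩ : ∃ e : ℕ, ringKrullDim (Y.presheaf.stalk (f x)) = e :=
      ⟨_, (IsRegularLocalRing.spanFinrank_maximalIdeal (R := Y.presheaf.stalk (f x))).symm⟩
    exact ⟨e, S7069.torDimLE_of_cyclic e (fun I => S0563.result (Y.presheaf.stalk (f x)) e he _) _⟩
  exact ⟨fun x => (TorCI.lci_pair f g hf x (h x)).1, fun x => (TorCI.lci_pair f g hf x (h x)).2⟩

end Groth.Agent.S9775
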