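import Groth.Statements.S9778
import Groth.Agent.Weighting.SplitClopen

set_option autoImplicit false
universe u
open FlatMor

namespace Groth.Agent.S9778

open AlgebraicGeometry CategoryTheory Limits in
/-- Let f : X ⟶ S be separated and locally of finite type, s a point of S and x_1, …, x_n pairwise
distinct points of X over s at which f is quasi-finite (isolated points of the fibre). Then there
are an étale morphism g : U ⟶ S with a point u over s and finitely many pairwise disjoint open and
closed subschemes V_{i,j} of X_U = X ×_S U, each finite over U and containing exactly one point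
v_{i,j} over u, with v_{i,j} mapping to x_i and κ(v_{i,j}) purely inseparable over κ(u), such that
every point of X_U over u mapping to some x_i lies in one of the V_{i,j} (so the open and closed
complement W of their union has no point over u mapping to any x_i). -/
theorem result {X S : Scheme.{u}} (f : X ⟶ S) [LocallyOfFiniteType f] [IsSeparated f] (s : S)
    {ι : Type} [Finite ι] (x : ι → ↑X) (hinj : Function.Injective x) (hs : ∀ i, f (x i) = s) (hx : ∀ i, f.QuasiFiniteAt (x i)) :
    ∃ (U : Scheme.{u}) (g : U ⟶ S) (u : U), Etale g ∧ g u = s ∧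
      ∃ (J : ι → Type) (_ : ∀ i, Finite (J i)) (V : ∀ i, J i → (pullback f g).Opens) (v : ∀ i, J i → ↑(pullback f g)),
        (∀ i j, IsClopen ((V i j : Set ↑(pullback f g)))) ∧
        (∀ i j i' j', ((V i j : Set ↑(pullback f g)) ∩ (V i' j')).Nonempty → i = i' ∧ HEq j j') ∧
        (∀ i j, v i j ∈ V i j ∧ IsFinite ((V i j).ι ≫ pullback.snd f g) ∧ pullback.snd f g (v i j) = u ∧
          (∀ w : ↑(pullback f g), w ∈ V i j → pullback.snd f g w = u → w = v i j) ∧
          (letI := ((pullback.snd f g).residueFieldMap (v i j)).hom.toAlgebra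
           IsPurelyInseparable ↑(U.residueField (pullback.snd f g (v i j))) ↑((pullback f g).residueField (v i j))) ∧
          pullback.fst f g (v i j) = x i) ∧
        (∀ (w : ↑(pullback f g)) (i : ι), pullback.snd f g w = u → pullback.fst f g w = x i → ∃ j, w ∈ V i j) := by
  classical
  rcases isEmpty_or_nonempty ι with hι | hι
  · exact ⟨S, 𝟙 S, s, inferInstance, rfl, fun i => isEmptyElim i, fun i => isEmptyElim i, fun i => isEmptyElim i,
      fun i => isEmptyElim i, fun i => isEmptyElim i, fun i => isEmptyElim i, fun i => isEmptyElim i, fun _ i => isEmptyElim i⟩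
  obtain ⟨Ω, _, _, sb, rfl⟩ := Weighting.exists_geomPt s
  obtain ⟨P, hP, U, g, hg, u, hu, W, hmemP, hW, hdj⟩ := Weighting.exists_clopen_split f sb (Set.range x)
    (Set.finite_range x) (by rintro _ ⟨i, rfl⟩; exact hs i) (by rintro _ ⟨i, rfl⟩; exact hx i)
  let Pi : ι → Set (Spec (CommRingCat.of Ω) ⟶ X) := fun i => {l | l ∈ P ∧ Weighting.pt l = x i}
  have hfin : ∀ i, Finite (Pi i) := fun i => (hP.subset fun l hl => hl.1).to_subtype
  let e : ∀ i, Fin (Nat.card (Pi i)) ≃ Pi i := fun i => (@Finite.equivFin _ (hfin i)).symm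
  have hcomp : ∀ l ∈ P, l ≫ f = u ≫ g := fun l hl => by rw [hu]; exact ((hmemP l).1 hl).1
  refine ⟨U, g, Weighting.pt u, hg, by rw [← Weighting.pt_comp, hu], fun i => Fin (Nat.card (Pi i)),
    fun i => inferInstance, fun i j => W (e i j).1,
    fun i j => Weighting.pt (pullback.lift (e i j).1 u (hcomp _ (e i j).2.1)), ?_, ?_, ?_, ?_⟩
  · exact fun i j => (hW _ (e i j).2.1).2.2
  · intro i j i' j' ⟨p, hp, hp'⟩
    have heq : (e i j).1 = (e i' j').1 := by
      by_contra hne
      exact Set.disjoint_left.1 (hdj (e i j).2.1 (e i' j').2.1 hne) hp hp'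
    have hi : i = i' := hinj ((e i j).2.2.symm.trans ((congrArg Weighting.pt heq).trans (e i' j').2.2))
    subst hi
    exact ⟨rfl, heq_of_eq ((e i).injective (Subtype.ext heq))⟩
  · intro i j
    obtain ⟨hfinW, hL, -⟩ := hW _ (e i j).2.1
    have hl : (e i j).1 ∈ Weighting.L (W (e i j).1) u := hL ▸ rfl
    obtain ⟨hc, hp⟩ := Weighting.mem_L_iff.1 hl
    haveI := hfinW
    have hsub : (Weighting.Fib ((W (e i j).1).ι ≫ pullback.snd f g) u).Subsingleton := fun a ha b hb =>
      Weighting.injOn_L _ u ha hb <| by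
        have ha' : a ≫ (W (e i j).1).ι ≫ pullback.fst f g ∈ Weighting.L (W (e i j).1) u := ⟨a, ha, rfl⟩
        have hb' : b ≫ (W (e i j).1).ι ≫ pullback.fst f g ∈ Weighting.L (W (e i j).1) u := ⟨b, hb, rfl⟩
        rw [hL, Set.mem_singleton_iff] at ha' hb'
        exact ha'.trans hb'.symm
    have hsnd : pullback.snd f g (Weighting.pt (pullback.lift (e i j).1 u hc)) = Weighting.pt u := by
      rw [← Weighting.pt_comp, pullback.lift_snd]
    refine ⟨hp, hfinW, hsnd, fun w hw hwu => ?_, ?_, ?_⟩
    · obtain ⟨a, ha, hau⟩ := Weighting.exists_mem_fib_at ((W (e i j).1).ι ≫ pullback.snd f g) u ⟨w, hw⟩ hwu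
      obtain ⟨b, hb, hbu⟩ := Weighting.exists_mem_fib_at ((W (e i j).1).ι ≫ pullback.snd f g) u ⟨_, hp⟩ hsnd
      exact congrArg Subtype.val (hau.symm.trans ((congrArg Weighting.pt (hsub ha hb)).trans hbu))
    · let z : (W (e i j).1).toScheme := ⟨Weighting.pt (pullback.lift (e i j).1 u hc), hp⟩
      have key := Weighting.isPurelyInseparable_of_fib_subsingleton ((W (e i j).1).ι ≫ pullback.snd f g) u z hsnd hsub
      letI a₁ := ((pullback.snd f g).residueFieldMap ((W (e i j).1).ι z)).hom.toAlgebra
      letI a₂ : Algebra (U.residueField (pullback.snd f g ((W (e i j).1).ι z))) ((W (e i j).1).toScheme.residueField z) :=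
        (((W (e i j).1).ι ≫ pullback.snd f g).residueFieldMap z).hom.toAlgebra
      haveI : IsPurelyInseparable (U.residueField (pullback.snd f g ((W (e i j).1).ι z))) ((W (e i j).1).toScheme.residueField z) := key
      let φ := (asIso ((W (e i j).1).ι.residueFieldMap z)).commRingCatIsoToRingEquiv
      have hφ : ∀ r, φ (algebraMap _ _ r) = algebraMap (U.residueField (pullback.snd f g ((W (e i j).1).ι z))) ((W (e i j).1).toScheme.residueField z) r := fun r =>
        (congrArg (fun k => k.hom r) (Scheme.residueFieldMap_comp (W (e i j).1).ι (pullback.snd f g) z)).symm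
      exact ((AlgEquiv.ofRingEquiv (f := φ) hφ).symm).isPurelyInseparable
    · rw [← Weighting.pt_comp, pullback.lift_fst]
      exact (e i j).2.2
  · intro w i hwu hwx
    haveI := Weighting.locallyQuasiFinite_quasiFiniteLocus f
    let X₀ := f.quasiFiniteLocus
    let jX : pullback (X₀.ι ≫ f) g ⟶ pullback f g :=
      pullback.map _ _ _ _ X₀.ι (𝟙 U) (𝟙 S) (by simp) (by simp)
    have hj1 : jX ≫ pullback.fst f g = pullback.fst (X₀.ι ≫ f) g ≫ X₀.ι := pullback.lift_fst _ _ _
    have hj2 : jX ≫ pullback.snd f g = pullback.snd (X₀.ι ≫ f) g := (pullback.lift_snd _ _ _).trans (Category.comp_id _)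
    have hw0 : w ∈ Set.range jX := by
      rw [show jX = _ from rfl, Scheme.Pullback.range_map]
      refine ⟨?_, by simp⟩
      show pullback.fst f g w ∈ Set.range X₀.ι
      rw [hwx, Scheme.Opens.range_ι]
      exact hx i
    obtain ⟨z, rfl⟩ := hw0
    obtain ⟨m, hm, rfl⟩ := Weighting.exists_mem_fib_at (pullback.snd (X₀.ι ≫ f) g) u z
      (by rw [← hj2, Scheme.Hom.comp_apply]; exact hwu)
    let l : Spec (CommRingCat.of Ω) ⟶ X := (m ≫ jX) ≫ pullback.fst f g
    have hlu : l ≫ f = u ≫ g := by
      have : (m ≫ jX) ≫ pullback.snd f g = u := by rw [Category.assoc, hj2]; exact hm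
      rw [Category.assoc, pullback.condition, ← Category.assoc, this]
    have hlx : Weighting.pt l = x i := by
      rw [Weighting.pt_comp, Weighting.pt_comp]; exact hwx
    have hlP : l ∈ P := (hmemP l).2 ⟨hlu.trans hu, i, hlx.symm⟩
    obtain ⟨hfinW, hL, -⟩ := hW l hlP
    obtain ⟨hc, hp⟩ := Weighting.mem_L_iff.1 (show l ∈ Weighting.L (W l) u from hL ▸ rfl)
    refine ⟨(e i).symm ⟨l, hlP, hlx⟩, ?_⟩
    show jX (Weighting.pt m) ∈ W ((e i) ((e i).symm ⟨l, hlP, hlx⟩)).1
    rw [Equiv.apply_symm_apply, ← Weighting.pt_comp]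
    convert hp using 2
    apply pullback.hom_ext
    · rw [pullback.lift_fst]
    · rw [pullback.lift_snd, Category.assoc, hj2]; exact hm

end Groth.Agent.S9778
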