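import Groth.Statements.S9782
-- import your own Groth.Agent.* helpers here
import Groth.Agent.UnibranchEtale.NbhdScheme

set_option autoImplicit false
universe u
open Brnch

namespace Groth.Agent.S9782

open AlgebraicGeometry CategoryTheory Limits in
/-- The local ring of X at x is geometrically unibranch exactly when, for each étale morphism g : U ⟶ X
and each point u over x, the point u lies on a single irreducible component of U. -/
theorem result (X : Scheme.{u}) (x : X) :
    CAlg2.IsGeomUnibranch ↑(X.presheaf.stalk x) ↔ ∀ (U : Scheme.{u}) (g : U ⟶ X) (u : U), Etale g → g u = x →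
      {Z : Set ↑U | Z ∈ irreducibleComponents ↑U ∧ u ∈ Z}.encard = 1 := by
  constructor
  · intro h U g u hg hu
    haveI := hg
    subst hu
    exact UnibranchEtale.components_encard_eq_one u (UnibranchEtale.hasUniqueMinimalPrime_of_nilradical _
      ((Ideal.Quotient.isDomain_iff_prime _).1 (UnibranchEtale.isGeomUnibranch_stalk_of_etale g u h).1.1))
  · intro h
    obtain ⟨hloc, hH⟩ := Groth.Agent.Hensel.exists_strictHenselization (X.presheaf.stalk x)
    haveI := hloc
    haveI := hH
    refine (S2135.result (A := X.presheaf.stalk x) (Ash := Groth.Agent.Hensel.Env (X.presheaf.stalk x)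
      (SeparableClosure (IsLocalRing.ResidueField (X.presheaf.stalk x))))).2 ?_
    by_contra hn
    obtain ⟨U, g, u, hg, hu, -, hc⟩ := UnibranchEtale.exists_two_components x
      (SeparableClosure (IsLocalRing.ResidueField (X.presheaf.stalk x))) hn
    exact hc (h U g u hg hu)

end Groth.Agent.S9782
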