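import Groth.Statements.S9787
import Groth.Agent.BlowBC.SmoothPair
import Groth.Agent.BlowExc.Smooth
import Groth.Agent.S1677
import Groth.Agent.SyntLib.CIMor
import Groth.Agent.S1676

set_option linter.style.haveILetI false
set_option backward.isDefEq.respectTransparency false
-- import your own Groth.Agent.* helpers here

set_option autoImplicit false
universe u
open CategoryTheory CategoryTheory.Limits AlgebraicGeometry TopologicalSpace
open FlatMor

namespace Groth.Agent.S9787

/-- For a smooth q : X ⟶ S and a closed immersion i : Z ⟶ X whose composite with q is smooth, any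
blowing up b : X' ⟶ X of the ideal sheaf of Z (given by its universal property) is smooth over S,
and so is its exceptional divisor. The published statement also identifies the exceptional divisor
over Z with the projective bundle of the conormal sheaf, with O(1) the restriction of O_{X'}(−E);
this row proves only the two smoothness claims. -/
theorem result {Z X X' S : Scheme.{u}} (q : X ⟶ S) [Smooth q] (i : Z ⟶ X) [IsClosedImmersion i]
    [Smooth (i ≫ q)] (b : X' ⟶ X) (hb : BlowUp.IsBlowUp b i.ker) :
    Smooth (b ≫ q) ∧ Smooth ((BlowUp.exceptional b i.ker).subschemeι ≫ b ≫ q) := by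
  have hi : Mor2.IsRegularClosedImmersion i := by
    refine Groth.Agent.S1677.result q i ?_
    rw [← SyntLib.synMor_iff_isCIMorphism, SyntLib.SynMor, affineLocally_iff_affineOpens_le]
    exact fun V U e => SyntLib.syn_of_smooth _ (HasRingHomProperty.appLE @Smooth (i ≫ q) inferInstance V U e)
  refine ⟨Groth.Agent.BlowBC.smooth_blowUp q i hi b hb, ?_⟩
  set ι := (BlowUp.exceptional b i.ker).subschemeι
  have hle : i.ker ≤ (ι ≫ b).ker := by
    show i.ker ≤ (i.ker.comap b).map b
    exact Scheme.IdealSheafData.le_map_comap i.ker b
  let g := IsClosedImmersion.lift i (ι ≫ b) hle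
  have hg : g ≫ i = ι ≫ b := IsClosedImmersion.lift_fac _ _ _
  haveI : Smooth g := Groth.Agent.BlowExc.smooth_exceptional i hi b hb ι
    (Scheme.IdealSheafData.ker_subschemeι _) g hg
  rw [← Category.assoc, ← hg, Category.assoc]
  infer_instance

end Groth.Agent.S9787
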