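import Groth.Statements.S9790
import Groth.Agent.FlatFunLib.RelAssFlatClosure

set_option autoImplicit false
universe u
open FlatMor

namespace Groth.Agent.S9790

open AlgebraicGeometry CategoryTheory Limits in
/-- Let f : X ⟶ S be locally of finite type, F a quasi-coherent O_X-module of finite type and y a point
of the relative assassin of F over S. Let Y ⊆ X be the closure of y with its reduced induced
(integral) closed subscheme structure. Suppose F is S-flat at every point of Y that is a generic
point of an irreducible component of its fibre over S (e.g. F flat over S everywhere). Then Y ⟶ S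
has constant fibre dimension: there is d ≥ 0 with dim_x(Y_{f x}) = d for every point x of Y, i.e. Y
has relative dimension d over the closure of f y. The published statement also contains a part (1),
that such generic points are again relative associated points of F; this row states only part (2),
the relative-dimension clause. -/
theorem result {X S : Scheme.{u}} (f : X ⟶ S) [LocallyOfFiniteType f] (F : X.Modules) [Coh.IsQCoh F]
    (hF : CohB1.IsFT F) (y : X) (hy : y ∈ MoreMor.relAss f F)
    (hflat : ∀ x : ↑(Scheme.IdealSheafData.vanishingIdeal (TopologicalSpace.Closeds.closure {y})).subscheme,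
      (∃ Z ∈ irreducibleComponents ↥(((Scheme.IdealSheafData.vanishingIdeal (TopologicalSpace.Closeds.closure {y})).subschemeι ≫ f).fiber (f ((Scheme.IdealSheafData.vanishingIdeal (TopologicalSpace.Closeds.closure {y})).subschemeι x))),
        IsGenericPoint (((Scheme.IdealSheafData.vanishingIdeal (TopologicalSpace.Closeds.closure {y})).subschemeι ≫ f).asFiber x) Z) →
      FlatMod.IsFlatOverAt f F ((Scheme.IdealSheafData.vanishingIdeal (TopologicalSpace.Closeds.closure {y})).subschemeι x)) :
    ∃ d : ℕ, ∀ x : ↑(Scheme.IdealSheafData.vanishingIdeal (TopologicalSpace.Closeds.closure {y})).subscheme, FlatMor.fibreDimAt ((Scheme.IdealSheafData.vanishingIdeal (TopologicalSpace.Closeds.closure {y})).subschemeι ≫ f) x = d := by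
  obtain ⟨d, hd, -, -⟩ := FlatFunLib.exists_resTrdeg_chains f y
  let ι := (FlatFunLib.closureSub y).subschemeι
  have key : ∀ {A : Scheme.{u}} (q : A ⟶ S) (m : A), (∀ w, q w = q m → w ⤳ m → w = m) →
      ∃ Z ∈ irreducibleComponents ↥(q.fiber (q m)), IsGenericPoint (q.asFiber m) Z := fun q m hmax =>
    ⟨closure {q.asFiber m}, Unibranch.IsMaxPt.mem_irreducibleComponents fun z hz => by
      refine (q.fiberι _).isEmbedding.injective ?_
      have h1 := hz.map (q.fiberι _).continuous
      rw [Scheme.Hom.fiberι_asFiber] at h1 ⊢
      exact hmax _ ((q.range_fiberι _).le ⟨z, rfl⟩) h1, isGenericPoint_closure⟩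
  refine ⟨d, fun x => FlatFunLib.fibreDimAt_eq_of_max (ι ≫ f) x d fun m _ _ hmax => ?_⟩
  have hfl : FlatMod.IsFlatOverAt f F (ι m) := hflat m (key (ι ≫ f) m hmax)
  rw [FlatFunLib.resTrdeg_closureSub, (FlatFunLib.relAss_and_resTrdeg_of_flat f F inferInstance hF hy
    (FlatFunLib.specializes_closureSub y m) hfl fun w hw hws hsp => ?_).2, hd]
  obtain ⟨w', rfl⟩ : w ∈ Set.range ι := (FlatFunLib.range_closureSub y).ge (specializes_iff_mem_closure.1 hw)
  rw [hmax w' hws ((ι.isEmbedding.isInducing.specializes_iff).1 hsp)]

end Groth.Agent.S9790
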