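import Groth.Statements.S9792
import Groth.Agent.DomLib.Basic

set_option autoImplicit false
universe u
open CategoryTheory AlgebraicGeometry TopologicalSpace
open Props

namespace Groth.Agent.S9792

/-- In a Noetherian scheme, every infinite set of points contains an infinite subset no two distinct
members of which are related by specialization. -/
theorem result (S : Scheme.{u}) [IsNoetherian S]
    (T : Set S) (hT : T.Infinite) :
    ∃ T' : Set S, T' ⊆ T ∧ T'.Infinite ∧ ∀ a ∈ T', ∀ b ∈ T', a ⤳ b → a = b := by
  classical
  let a : ℕ → S := fun n => (hT.natEmbedding T n).1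
  have hinj : Function.Injective a := fun m n h => (hT.natEmbedding T).injective (Subtype.ext h)
  haveI : IsTrans S (fun x y : S => x ⤳ y) := ⟨fun _ _ _ h1 h2 => h1.trans h2⟩
  haveI : IsTrans S (fun x y : S => y ⤳ x) := ⟨fun _ _ _ h1 h2 => h2.trans h1⟩
  obtain ⟨g, hg | hg⟩ := exists_increasing_or_nonincreasing_subseq (fun x y : S => x ⤳ y) a
  · exfalso
    let C : ℕ → TopologicalSpace.Closeds S := fun n => ⟨closure {a (g n)}, isClosed_closure⟩
    refine not_strictAnti_of_wellFoundedLT C (strictAnti_nat_of_succ_lt fun n => lt_of_le_of_ne ?_ ?_)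
    · exact closure_minimal (Set.singleton_subset_iff.2 (specializes_iff_mem_closure.1
        (hg n (n+1) n.lt_succ_self))) isClosed_closure
    · intro he
      have h2 : a (g (n+1)) ⤳ a (g n) := by
        rw [specializes_iff_mem_closure]
        have : closure ({a (g n)} : Set S) = closure {a (g (n+1))} := congrArg (fun c : TopologicalSpace.Closeds S => (c : Set S)) he.symm
        exact (Set.ext_iff.1 this _).1 (subset_closure rfl)
      exact n.succ_ne_self (g.injective (hinj (h2.antisymm (hg n (n+1) n.lt_succ_self)).eq))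
  · obtain ⟨k, hk | hk⟩ := exists_increasing_or_nonincreasing_subseq (fun x y : S => y ⤳ x) (a ∘ g)
    · exfalso
      obtain ⟨m, ⟨n, rfl⟩, hmin⟩ := (Groth.Agent.DomLib.wf_gen S).has_min
        (Set.range fun n => a (g (k n))) ⟨_, 0, rfl⟩
      refine hmin _ ⟨n + 1, rfl⟩ ⟨hk n (n+1) n.lt_succ_self, fun he => ?_⟩
      exact n.succ_ne_self (k.injective (g.injective (hinj he)))
    · refine ⟨Set.range fun n => a (g (k n)), ?_,
        Set.infinite_range_of_injective fun m n h => k.injective (g.injective (hinj h)), ?_⟩
      · rintro _ ⟨n, rfl⟩; exact (hT.natEmbedding T _).2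
      · rintro _ ⟨m, rfl⟩ _ ⟨n, rfl⟩ h
        rcases lt_trichotomy m n with hmn | rfl | hmn
        · exact absurd h (hg _ _ (k.strictMono hmn))
        · rfl
        · exact absurd h (hk _ _ hmn)

end Groth.Agent.S9792
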