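import Groth.Statements.S9793
import Groth.Agent.DomLib.Basic

set_option autoImplicit false
universe u
open CategoryTheory AlgebraicGeometry TopologicalSpace
open Props

namespace Groth.Agent.S9793

/-- Let S be a Noetherian scheme and T a set of points of S. Every point of T is a specialization of
some point of T which admits no non-trivial generization lying in T. -/
theorem result (S : Scheme.{u}) [IsNoetherian S]
    (T : Set S) (t : S) (ht : t ∈ T) :
    ∃ t₀ ∈ T, (∀ t' ∈ T, t' ⤳ t₀ → t' = t₀) ∧ t₀ ⤳ t := by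
  obtain ⟨t₀, ⟨h0T, h0⟩, hmin⟩ :=
    (Groth.Agent.DomLib.wf_gen S).has_min {a | a ∈ T ∧ a ⤳ t} ⟨t, ht, specializes_rfl⟩
  exact ⟨t₀, h0T, fun t' ht' h => by_contra fun hne => hmin t' ⟨ht', h.trans h0⟩ ⟨h, hne⟩, h0⟩

end Groth.Agent.S9793
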