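import Groth.Statements.S9794
import Mathlib.RingTheory.Ideal.KrullsHeightTheorem

set_option autoImplicit false
universe u
open CategoryTheory AlgebraicGeometry TopologicalSpace
open Props

namespace Groth.Agent.S9794

open AlgebraicGeometry CategoryTheory TopologicalSpace in
/-- no infinite ascending chain of irreducible closed subsets -/
theorem wellFoundedGT_irreducibleCloseds (S : Scheme.{u}) [IsLocallyNoetherian S] :
    WellFoundedGT (IrreducibleCloseds S) := by
  refine wellFoundedGT_iff_monotone_chain_condition.2 fun c => ?_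
  by_contra hne
  simp only [not_exists, not_forall] at hne
  choose next hle hnext using hne
  let g : ℕ → ℕ := fun n => Nat.rec 0 (fun _ i => next i) n
  have hg : StrictMono fun n => c (g n) := strictMono_nat_of_lt_succ fun n =>
    lt_of_le_of_ne (c.monotone (hle (g n))) (hnext (g n))
  let w : ℕ → S := fun n => (c (g n)).isIrreducible.genericPoint
  have hcl : ∀ n, closure ({w n} : Set S) = (c (g n) : Set S) := fun n =>
    (c (g n)).isIrreducible.closure_genericPoint (c (g n)).isClosed
  have hspec : ∀ {m n}, m ≤ n → w n ⤳ w m := fun h => specializes_iff_mem_closure.2 (by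
    rw [hcl]
    exact hg.monotone h (show w _ ∈ (c (g _) : Set S) from (hcl _).subset (subset_closure (Set.mem_singleton _))))
  have hq : ∀ n, ∃ q, (S.fromSpecStalk (w 0)).base q = w n := fun n => by
    have h : w n ∈ {y | y ⤳ w 0} := hspec (Nat.zero_le n)
    rw [← Scheme.range_fromSpecStalk] at h
    exact h
  choose q hq using hq
  replace hq : ∀ n, (S.fromSpecStalk (w 0)).base (q n) = w n := hq
  let q' : ℕ → PrimeSpectrum (S.presheaf.stalk (w 0)) := q
  have hqlt : ∀ n, q' (n + 1) < q' n := fun n => by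
    refine lt_of_le_of_ne ((PrimeSpectrum.le_iff_specializes _ _).2
      ((S.fromSpecStalk (w 0)).isEmbedding.isInducing.specializes_iff.1 ((hq (n + 1)).symm ▸ (hq n).symm ▸ hspec n.le_succ))) ?_
    intro e
    have : w (n + 1) = w n := by rw [← hq (n + 1), ← hq n]; exact congrArg _ e
    exact (hg n.lt_succ_self).ne (IrreducibleCloseds.ext (((hcl n).symm.trans (by rw [this])).trans (hcl (n + 1))))
  let R := S.presheaf.stalk (w 0)
  obtain ⟨d, hd⟩ : ∃ d : ℕ, ringKrullDim R < d := by
    have : IsNoetherianRing R := inferInstance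
    obtain ⟨m, hm⟩ := WithBot.ne_bot_iff_exists.1 (ringKrullDim_ne_bot (R := R))
    obtain ⟨n, rfl⟩ := WithTop.ne_top_iff_exists.1 (show m ≠ ⊤ by
      rintro rfl; exact ringKrullDim_ne_top (R := R) hm.symm)
    have hn : Order.krullDim (PrimeSpectrum R) = n := hm.symm
    exact ⟨n + 1, by rw [ringKrullDim, hn]; exact_mod_cast n.lt_succ_self⟩
  let s : LTSeries (PrimeSpectrum R) := ⟨d, fun i => q' (d - i), fun i => by
    simp only [Set.mem_ofPred_eq]
    rw [show d - (i.castSucc : ℕ) = (d - (i.succ : ℕ)) + 1 by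
      simp only [Fin.val_castSucc, Fin.val_succ]; omega]
    exact hqlt _⟩
  exact absurd (Order.LTSeries.length_le_krullDim s) (not_le.2 hd)

open AlgebraicGeometry TopologicalSpace in
theorem main (S : Scheme.{u}) [IsNoetherian S] (T : Set S) (hd : Dense T) :
    ∃ E : Set S, E ⊆ T ∧ E.Countable ∧ Dense E := by
  classical
  have := wellFoundedGT_irreducibleCloseds S
  let A : Set (IrreducibleCloseds S) := {W | ∃ E ⊆ T, E.Countable ∧ closure E = W}
  let M : Set (IrreducibleCloseds S) := {W | W ∈ A ∧ ∀ W' ∈ A, W ≤ W' → W' = W}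
  have hAM : ∀ W ∈ A, ∃ W' ∈ M, W ≤ W' := fun W hW => by
    obtain ⟨W', ⟨hW', hle⟩, hmax⟩ :=
      WellFounded.has_min (wellFounded_gt (α := IrreducibleCloseds S)) {W' | W' ∈ A ∧ W ≤ W'} ⟨W, hW, le_rfl⟩
    exact ⟨W', ⟨hW', fun V hV hV' => by
      by_contra hne
      exact hmax V ⟨hV, hle.trans hV'⟩ (lt_of_le_of_ne hV' (Ne.symm hne))⟩, hle⟩
  -- the components of the closure of a countable subset are attainable
  have hcomp : ∀ E ⊆ T, E.Countable → ∃ F : Set (IrreducibleCloseds S), F.Finite ∧ F ⊆ A ∧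
      ∀ W : IrreducibleCloseds S, (W : Set S) ⊆ closure E → ∃ V ∈ F, W ≤ V := by
    intro E hE hEc
    obtain ⟨F, hFf, hFc, hFi, hFU⟩ :=
      NoetherianSpace.exists_finite_set_isClosed_irreducible (isClosed_closure (s := E))
    let G : Set (IrreducibleCloseds S) := {V | (V : Set S) ∈ F}
    have hGf : G.Finite := hFf.preimage (fun V _ W _ h => IrreducibleCloseds.ext h)
    refine ⟨{V | V ∈ G ∧ ∀ V' ∈ G, V ≤ V' → V' ≤ V}, hGf.subset fun V h => h.1, ?_, fun W hW => ?_⟩
    · rintro V ⟨hV, hmax⟩
      refine ⟨E ∩ (V : Set S), Set.inter_subset_left.trans hE, hEc.mono Set.inter_subset_left,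
        (closure_minimal Set.inter_subset_right V.isClosed).antisymm ?_⟩
      let C := closure (E ∩ (V : Set S))
      let O := ⋃₀ (F \ {(V : Set S)})
      have hO : IsClosed O := by
        rw [show O = ⋃ t ∈ F \ {(V : Set S)}, t from Set.sUnion_eq_biUnion]
        exact hFf.sdiff.isClosed_biUnion fun t ht => hFc t ht.1
      have hcov : (V : Set S) ⊆ C ∪ O := by
        intro x hx
        have hxE : x ∈ closure E := hFU ▸ Set.mem_sUnion_of_mem hx hV
        refine closure_minimal (fun y hy => ?_) (isClosed_closure.union hO) hxE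
        obtain ⟨t, ht, hyt⟩ : y ∈ ⋃₀ F := hFU ▸ subset_closure hy
        by_cases h : t = V
        · exact Or.inl (subset_closure ⟨hy, h ▸ hyt⟩)
        · exact Or.inr ⟨t, ⟨ht, h⟩, hyt⟩
      refine ((isPreirreducible_iff_isClosed_union_isClosed.1 V.isIrreducible.2) _ _ isClosed_closure hO hcov).resolve_right fun h => ?_
      obtain ⟨t, ht, hVt⟩ := isIrreducible_iff_sUnion_isClosed.1 V.isIrreducible hFf.sdiff.toFinset
        (fun t ht => hFc t (hFf.sdiff.mem_toFinset.1 ht).1) (by simpa [O] using h)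
      obtain ⟨ht1, ht2⟩ := hFf.sdiff.mem_toFinset.1 ht
      exact ht2 (Set.Subset.antisymm (hmax ⟨t, hFi t ht1, hFc t ht1⟩ ht1 hVt) hVt)
    · obtain ⟨t, ht, hWt⟩ := isIrreducible_iff_sUnion_isClosed.1 W.isIrreducible hFf.toFinset
        (fun t ht => hFc t (hFf.mem_toFinset.1 ht)) (by simpa [← hFU] using hW)
      have ht' := hFf.mem_toFinset.1 ht
      let V₀ : IrreducibleCloseds S := ⟨t, hFi t ht', hFc t ht'⟩
      obtain ⟨V, hVV, hV, hmax⟩ := hGf.exists_le_maximal (a := V₀) ht'
      exact ⟨V, ⟨hV, fun V' hV' h => hmax hV' h⟩, le_trans (show W ≤ V₀ from hWt) hVV⟩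
  have hpt : ∀ x ∈ T, ∃ W ∈ M, x ∈ (W : Set S) := fun x hx => by
    obtain ⟨W', hW', hle⟩ := hAM ⟨closure {x}, isIrreducible_singleton.closure, isClosed_closure⟩
      ⟨{x}, Set.singleton_subset_iff.2 hx, Set.countable_singleton x, rfl⟩
    exact ⟨W', hW', hle (subset_closure (Set.mem_singleton x))⟩
  rcases M.finite_or_infinite with hM | hM
  · choose E hE hEc hEcl using fun W : M => W.2.1
    have := hM.to_subtype
    refine ⟨⋃ W, E W, Set.iUnion_subset hE, Set.countable_iUnion hEc, fun y => ?_⟩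
    refine closure_minimal (fun x hx => ?_) isClosed_closure (hd y)
    obtain ⟨W, hW, hxW⟩ := hpt x hx
    exact closure_mono (Set.subset_iUnion E ⟨W, hW⟩) ((hEcl ⟨W, hW⟩).symm ▸ hxW)
  · exfalso
    let e := hM.natEmbedding
    choose E hE hEc hEcl using fun n => (e n).2.1
    obtain ⟨F, hF, hFA, hFW⟩ := hcomp (⋃ n, E n) (Set.iUnion_subset hE) (Set.countable_iUnion hEc)
    choose V hVF hV using fun n => hFW (e n).1 ((hEcl n).symm.trans_subset (closure_mono (Set.subset_iUnion E n)))
    have := hF.to_subtype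
    obtain ⟨m, n, hmn, he⟩ := Finite.exists_ne_map_eq_of_infinite fun n => (⟨V n, hVF n⟩ : F)
    have hVe : ∀ n, V n = (e n).1 := fun n => (e n).2.2 _ (hFA (hVF n)) (hV n)
    refine hmn (e.injective (Subtype.ext ?_))
    rw [← hVe, ← hVe]
    exact congr($(he).1)

/-- In a Noetherian scheme, an infinite dense set of points contains a countable subset which is dense. -/
theorem result (S : Scheme.{u}) [IsNoetherian S]
    (T : Set S) (hT : T.Infinite) (hd : Dense T) :
    ∃ E : Set S, E ⊆ T ∧ E.Countable ∧ Dense E := by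
  exact main S T hd

end Groth.Agent.S9794
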