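import Groth.Statements.S9798
import Groth.Agent.TopDim.Basic

set_option autoImplicit false
universe u
open CategoryTheory AlgebraicGeometry TopologicalSpace
open Props

namespace Groth.Agent.S9798

/-- A point of a locally Noetherian scheme has local dimension zero exactly when it is isolated. -/
theorem result (X : Scheme.{u}) [IsLocallyNoetherian X] (x : X) :
    FlatMor.localDim X x = 0 ↔ IsOpen ({x} : Set X) := by
  refine ⟨fun h => ?_, TopDim.localDim_eq_zero_of_isOpen⟩
  obtain ⟨U, hU, hxU, -⟩ := exists_isAffineOpen_mem_and_subset (U := (⊤ : X.Opens)) (x := x) trivial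
  haveI := IsLocallyNoetherian.component_noetherian (X := X) ⟨U, hU⟩
  haveI : TopologicalSpace.NoetherianSpace (U : Set X) := AlgebraicGeometry.noetherianSpace_of_isAffineOpen U hU
  exact TopDim.isOpen_singleton_of_localDim_eq_zero U hxU h

end Groth.Agent.S9798
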