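import Groth.Statements.S9799
import Groth.Agent.S2279

set_option autoImplicit false
universe u
open CategoryTheory AlgebraicGeometry TopologicalSpace
open Props

namespace Groth.Agent.S9799

/-- Let X be a normal scheme (all local rings are integrally closed domains) such that every
quasi-compact open subset has finitely many irreducible components. Then the irreducible components
of X are open and pairwise disjoint; hence X is the disjoint union of its irreducible components,
each an open subscheme which is normal and integral. -/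
theorem result (X : Scheme.{u})
    (hfin : ∀ U : X.Opens, IsCompact (U : Set X) → (irreducibleComponents ↥U).Finite)
    (hN : Pi1.IsNormalScheme X) :
    (∀ Z ∈ irreducibleComponents X, IsOpen Z) ∧
      ∀ Z ∈ irreducibleComponents X, ∀ Z' ∈ irreducibleComponents X, Z ≠ Z' → Disjoint Z Z' := by
  have hd : (irreducibleComponents (X : Type u)).PairwiseDisjoint id :=
    (Groth.Agent.S2279.result X).2 fun x => by
      haveI := (hN x).1
      rw [nilradical_eq_zero]
      exact Ideal.isPrime_bot
  refine ⟨fun Z hZ => isOpen_iff_forall_mem_open.2 fun z hz => ?_, fun Z hZ Z' hZ' hne => hd hZ hZ' hne⟩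
  obtain ⟨U, hU, hzU, -⟩ := exists_isAffineOpen_mem_and_subset (U := (⊤ : X.Opens)) (x := z) trivial
  have hf := hfin U hU.isCompact
  let S : Set (Set X) := {C ∈ irreducibleComponents (X : Type u) | C ≠ Z ∧ (C ∩ (U : Set X)).Nonempty}
  have hinj : Set.InjOn (fun C : Set X => ((↑) : ↥U → X) ⁻¹' C) S := fun C hC D hD h => by
    obtain ⟨x, hxC, hxU⟩ := hC.2.2
    by_contra hCD
    have hxD : (⟨x, hxU⟩ : U) ∈ ((↑) : ↥U → X) ⁻¹' D := (congrArg (fun A : Set ↥U => (⟨x, hxU⟩ : U) ∈ A) h).mp hxC
    exact Set.disjoint_left.1 (hd hC.1 hD.1 hCD) hxC hxD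
  have hS : S.Finite := Set.Finite.of_finite_image (hf.subset fun C' hC' => by
    obtain ⟨C, hC, rfl⟩ := hC'
    obtain ⟨x, hxC, hxU⟩ := hC.2.2
    exact preimage_mem_irreducibleComponents hC.1 U.2.isOpenEmbedding_subtypeVal
      ⟨x, hxC, ⟨x, hxU⟩, rfl⟩) hinj
  refine ⟨(U : Set X) \ ⋃ C ∈ S, C, fun x hx => ?_,
    U.2.sdiff (hS.isClosed_biUnion fun C hC => isClosed_of_mem_irreducibleComponents C hC.1), hzU, ?_⟩
  · by_contra hxZ
    exact hx.2 (Set.mem_biUnion (x := irreducibleComponent x)
      ⟨irreducibleComponent_mem_irreducibleComponents x, fun h => hxZ (h ▸ mem_irreducibleComponent),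
        x, mem_irreducibleComponent, hx.1⟩ mem_irreducibleComponent)
  · simp only [Set.mem_iUnion, not_exists]
    exact fun C hC hzC => Set.disjoint_left.1 (hd hC.1 hZ hC.2.1) hzC hz

end Groth.Agent.S9799
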