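import Groth.Statements.S9802
import Groth.Agent.Nagata.Scheme
import Groth.Agent.Nagata.PrimeSubscheme

set_option autoImplicit false
universe u
open CategoryTheory AlgebraicGeometry TopologicalSpace
open Props

namespace Groth.Agent.S9802

/-- A locally Noetherian scheme is Nagata (every affine open has a Nagata coordinate ring) if and only
if every integral closed subscheme is Japanese (every nonempty affine open of it has an N-2
coordinate ring). -/
theorem result (X : Scheme.{u})
    [IsLocallyNoetherian X] :
    (∀ U : X.Opens, IsAffineOpen U → CAlg.IsNagata Γ(X, U)) ↔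
      ∀ (Z : Scheme.{u}) (i : Z ⟶ X) [IsClosedImmersion i] [IsIntegral Z]
        (V : Z.Opens) [Nonempty V], IsAffineOpen V → CAlg.IsN2 Γ(Z, V) := by
  constructor
  · intro h Z i _ _ V _ hV
    have hN := Nagata.isNagata_affine (fun U : X.affineOpens => i ⁻¹ᵁ (U : X.Opens))
      (by rw [← Scheme.Hom.preimage_iSup, iSup_affineOpens_eq_top, Scheme.Hom.preimage_top]) (fun U => U.2.preimage i)
      (fun U => Nagata.isNagata_of_surjective (i.app U).hom (i.app_surjective U U.2) (h U U.2)) V hV
    exact Nagata.isN2_of_isNagata hN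
  · intro h U hU
    refine ⟨IsLocallyNoetherian.component_noetherian ⟨U, hU⟩, fun p _ => ?_⟩
    obtain ⟨Z, i, _, _, hne, ⟨e⟩⟩ := Nagata.exists_primeSubscheme U hU p
    haveI := hne
    exact Nagata.isN2_of_ringEquiv e.symm (h Z i (i ⁻¹ᵁ U) (hU.preimage i))

end Groth.Agent.S9802
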