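import Groth.Statements.S9804
import Mathlib

set_option autoImplicit false
universe u
open CategoryTheory AlgebraicGeometry TopologicalSpace
open Props

namespace Groth.Agent.S9804

/-- For quasi-affine schemes U and V and an open immersion j : U → V, the scheme U is the fibre product
of the composite U → V → Spec Γ(V, O_V) and the morphism Spec Γ(U, O_U) → Spec Γ(V, O_V) induced by
restriction of sections along j: the square whose sides are the identity of U, the canonical
morphism U → Spec Γ(U, O_U), that composite and that induced morphism is cartesian. -/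
theorem result {U V : Scheme.{u}} (j : U ⟶ V)
    [IsOpenImmersion j] [U.IsQuasiAffine] [V.IsQuasiAffine] :
    IsPullback (𝟙 U) U.toSpecΓ (j ≫ V.toSpecΓ) (Spec.map j.appTop) := by
  refine IsOpenImmersion.isPullback (𝟙 U) U.toSpecΓ (j ≫ V.toSpecΓ) (Spec.map j.appTop) ?_ ?_
  · rw [Category.id_comp]; exact (Scheme.toSpecΓ_naturality j).symm
  ext p
  constructor
  · intro hp
    obtain ⟨v, hv⟩ := hp
    obtain ⟨_, ⟨_, ⟨r, hr, rfl⟩, rfl⟩, hvr, hrU⟩ :=
      (Scheme.IsQuasiAffine.isBasis_basicOpen V).exists_subset_of_mem_open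
        (show j v ∈ j.opensRange from ⟨v, rfl⟩) j.opensRange.2
    let D := U.basicOpen (j.appTop r)
    have hD : IsAffineOpen D := by
      have h := hr.preimage_of_isOpenImmersion j hrU
      rwa [Scheme.preimage_basicOpen_top] at h
    have hp : p ∈ PrimeSpectrum.basicOpen (j.appTop r) := by
      have h1 : V.toSpecΓ (j v) ∈ PrimeSpectrum.basicOpen r := by
        rw [← V.toSpecΓ_preimage_basicOpen r] at hvr
        exact hvr
      rw [show V.toSpecΓ (j v) = Spec.map j.appTop p from hv] at h1
      exact h1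
    have : IsAffine D.toScheme := hD
    have := isLocalization_basicOpen_of_qcqs (X := U) isCompact_univ isQuasiSeparated_univ (j.appTop r)
    let ρ : Γ(U, ⊤) ⟶ Γ(U, D) := U.presheaf.map (homOfLE le_top).op
    have he : D.ι ≫ U.toSpecΓ = D.toSpecΓ ≫ Spec.map ρ :=
      (Scheme.Opens.toSpecΓ_SpecMap_presheaf_map_top D).symm
    obtain ⟨q, hq⟩ : p ∈ Set.range (Spec.map ρ) := by
      have h := PrimeSpectrum.localization_away_comap_range (R := Γ(U, ⊤)) Γ(U, D) (j.appTop r)
      show p ∈ Set.range (PrimeSpectrum.comap ρ.hom)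
      have hρ : algebraMap Γ(U, ⊤) Γ(U, D) = ρ.hom := rfl
      rw [← hρ, h]
      exact hp
    have : IsIso D.toSpecΓ := by
      have : D.toSpecΓ = hD.isoSpec.hom := rfl
      rw [this]; infer_instance
    obtain ⟨w, rfl⟩ := D.toSpecΓ.surjective q
    exact ⟨D.ι w, (congr($he w)).trans hq⟩
  · rintro ⟨u, rfl⟩
    exact ⟨u, congr($(Scheme.toSpecΓ_naturality j) u)⟩

end Groth.Agent.S9804
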