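import Groth.Statements.S9817
import Groth.Agent.GrT.TwistMul
import Groth.Agent.SymAlg.AmpleOfR

set_option autoImplicit false
set_option linter.style.haveILetI false
set_option backward.isDefEq.respectTransparency false
universe u
open CategoryTheory CategoryTheory.Limits AlgebraicGeometry TopologicalSpace Opposite
open Props

namespace Groth.Agent.S9817

open Groth.Agent.QC (res resO res_res res_smul resO_resO app_res res_self)

variable {R A : Type u} [CommRing R] [CommRing A] [Algebra R A] {𝒜 : ℕ → Submodule R A} [GradedAlgebra 𝒜]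

/-- homogeneous basic opens of positive degree form a basis -/
theorem exists_basicOpen_le (O : (Proj 𝒜).Opens) {x : Proj 𝒜} (hx : x ∈ O) :
    ∃ (e : ℕ) (f : A), 0 < e ∧ f ∈ 𝒜 e ∧ x ∈ Proj.basicOpen 𝒜 f ∧ Proj.basicOpen 𝒜 f ≤ O := by
  classical
  obtain ⟨_, ⟨g, rfl⟩, hxg, hgO⟩ :=
    (ProjectiveSpectrum.isTopologicalBasis_basic_opens 𝒜).exists_subset_of_mem_open hx O.isOpen
  obtain ⟨i, hi⟩ : ∃ i, (DirectSum.decompose 𝒜 g i : A) ∉ x.asHomogeneousIdeal := by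
    by_contra hc
    push Not at hc
    refine (ProjectiveSpectrum.mem_basicOpen 𝒜 g x).1 hxg ?_
    rw [← DirectSum.sum_support_decompose 𝒜 g]
    exact Ideal.sum_mem _ fun i _ => hc i
  obtain ⟨k, h, hk, hh, hhx⟩ : ∃ (k : ℕ) (h : A), 0 < k ∧ h ∈ 𝒜 k ∧ h ∉ x.asHomogeneousIdeal := by
    by_contra hc
    push Not at hc
    refine x.not_irrelevant_le fun a ha => ?_
    show a ∈ x.asHomogeneousIdeal
    rw [← DirectSum.sum_support_decompose 𝒜 a]
    refine Ideal.sum_mem _ fun k _ => ?_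
    rcases Nat.eq_zero_or_pos k with rfl | hk
    · rw [show (DirectSum.decompose 𝒜 a 0 : A) = 0 from ha]; exact Ideal.zero_mem _
    · exact hc k _ hk (DirectSum.decompose 𝒜 a k).2
  refine ⟨i + k, (DirectSum.decompose 𝒜 g i : A) * h, by omega,
    SetLike.GradedMul.mul_mem (DirectSum.decompose 𝒜 g i).2 hh,
    (ProjectiveSpectrum.mem_basicOpen 𝒜 _ x).2 fun hm => (x.isPrime.mem_or_mem hm).elim hi hhx,
    fun y hy => hgO ((ProjectiveSpectrum.mem_basicOpen 𝒜 g y).2 fun hgy => ?_)⟩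
  exact (ProjectiveSpectrum.mem_basicOpen 𝒜 _ y).1 hy
    (Ideal.mul_mem_right _ _ (y.asHomogeneousIdeal.2 i hgy))

/-- where `f` generates `O(m)` near a point with a degree `m` non-vanishing element, `f` does not vanish -/
theorem mem_basicOpen_of_isGen {m : ℕ} {f g : A} (hf : f ∈ 𝒜 m) (hg : g ∈ 𝒜 m) {x : Proj 𝒜}
    (hgx : g ∉ x.asHomogeneousIdeal) {W : (Proj 𝒜).Opens} (hxW : x ∈ W)
    (hgen : TMul.IsGen (res (GrTilde.tilde 𝒜 𝒜 (m : ℤ)) (le_top : W ≤ ⊤) (GrT.degSection (𝒜 := 𝒜) hf))) :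
    x ∈ Proj.basicOpen 𝒜 f := by
  open GrT in
  refine (ProjectiveSpectrum.mem_basicOpen 𝒜 f x).mpr fun hfx => ?_
  let V := W ⊓ Proj.basicOpen 𝒜 g
  obtain ⟨c, hc⟩ := (hgen V inf_le_left).2 (res _ le_top (degSection (𝒜 := 𝒜) hg))
  let y : V := ⟨x, hxW, (ProjectiveSpectrum.mem_basicOpen 𝒜 g x).mpr hgx⟩
  rw [res_res] at hc
  have h1 := congrArg (fun w => pt 𝒜 𝒜 w y) hc
  simp only [pt_smul] at h1
  obtain ⟨⟨k, ⟨a, ha⟩, ⟨t, ht⟩, htx⟩, hct⟩ :=
    HomogeneousLocalization.mk_surjective ((c : Twist.O (𝒜 := 𝒜) (op V)).1 y)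
  rw [← hct, HomogeneousLocalization.val_mk] at h1
  have h2 : (Localization.mk a ⟨t, htx⟩ : Twist.Loc 𝒜 x) •
      fr 𝒜 x f 1 (fun h => x.isPrime.ne_top ((Ideal.eq_top_iff_one _).mpr h)) =
      fr 𝒜 x g 1 (fun h => x.isPrime.ne_top ((Ideal.eq_top_iff_one _).mpr h)) := h1
  rw [loc_smul_fr, fr_eq_iff] at h2
  obtain ⟨v, hv, h3⟩ := h2
  simp only [mul_one, one_smul, smul_eq_mul, one_mul, mul_sub, sub_eq_zero] at h3
  exact not_mem_mul 𝒜 hv (not_mem_mul 𝒜 htx hgx)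
    (h3 ▸ Ideal.mul_mem_left _ _ (Ideal.mul_mem_left _ _ hfx))

/-- `O(d)` is ample on a quasi-compact open covered by basic opens of degree `d` inside it -/
theorem isAmple_restrict_twist {d : ℕ} (hd : 0 < d) (Z : (Proj 𝒜).Opens) [CompactSpace Z.toScheme]
    (hcov : ∀ x ∈ Z, ∃ f ∈ 𝒜 d, x ∈ Proj.basicOpen 𝒜 f ∧ Proj.basicOpen 𝒜 f ≤ Z) :
    CohB1.IsAmple ((Twist.twist 𝒜 (d : ℤ)).restrict Z.ι) := by
  let M := GrTilde.tilde 𝒜 𝒜 (d : ℤ)
  have hone : ∀ V : (Proj 𝒜).Opens, V ≤ Proj.basicOpen 𝒜 (1 : A) :=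
    fun V => le_top.trans (Proj.basicOpen_one 𝒜).ge
  have hgen : ∀ (f : A) (hf : f ∈ 𝒜 d),
      TMul.IsGen (res M (le_top : Proj.basicOpen 𝒜 f ≤ ⊤) (GrT.degSection (𝒜 := 𝒜) hf)) :=
    fun f hf => GrT.twistGen_bijective 𝒜 hf (SetLike.GradedOne.one_mem (A := 𝒜)) (by simp) le_rfl (hone _)
  change CohB1.IsAmple (M.restrict Z.ι)
  refine ⟨InvGen.isInvertible_restrict Z.ι fun y => ?_, inferInstance, fun y => ?_⟩
  · obtain ⟨f, hf, hyf, -⟩ := hcov (Z.ι y) y.2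
    exact ⟨Proj.basicOpen 𝒜 f, res M le_top (GrT.degSection (𝒜 := 𝒜) hf), hyf, hgen f hf⟩
  · obtain ⟨f, hf, hyf, hfZ⟩ := hcov (Z.ι y) y.2
    let e : Γ(M.restrict Z.ι, ⊤) :=
      (res M (le_top : Z.ι ''ᵁ ⊤ ≤ ⊤) (GrT.degSection (𝒜 := 𝒜) hf) : Γ(M, Z.ι ''ᵁ ⊤))
    let s := GrT.homOfSection (M.restrict Z.ι) e
    have hval : TMul.val s ⊤ = e := (GrT.homOfSection_app _ e ⊤ 1).trans ((one_smul _ _).trans (res_self (M := M.restrict Z.ι) le_rfl e))
    have himg : Z.ι ''ᵁ CohB1.genLocus _ s = Proj.basicOpen 𝒜 f := by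
      ext x
      refine (SymAlg.mem_image_genLocus_iff Z s _ hval.symm x).trans ⟨?_, fun hx => ?_⟩
      · rintro ⟨W, hWZ, hW', hxW, hW⟩
        rw [res_res] at hW
        obtain ⟨g, hg, hxg, -⟩ := hcov x (hWZ hxW)
        exact mem_basicOpen_of_isGen hf hg ((ProjectiveSpectrum.mem_basicOpen 𝒜 g x).1 hxg) hxW hW
      · refine ⟨Proj.basicOpen 𝒜 f, hfZ, hfZ.trans (by simp), hx, ?_⟩
        rw [res_res]
        exact hgen f hf
    refine ⟨0, s ≫ (TMul.leftUnitIso (M.restrict Z.ι)).inv, ?_, ?_⟩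
    · rw [TMul.genLocus_comp]
      have : Z.ι y ∈ Z.ι ''ᵁ CohB1.genLocus _ s := himg ▸ hyf
      obtain ⟨y', hy', e'⟩ := this
      rwa [Z.ι.isOpenEmbedding.injective e'] at hy'
    · rw [TMul.genLocus_comp, ← Z.ι.isAffineOpen_iff_of_isOpenImmersion]
      exact himg ▸ ProjLib.isAffineOpen_basicOpen 𝒜 hf hd

/-- For a quasi-compact scheme X admitting an open immersion j into Proj of a graded ring, some positive
twist O(d) pulls back along j to an ample invertible module on X. -/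
theorem result {R A : Type u} [CommRing R] [CommRing A]
    [Algebra R A] (𝒜 : ℕ → Submodule R A) [GradedAlgebra 𝒜] (X : Scheme.{u}) [CompactSpace X]
    (j : X ⟶ Proj 𝒜) [IsOpenImmersion j] :
    ∃ d : ℕ, 0 < d ∧ CohB1.IsAmple ((Scheme.Modules.pullback j).obj (Twist.twist 𝒜 (d : ℤ))) := by
  classical
  let Z := j.opensRange
  have hZc : IsCompact (Z : Set (Proj 𝒜)) := isCompact_range j.continuous
  haveI : CompactSpace Z.toScheme := isCompact_iff_compactSpace.1 hZc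
  have hloc : ∀ z : Z, ∃ (e : ℕ) (f : A), 0 < e ∧ f ∈ 𝒜 e ∧ (z : Proj 𝒜) ∈ Proj.basicOpen 𝒜 f ∧
      Proj.basicOpen 𝒜 f ≤ Z := fun z => exists_basicOpen_le Z z.2
  choose e f he hf hzf hfZ using hloc
  obtain ⟨t, ht⟩ := hZc.elim_finite_subcover (fun z : Z => (Proj.basicOpen 𝒜 (f z) : Set (Proj 𝒜)))
    (fun z => (Proj.basicOpen 𝒜 (f z)).2) (fun z hz => Set.mem_iUnion.2 ⟨⟨z, hz⟩, hzf ⟨z, hz⟩⟩)
  let d := ∏ z ∈ t, e z
  have hd : 0 < d := Finset.prod_pos fun z _ => he z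
  refine ⟨d, hd, ?_⟩
  have hamp : CohB1.IsAmple ((Twist.twist 𝒜 (d : ℤ)).restrict Z.ι) := by
    refine isAmple_restrict_twist hd Z fun x hx => ?_
    obtain ⟨z, hz, hxz⟩ := Set.mem_iUnion₂.1 (ht hx)
    obtain ⟨q, hq⟩ : e z ∣ d := Finset.dvd_prod_of_mem e hz
    have hq0 : q ≠ 0 := fun h => by rw [h, mul_zero] at hq; omega
    have hbo : Proj.basicOpen 𝒜 (f z ^ q) = Proj.basicOpen 𝒜 (f z) :=
      Proj.basicOpen_pow 𝒜 (f z) q (Nat.pos_of_ne_zero hq0)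
    refine ⟨f z ^ q, ?_, hbo ▸ hxz, hbo ▸ hfZ z⟩
    rw [hq, mul_comm]
    exact SetLike.pow_mem_graded q (hf z)
  have h1 := TMul.isAmple_pullback j.isoOpensRange.hom
    j.isoOpensRange.hom.isOpenEmbedding.isInducing hamp
  exact TMul.isAmple_congr
    ((Scheme.Modules.pullback j.isoOpensRange.hom).mapIso
        ((Scheme.Modules.restrictFunctorIsoPullback Z.ι).app _) ≪≫
      (Scheme.Modules.pullbackComp _ _).app _ ≪≫
      (Scheme.Modules.pullbackCongr (Scheme.Hom.isoOpensRange_hom_ι j)).app _) h1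

end Groth.Agent.S9817
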