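import Groth.Statements.S9819
import Groth.Agent.FibVan.Top

set_option backward.isDefEq.respectTransparency false
set_option backward.isDefEq.respectTransparency.types false
set_option maxHeartbeats 1000000

set_option autoImplicit false
universe u
open CategoryTheory CategoryTheory.Limits AlgebraicGeometry TopologicalSpace Opposite
open Props

namespace Groth.Agent.S9819

/-- On a quasi-compact quasi-separated scheme, every local section of a quasi-coherent module over an
affine open lies in some quasi-coherent submodule of finite type; hence the module is the directed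
union of its quasi-coherent submodules of finite type. -/
theorem result {X : Scheme.{u}} [CompactSpace X]
    [QuasiSeparatedSpace X] (F : X.Modules) [Coh.IsQCoh F] (U : X.affineOpens)
    (s : F.val.obj (op (U : X.Opens))) :
    ∃ (G : X.Modules) (i : G ⟶ F), Mono i ∧ Coh.IsQCoh G ∧ CohB1.IsFT G ∧
      ∃ g : G.val.obj (op (U : X.Opens)), (i.val.app (op (U : X.Opens))).hom g = s := by
  have : F.IsQuasicoherent := ‹Coh.IsQCoh F›
  obtain ⟨S, hS⟩ := FibVan.exists_fgSub_mem (F := F) (fun _ : PUnit.{u+1} => (U : X.Opens)) (fun _ => U.2)
    (fun _ => {s})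
  have h := QC.Sub.isCoh_toModules S.2
  have hm := hS PUnit.unit s (Finset.mem_singleton_self _)
  obtain ⟨g, hg⟩ := (S.1.range_ι_app _ _).mpr hm
  exact ⟨S.1.toModules, S.1.ι, (QC.mono_iff_app_injective _).2 (fun W => S.1.ι_app_injective W), h.1, h.2, g, hg⟩

end Groth.Agent.S9819
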