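import Groth.Statements.S9822
import Mathlib

set_option autoImplicit false
universe u
open CategoryTheory CategoryTheory.Limits AlgebraicGeometry TopologicalSpace Opposite
open Props

namespace Groth.Agent.S9822

/-- A scheme is irreducible if and only if it is nonempty and every nonempty affine open subset is
irreducible. -/
theorem result (X : Scheme.{u}) :
    IrreducibleSpace X ↔ Nonempty X ∧ ∀ U : X.Opens, IsAffineOpen U → (U : Set X).Nonempty → IsIrreducible (U : Set X) := by
  constructor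
  · intro h
    exact ⟨inferInstance, fun U _ hne => ⟨hne, PreirreducibleSpace.isPreirreducible_univ.open_subset U.2 (Set.subset_univ _)⟩⟩
  · rintro ⟨hne, H⟩
    haveI : PreirreducibleSpace X := by
      refine ⟨fun u v hu hv hnu hnv => ?_⟩
      obtain ⟨x, -, hxu⟩ := hnu
      obtain ⟨y, -, hyv⟩ := hnv
      obtain ⟨U, hU, hxU, hUu⟩ := exists_isAffineOpen_mem_and_subset (show x ∈ (⟨u, hu⟩ : X.Opens) from hxu)
      obtain ⟨V, hV, hyV, hVv⟩ := exists_isAffineOpen_mem_and_subset (show y ∈ (⟨v, hv⟩ : X.Opens) from hyv)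
      by_contra hc
      have hdisj : Disjoint U V := by
        rw [disjoint_iff, eq_bot_iff]
        intro z hz
        exact hc ⟨z, trivial, hUu hz.1, hVv hz.2⟩
      obtain ⟨z, hz, hzU, hzV⟩ := (H _ (hU.sup_of_disjoint hV hdisj) ⟨x, Or.inl hxU⟩).2 (U : Set X) V U.2 V.2
        ⟨x, Or.inl hxU, hxU⟩ ⟨y, Or.inr hyV, hyV⟩
      exact hc ⟨z, trivial, hUu hzU, hVv hzV⟩
    exact ⟨hne⟩

end Groth.Agent.S9822
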