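import Groth.Statements.S9823
import Groth.Agent.QC.FTIdeal

set_option autoImplicit false
universe u
open CategoryTheory CategoryTheory.Limits AlgebraicGeometry TopologicalSpace Opposite
open Props

namespace Groth.Agent.S9823

/-- In a quasi-compact quasi-separated scheme, an open subset is quasi-compact exactly when its
complement is the support of some quasi-coherent ideal sheaf of finite type. -/
theorem result (X : Scheme.{u}) [CompactSpace X] [QuasiSeparatedSpace X]
    (U : X.Opens) :
    IsCompact (U : Set X) ↔
      ∃ I : X.IdealSheafData, (∀ V : X.affineOpens, (I.ideal V).FG) ∧ (I.support : Set X) = (U : Set X)ᶜ := by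
  refine ⟨fun h => ?_, fun ⟨I, hI, hs⟩ => ?_⟩
  · obtain ⟨I, -, -, -, -, -, -, hfg, hsupp⟩ := Groth.Agent.QC.exists_ftIdeal U h
    exact ⟨I, hfg, hsupp⟩
  · have := Groth.Agent.QC.isCompact_compl_support I hI
    rwa [hs, compl_compl] at this

end Groth.Agent.S9823
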