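import Groth.Statements.S9824
import Groth.Agent.LocFree.Rank

set_option autoImplicit false
universe u
open CategoryTheory CategoryTheory.Limits AlgebraicGeometry TopologicalSpace Opposite
open Props

namespace Groth.Agent.S9824

/-- Over a reduced scheme, a quasi-coherent module is finite locally free if and only if it is of finite
type and its fibre rank (the dimension of the stalk tensored with the residue field) is a locally
constant function. -/
theorem result (X : Scheme.{u}) [IsReduced X]
    (M : X.Modules) [Coh.IsQCoh M] :
    FlatMod.IsFinLocFree M ↔ CohB1.IsFT M ∧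
      IsLocallyConstant (fun x : X => Module.finrank (IsLocalRing.ResidueField (X.presheaf.stalk x))
          (TensorProduct (X.presheaf.stalk x) (IsLocalRing.ResidueField (X.presheaf.stalk x)) (M.presheaf.stalk x))) := by
  refine ⟨fun h => ⟨Groth.Agent.LocFree.isFT_of_isFinLocFree h,
    Groth.Agent.LocFree.isLocallyConstant_rk h⟩, fun h => ?_⟩
  exact Groth.Agent.LocFree.isFinLocFree_of_rank ‹Coh.IsQCoh M› h.1 h.2 fun D hD n s hs hn =>
    Groth.Agent.LocFree.indep_of_reduced s hD ‹Coh.IsQCoh M› hs hn

end Groth.Agent.S9824
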