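import Groth.Statements.S9831
import Groth.Agent.FPExt.Extend

set_option autoImplicit false
set_option linter.style.haveILetI false
set_option linter.unusedVariables false
set_option backward.isDefEq.respectTransparency false
universe u
open CategoryTheory CategoryTheory.Limits AlgebraicGeometry TopologicalSpace Opposite
open Props

namespace Groth.Agent.S9831

/-- On a quasi-compact quasi-separated scheme, a quasi-coherent module of finite type on a quasi-compact
open U is the restriction of a quasi-coherent module of finite type on the whole scheme. -/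
theorem result {X : Scheme.{u}} [CompactSpace X]
    [QuasiSeparatedSpace X] (U : X.Opens) (hU : IsCompact (U : Set X)) (G : (U : Scheme.{u}).Modules)
    [Coh.IsQCoh G] (hG : CohB1.IsFT G) :
    ∃ G' : X.Modules, Coh.IsQCoh G' ∧ CohB1.IsFT G' ∧ Nonempty (G'.restrict U.ι ≅ G) := by
  haveI := Groth.Agent.FPExt.quasiCompact_ι hU
  haveI : Coh.IsQCoh (Coh.structureModule X) := Groth.Agent.QC.isQCoh_unit X
  have hj : Coh.IsQCoh ((Scheme.Modules.pushforward U.ι).obj G) := Groth.Agent.QC.isQCoh_pushforward U.ι
  haveI : Coh.IsQCoh ((Scheme.Modules.pushforward U.ι).obj G) := hj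
  let e : ((Scheme.Modules.pushforward U.ι).obj G).restrict U.ι ≅ G :=
    asIso ((Scheme.Modules.restrictAdjunction U.ι).counit.app G)
  obtain ⟨S, i, hSq, hSft, hiso⟩ := Groth.Agent.FPExt.exists_ft_sub_iso ((Scheme.Modules.pushforward U.ι).obj G)
    hU (Groth.Agent.QC.isFT_of_epi e.inv hG)
  haveI := hiso
  exact ⟨S, hSq, hSft, ⟨asIso ((Scheme.Modules.restrictFunctor U.ι).map i) ≪≫ e⟩⟩

end Groth.Agent.S9831
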