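import Groth.Statements.S9836
import Groth.Agent.HomODer.Main
import Groth.Agent.PrinSheaf.Finite
import Groth.Agent.PrinSheaf.HomFP
import Groth.Agent.ModDesc.Iso
import Groth.Agent.SchDense.Unit
-- import your own Groth.Agent.* helpers here

set_option autoImplicit false
universe u
open CategoryTheory CategoryTheory.Limits AlgebraicGeometry
open Props

set_option backward.isDefEq.respectTransparency false
set_option linter.style.haveILetI false

namespace Groth.Agent.S9836

/-- For a closed immersion i : Z → X with ideal sheaf of finite type and a quasi-coherent O_X-module F,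
the subsheaf of sections of F annihilated by the ideal, namely i_* Hom(O_Z, F) for the right adjoint
Hom(O_Z, -) of i_*, is a quasi-coherent O_X-module. -/
theorem result {Z X : Scheme.{u}} (i : Z ⟶ X)
    [IsClosedImmersion i] [LocallyOfFinitePresentation i] [Dual3.HasHomO i] (F : X.Modules) [Coh.IsQCoh F] :
    Coh.IsQCoh ((Scheme.Modules.pushforward i).obj ((Dual3.homO i).obj F)) := by
  let O' := (Scheme.Modules.pushforward i).obj (Coh.structureModule Z)
  have hq0 : Coh.IsQCoh (Coh.structureModule Z) := Groth.Agent.QC.isQCoh_unit Z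
  have hfp : CohB1.IsFP O' := Groth.Agent.PrinSheaf.isFP_pushforward_of_isFinite i hq0
    (Groth.Agent.SchDense.isFP_unit Z)
  haveI := hq0
  have hq : Coh.IsQCoh O' := Groth.Agent.QC.isQCoh_pushforward i
  have hc : Coh.IsCoh O' := ⟨hq, Groth.Agent.ModDesc.isFT_of_isFP hfp⟩
  obtain ⟨T, _, _, adj, -, h⟩ := Groth.Agent.ExtShX.exists_shriek i
  obtain ⟨e⟩ := h 0 F
  refine Groth.Agent.QC.isQCoh_of_iso ((Scheme.Modules.pushforward i).mapIso
    (T.rightDerivedZeroIsoSelf.app F ≪≫ (((Dual3.homOAdj i).rightAdjointUniq adj).app F).symm)) ?_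
  refine Groth.Agent.QC.isQCoh_of_iso (e ≪≫ (DCoh.sheafHom O').rightDerivedZeroIsoSelf.app F ≪≫
    (Groth.Agent.W7Hull.sheafHomIso O').app F).symm ?_
  exact Groth.Agent.RefStalk.isQCoh_homSh_of_isFP hc hfp inferInstance

end Groth.Agent.S9836
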