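import Groth.Statements.S9837
import Groth.Agent.PCFppf.FT
import Groth.Agent.LocFree.Props
import Groth.Agent.RelPCS.Single
import Mathlib

set_option autoImplicit false
open CategoryTheory CategoryTheory.Limits AlgebraicGeometry Opposite
universe u
open Desc

namespace Groth.Agent.S9837

set_option backward.isDefEq.respectTransparency false
set_option backward.isDefEq.respectTransparency.types false
set_option maxHeartbeats 1000000

/-- Let f : X ⟶ Y be a morphism of schemes which is flat and surjective and whose underlying map of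
topological spaces is open, and let F be an arbitrary O_Y-module (not assumed quasi-coherent). If
the pullback f^*F is an O_X-module of finite type, then F is of finite type. (The published
statement is for a morphism of locally ringed spaces; this row is its case of schemes.) -/
theorem result {X Y : Scheme.{u}} (f : X ⟶ Y) [Flat f] [Surjective f]
    (hf : IsOpenMap f.base) (F : Y.Modules)
    (h : SheafOfModules.IsFiniteType (R := X.ringCatSheaf) ((Scheme.Modules.pullback f).obj F)) :
    SheafOfModules.IsFiniteType (R := Y.ringCatSheaf) F := by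
  have nhd : ∀ {X' X : Scheme.{u}} (g : X' ⟶ X) [Flat g], IsOpenMap g.base → ∀ {F M : X.Modules} (τ : F ⟶ M),
      CohB1.IsFT ((Scheme.Modules.pullback g).obj M) → ∀ x' : X',
      Subsingleton ((cokernel τ).presheaf.stalk (g x')) →
      ∃ W : X.Opens, g x' ∈ W ∧ Epi ((Scheme.Modules.restrictFunctor W.ι).map τ) := by
    intro X' X g _ hgo F M τ hM x' h0'
    haveI : (Scheme.Modules.pullback g).IsLeftAdjoint :=
      (Scheme.Modules.pullbackPushforwardAdjunction g).isLeftAdjoint
    have hQ : CohB1.IsFT ((Scheme.Modules.pullback g).obj (cokernel τ)) :=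
      QC.isFT_of_epi ((Scheme.Modules.pullback g).map (cokernel.π τ)) hM
    have h0 : x' ∉ CohB1.support ((Scheme.Modules.pullback g).obj (cokernel τ)) := fun hx =>
      hx (PCFppf.subsingleton_pullback_stalk g x' h0')
    let O : X'.Opens := ⟨(CohB1.support _)ᶜ, (QC.isClosed_support hQ).isOpen_compl⟩
    let W : X.Opens := ⟨g '' O, hgo _ O.2⟩
    refine ⟨W, ⟨x', h0, rfl⟩, ?_⟩
    let R' := Scheme.Modules.restrictFunctor W.ι
    haveI : R'.IsLeftAdjoint :=
      Functor.isLeftAdjoint_of_iso (Scheme.Modules.restrictFunctorIsoPullback W.ι).symm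
    have hz : IsZero (R'.obj (cokernel τ)) := KFlat.isZero_of_stalks _ fun w => by
      haveI : Subsingleton ((cokernel τ).presheaf.stalk (W.ι w)) := by
        obtain ⟨u, hu, he⟩ := w.2
        have := PCFppf.subsingleton_stalk_of_pullback g u (not_not.1 hu)
        rw [he] at this
        exact this
      haveI : Subsingleton ↥((DerSch.stalkFunctor (W : Scheme.{u}) w).obj
          ((Scheme.Modules.pullback W.ι).obj (cokernel τ))) :=
        PCFppf.subsingleton_pullback_stalk W.ι w (Q := cokernel τ) inferInstance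
      have : IsZero ((DerSch.stalkFunctor (W : Scheme.{u}) w).obj
          ((Scheme.Modules.pullback W.ι).obj (cokernel τ))) :=
        ModuleCat.isZero_of_subsingleton _
      exact this.of_iso ((DerSch.stalkFunctor _ w).mapIso ((Scheme.Modules.restrictFunctorIsoPullback W.ι).app _))
    exact Preadditive.epi_of_isZero_cokernel _ (hz.of_iso (PreservesCokernel.iso R' τ).symm)
  show CohB1.IsFT F
  refine QC.isFT_of_local fun y => ?_
  obtain ⟨x', rfl⟩ := f.surjective y
  obtain ⟨V, hxV, n, σ, hσ⟩ := PCFppf.exists_span_nhd f (𝟙 F) h x'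
  have hMV := PCFppf.isFT_pull_restrict f V h
  have hgx : (f ∣_ V) (⟨x', hxV⟩ : (f ⁻¹ᵁ V : Scheme.{u})) = ⟨f x', hxV⟩ :=
    Subtype.ext (by rw [morphismRestrict_base]; rfl)
  have hVo : IsOpenMap (f ∣_ V).base := by
    rw [morphismRestrict_base]
    exact hf.restrictPreimage _
  obtain ⟨W, hW, hepi⟩ := nhd (f ∣_ V) hVo (σ ≫ (Scheme.Modules.restrictFunctor V.ι).map (𝟙 F)) hMV
    ⟨x', hxV⟩ (by rw [hgx]; exact hσ)
  obtain ⟨σ', hσ'⟩ := PCFppf.exists_epi_comp W.ι V.ι (𝟙 F) σ hepi
  rw [hgx] at hW
  refine ⟨_, W.ι ≫ V.ι, inferInstance, ⟨⟨⟨f x', hxV⟩, hW⟩, rfl⟩, ?_⟩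
  haveI := hσ'
  exact QC.isFT_of_epi (σ' ≫ (Scheme.Modules.restrictFunctor (W.ι ≫ V.ι)).map (𝟙 F))
    (LocFree.isFT_of_isFinLocFree (RelPCS.isFinLocFree_freeMod _))

end Groth.Agent.S9837
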