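import Groth.Statements.S9838
import Groth.Agent.QC.Localisation
import Groth.Agent.QC.FiniteType

set_option autoImplicit false
open CategoryTheory CategoryTheory.Limits AlgebraicGeometry Opposite
universe u
open Desc

namespace Groth.Agent.S9838

/-- Let f : X ⟶ Y be a finite morphism of schemes and F a quasi-coherent O_X-module. The pushforward
f_*F is of finite type as an O_Y-module exactly when F itself is of finite type as an O_X-module. -/
theorem result {X Y : Scheme.{u}} (f : X ⟶ Y) [IsFinite f]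
    (F : X.Modules) [F.IsQuasicoherent] :
    SheafOfModules.IsFiniteType (R := X.ringCatSheaf) F ↔
      SheafOfModules.IsFiniteType (R := Y.ringCatSheaf) ((Scheme.Modules.pushforward f).obj F) := by
  have key : ∀ V : Y.affineOpens, Module.Finite Γ(X, f ⁻¹ᵁ V.1) Γ(F, f ⁻¹ᵁ V.1) ↔
      Module.Finite Γ(Y, V.1) Γ((Scheme.Modules.pushforward f).obj F, V.1) := by
    intro V
    letI : Algebra Γ(Y, V.1) Γ(X, f ⁻¹ᵁ V.1) := (f.app V.1).hom.toAlgebra
    haveI : Module.Finite Γ(Y, V.1) Γ(X, f ⁻¹ᵁ V.1) := IsFinite.finite_app f V.1 V.2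
    letI : Module Γ(Y, V.1) Γ(F, f ⁻¹ᵁ V.1) := Module.compHom _ (f.app V.1).hom
    haveI : IsScalarTower Γ(Y, V.1) Γ(X, f ⁻¹ᵁ V.1) Γ(F, f ⁻¹ᵁ V.1) :=
      IsScalarTower.of_algebraMap_smul fun _ _ => rfl
    let e : Γ(F, f ⁻¹ᵁ V.1) ≃ₗ[Γ(Y, V.1)] Γ((Scheme.Modules.pushforward f).obj F, V.1) :=
      { toFun := fun x => x, invFun := fun x => x, left_inv := fun _ => rfl, right_inv := fun _ => rfl
        map_add' := fun _ _ => rfl, map_smul' := fun _ _ => rfl }
    refine ⟨fun h => ?_, fun h => ?_⟩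
    · haveI := Module.Finite.trans (R := Γ(Y, V.1)) Γ(X, f ⁻¹ᵁ V.1) Γ(F, f ⁻¹ᵁ V.1)
      exact Module.Finite.equiv e
    · haveI : Module.Finite Γ(Y, V.1) Γ(F, f ⁻¹ᵁ V.1) := Module.Finite.equiv e.symm
      exact Module.Finite.of_restrictScalars_finite Γ(Y, V.1) _ _
  haveI hq : ((Scheme.Modules.pushforward f).obj F).IsQuasicoherent := QC.isQCoh_pushforward f
  show CohB1.IsFT F ↔ CohB1.IsFT ((Scheme.Modules.pushforward f).obj F)
  constructor
  · intro h
    refine (QC.isFT_iff_finite_sections (hM := hq)).mpr fun V => ?_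
    exact (key V).mp (QC.finite_sections (V.2.preimage f) h)
  · intro h
    refine QC.isFT_iff_exists_hasFinGen.mpr fun x => ?_
    obtain ⟨V, hV, hyV, -⟩ := exists_isAffineOpen_mem_and_subset (X := Y) (x := f x) (U := ⊤) trivial
    haveI := (key ⟨V, hV⟩).mpr (QC.finite_sections hV (hM := hq) h)
    exact ⟨f ⁻¹ᵁ V, hyV, QC.hasFinGen_of_finite (hV.preimage f)⟩

end Groth.Agent.S9838
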