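import Groth.Statements.S9841
import Mathlib
import Groth.Agent.DescMisc.Basic
import Groth.Agent.FppfSource.Scheme
import Groth.Agent.SmoothRed.Scheme
import Groth.Agent.FlatMor.ReducedDescent

set_option autoImplicit false
open CategoryTheory CategoryTheory.Limits AlgebraicGeometry Opposite
universe u
open Desc

namespace Groth.Agent.S9841

/-- Being reduced is local in the smooth topology: for a jointly surjective family of smooth morphisms f
i : X i ⟶ S, the scheme S is reduced if and only if every X i is reduced. -/
theorem result {ι : Type u} {S : Scheme.{u}} {X : ι → Scheme.{u}} (f : ∀ i, X i ⟶ S)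
    (hf : Presieve.ofArrows X f ∈ Scheme.precoverage @Smooth S) :
    IsReduced S ↔ ∀ i, IsReduced (X i) := by
  set_option backward.isDefEq.respectTransparency false in
  rw [Scheme.ofArrows_mem_precoverage_iff] at hf
  obtain ⟨hsurj, hsm⟩ := hf
  constructor
  · intro hS i
    haveI := hsm i
    haveI : ∀ x : X i, _root_.IsReduced ((X i).presheaf.stalk x) := by
      intro x
      obtain ⟨V, hV, hxV, -⟩ := exists_isAffineOpen_mem_and_subset (show f i x ∈ (⊤ : S.Opens) from trivial)
      haveI : IsReduced V.toScheme := isReduced_of_isOpenImmersion V.ι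
      haveI : IsReduced (Spec Γ(S, V)) := isReduced_of_isOpenImmersion hV.isoSpec.inv
      haveI : _root_.IsReduced Γ(S, V) := IsReduced.component_reduced V
      haveI : IsReduced ((f i) ⁻¹ᵁ V).toScheme :=
        Groth.Agent.SmoothRed.isReduced_of_smooth_scheme (f i ∣_ V ≫ hV.isoSpec.hom)
      exact isReduced_of_injective
        (((f i) ⁻¹ᵁ V).stalkIso ⟨x, hxV⟩).commRingCatIsoToRingEquiv.symm.toRingHom
        (((f i) ⁻¹ᵁ V).stalkIso ⟨x, hxV⟩).commRingCatIsoToRingEquiv.symm.injective
    exact isReduced_of_isReduced_stalk (X i)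
  · intro h
    haveI : ∀ s : S, _root_.IsReduced (S.presheaf.stalk s) := by
      intro s
      obtain ⟨i, x, rfl⟩ := hsurj s
      haveI := h i; haveI := hsm i
      refine isReduced_of_injective ((f i).stalkMap x).hom ?_
      algebraize [((f i).stalkMap x).hom]
      have : Module.FaithfullyFlat (S.presheaf.stalk (f i x)) ((X i).presheaf.stalk x) :=
        @Module.FaithfullyFlat.of_flat_of_isLocalHom _ _ _ _ _ _ _
          (Flat.stalkMap (f i) x) ((f i).toLRSHom.prop x)
      exact ‹RingHom.FaithfullyFlat _›.injective
    exact isReduced_of_isReduced_stalk S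

end Groth.Agent.S9841
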