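import Groth.Statements.S9842
import Mathlib
import Groth.Agent.DescMisc.Basic
import Groth.Agent.FppfSource.Scheme
import Groth.Agent.SmoothRed.Scheme
import Groth.Agent.FlatMor.ReducedDescent

set_option autoImplicit false
open CategoryTheory CategoryTheory.Limits AlgebraicGeometry Opposite
universe u
open Desc

namespace Groth.Agent.S9842

/-- Let E/k be a field extension, Y a scheme over k and f : X ⟶ Y a morphism. Writing Y_E = Y ×_k Spec
E, the morphism f is dominant if and only if its base change X ×_Y Y_E ⟶ Y_E is dominant. -/
theorem result {k E : Type u} [Field k] [Field E] [Algebra k E]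
    {X Y : Scheme.{u}} (f : X ⟶ Y) (q : Y ⟶ Spec (.of k)) :
    IsDominant f ↔
      IsDominant (pullback.snd f (pullback.fst q (Spec.map (CommRingCat.ofHom (algebraMap k E))))) := by
  set_option backward.isDefEq.respectTransparency false in
  let s := Spec.map (CommRingCat.ofHom (algebraMap k E))
  haveI : Surjective s := ⟨fun t => ⟨IsLocalRing.closedPoint E, @Subsingleton.elim (PrimeSpectrum k) inferInstance _ _⟩⟩
  haveI : UniversallyOpen s := inferInstance
  haveI : Surjective (pullback.fst q s) := inferInstance
  exact ⟨fun h => Groth.Agent.DescMisc.isDominant_pullback_snd f _ (pullback.fst q s).isOpenMap,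
    fun h => Groth.Agent.DescMisc.isDominant_of_forall f fun y =>
      ⟨_, pullback.fst q s, (pullback.fst q s).surjective y, h⟩⟩

end Groth.Agent.S9842
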