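import Groth.Statements.S9845
import Mathlib
import Groth.Agent.DescMisc.Basic

set_option autoImplicit false
open CategoryTheory CategoryTheory.Limits AlgebraicGeometry Opposite
universe u
open Desc

namespace Groth.Agent.S9845

/-- Being an open morphism (open underlying map) is fppf local on the source: for every fppf covering
family g i : X i ⟶ X, a morphism f : X ⟶ Y has open underlying map if and only if every composite g
i ≫ f does. -/
theorem result :
    MorphismProperty.IsLocalAtSource (topologically (fun f => IsOpenMap f) : MorphismProperty Scheme.{u})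
      Scheme.fppfPrecoverage := by
  set_option backward.isDefEq.respectTransparency false in
  constructor
  · intro X Y f R hR U g hg hf
    have h := Groth.Agent.DescMisc.prop_of_mem (Q := (@Flat ⊓ @LocallyOfFinitePresentation : MorphismProperty Scheme.{u})) hR hg
    haveI := h.1; haveI := h.2
    change IsOpenMap (f ∘ g)
    exact IsOpenMap.comp (show IsOpenMap f from hf) g.isOpenMap
  · intro X Y f R hR h
    intro W hW
    refine isOpen_iff_forall_mem_open.2 ?_
    rintro y ⟨x, hx, rfl⟩
    obtain ⟨U, g, hg, -, u, rfl⟩ := Groth.Agent.DescMisc.exists_mem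
      (Q := (@Flat ⊓ @LocallyOfFinitePresentation : MorphismProperty Scheme.{u})) hR x
    exact ⟨(g ≫ f) '' (g ⁻¹' W), by rintro _ ⟨v, hv, rfl⟩; exact ⟨g v, hv, rfl⟩,
      h hg _ (hW.preimage g.continuous), u, hx, rfl⟩

end Groth.Agent.S9845
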