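import Groth.Statements.S9846
import Mathlib
import Groth.Agent.DescMisc.Basic
import Groth.Agent.FppfSource.Scheme

set_option autoImplicit false
open CategoryTheory CategoryTheory.Limits AlgebraicGeometry Opposite
universe u
open Desc

namespace Groth.Agent.S9846

/-- Being universally open is fppf local on the source: for every fppf covering family g i : X i ⟶ X, a
morphism f : X ⟶ Y is universally open if and only if every composite g i ≫ f is. -/
theorem result :
    MorphismProperty.IsLocalAtSource (@UniversallyOpen : MorphismProperty Scheme.{u}) Scheme.fppfPrecoverage := by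
  set_option backward.isDefEq.respectTransparency false in
  refine Groth.Agent.AlgSpLib.isLocalAtSource_precoverage
    (R := (@Flat ⊓ @LocallyOfFinitePresentation : MorphismProperty Scheme.{u}))
    (fun A B C f g hf hg => by haveI := hf.1; haveI := hf.2; haveI := hg; infer_instance)
    (fun A B C f g hf hs h => ⟨fun {X' Y'} i₁ i₂ f' hsq => ?_⟩) _ le_rfl
  haveI := hs
  let a := Limits.pullback.fst i₁ f
  have h1 : IsPullback (Limits.pullback.snd i₁ f) a f i₁ := (IsPullback.of_hasPullback i₁ f).flip
  haveI : Surjective a := inferInstance
  have h2 : IsOpenMap (a ≫ f') := h.out _ _ _ (h1.flip.paste_horiz hsq)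
  intro W hW
  have : f' '' W = (a ≫ f') '' (a ⁻¹' W) := by
    rw [show ⇑(a ≫ f') = f' ∘ a from rfl, Set.image_comp, Set.image_preimage_eq _ a.surjective]
  rw [this]
  exact h2 _ (hW.preimage a.continuous)

end Groth.Agent.S9846
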