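import Groth.Statements.S9847
import Mathlib
import Groth.Agent.DescMisc.Basic
import Groth.Agent.FppfSource.Scheme
import Groth.Agent.SmoothRed.Scheme
import Groth.Agent.FlatMor.ReducedDescent

set_option autoImplicit false
open CategoryTheory CategoryTheory.Limits AlgebraicGeometry Opposite
universe u
open Desc

namespace Groth.Agent.S9847

/-- Being etale is etale local on the source: for every etale covering family g i : X i ⟶ X (etale,
jointly surjective), a morphism f : X ⟶ Y is etale if and only if every composite g i ≫ f is. -/
theorem result :
    MorphismProperty.IsLocalAtSource (@Etale : MorphismProperty Scheme.{u}) Scheme.etalePrecoverage := by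
  set_option backward.isDefEq.respectTransparency false in
  exact Groth.Agent.AlgSpLib.isLocalAtSource_precoverage (R := (@Etale : MorphismProperty Scheme.{u}))
    (fun _ _ _ f g hf hg => by have := hf; have := hg; infer_instance)
    (fun _ _ _ f g hf hs h => by
      have := hf; exact @Groth.Agent.FppfSource.etale _ _ _ f g inferInstance inferInstance hs h) _ le_rfl

end Groth.Agent.S9847
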