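import Groth.Statements.S9850
import Groth.Agent.SyntLib.CIMor
import Groth.Agent.SyntLib.Koszul
import Groth.Agent.TorCI.CISch
import Groth.Agent.FppfSource.Scheme
import Groth.Agent.Grpd.FlatComp

set_option autoImplicit false
open CategoryTheory CategoryTheory.Limits AlgebraicGeometry Opposite
universe u
open Desc

namespace Groth.Agent.S9850

/-- Let f : X ⟶ Y be surjective, flat and locally of finite presentation and q : Y ⟶ S a morphism such
that f ≫ q is syntomic. Then q is syntomic, and so is f. -/
theorem result {X Y S : Scheme.{u}} (f : X ⟶ Y) (q : Y ⟶ S)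
    [Surjective f] [Flat f] [LocallyOfFinitePresentation f] (h : Synt.IsSyntomicMor (f ≫ q)) :
    Synt.IsSyntomicMor q ∧ Synt.IsSyntomicMor f := by
  rw [SyntLib.isSyntomicMor_iff, SyntLib.synMor_iff_isCIMorphism] at h
  obtain ⟨hflat, hlfp, hci⟩ := h
  haveI := hflat
  haveI := hlfp
  haveI : Flat q := GrpdLib.flat_of_flat_comp f q
  haveI : LocallyOfFinitePresentation q := FppfSource.lfp f q
  have hmove : ∀ {X S : Scheme.{u}} (g : X ⟶ S) (y : S) (z : g.fiber y) (x : X), g.fiberι y z = x →
      Pi1.IsCompleteIntersection ((g.fiber y).presheaf.stalk z) →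
      Pi1.IsCompleteIntersection (CInt.fiberStalk g x) := by
    intro X S g y z x hzx hz
    obtain rfl : g.base x = y := by
      have : g.fiberι y z ∈ Set.range (g.fiberι y) := ⟨z, rfl⟩
      rw [g.range_fiberι, hzx] at this
      exact this
    obtain rfl : z = g.asFiber x := (g.fiberι _).isEmbedding.injective (hzx.trans (g.fiberι_asFiber x).symm)
    exact hz
  have key : ∀ x : X, Pi1.IsCompleteIntersection (CInt.fiberStalk q (f x)) ∧
      Pi1.IsCompleteIntersection (CInt.fiberStalk f x) := by
    intro x
    let s : S := (f ≫ q).base x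
    let F := (f ≫ q).fiber s
    let G := q.fiber s
    let fs : F ⟶ G := pullback.map (f ≫ q) (S.fromSpecResidueField s) q (S.fromSpecResidueField s) f (𝟙 _) (𝟙 _)
      (by simp) (by simp)
    have hsnd : fs ≫ q.fiberToSpecResidueField s = (f ≫ q).fiberToSpecResidueField s := by
      exact (pullback.lift_snd _ _ _).trans (Category.comp_id _)
    have sq : IsPullback ((f ≫ q).fiberι s) fs f (q.fiberι s) := by
      refine IsPullback.of_bot ?_ (pullback.lift_fst _ _ _).symm
        (IsPullback.of_hasPullback q (S.fromSpecResidueField s))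
      rw [show fs ≫ pullback.snd q (S.fromSpecResidueField s) = pullback.snd (f ≫ q) (S.fromSpecResidueField s) from
        hsnd]
      exact IsPullback.of_hasPullback (f ≫ q) (S.fromSpecResidueField s)
    haveI : Flat fs := MorphismProperty.of_isPullback sq inferInstance
    haveI : LocallyOfFiniteType fs := MorphismProperty.of_isPullback sq inferInstance
    haveI : LocallyOfFiniteType (q.fiberToSpecResidueField s) :=
      MorphismProperty.pullback_snd (P := @LocallyOfFiniteType) q (S.fromSpecResidueField s) inferInstance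
    haveI : IsLocallyNoetherian G := LocallyOfFiniteType.isLocallyNoetherian (q.fiberToSpecResidueField s)
    let xs : F := (f ≫ q).asFiber x
    haveI : IsLocallyNoetherian F := LocallyOfFiniteType.isLocallyNoetherian fs
    obtain ⟨h1, h2⟩ := (TorCI.isCI_stalk_iff fs xs (Flat.stalkMap fs xs)).mp (hci x)
    have hι : q.fiberι s (fs xs) = f x := by
      have h3 : fs ≫ q.fiberι s = (f ≫ q).fiberι s ≫ f := sq.w.symm
      have h4 := congrArg (fun φ => φ.base xs) h3
      exact h4.trans (congrArg f.base ((f ≫ q).fiberι_asFiber x))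
    refine ⟨hmove q s (fs xs) (f x) hι h1, ?_⟩
    have hsq := isPullback_fiberToSpecResidueField_of_isPullback sq (fs xs)
    haveI : IsIso ((q.fiberι s).residueFieldMap (fs xs)) := by
      refine (ConcreteCategory.isIso_iff_bijective _).mpr ⟨RingHom.injective _, fun a => ?_⟩
      obtain ⟨b, rfl⟩ := IsLocalRing.residue_surjective a
      obtain ⟨c, rfl⟩ := (q.fiberι s).stalkMap_surjective (fs xs) b
      exact ⟨IsLocalRing.residue _ c, rfl⟩
    let m := pullback.map fs (G.fromSpecResidueField (fs xs)) f (Y.fromSpecResidueField ((q.fiberι s) (fs xs)))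
      ((f ≫ q).fiberι s) (Spec.map ((q.fiberι s).residueFieldMap (fs xs))) (q.fiberι s) sq.w.symm ((q.fiberι s).SpecMap_residueFieldMap_fromSpecResidueField (fs xs)).symm
    haveI : IsIso (Spec.map ((q.fiberι s).residueFieldMap (fs xs))) := inferInstance
    haveI : IsIso m := hsq.isIso_fst_of_isIso
    refine hmove f _ (m (fs.asFiber xs)) x ?_ ?_
    · have h5 : m ≫ f.fiberι _ = fs.fiberι (fs xs) ≫ (f ≫ q).fiberι s := pullback.lift_fst _ _ _
      have h6 := congrArg (fun φ => φ.base (fs.asFiber xs)) h5
      refine h6.trans ?_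
      show ((f ≫ q).fiberι s).base (fs.fiberι (fs xs) (fs.asFiber xs)) = x
      exact (congrArg ((f ≫ q).fiberι s).base (fs.fiberι_asFiber xs)).trans ((f ≫ q).fiberι_asFiber x)
    · haveI : LocallyOfFiniteType (f.fiberToSpecResidueField ((q.fiberι s) (fs xs))) :=
        MorphismProperty.pullback_snd (P := @LocallyOfFiniteType) f _ inferInstance
      haveI : IsLocallyNoetherian (f.fiber ((q.fiberι s) (fs xs))) :=
        LocallyOfFiniteType.isLocallyNoetherian (f.fiberToSpecResidueField ((q.fiberι s) (fs xs)))
      exact TorCI.isCI_of_ringEquiv (asIso (m.stalkMap (fs.asFiber xs))).commRingCatIsoToRingEquiv.symm h2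
  refine ⟨(SyntLib.isSyntomicMor_iff q).mpr ((SyntLib.synMor_iff_isCIMorphism q).mpr ⟨inferInstance, inferInstance, ?_⟩),
    (SyntLib.isSyntomicMor_iff f).mpr ((SyntLib.synMor_iff_isCIMorphism f).mpr ⟨inferInstance, inferInstance,
      fun x => (key x).2⟩)⟩
  intro y
  obtain ⟨x, rfl⟩ := f.surjective y
  exact (key x).1

end Groth.Agent.S9850
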