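import Groth.Statements.S9860

set_option autoImplicit false
open CategoryTheory CategoryTheory.Limits AlgebraicGeometry Opposite
universe u
open Desc

namespace Groth.Agent.S9860

/-- Consider morphisms of schemes f i : X i ⟶ X indexed by i. Suppose that, whenever Y is an affine
scheme and g : Y ⟶ X is a morphism, the sieve on Y obtained by pulling back along g (generated by
the base changes X i ×_X Y ⟶ Y) is effective epimorphic. Then the pulled-back sieve along every
morphism Y ⟶ X of schemes is effective epimorphic; in other words, within schemes the family forms a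
universal effective epimorphism. -/
theorem result {ι : Type u} {X : Scheme.{u}} {Xi : ι → Scheme.{u}} (f : ∀ i, Xi i ⟶ X)
    (h : ∀ (Y : Scheme.{u}) (g : Y ⟶ X), IsAffine Y → ((Sieve.ofArrows Xi f).pullback g).EffectiveEpimorphic)
    {Y : Scheme.{u}} (g : Y ⟶ X) : ((Sieve.ofArrows Xi f).pullback g).EffectiveEpimorphic := by
  refine (Sieve.forallYonedaIsSheaf_iff_colimit _).1 (fun W => ?_)
  have haff : ∀ {A : Scheme.{u}} (v : A ⟶ Y), IsAffine A →
      Presieve.IsSheafFor (yoneda.obj W) (((Sieve.ofArrows Xi f).pullback g).pullback v).arrows := fun v hA => by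
    rw [← Sieve.pullback_comp]
    exact (Sieve.forallYonedaIsSheaf_iff_colimit _).2 (h _ (v ≫ g) hA) W
  intro x hx
  let t : ∀ U : Y.affineOpens, U.1.toScheme ⟶ W := fun U =>
    (haff U.1.ι U.2).amalgamate (fun A v hv => x (v ≫ U.1.ι) hv) (fun A B C a b c d hc hd e => hx a b hc hd (by
      simpa using e =≫ U.1.ι))
  have ht : ∀ (U : Y.affineOpens) {A : Scheme.{u}} (v : A ⟶ U.1.toScheme)
      (hv : ((Sieve.ofArrows Xi f).pullback g).pullback U.1.ι v), v ≫ t U = x (v ≫ U.1.ι) hv :=
    fun U A v hv => (haff U.1.ι U.2).valid_glue _ v hv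
  have hsep : ∀ {A : Scheme.{u}} (v : A ⟶ Y) (a b : A ⟶ W),
      (∀ {B : Scheme.{u}} (w : B ⟶ A), ((Sieve.ofArrows Xi f).pullback g) (w ≫ v) → w ≫ a = w ≫ b) → a = b := by
    intro A v a b hab
    refine A.affineCover.hom_ext _ _ fun i => ?_
    refine (haff (A.affineCover.f i ≫ v) inferInstance).isSeparatedFor.ext fun B w hw => ?_
    show w ≫ _ = w ≫ _
    rw [← Category.assoc, ← Category.assoc]
    exact hab _ (by simpa using hw)
  let 𝒰 := Y.openCoverOfIsOpenCover (fun U : Y.affineOpens => U.1) (iSup_affineOpens_eq_top Y)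
  let T : Y ⟶ W := 𝒰.glueMorphisms t fun U U' => by
    refine hsep (pullback.fst U.1.ι U'.1.ι ≫ U.1.ι) _ _ fun {B} w hw => ?_
    have h1 := ht U (w ≫ pullback.fst U.1.ι U'.1.ι) (by simpa using hw)
    have h2 := ht U' (w ≫ pullback.snd U.1.ι U'.1.ι) (by
      show ((Sieve.ofArrows Xi f).pullback g) _
      rw [Category.assoc, ← pullback.condition]
      simpa using hw)
    show w ≫ pullback.fst _ _ ≫ t U = w ≫ pullback.snd _ _ ≫ t U'
    rw [← Category.assoc, ← Category.assoc, h1, h2]
    congr 1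
    rw [Category.assoc, Category.assoc, pullback.condition]
  have hT : ∀ U : Y.affineOpens, U.1.ι ≫ T = t U := fun U => 𝒰.ι_glueMorphisms _ _ U
  refine ⟨T, fun A v hv => ?_, fun T' hT' => ?_⟩
  · show v ≫ T = x v hv
    refine (A.openCoverOfIsOpenCover (fun U : Y.affineOpens => v ⁻¹ᵁ U.1)
      (by show iSup _ = ⊤; rw [← Scheme.Hom.preimage_iSup, iSup_affineOpens_eq_top, Scheme.Hom.preimage_top])).hom_ext _ _ fun U => ?_
    show (v ⁻¹ᵁ U.1).ι ≫ v ≫ T = (v ⁻¹ᵁ U.1).ι ≫ x v hv
    have hmem : ((Sieve.ofArrows Xi f).pullback g).pullback U.1.ι (v ∣_ U.1) := by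
      show ((Sieve.ofArrows Xi f).pullback g) _
      rw [morphismRestrict_ι]
      exact ((Sieve.ofArrows Xi f).pullback g).downward_closed hv _
    rw [← morphismRestrict_ι_assoc]
    erw [hT U]
    rw [ht U _ hmem]
    have := hx (𝟙 _) (v ⁻¹ᵁ U.1).ι hmem hv (by simp [morphismRestrict_ι])
    simpa using this
  · refine hsep (𝟙 Y) T' T fun {B} w hw => ?_
    rw [Category.comp_id] at hw
    have h1 : w ≫ T' = x w hw := hT' w hw
    rw [h1]
    refine ((B.openCoverOfIsOpenCover (fun U : Y.affineOpens => w ⁻¹ᵁ U.1)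
      (by show iSup _ = ⊤; rw [← Scheme.Hom.preimage_iSup, iSup_affineOpens_eq_top, Scheme.Hom.preimage_top])).hom_ext _ _ fun U => ?_)
    show (w ⁻¹ᵁ U.1).ι ≫ x w hw = (w ⁻¹ᵁ U.1).ι ≫ w ≫ T
    have hmem : ((Sieve.ofArrows Xi f).pullback g).pullback U.1.ι (w ∣_ U.1) := by
      show ((Sieve.ofArrows Xi f).pullback g) _
      rw [morphismRestrict_ι]
      exact ((Sieve.ofArrows Xi f).pullback g).downward_closed hw _
    rw [← morphismRestrict_ι_assoc]
    erw [hT U]
    rw [ht U _ hmem]
    have := hx (𝟙 _) (w ⁻¹ᵁ U.1).ι hmem hw (by simp [morphismRestrict_ι])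
    simpa using this.symm

end Groth.Agent.S9860
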