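import Groth.Statements.S9861
import Groth.Agent.PCFppf.FT
import Groth.Agent.FpqcDescent.Props
import Groth.Agent.RefStalk.Span
import Mathlib

set_option autoImplicit false
open CategoryTheory CategoryTheory.Limits AlgebraicGeometry Opposite
universe u
open Desc

namespace Groth.Agent.S9861

set_option backward.isDefEq.respectTransparency false
set_option backward.isDefEq.respectTransparency.types false
set_option maxHeartbeats 1000000
set_option synthInstance.maxHeartbeats 200000

open scoped TensorProduct in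
/-- If a base change along a local homomorphism needs at most `r` generators, so does the module. -/
theorem exists_gens_le {A B M : Type u} [CommRing A] [IsLocalRing A] [CommRing B] [IsLocalRing B] [Algebra A B]
    [IsLocalHom (algebraMap A B)] [AddCommGroup M] [Module A M] [Module.Finite A M]
    {I : Type u} [Finite I] (v : I → B ⊗[A] M) (hv : Submodule.span B (Set.range v) = ⊤) :
    ∃ (n : ℕ) (m : Fin n → M), n ≤ Nat.card I ∧ Submodule.span A (Set.range m) = ⊤ := by
  classical
  haveI := Fintype.ofFinite I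
  let g : B ⊗[A] M →ₗ[B] IsLocalRing.ResidueField B ⊗[A] M :=
    TensorProduct.AlgebraTensorModule.map (Algebra.linearMap B (IsLocalRing.ResidueField B)) LinearMap.id
  have hg : Function.Surjective g := by
    intro z
    induction z with
    | zero => exact ⟨0, map_zero g⟩
    | tmul b x =>
      obtain ⟨b', rfl⟩ := IsLocalRing.residue_surjective (R := B) b
      exact ⟨b' ⊗ₜ x, rfl⟩
    | add z₁ z₂ h₁ h₂ =>
      obtain ⟨a₁, rfl⟩ := h₁
      obtain ⟨a₂, rfl⟩ := h₂
      exact ⟨a₁ + a₂, map_add g a₁ a₂⟩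
  have h1 : Submodule.span (IsLocalRing.ResidueField B) (Set.range (g ∘ v)) = ⊤ := by
    refine eq_top_iff.2 fun z _ => ?_
    obtain ⟨w, rfl⟩ := hg z
    have hw : g w ∈ (Submodule.span B (Set.range v)).map g := ⟨w, hv.symm ▸ Submodule.mem_top, rfl⟩
    rw [Submodule.map_span, ← Set.range_comp] at hw
    exact Submodule.span_subset_span B (IsLocalRing.ResidueField B) _ hw
  have h2 : Module.finrank (IsLocalRing.ResidueField B) (IsLocalRing.ResidueField B ⊗[A] M) ≤ Nat.card I := by
    have := finrank_range_le_card (R := IsLocalRing.ResidueField B) (g ∘ v)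
    rw [Set.finrank, h1, finrank_top] at this
    rwa [Nat.card_eq_fintype_card]
  have h3 : Module.finrank (IsLocalRing.ResidueField A) (IsLocalRing.ResidueField A ⊗[A] M) ≤ Nat.card I := by
    rw [← (TensorProduct.AlgebraTensorModule.cancelBaseChange A (IsLocalRing.ResidueField A)
      (IsLocalRing.ResidueField B) (IsLocalRing.ResidueField B) M).finrank_eq, Module.finrank_baseChange] at h2
    exact h2
  have h4 : (⊤ : Submodule A M).spanFinrank ≤ Nat.card I := by
    refine le_trans (le_of_eq ?_) h3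
    rw [← TensorProduct.spanFinrank_top_eq_of_residueField (⊤ : Submodule A M) Module.Finite.fg_top,
      ← Module.finrank_eq_spanFinrank_of_free]
    exact (TensorProduct.AlgebraTensorModule.congr (LinearEquiv.refl (IsLocalRing.ResidueField A)
      (IsLocalRing.ResidueField A)) Submodule.topEquiv).finrank_eq
  have hfg : (⊤ : Submodule A M).FG := Module.Finite.fg_top
  obtain ⟨s, hs, hcard, hspan⟩ : ∃ s : Set M, s.Finite ∧ s.ncard = (⊤ : Submodule A M).spanFinrank ∧
      Submodule.span A s = ⊤ := by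
    obtain ⟨s, hs1, hs2⟩ := hfg.exists_span_set_encard_eq_spanFinrank
    exact ⟨s, Set.finite_of_encard_eq_coe hs1, by simp [Set.ncard, hs1], hs2⟩
  refine ⟨hs.toFinset.card, fun j => (hs.toFinset.equivFin.symm j).1, ?_, ?_⟩
  · rwa [← Set.ncard_eq_toFinset_card _ hs, hcard]
  · rw [← hspan]
    refine congrArg _ ?_
    ext z
    exact ⟨fun ⟨j, hj⟩ => hj ▸ hs.mem_toFinset.1 (hs.toFinset.equivFin.symm j).2,
      fun hz => ⟨hs.toFinset.equivFin ⟨z, hs.mem_toFinset.2 hz⟩, by simp⟩⟩

open Groth.Agent.QC (res res_res) in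
open Groth.Agent.WeakAssLib (mgerm mgerm_smul mgerm_res) in
/-- Generating sections span the stalks. -/
theorem span_stalk {X : Scheme.{u}} {M : X.Modules} {W : X.Opens}
    (σ : SheafOfModules.GeneratingSections.{u} (M.restrict W.ι)) (y : X) (hy : y ∈ W) :
    ∃ s : σ.I → M.presheaf.stalk y, Submodule.span (X.presheaf.stalk y) (Set.range s) = ⊤ := by
  have hle : W ≤ W.ι ''ᵁ ⊤ := fun y hy => ⟨⟨y, hy⟩, trivial, rfl⟩
  refine ⟨fun i => mgerm M hy (res M hle ((σ.s i).1 (op ⊤) : Γ(M, W.ι ''ᵁ ⊤))), eq_top_iff.2 fun θ _ => ?_⟩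
  obtain ⟨V, hyV, t, rfl⟩ := TopCat.Presheaf.exists_germ_eq M.presheaf θ
  let O : (W : Scheme.{u}).Opens := W.ι ⁻¹ᵁ V
  have hOV : W.ι ''ᵁ O ≤ V := by rintro z ⟨z', hz', rfl⟩; exact hz'
  obtain ⟨P, hPO, hyP, hP⟩ :=
    Groth.Agent.RefStalk.exists_mem_span σ (G := M.restrict W.ι) (O := O) (res M hOV t) (x := ⟨y, hy⟩) hyV
  have hyP' : y ∈ W.ι ''ᵁ P := ⟨⟨y, hy⟩, hyP, rfl⟩
  have key : ∀ m : Γ(M, W.ι ''ᵁ P), (m : Γ(M.restrict W.ι, P)) ∈ Submodule.span Γ((W : Scheme.{u}), P)
      (Set.range fun i : σ.I => res (M.restrict W.ι) (le_top : P ≤ ⊤) ((σ.s i).1 (op ⊤))) →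
      mgerm M hyP' m ∈ Submodule.span (X.presheaf.stalk y)
        (Set.range fun i => mgerm M hy (res M hle ((σ.s i).1 (op ⊤) : Γ(M, W.ι ''ᵁ ⊤)))) := by
    intro m hm
    induction hm using Submodule.span_induction with
    | mem z hz =>
      obtain ⟨i, rfl⟩ := hz
      refine Submodule.subset_span ⟨i, ?_⟩
      simp only [mgerm_res]
      exact (mgerm_res M (W.ι.image_mono le_top) hyP' _).symm
    | zero => exact (map_zero (mgerm M hyP')).symm ▸ Submodule.zero_mem _
    | add a b _ _ ha hb =>
      exact (map_add (mgerm M hyP') a b).symm ▸ Submodule.add_mem _ ha hb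
    | smul c a _ ha =>
      refine (show mgerm M hyP' (((W.ι.appIso P).inv c) • (show Γ(M, W.ι ''ᵁ P) from a)) ∈ _ from ?_)
      rw [mgerm_smul]
      exact Submodule.smul_mem _ _ ha
  have h := key _ hP
  rw [show mgerm M hyP' (res (M.restrict W.ι) hPO (res M hOV t)) =
    mgerm M hyP' (res M ((W.ι.image_mono hPO).trans hOV) t) from
      congrArg _ (res_res M (W.ι.image_mono hPO) hOV t), mgerm_res] at h
  exact h

open scoped TensorProduct in
/-- Generators of the stalk of a pullback bound those of the stalk below. -/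
theorem exists_gens_stalk {X' X : Scheme.{u}} (f : X' ⟶ X) {M : X.Modules} (x' : X')
    [Module.Finite (X.presheaf.stalk (f x')) (M.presheaf.stalk (f x'))] {I : Type u} [Finite I]
    (s : I → ((Scheme.Modules.pullback f).obj M).presheaf.stalk x')
    (hs : Submodule.span (X'.presheaf.stalk x') (Set.range s) = ⊤) :
    ∃ (n : ℕ) (m : Fin n → M.presheaf.stalk (f x')), n ≤ Nat.card I ∧
      Submodule.span (X.presheaf.stalk (f x')) (Set.range m) = ⊤ := by
  letI : Algebra (X.presheaf.stalk (f x')) (X'.presheaf.stalk x') := (f.stalkMap x').hom.toAlgebra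
  haveI : IsLocalHom (algebraMap (X.presheaf.stalk (f x')) (X'.presheaf.stalk x')) :=
    inferInstanceAs (IsLocalHom (f.stalkMap x').hom)
  let e : ((Scheme.Modules.pullback f).obj M).presheaf.stalk x' ≃ₗ[X'.presheaf.stalk x']
      X'.presheaf.stalk x' ⊗[X.presheaf.stalk (f x')] M.presheaf.stalk (f x') :=
    ((KFlat.pullStalkIso f x').app M).toLinearEquiv
  refine exists_gens_le (fun j => e (s j)) ?_
  rw [show (fun j => e (s j)) = e.toLinearMap ∘ s from rfl, Set.range_comp, ← Submodule.map_span, hs]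
  exact Submodule.map_top e.toLinearMap ▸ LinearEquiv.range e

/-- Let F be a quasi-coherent O_X-module, r a natural number and f i : X i ⟶ X an fpqc covering family
such that every pullback (f i)^* F is locally generated by at most r sections. Then F is locally
generated by at most r sections. ('Locally generated by at most r sections' is written as: there are
local generators data for the module, indexed in the universe of the scheme, all of whose generating
families are indexed by finite types of cardinality at most r.) -/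
theorem result {ι : Type u} {X : Scheme.{u}} {Xi : ι → Scheme.{u}} (f : ∀ i, Xi i ⟶ X)
    (hf : Presieve.ofArrows Xi f ∈ Scheme.fpqcPrecoverage X) (F : X.Modules) [F.IsQuasicoherent] (r : ℕ)
    (h : ∀ i, ∃ σ : SheafOfModules.LocalGeneratorsData.{u} (R := (Xi i).ringCatSheaf) ((Scheme.Modules.pullback (f i)).obj F),
      ∀ k, Finite (σ.generators k).I ∧ Nat.card (σ.generators k).I ≤ r) :
    ∃ σ : SheafOfModules.LocalGeneratorsData.{u} (R := X.ringCatSheaf) F,
      ∀ k, Finite (σ.generators k).I ∧ Nat.card (σ.generators k).I ≤ r := by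
  classical
  have hFT : ∀ i, CohB1.IsFT ((Scheme.Modules.pullback (f i)).obj F) := fun i => by
    obtain ⟨σ, hσ⟩ := h i
    have h' : σ.IsFiniteType := { isFiniteType := fun k => ⟨(hσ k).1⟩ }
    exact { exists_localGeneratorsData := ⟨σ, h'⟩ }
  obtain ⟨hsurj, hflat⟩ := (Scheme.ofArrows_mem_precoverage_iff _).mp hf.2
  haveI : ∀ i, Flat (f i) := hflat
  have key : ∀ x : X, ∃ (W : X.Opens) (_ : x ∈ W) (σ : SheafOfModules.GeneratingSections.{u} (F.restrict W.ι)),
      Finite σ.I ∧ Nat.card σ.I ≤ r := by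
    intro x
    obtain ⟨i, x', rfl⟩ := hsurj x
    haveI := PCFppf.finite_stalk_of_pullback (f i) (hFT i) x'
    obtain ⟨σ, hσ⟩ := h i
    obtain ⟨k, hk⟩ := QC.exists_of_coversTop σ.coversTop x'
    haveI : Finite (QC.genOfOver (σ.generators k)).I := (hσ k).1
    obtain ⟨s, hs⟩ := span_stalk (QC.genOfOver (σ.generators k)) x' hk
    obtain ⟨n, m, hn, hm⟩ := exists_gens_stalk (f i) (M := F) x' s hs
    have hnr : n ≤ r := hn.trans (hσ k).2
    choose Wj hWj t ht using fun j => TopCat.Presheaf.exists_germ_eq F.presheaf (m j)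
    let V : X.Opens := ⟨⋂ j, (Wj j : Set X), isOpen_iInter_of_finite fun j => (Wj j).2⟩
    have hxV : f i x' ∈ V := Set.mem_iInter.2 hWj
    have hVW : ∀ j, V ≤ Wj j := fun j y hy => Set.mem_iInter.1 hy j
    have hspan : Submodule.span (X.presheaf.stalk (f i x'))
        (Set.range fun j => WeakAssLib.mgerm F hxV ((𝟙 F : F ⟶ F).app V (QC.res F (hVW j) (t j)))) = ⊤ := by
      rw [← hm]
      refine congrArg _ (congrArg Set.range (funext fun j => ?_))
      exact (WeakAssLib.mgerm_res F (hVW j) hxV (t j)).trans (ht j)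
    obtain ⟨τ₀, hτ⟩ := PCFppf.subsingleton_coker_stalk V (𝟙 F) ⟨f i x', hxV⟩ (fun j => QC.res F (hVW j) (t j)) hspan
    let τ : FlatMod.freeMod (V : Scheme.{u}) n ⟶ (Scheme.Modules.restrictFunctor V.ι).obj F :=
      τ₀ ≫ (Scheme.Modules.restrictFunctor V.ι).map (𝟙 F)
    let A : Set X := V.ι '' (CohB1.support (cokernel τ))ᶜ
    have hA : IsOpen A := by
      refine FpqcDescent.isOpen_of_fpqcPrecoverage hf A fun S' g hg => ?_
      cases hg with
      | mk j =>
        let g := f j ∣_ V
        haveI : (Scheme.Modules.pullback g).IsLeftAdjoint :=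
          (Scheme.Modules.pullbackPushforwardAdjunction g).isLeftAdjoint
        have hQ : CohB1.IsFT ((Scheme.Modules.pullback g).obj (cokernel τ)) :=
          QC.isFT_of_epi ((Scheme.Modules.pullback g).map (cokernel.π τ))
            (PCFppf.isFT_pull_restrict (f j) V (hFT j))
        have hg : ∀ z : (f j ⁻¹ᵁ V : Scheme.{u}), V.ι (g z) = f j ((f j ⁻¹ᵁ V).ι z) := fun z =>
          congr($(morphismRestrict_ι (f j) V) z)
        have heq : f j ⁻¹' A =
            (f j ⁻¹ᵁ V).ι '' (CohB1.support ((Scheme.Modules.pullback g).obj (cokernel τ)))ᶜ := by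
          ext z
          constructor
          · rintro ⟨v, hv, hvz⟩
            have hz : z ∈ f j ⁻¹ᵁ V := by show f j z ∈ V; rw [← hvz]; exact v.2
            refine ⟨⟨z, hz⟩, fun hc => hc ?_, rfl⟩
            refine PCFppf.subsingleton_pullback_stalk g ⟨z, hz⟩ ?_
            rw [show g ⟨z, hz⟩ = v from V.ι.isOpenEmbedding.injective ((hg _).trans hvz.symm)]
            exact not_not.1 hv
          · rintro ⟨w, hw, rfl⟩
            refine ⟨g w, fun hc => hc ?_, hg w⟩
            exact PCFppf.subsingleton_stalk_of_pullback g w (not_not.1 hw)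
        show IsOpen (f j ⁻¹' A)
        rw [heq]
        exact (f j ⁻¹ᵁ V).ι.isOpenEmbedding.isOpenMap _ (QC.isClosed_support hQ).isOpen_compl
    let W' : (V : Scheme.{u}).Opens := ⟨V.ι ⁻¹' A, hA.preimage V.ι.continuous⟩
    let R' := Scheme.Modules.restrictFunctor W'.ι
    haveI : R'.IsLeftAdjoint :=
      Functor.isLeftAdjoint_of_iso (Scheme.Modules.restrictFunctorIsoPullback W'.ι).symm
    have hz : IsZero (R'.obj (cokernel τ)) := KFlat.isZero_of_stalks _ fun w => by
      haveI : Subsingleton ((cokernel τ).presheaf.stalk (W'.ι w)) := by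
        obtain ⟨v, hv, hvw⟩ := w.2
        rw [show W'.ι w = v from V.ι.isOpenEmbedding.injective hvw.symm]
        exact not_not.1 hv
      haveI : Subsingleton ↥((DerSch.stalkFunctor (W' : Scheme.{u}) w).obj
          ((Scheme.Modules.pullback W'.ι).obj (cokernel τ))) :=
        PCFppf.subsingleton_pullback_stalk W'.ι w (Q := cokernel τ) inferInstance
      have : IsZero ((DerSch.stalkFunctor (W' : Scheme.{u}) w).obj
          ((Scheme.Modules.pullback W'.ι).obj (cokernel τ))) :=
        ModuleCat.isZero_of_subsingleton _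
      exact this.of_iso ((DerSch.stalkFunctor _ w).mapIso ((Scheme.Modules.restrictFunctorIsoPullback W'.ι).app _))
    haveI hepi : Epi (R'.map τ) := Preadditive.epi_of_isZero_cokernel _ (hz.of_iso (PreservesCokernel.iso R' τ).symm)
    let W : X.Opens := V.ι ''ᵁ W'
    have hxW : f i x' ∈ W := ⟨⟨f i x', hxV⟩, ⟨⟨f i x', hxV⟩, fun hc => hc hτ, rfl⟩, rfl⟩
    let a : (W : Scheme.{u}) ⟶ (V : Scheme.{u}) := (V.ι.isoImage W').inv ≫ W'.ι
    have ha : a ≫ V.ι = W.ι := by simp [a, W]
    have hepi2 : Epi ((Scheme.Modules.restrictFunctor a).map τ) := by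
      let c := Scheme.Modules.restrictFunctorComp (V.ι.isoImage W').inv W'.ι
      haveI : (Scheme.Modules.restrictFunctor (V.ι.isoImage W').inv).IsLeftAdjoint :=
        Functor.isLeftAdjoint_of_iso (Scheme.Modules.restrictFunctorIsoPullback _).symm
      have := NatIso.naturality_1 c.symm τ
      rw [show (Scheme.Modules.restrictFunctor a).map τ = _ from this.symm, Functor.comp_map]
      haveI : Epi ((Scheme.Modules.restrictFunctor (V.ι.isoImage W').inv).map (R'.map τ)) := Functor.map_epi _ _
      infer_instance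
    obtain ⟨τ', hτ'⟩ := PCFppf.exists_epi_comp a V.ι (𝟙 F) τ₀ hepi2
    let e1 : SheafOfModules.free (R := (W : Scheme.{u}).ringCatSheaf) (ULift.{u} (Fin n)) ≅ FlatMod.freeMod (W : Scheme.{u}) n :=
      Sigma.whiskerEquiv (f := fun _ : ULift.{u} (Fin n) => SheafOfModules.unit (W : Scheme.{u}).ringCatSheaf)
        (g := fun _ : Fin n => Coh.structureModule (W : Scheme.{u})) Equiv.ulift (fun _ => Iso.refl _)
    let e2 : (Scheme.Modules.restrictFunctor (a ≫ V.ι)).obj F ≅ F.restrict W.ι :=
      (Scheme.Modules.restrictFunctorCongr ha).app F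
    let p : SheafOfModules.free (R := (W : Scheme.{u}).ringCatSheaf) (ULift.{u} (Fin n)) ⟶ F.restrict W.ι :=
      e1.hom ≫ (τ' ≫ (Scheme.Modules.restrictFunctor (a ≫ V.ι)).map (𝟙 F)) ≫ e2.hom
    haveI hp : Epi p := by haveI := hτ'; infer_instance
    refine ⟨W, hxW, ⟨ULift.{u} (Fin n), (F.restrict W.ι).freeHomEquiv p, by rw [Equiv.symm_apply_apply]; exact hp⟩,
      (inferInstance : Finite (ULift.{u} (Fin n))), ?_⟩
    show Nat.card (ULift.{u} (Fin n)) ≤ r
    rw [Nat.card_ulift, Nat.card_fin]
    exact hnr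
  choose W hxW σ hσ1 hσ2 using key
  exact ⟨QC.genData W (fun x => ⟨x, hxW x⟩) σ, fun k => ⟨hσ1 k, hσ2 k⟩⟩

end Groth.Agent.S9861
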