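import Groth.Statements.S9867
import Groth.Agent.FpqcDescent.Props
import Mathlib.AlgebraicGeometry.Morphisms.LocalFlatDescent
import Mathlib.AlgebraicGeometry.Morphisms.FlatRank

set_option autoImplicit false
open CategoryTheory CategoryTheory.Limits AlgebraicGeometry Opposite
universe u
open Desc

namespace Groth.Agent.S9867

/-- Being finite locally free (finite, flat and locally of finite presentation), and being finite
locally free of a given degree d, are fpqc local on the base; the descent directions, stated as
descent along surjective flat quasi-compact morphisms: if the base change of f along such a morphism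
is finite locally free then so is f, and if moreover that base change has constant rank d (Mathlib's
rank function of a finite flat morphism) then f has constant rank d. (With Zariski-locality on the
target these give the statements for arbitrary fpqc coverings; stability under base change is the
other direction.) -/
theorem result :
    MorphismProperty.DescendsAlong (fun _ _ f => Mor2.IsFinLocFree f : MorphismProperty Scheme.{u})
      (@Surjective ⊓ @Flat ⊓ @QuasiCompact : MorphismProperty Scheme.{u}) ∧
    ∀ d : ℕ, MorphismProperty.DescendsAlong (fun _ _ f => Mor2.IsFinLocFreeOfDeg d f : MorphismProperty Scheme.{u})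
      (@Surjective ⊓ @Flat ⊓ @QuasiCompact : MorphismProperty Scheme.{u}) := by
  have hrank : ∀ {A X Y Z : Scheme.{u}} {fst : A ⟶ X} {snd : A ⟶ Y} {f : X ⟶ Z} {g : Y ⟶ Z},
      IsPullback fst snd f g → Surjective f → Mor2.IsFinLocFree g → ∀ d : ℕ,
        (∀ x, fst.finrank x = d) → ∀ z, g.finrank z = d := by
    intro A X Y Z fst snd f g h hf hg d hd z
    obtain ⟨x, rfl⟩ := f.surjective z
    obtain ⟨_, _, _⟩ := hg
    rw [← hd x, Scheme.Hom.finrank_of_isPullback snd fst g f h.flip x]
  have h0 : MorphismProperty.DescendsAlong (fun _ _ f => Mor2.IsFinLocFree f : MorphismProperty Scheme.{u})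
      (@Surjective ⊓ @Flat ⊓ @QuasiCompact : MorphismProperty Scheme.{u}) := by
    refine ⟨fun {A X Y Z fst snd f g} h hf ⟨h1, h2, h3⟩ ↦ ⟨?_, ?_, ?_⟩⟩
    · exact MorphismProperty.of_isPullback_of_descendsAlong h hf h1
    · exact MorphismProperty.of_isPullback_of_descendsAlong h hf h2
    · exact MorphismProperty.of_isPullback_of_descendsAlong h hf h3
  refine ⟨h0, fun d ↦ ⟨fun {A X Y Z fst snd f g} h hf hP ↦ ?_⟩⟩
  have hg : Mor2.IsFinLocFree g := h0.of_isPullback h hf hP.1
  exact ⟨hg, hrank h hf.1.1 hg d hP.2⟩

end Groth.Agent.S9867
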