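import Groth.Statements.S9870
-- import your own Groth.Agent.* helpers here
import Groth.Agent.Bootstrap.OpenQuot
import Groth.Agent.Bootstrap.Tools

set_option autoImplicit false
universe u
open CategoryTheory CategoryTheory.Limits AlgebraicGeometry
open AlgSp

namespace Groth.Agent.S9870

/-- Let `s, t : R ⟶ U` be a pre-relation on a scheme `U` over `S` which is an equivalence relation (on
`T`-points, for every scheme `T` over `S`), with `s` and `t` surjective, flat and locally of finite
presentation, and let `g : U' ⟶ U` be flat and locally of finite presentation. Let `s', t' : R' ⟶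
U'` be the restriction of the pre-relation to `U'`, i.e. `R'` with `(t', s')` and `R' ⟶ R` is the
fibre product of `U' ×_S U'` and `R` over `U ×_S U`. Then the map of fppf quotient sheaves `U'/R' ⟶
U/R` induced by `g` (the unique map under the quotient maps compatible with `h_g`) is representable
and an open immersion. -/
theorem result (S : Scheme.{u}) {R U R' U' : Over S} (s t : R ⟶ U)
    (g : U' ⟶ U) (s' t' : R' ⟶ U') (r : R' ⟶ R)
    (hsq : IsPullback (prod.lift t' s') r (prod.map g g) (prod.lift t s))
    (hR : AlgSp.IsEqvRel s t)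
    [Surjective s.left] [Flat s.left] [LocallyOfFinitePresentation s.left]
    [Surjective t.left] [Flat t.left] [LocallyOfFinitePresentation t.left]
    [Flat g.left] [LocallyOfFinitePresentation g.left]
    (φ : QuotSh.quot Scheme.fppfPrecoverage s' t' ⟶ QuotSh.quot Scheme.fppfPrecoverage s t)
    (hφ : QuotSh.quotπ Scheme.fppfPrecoverage s' t' ≫ φ = QuotSh.repMap Scheme.fppfPrecoverage g ≫ QuotSh.quotπ Scheme.fppfPrecoverage s t) :
    AlgSp.RepWith @IsOpenImmersion φ := by
  let X : Over S := Over.mk (pullback.fst g.left t.left ≫ U'.hom)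
  let q₁ : X ⟶ U' := Over.homMk (pullback.fst g.left t.left) rfl
  let q₂ : X ⟶ R := Over.homMk (pullback.snd g.left t.left) (by
    show pullback.snd g.left t.left ≫ R.hom = pullback.fst g.left t.left ≫ U'.hom
    rw [← Over.w t, ← Over.w g, pullback.condition_assoc])
  let h := pullback.snd g.left t.left ≫ s.left
  let W₀ : U.left.Opens := ⟨Set.range h, h.isOpenMap.isOpen_range⟩
  let W : Over S := Over.mk (W₀.ι ≫ U.hom)
  let j : W ⟶ U := Over.homMk W₀.ι rfl
  have hr : Set.range h ⊆ Set.range W₀.ι := by rw [Scheme.Opens.range_ι]; rfl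
  let hl : X ⟶ W := Over.homMk (IsOpenImmersion.lift W₀.ι h hr) (by
    show IsOpenImmersion.lift W₀.ι h hr ≫ W₀.ι ≫ U.hom = X.hom
    rw [IsOpenImmersion.lift_fac_assoc]
    exact Over.w (q₂ ≫ s))
  have : IsOpenImmersion j.left := inferInstanceAs (IsOpenImmersion W₀.ι)
  have hl1 : Flat hl.left := by
    have : Flat (IsOpenImmersion.lift W₀.ι h hr ≫ W₀.ι) := by rw [IsOpenImmersion.lift_fac]; infer_instance
    exact Bootstrap.flat_of_postcomp (IsOpenImmersion.lift W₀.ι h hr) W₀.ι
  have hl2 : LocallyOfFinitePresentation hl.left := by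
    have : LocallyOfFinitePresentation (IsOpenImmersion.lift W₀.ι h hr ≫ W₀.ι) := by
      rw [IsOpenImmersion.lift_fac]; infer_instance
    exact Bootstrap.lfp_of_postcomp (IsOpenImmersion.lift W₀.ι h hr) W₀.ι
  have hl3 : Surjective hl.left := ⟨fun w => by
    obtain ⟨x, hx⟩ := w.2
    refine ⟨x, W₀.ι.isOpenEmbedding.injective ?_⟩
    exact congr($(IsOpenImmersion.lift_fac W₀.ι h hr) x).trans hx⟩
  have := AlgSpLib.isLocallySurjective_yon_map hl
  refine Bootstrap.repWith_openImmersion_quot_map s t s' t' g (Bootstrap.isPreEqvRelSp_map hR.equivalence)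
    (fun T a b r₀ => Bootstrap.exists_restrict hsq a b r₀) q₁ q₂ (Over.OverMorphism.ext pullback.condition) j hl
    (Over.OverMorphism.ext (IsOpenImmersion.lift_fac _ _ _)) (fun T a r₀ e z => ?_) φ
    (Bootstrap.quotProj_comp s t s' t' g φ hφ)
  have e' : a.left ≫ g.left = r₀.left ≫ t.left := congrArg (fun k : T ⟶ U => k.left) e.symm
  rw [show Set.range j.left = Set.range h from Scheme.Opens.range_ι W₀]
  refine ⟨pullback.lift a.left r₀.left e' z, ?_⟩
  exact congr($(pullback.lift_snd_assoc a.left r₀.left e' s.left) z)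

end Groth.Agent.S9870
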