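import Groth.Statements.S9871
import Groth.Agent.AlgSpLib.Presentation

set_option autoImplicit false
universe u
open CategoryTheory CategoryTheory.Limits AlgebraicGeometry
open AlgSp

set_option backward.isDefEq.respectTransparency false

namespace Groth.Agent.S9871

/-- Let `s, t : R ⟶ U` be an etale equivalence relation on a scheme `U` over `S` and let `g : U' ⟶ U` be
an etale morphism over `S`. Let `s', t' : R' ⟶ U'` be the restriction to `U'`: `R'`, with `(t', s')`
and `R' ⟶ R`, is the fibre product of `U' ×_S U'` and `R` over `U ×_S U`. Then `s', t'` is again an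
etale equivalence relation. -/
theorem result (S : Scheme.{u}) {R U R' U' : Over S} (s t : R ⟶ U)
    (g : U' ⟶ U) (s' t' : R' ⟶ U') (r : R' ⟶ R)
    (hsq : IsPullback (prod.lift t' s') r (prod.map g g) (prod.lift t s))
    (h : AlgSp.IsEtaleEqvRel s t) [Etale g.left] :
    AlgSp.IsEtaleEqvRel s' t' := by
  obtain ⟨-, hp⟩ := Groth.Agent.AlgSpLib.isPresentation_of_coequalizer h (Groth.Agent.AlgSpLib.isColimitQuotProj s t)
  let p' := (AlgSp.yon S).map g ≫ Groth.Agent.AlgSpLib.quotProj s t
  have hp' : AlgSp.RepWith @AlgebraicGeometry.Etale p' :=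
    Groth.Agent.AlgSpLib.repWith_comp ((AlgSp.repWith_yon_map_iff _ g).2 ‹_›) hp.etale
  have w₁ : t' ≫ g = r ≫ t := by simpa using congrArg (fun k => k ≫ prod.fst) hsq.w
  have w₂ : s' ≫ g = r ≫ s := by simpa using congrArg (fun k => k ≫ prod.snd) hsq.w
  have sq' : IsPullback ((AlgSp.yon S).map t') ((AlgSp.yon S).map s') p' p' := by
    refine Groth.Agent.AlgSpLib.isPullback_of_points ?_ fun T a b e => ?_
    · simp only [p', ← Category.assoc, ← Functor.map_comp, w₁, w₂]
      simp only [Functor.map_comp, Category.assoc, hp.isPullback.w]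
    · obtain ⟨a, rfl⟩ := (AlgSp.yon S).map_surjective a
      obtain ⟨b, rfl⟩ := (AlgSp.yon S).map_surjective b
      simp only [p', ← Category.assoc, ← Functor.map_comp] at e
      obtain ⟨c, hc⟩ := Groth.Agent.AlgSpLib.exists_map_eq (hp.isPullback.lift _ _ e)
      have hc₁ : c ≫ t = a ≫ g := (AlgSp.yon S).map_injective (by
        rw [Functor.map_comp, hc, hp.isPullback.lift_fst])
      have hc₂ : c ≫ s = b ≫ g := (AlgSp.yon S).map_injective (by
        rw [Functor.map_comp, hc, hp.isPullback.lift_snd])
      have hl : prod.lift a b ≫ prod.map g g = c ≫ prod.lift t s := by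
        apply prod.hom_ext <;> simp [hc₁, hc₂]
      refine ⟨(AlgSp.yon S).map (hsq.lift (prod.lift a b) c hl), ⟨?_, ?_⟩, ?_⟩
      · rw [← Functor.map_comp]
        refine congrArg _ ?_
        simpa using congrArg (fun k => k ≫ prod.fst) (hsq.lift_fst (prod.lift a b) c hl)
      · rw [← Functor.map_comp]
        refine congrArg _ ?_
        simpa using congrArg (fun k => k ≫ prod.snd) (hsq.lift_fst (prod.lift a b) c hl)
      · rintro d ⟨h1, h2⟩
        obtain ⟨d, rfl⟩ := (AlgSp.yon S).map_surjective d
        rw [← Functor.map_comp] at h1 h2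
        have e1 := (AlgSp.yon S).map_injective h1
        have e2 := (AlgSp.yon S).map_injective h2
        refine congrArg _ (hsq.hom_ext ?_ ?_)
        · rw [hsq.lift_fst]
          apply prod.hom_ext <;> simp [e1, e2]
        · rw [hsq.lift_snd]
          refine h.injective T _ _ ?_ ?_
          · rw [Category.assoc, ← w₁, ← Category.assoc, e1, hc₁]
          · rw [Category.assoc, ← w₂, ← Category.assoc, e2, hc₂]
  exact Groth.Agent.AlgSpLib.isEtaleEqvRel_of_isPullback sq' hp'

end Groth.Agent.S9871
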