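import Groth.Statements.S9877
-- import your own Groth.Agent.* helpers here
import Groth.Agent.Bootstrap.CoprodAlg

set_option autoImplicit false
universe u
open CategoryTheory CategoryTheory.Limits AlgebraicGeometry
open AlgSp

namespace Groth.Agent.S9877

/-- Let `F` be an fppf sheaf of sets over `S` and `F_i ⟶ F` a family of maps of sheaves such that each
`F_i` is an algebraic space over `S`, each `F_i ⟶ F` is representable by open immersions, the
induced map from the coproduct `∐ F_i` (in sheaves) to `F` is a surjective map of sheaves, and `∐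
F_i` is an algebraic space. Then `F` is an algebraic space over `S`. -/
theorem result (S : Scheme.{u}) (F : AlgSp.Sp S) {ι : Type u} (Fi : ι → AlgSp.Sp S)
    (f : ∀ i, Fi i ⟶ F) (halg : ∀ i, AlgSp.IsAlgSpace (Fi i))
    (hopen : ∀ i, AlgSp.RepWith @IsOpenImmersion (f i)) (c : Cofan Fi) (hc : IsColimit c)
    (hsurj : Sheaf.IsLocallySurjective (Cofan.IsColimit.desc hc f)) (hcop : AlgSp.IsAlgSpace c.pt) :
    AlgSp.IsAlgSpace F := by
  refine (Bootstrap.isFppfRep_desc hc f (fun T ξ i => ?_) (fun T ξ y => ?_)).isAlgSpace hcop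
  · obtain ⟨V, l, g, sq⟩ := AlgSpLib.exists_isPullback_of_representable (hopen i).1 ξ
    let e := sq.isoPullback
    refine ⟨AlgSp.IsAlgSpace.of_iso (AlgSp.IsAlgSpace.yon_obj V) e, fun W a h ha hh => ?_⟩
    have : IsOpenImmersion (g).left := (hopen i).2 ξ l g sq
    obtain ⟨m, hm⟩ := AlgSpLib.exists_map_eq (a ≫ e.inv)
    have hm' : AlgSp.RepWith @Etale ((AlgSp.yon S).map m) := by
      rw [hm]
      exact (AlgSpLib.repWith_comp_iso_iff a e.inv).2 ha
    have hme : Etale m.left := (AlgSpLib.repWith_yon_iff m).1 hm'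
    have hmh : m ≫ g = h := (AlgSp.yon S).map_injective (by
      rw [Functor.map_comp, hm, Category.assoc, sq.isoPullback_inv_snd, hh])
    obtain ⟨h1, h2⟩ := AlgSpLib.flat_lfp_of_etale (m.left ≫ g.left) inferInstance
    rw [← hmh]
    exact ⟨h1, h2⟩
  · obtain ⟨A, ζ, t, rfl⟩ := AlgSpLib.exists_ofPt y
    obtain ⟨R, hR, hl⟩ := AlgSpLib.exists_lift_cover (Cofan.IsColimit.desc hc f) (ζ ≫ ξ)
    obtain ⟨ι', X', f', rfl⟩ := R.exists_eq_ofArrows
    have hR' := hR
    rw [Scheme.fppfPrecoverage, Scheme.ofArrows_mem_precoverage_iff] at hR'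
    obtain ⟨k, z, rfl⟩ := hR'.1 t
    obtain ⟨l, hl⟩ := hl (f' k) (Presieve.ofArrows.mk k)
    obtain ⟨i, p, hp⟩ := Bootstrap.exists_range_inj hc (Points.ofPt l z)
    obtain ⟨B, a, r, rfl⟩ := AlgSpLib.exists_ofPt p
    rw [Points.map_ofPt] at hp
    obtain ⟨K, α, β, x, e, -, rfl⟩ := AlgSpLib.exists_of_ofPt_eq hp
    let g₀ : Over.mk (f' k ≫ A.hom) ⟶ A := Over.homMk (f' k) rfl
    have e2 : ((AlgSp.yon S).map α ≫ a) ≫ f i = (((AlgSp.yon S).map β ≫ (AlgSp.yon S).map g₀) ≫ ζ) ≫ ξ := by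
      simp only [Category.assoc]
      rw [← Cofan.IsColimit.fac hc f i, reassoc_of% e, hl]
    refine ⟨i, Points.ofPt (pullback.lift _ _ e2) x, ?_⟩
    rw [Points.map_ofPt, pullback.lift_snd, Category.assoc, AlgSpLib.ofPt_comp, AlgSpLib.ofPt_comp]
    rfl

end Groth.Agent.S9877
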