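import Groth.Statements.S9878
-- import your own Groth.Agent.* helpers here
import Groth.Agent.Bootstrap.CoprodAlg

set_option autoImplicit false
universe u
open CategoryTheory CategoryTheory.Limits AlgebraicGeometry
open AlgSp

namespace Groth.Agent.S9878

/-- Let `F`, `G` be fppf sheaves of sets over `S` and let `F ⨿ G` be their coproduct in sheaves (any
colimit binary cofan). Then the coprojection `F ⟶ F ⨿ G` is representable by schemes, by morphisms
that are both open immersions and closed immersions. -/
theorem result (S : Scheme.{u}) (F G : AlgSp.Sp S) (c : BinaryCofan F G)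
    (hc : IsColimit c) :
    AlgSp.RepWith (@IsOpenImmersion ⊓ @IsClosedImmersion) c.inl := by
  let F' : ULift.{u} WalkingPair → AlgSp.Sp S := fun j => match j with
    | ⟨.left⟩ => F
    | ⟨.right⟩ => G
  let c' : Cofan F' := Cofan.mk c.pt fun j => match j with
    | ⟨.left⟩ => c.inl
    | ⟨.right⟩ => c.inr
  have hc' : IsColimit c' := mkCofanColimit c'
    (fun t => BinaryCofan.IsColimit.desc hc (t.inj ⟨.left⟩) (t.inj ⟨.right⟩))
    (fun t j => match j with
      | ⟨.left⟩ => BinaryCofan.IsColimit.inl_desc hc _ _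
      | ⟨.right⟩ => BinaryCofan.IsColimit.inr_desc hc _ _)
    (fun t m hm => BinaryCofan.IsColimit.hom_ext hc
      ((hm ⟨.left⟩).trans (BinaryCofan.IsColimit.inl_desc hc (t.inj ⟨.left⟩) (t.inj ⟨.right⟩)).symm)
      ((hm ⟨.right⟩).trans (BinaryCofan.IsColimit.inr_desc hc (t.inj ⟨.left⟩) (t.inj ⟨.right⟩)).symm))
  exact Bootstrap.repWith_inj_openClosed hc' ⟨.left⟩

end Groth.Agent.S9878
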