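import Groth.Statements.S9879
-- import your own Groth.Agent.* helpers here
import Groth.Agent.Bootstrap.CoprodAlg

set_option autoImplicit false
universe u
open CategoryTheory CategoryTheory.Limits AlgebraicGeometry
open AlgSp

namespace Groth.Agent.S9879

/-- Let `U` be a scheme over `S` and `F_i` a family of fppf sheaves of sets over `S` whose coproduct in
sheaves is isomorphic to `h_U`. Then each `F_i` is representable by a scheme `V_i` over `S` such
that `V_i ⟶ U` (the morphism inducing `h_{V_i} ≅ F_i ⟶ ∐ F_i ≅ h_U`) is an open and closed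
immersion, and `U` is the coproduct of the `V_i` in schemes. -/
theorem result (S : Scheme.{u}) (U : Over S) {ι : Type u}
    (F : ι → AlgSp.Sp S) (c : Cofan F) (hc : IsColimit c) (e : c.pt ≅ (AlgSp.yon S).obj U) :
    ∃ (V : ι → Over S) (g : ∀ i, V i ⟶ U) (ei : ∀ i, (AlgSp.yon S).obj (V i) ≅ F i),
      (∀ i, IsOpenImmersion (g i).left ∧ IsClosedImmersion (g i).left) ∧
      (∀ i, (ei i).hom ≫ c.inj i ≫ e.hom = (AlgSp.yon S).map (g i)) ∧
      Nonempty (IsColimit (Cofan.mk U.left (fun i => (g i).left))) := by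
  choose V l g sq using fun i => AlgSpLib.exists_isPullback_of_representable (Bootstrap.repWith_inj hc i).1 e.inv
  have hl : ∀ i, IsIso (l i) := fun i => (sq i).isIso_fst_of_isIso
  have hg := fun i => (Bootstrap.repWith_inj_openClosed hc i).2 e.inv (l i) (g i) (sq i)
  have hw : ∀ i, l i ≫ c.inj i ≫ e.hom = (AlgSp.yon S).map (g i) := fun i => by
    rw [← Category.assoc, (sq i).w, Category.assoc, e.inv_hom_id, Category.comp_id]
  refine ⟨V, g, fun i => @asIso _ _ _ _ (l i) (hl i), hg, hw, ?_⟩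
  have : ∀ i, IsOpenImmersion (g i).left := fun i => (hg i).1
  have hr : ∀ i v, Points.ofPt e.inv ((g i).left v) ∈ Set.range (Points.map (c.inj i)) := fun i v =>
    ⟨Points.ofPt (l i) v, by rw [Points.map_ofPt, (sq i).w, AlgSpLib.ofPt_comp]⟩
  refine nonempty_isColimit_cofanMk_of (fun i => (g i).left) ?_ ?_
  · refine TopologicalSpace.Opens.ext (Set.eq_univ_of_forall fun t => ?_)
    obtain ⟨i, p, hp⟩ := Bootstrap.exists_range_inj hc (Points.ofPt e.inv t)
    obtain ⟨A, a, r, rfl⟩ := AlgSpLib.exists_ofPt p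
    rw [Points.map_ofPt] at hp
    obtain ⟨K, α, β, k, h, -, rfl⟩ := AlgSpLib.exists_of_ofPt_eq hp
    rw [← Category.assoc] at h
    obtain ⟨m, hm⟩ := AlgSpLib.exists_map_eq ((sq i).lift _ _ h)
    have hmg : m ≫ g i = β := (AlgSp.yon S).map_injective (by rw [Functor.map_comp, hm, (sq i).lift_snd])
    rw [TopologicalSpace.Opens.coe_iSup]
    exact Set.mem_iUnion.2 ⟨i, m.left k, by rw [← hmg]; rfl⟩
  · intro i j hij
    rw [Function.onFun, ← TopologicalSpace.Opens.coe_disjoint, Set.disjoint_left]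
    rintro _ ⟨v, rfl⟩ ⟨w, hw'⟩
    have hj := hr j w
    rw [hw'] at hj
    exact hij (Bootstrap.eq_of_mem_range hc (hr i v) hj)

end Groth.Agent.S9879
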