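import Groth.Statements.S9891
import Groth.Prelude.Def_AlgSpRep

set_option autoImplicit false
universe u
open CategoryTheory CategoryTheory.Limits AlgebraicGeometry
open AlgSp

set_option backward.isDefEq.respectTransparency false

namespace Groth.Agent.S9891

/-- Let `a : F ⟶ G` be a map of presheaves of sets on schemes over `S` which is representable by
schemes. Then the relative diagonal `F ⟶ F ×_G F` is representable by schemes. -/
theorem result (S : Scheme.{u}) (F G : AlgSp.PSp S) (a : F ⟶ G)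
    (ha : (AlgSp.pyon S).relativelyRepresentable a) :
    (AlgSp.pyon S).relativelyRepresentable (pullback.diagonal a) := by
  intro U ξ
  let ξ₁ := ξ ≫ pullback.fst a a
  let ξ₂ := ξ ≫ pullback.snd a a
  have e₂ : ξ₂ ≫ a = ξ₁ ≫ a := by simp only [ξ₁, ξ₂, Category.assoc, pullback.condition]
  obtain ⟨V, v, fst, sq⟩ := ha (ξ₁ ≫ a)
  obtain ⟨s₁, hs₁⟩ := (AlgSp.pyon S).map_surjective (sq.lift ξ₁ (𝟙 _) (Category.id_comp _).symm)
  obtain ⟨s₂, hs₂⟩ := (AlgSp.pyon S).map_surjective (sq.lift ξ₂ (𝟙 _) (e₂.trans (Category.id_comp _).symm))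
  have f₁ : (AlgSp.pyon S).map s₁ ≫ fst = ξ₁ := hs₁ ▸ sq.lift_fst _ _ _
  have f₂ : (AlgSp.pyon S).map s₂ ≫ fst = ξ₂ := hs₂ ▸ sq.lift_fst _ _ _
  have v₁ : (AlgSp.pyon S).map s₁ ≫ (AlgSp.pyon S).map v = 𝟙 _ := hs₁ ▸ sq.lift_snd _ _ _
  have v₂ : (AlgSp.pyon S).map s₂ ≫ (AlgSp.pyon S).map v = 𝟙 _ := hs₂ ▸ sq.lift_snd _ _ _
  have sqE := (IsPullback.of_hasPullback s₁ s₂).map (AlgSp.pyon S)
  let e₁ := (AlgSp.pyon S).map (pullback.fst s₁ s₂)
  let e₂' := (AlgSp.pyon S).map (pullback.snd s₁ s₂)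
  have he : e₁ = e₂' := by
    have := congrArg (· ≫ (AlgSp.pyon S).map v) sqE.w
    simpa only [Category.assoc, v₁, v₂, Category.comp_id] using this
  have hξ : e₁ ≫ ξ₁ = e₁ ≫ ξ₂ := by
    have := congrArg (· ≫ fst) sqE.w
    simp only [Category.assoc, f₁, f₂] at this
    exact this.trans (congrArg (· ≫ ξ₂) he.symm)
  have hw : (e₁ ≫ ξ₁) ≫ pullback.diagonal a = e₁ ≫ ξ := by
    apply pullback.hom_ext
    · simp [ξ₁]
    · simpa [ξ₂] using hξ
  have key : ∀ c : PullbackCone (pullback.diagonal a) ξ, c.fst = c.snd ≫ ξ₁ ∧ c.fst = c.snd ≫ ξ₂ := fun c =>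
    ⟨by simpa [ξ₁] using congrArg (fun m => m ≫ pullback.fst a a) c.condition,
      by simpa [ξ₂] using congrArg (fun m => m ≫ pullback.snd a a) c.condition⟩
  have hl : ∀ c : PullbackCone (pullback.diagonal a) ξ,
      c.snd ≫ (AlgSp.pyon S).map s₁ = c.snd ≫ (AlgSp.pyon S).map s₂ := fun c => by
    apply sq.hom_ext
    · simp only [Category.assoc, f₁, f₂, ← (key c).1, ← (key c).2]
    · simp only [Category.assoc, v₁, v₂]
  refine ⟨pullback s₁ s₂, pullback.fst s₁ s₂, e₁ ≫ ξ₁, ⟨⟨hw⟩, ⟨PullbackCone.IsLimit.mk hw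
    (fun c => sqE.lift c.snd c.snd (hl c)) (fun c => ?_) (fun c => sqE.lift_fst _ _ _)
    (fun c m h₁ h₂ => sqE.hom_ext ?_ ?_)⟩⟩⟩
  · rw [← Category.assoc]
    exact (congrArg (· ≫ ξ₁) (sqE.lift_fst _ _ _)).trans (key c).1.symm
  · rw [sqE.lift_fst]; exact h₂
  · rw [sqE.lift_snd]
    exact (congrArg (m ≫ ·) he.symm).trans h₂

end Groth.Agent.S9891
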