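import Groth.Statements.S9894
import Groth.Agent.AlgSpLib.RepDescent
import Groth.Agent.AlgSpLib.Space
import Groth.Agent.AlgSpLib.Atlas
-- import your own Groth.Agent.* helpers here

set_option autoImplicit false
set_option backward.isDefEq.respectTransparency false
universe u
open CategoryTheory CategoryTheory.Limits AlgebraicGeometry
open AlgSp

namespace Groth.Agent.S9894

/-- Let `P` be a property of morphisms of schemes which is stable under base change, fppf local on the
base, and such that morphisms of type `P` satisfy descent: for every surjective, flat, locally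
finitely presented `p : X' ⟶ S'` every descent datum relative to `p` whose scheme has structure
morphism in `P` is effective (descent is asked along single fppf covers, the case the argument
uses). Let `F` be an algebraic space over `S`, `G` an fppf sheaf of sets with a map `f : G ⟶ F`, and
`q : h_U ⟶ F` representable etale and surjective such that the base change of `f` along `q` is
represented by a scheme `V` over `S` with `g : V ⟶ U` having `P`. Then `G` is an algebraic space
over `S` and `f` is representable by schemes with property `P`. -/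
theorem result (S : Scheme.{u}) (P : MorphismProperty Scheme.{u})
    [P.IsStableUnderBaseChange] [P.IsLocalAtTarget Scheme.fppfPrecoverage]
    (hdesc : ∀ ⦃X' S' : Scheme.{u}⦄ (p : X' ⟶ S'), Surjective p → Flat p → LocallyOfFinitePresentation p →
      ∀ D : Desc.SchDD p, P D.obj.hom → (Desc.toDD p).essImage D)
    (F : AlgSp.Space S) (G : AlgSp.Sp S) (f : G ⟶ F.obj) {U V : Over S} (q : (AlgSp.yon S).obj U ⟶ F.obj)
    (hqe : AlgSp.RepWith @Etale q) (hqs : AlgSp.RepWith @Surjective q) (fst : (AlgSp.yon S).obj V ⟶ G)
    (g : V ⟶ U) (sq : IsPullback fst ((AlgSp.yon S).map g) f q) (hP : P g.left) :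
    AlgSp.IsAlgSpace G ∧ AlgSp.RepWith P f := by
  have hls := Groth.Agent.AlgSpLib.isLocallySurjective_of_atlas hqe hqs
  have hrep : AlgSp.Representable f := by
    intro T ξ
    obtain ⟨T', u₁, h, sqT⟩ := Groth.Agent.AlgSpLib.exists_pullback F.property.diag q ξ
    haveI : Etale h.left := hqe.2 ξ _ h sqT
    haveI : Surjective h.left := hqs.2 ξ _ h sqT
    obtain ⟨V', v, fst', sqV⟩ := AlgSp.representable_yon_map g ((AlgSp.yon S).map u₁)
    have hv : P v.left := (AlgSp.repWith_yon_map_iff P g).2 hP |>.2 _ _ _ sqV
    let Z := Limits.pullback f ξ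
    have big : IsPullback (fst' ≫ fst) ((AlgSp.yon S).map v) f ((AlgSp.yon S).map h ≫ ξ) := by
      rw [← sqT.w]
      exact sqV.paste_horiz sq
    let z : (AlgSp.yon S).obj V' ⟶ Z := Limits.pullback.lift (fst' ≫ fst)
      ((AlgSp.yon S).map v ≫ (AlgSp.yon S).map h) (by rw [big.w, Category.assoc])
    have sqz : IsPullback z ((AlgSp.yon S).map v) (Limits.pullback.snd f ξ) ((AlgSp.yon S).map h) := by
      refine IsPullback.of_right ?_ (Limits.pullback.lift_snd _ _ _) (IsPullback.of_hasPullback f ξ)
      rw [Limits.pullback.lift_fst]; exact big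
    obtain ⟨W₀, ⟨e⟩⟩ := hdesc h.left inferInstance inferInstance inferInstance
      (Groth.Agent.AlgSpLib.RepDatum.datum sqz) hv
    obtain ⟨W, w, i, -, hw, -⟩ := Groth.Agent.AlgSpLib.exists_rep_of_effective sqz e
    exact ⟨W, w, i.hom ≫ Limits.pullback.fst f ξ,
      IsPullback.of_iso_pullback ⟨by rw [← hw, Category.assoc, Category.assoc, Limits.pullback.condition]⟩
        i rfl hw⟩
  refine ⟨?_, Groth.Agent.AlgSpLib.repWith_of_isLocallySurjective hrep sq ((AlgSp.repWith_yon_map_iff P g).2 hP)⟩
  exact Groth.Agent.AlgSpLib.isAlgSpace_of_atlas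
    (Groth.Agent.AlgSpLib.repWith_baseChange sq.flip hqe) (Groth.Agent.AlgSpLib.repWith_baseChange sq.flip hqs)

end Groth.Agent.S9894
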