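import Groth.Statements.S9895
import Groth.Agent.AlgSpLib.Quotient
import Groth.Agent.AlgSpLib.FreeEtale
import Groth.Agent.FreeFieldPoint.Algebra
import Mathlib.AlgebraicGeometry.Morphisms.FormallyUnramified

set_option autoImplicit false
set_option backward.isDefEq.respectTransparency false
universe u
open CategoryTheory CategoryTheory.Limits AlgebraicGeometry
open AlgSp

namespace Groth.Agent.S9895

open Groth.Agent.AlgSpLib

/-- a closed point of a scheme etale over a field has finite separable residue field -/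
theorem exists_point {k : Type u} [Field k] {V : Scheme.{u}} (b : V ⟶ Spec (CommRingCat.of k)) [Etale b]
    [Surjective b] :
    ∃ (L : Type u) (_ : Field L) (_ : Algebra k L) (_ : FiniteDimensional k L) (_ : Algebra.IsSeparable k L)
      (x : Spec (CommRingCat.of L) ⟶ V), x ≫ b = Spec.map (CommRingCat.ofHom (algebraMap k L)) ∧ Mono x ∧
      ∀ (f : V ⟶ V) [IsIso f], x (IsLocalRing.closedPoint L) = f (x (IsLocalRing.closedPoint L)) →
        ∃ φ : CommRingCat.of L ⟶ CommRingCat.of L, Spec.map φ ≫ x = x ≫ f := by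
  obtain ⟨v₀, -⟩ := b.surjective (IsLocalRing.closedPoint k)
  haveI : JacobsonSpace V := LocallyOfFiniteType.jacobsonSpace b
  obtain ⟨v, -, hv⟩ := nonempty_inter_closedPoints (X := ↥V) (Z := Set.univ) ⟨v₀, trivial⟩
    isClosed_univ.isLocallyClosed
  let x := V.fromSpecResidueField v
  haveI : IsClosedImmersion x := IsClosedImmersion.of_isPreimmersion x (by
    rw [V.range_fromSpecResidueField]
    exact hv)
  let φ : CommRingCat.of k ⟶ V.residueField v := Spec.preimage (x ≫ b)
  have hφ : Spec.map φ = x ≫ b := Spec.map_preimage _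
  letI : Algebra k (V.residueField v) := φ.hom.toAlgebra
  haveI hft : Algebra.FiniteType k (V.residueField v) := by
    have h : LocallyOfFiniteType (Spec.map φ) := by rw [hφ]; infer_instance
    exact (HasRingHomProperty.Spec_iff (P := @LocallyOfFiniteType)).1 h
  haveI : Module.Finite k (V.residueField v) := finite_of_finite_type_of_isJacobsonRing k _
  haveI : Algebra.FormallyUnramified k (V.residueField v) := by
    haveI : IsIso (pullback.diagonal x) := inferInstance
    haveI : FormallyUnramified x := inferInstance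
    haveI : FormallyUnramified b := inferInstance
    haveI : FormallyUnramified (x ≫ b) := MorphismProperty.comp_mem _ _ _ ‹FormallyUnramified x› ‹FormallyUnramified b›
    have h : FormallyUnramified (Spec.map φ) := by rw [hφ]; infer_instance
    exact (HasRingHomProperty.Spec_iff (P := @FormallyUnramified)).1 h
  haveI : Algebra.EssFiniteType k (V.residueField v) := inferInstance
  refine ⟨V.residueField v, inferInstance, inferInstance, inferInstance,
    Algebra.FormallyUnramified.isSeparable k (V.residueField v), x, hφ.symm, inferInstance, fun f _ hf => ?_⟩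
  have h0 := V.fromSpecResidueField_apply v (IsLocalRing.closedPoint (V.residueField v))
  replace hf : v = f v := h0.symm.trans (hf.trans (congrArg (fun z => f z) h0))
  refine ⟨(V.residueFieldCongr hf).hom ≫ f.residueFieldMap v, ?_⟩
  rw [Spec.map_comp, Category.assoc]
  exact (congrArg (_ ≫ ·) (V.residueFieldCongr_fromSpecResidueField hf)).trans
    (Scheme.Hom.SpecMap_residueFieldMap_fromSpecResidueField f v)

/-- Let a group `G` act freely (no non-identity element fixes a point together with its residue field)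
by `S`-automorphisms on a scheme `U` over `S`, let `s, t : R = ∐_{g ∈ G} U ⟶ U` be the identity and
the action, and let `ξ : h_{Spec k} ⟶ U/R` be a morphism from the spectrum of a field `k` over `S`
to the quotient sheaf. Then one can find a finite Galois extension `k'/k` together with a finite
subgroup `H ⊆ G`, a group isomorphism `e : H ≅ Gal(k'/k)` and a morphism `x' : Spec k' ⟶ U` over `S`
which is `H`-equivariant (with `h ∈ H` acting on `Spec k'` through `Spec` of `(e h)⁻¹`) and whose
composite with `U ⟶ U/R` is the restriction of `ξ` to `Spec k'`. (The published statement also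
asserts that such data determine a morphism from `Spec k` to the quotient; this row states only the
direction above.) -/
theorem result (S : Scheme.{u}) (U : Over S) (G : Type u) [Group G]
    (ρ : G →* Aut U)
    (hfree : ∀ (g : G) (x : U.left), g ≠ 1 →
      U.left.fromSpecResidueField x ≫ (ρ g).hom.left ≠ U.left.fromSpecResidueField x)
    (c : Cofan (fun _ : G => U)) (hc : IsColimit c) (s t : c.pt ⟶ U)
    (hs : ∀ g, c.inj g ≫ s = 𝟙 U) (ht : ∀ g, c.inj g ≫ t = (ρ g).hom)
    (k : Type u) [Field k] (σ : Spec (CommRingCat.of k) ⟶ S)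
    (ξ : (AlgSp.yon S).obj (Over.mk σ) ⟶ QuotSh.quot Scheme.fppfPrecoverage s t) :
    ∃ (k' : Type u) (_ : Field k') (_ : Algebra k k') (_ : FiniteDimensional k k') (_ : IsGalois k k')
      (H : Subgroup G) (_ : Finite H) (e : H ≃* (k' ≃ₐ[k] k'))
      (x' : Over.mk (Spec.map (CommRingCat.ofHom (algebraMap k k')) ≫ σ) ⟶ U),
      (∀ h : H, Spec.map (CommRingCat.ofHom (e h).symm.toRingEquiv.toRingHom) ≫ x'.left =
        x'.left ≫ (ρ (h : G)).hom.left) ∧
      (AlgSp.yon S).map x' ≫ (QuotSh.repIsoUliftYoneda Scheme.fppfPrecoverage U).inv ≫ QuotSh.quotπ Scheme.fppfPrecoverage s t =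
        (AlgSp.yon S).map (Over.homMk (Spec.map (CommRingCat.ofHom (algebraMap k k'))) :
          Over.mk (Spec.map (CommRingCat.ofHom (algebraMap k k')) ≫ σ) ⟶ Over.mk σ) ≫ ξ := by
  have het := FreeEtale.isEtaleEqvRel ρ hc hs ht hfree
  obtain ⟨-, hpres⟩ := isPresentation_of_coequalizer het (isColimitQuotProj s t)
  let p := quotProj s t
  obtain ⟨V, fst, snd, sqV, hEt⟩ := exists_repWith hpres.etale ξ
  obtain ⟨a, rfl⟩ := exists_map_eq fst
  haveI : Etale snd.left := hEt
  haveI : Surjective snd.left := hpres.surjective.2 ξ _ snd sqV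
  -- points of the pullback
  have hlift : ∀ {T : Over S} (x : T ⟶ U) (y : T ⟶ Over.mk σ),
      (AlgSp.yon S).map x ≫ p = (AlgSp.yon S).map y ≫ ξ → ∃ l : T ⟶ V, l ≫ a = x ∧ l ≫ snd = y := by
    intro T x y h
    obtain ⟨l, hl⟩ := exists_map_eq (sqV.lift _ _ h)
    refine ⟨l, (AlgSp.yon S).map_injective ?_, (AlgSp.yon S).map_injective ?_⟩
    · rw [Functor.map_comp, hl, sqV.lift_fst]
    · rw [Functor.map_comp, hl, sqV.lift_snd]
  have hext : ∀ {T : Over S} {l l' : T ⟶ V}, l ≫ a = l' ≫ a → l ≫ snd = l' ≫ snd → l = l' := by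
    intro T l l' h₁ h₂
    refine (AlgSp.yon S).map_injective (sqV.hom_ext ?_ ?_)
    · rw [← Functor.map_comp, ← Functor.map_comp, h₁]
    · rw [← Functor.map_comp, ← Functor.map_comp, h₂]
  have hinv : ∀ g, (AlgSp.yon S).map (ρ g).hom ≫ p = p := by
    intro g
    rw [← ht g, Functor.map_comp, Category.assoc, quotProj_condition s t, ← Category.assoc, ← Functor.map_comp,
      hs g, CategoryTheory.Functor.map_id, Category.id_comp]
  have hA : ∀ g, ∃ l : V ⟶ V, l ≫ a = a ≫ (ρ g).hom ∧ l ≫ snd = snd := fun g =>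
    hlift (a ≫ (ρ g).hom) snd (by rw [Functor.map_comp, Category.assoc, hinv]; exact sqV.w)
  choose A hA₁ hA₂ using hA
  have hAmul : ∀ g h, A (g * h) = A h ≫ A g := fun g h => hext
    (by rw [hA₁, FreeEtale.hom_mul ρ, Category.assoc, hA₁, reassoc_of% hA₁ h])
    (by rw [hA₂, Category.assoc, hA₂, hA₂])
  have hAone : A 1 = 𝟙 V := hext (by rw [hA₁, FreeEtale.hom_one ρ, Category.comp_id, Category.id_comp])
    (by rw [hA₂, Category.id_comp])
  haveI hAiso : ∀ g, IsIso (A g).left := fun g => by
    haveI : IsIso (A g) := ⟨⟨A g⁻¹, by rw [← hAmul, inv_mul_cancel, hAone],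
      by rw [← hAmul, mul_inv_cancel, hAone]⟩⟩
    exact inferInstanceAs (IsIso ((Over.forget S).map (A g)))
  obtain ⟨L, _, _, _, _, x, hx, hmono, hres⟩ := exists_point snd.left
  let v := x (IsLocalRing.closedPoint L)
  have happ : ∀ g h (z : V.left), (A (g * h)).left z = (A g).left ((A h).left z) := fun g h z => by
    rw [hAmul]; rfl
  let H : Subgroup G :=
    { carrier := {g | (A g).left v = v}
      mul_mem' := fun {g h} hg hh => by
        show (A (g * h)).left v = v
        rw [happ, hh, hg]
      one_mem' := by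
        show (A 1).left v = v
        rw [hAone]; rfl
      inv_mem' := fun {g} hg => by
        show (A g⁻¹).left v = v
        calc (A g⁻¹).left v = (A g⁻¹).left ((A g).left v) := by rw [show (A g).left v = v from hg]
          _ = v := by rw [← happ, inv_mul_cancel, hAone]; rfl }
  have hφ : ∀ h : H, ∃ φ : CommRingCat.of L ⟶ CommRingCat.of L, Spec.map φ ≫ x = x ≫ (A (h : G)).left :=
    fun h => hres (A (h : G)).left h.2.symm
  choose φ hφ using hφ
  have huniq : ∀ {F : Type u} [Field F] (φ₁ φ₂ : CommRingCat.of L ⟶ CommRingCat.of F),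
      Spec.map φ₁ ≫ x = Spec.map φ₂ ≫ x → φ₁ = φ₂ := fun φ₁ φ₂ h => Spec.map_injective ((cancel_mono x).1 h)
  have hφmul : ∀ g h : H, φ (g * h) = φ g ≫ φ h := fun g h => huniq _ _ (by
    rw [hφ, Spec.map_comp, Category.assoc, hφ, reassoc_of% hφ h, show ((g * h : H) : G) = g * h from rfl, hAmul]
    rfl)
  have hφone : φ 1 = 𝟙 _ := huniq _ _ (by
    rw [hφ, Spec.map_id, Category.id_comp, show ((1 : H) : G) = 1 from rfl, hAone]
    exact Category.comp_id _)
  have hcomm : ∀ (h : H) (r : k), (φ h).hom (algebraMap k L r) = algebraMap k L r := by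
    intro h r
    have e : CommRingCat.ofHom (algebraMap k L) ≫ φ h = CommRingCat.ofHom (algebraMap k L) := Spec.map_injective (by
      rw [Spec.map_comp, ← hx, reassoc_of% hφ h, ← Over.comp_left, hA₂])
    exact congr($e r)
  let α : H → (L ≃ₐ[k] L) := fun h => AlgEquiv.ofAlgHom
    { (φ h).hom with commutes' := hcomm h } { (φ h⁻¹).hom with commutes' := hcomm h⁻¹ }
    (AlgHom.ext fun y => congr($((hφmul h⁻¹ h).symm.trans ((congrArg φ (inv_mul_cancel h)).trans hφone)) y))
    (AlgHom.ext fun y => congr($((hφmul h h⁻¹).symm.trans ((congrArg φ (mul_inv_cancel h)).trans hφone)) y))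
  have hαφ : ∀ h, CommRingCat.ofHom (α h).toRingEquiv.toRingHom = φ h := fun h => rfl
  let T₀ : Over S := Over.mk (x ≫ V.hom)
  let xV : T₀ ⟶ V := Over.homMk x rfl
  have hαinj : Function.Injective α := fun g h e => by
    have e' : φ g = φ h := by rw [← hαφ, ← hαφ, e]
    refine Subtype.ext (FreeEtale.eq_of_comp_eq ρ hfree (T := T₀) (IsLocalRing.closedPoint L) (x := xV ≫ a) ?_)
    rw [Category.assoc, Category.assoc, ← hA₁, ← hA₁, ← Category.assoc, ← Category.assoc]
    refine congrArg (· ≫ a) (Over.OverMorphism.ext ?_)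
    show x ≫ (A (g : G)).left = x ≫ (A (h : G)).left
    rw [← hφ, ← hφ, e']
  have htrans : ∀ τ : L →ₐ[k] AlgebraicClosure L,
      ∃ h, τ = (IsScalarTower.toAlgHom k L (AlgebraicClosure L)).comp (α h).toAlgHom := by
    intro τ
    let ι : CommRingCat.of L ⟶ CommRingCat.of (AlgebraicClosure L) :=
      CommRingCat.ofHom (algebraMap L (AlgebraicClosure L))
    let τ' : CommRingCat.of L ⟶ CommRingCat.of (AlgebraicClosure L) := CommRingCat.ofHom τ.toRingHom
    have hb : Spec.map τ' ≫ x ≫ snd.left = Spec.map ι ≫ x ≫ snd.left := by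
      rw [hx, ← Spec.map_comp, ← Spec.map_comp]
      congr 1
      ext r
      exact τ.commutes r
    let T : Over S := Over.mk (Spec.map ι ≫ x ≫ V.hom)
    let y₁ : T ⟶ V := Over.homMk (Spec.map ι ≫ x) (Category.assoc _ _ _)
    let y₂ : T ⟶ V := Over.homMk (Spec.map τ' ≫ x) (by
      show (Spec.map τ' ≫ x) ≫ V.hom = Spec.map ι ≫ x ≫ V.hom
      rw [Category.assoc, ← Over.w snd]
      exact (reassoc_of% hb) _)
    have hy : y₁ ≫ snd = y₂ ≫ snd := Over.OverMorphism.ext (by
      show (Spec.map ι ≫ x) ≫ snd.left = (Spec.map τ' ≫ x) ≫ snd.left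
      rw [Category.assoc, Category.assoc, hb])
    have hyp : (AlgSp.yon S).map (y₂ ≫ a) ≫ p = (AlgSp.yon S).map (y₁ ≫ a) ≫ p := by
      rw [Functor.map_comp, Functor.map_comp, Category.assoc, Category.assoc, sqV.w, ← Category.assoc,
        ← Category.assoc, ← Functor.map_comp, ← Functor.map_comp, hy]
    obtain ⟨r, hr⟩ := exists_map_eq (hpres.isPullback.lift _ _ hyp)
    have hr₁ : r ≫ t = y₂ ≫ a := (AlgSp.yon S).map_injective (by rw [Functor.map_comp, hr, IsPullback.lift_fst])
    have hr₂ : r ≫ s = y₁ ≫ a := (AlgSp.yon S).map_injective (by rw [Functor.map_comp, hr, IsPullback.lift_snd])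
    obtain ⟨g, W, z, hW, hz⟩ := FreeEtale.exists_local hc r (IsLocalRing.closedPoint (AlgebraicClosure L))
    have htop : W = ⊤ := eq_top_iff.2 fun w _ =>
      (Subsingleton.elim (α := PrimeSpectrum (AlgebraicClosure L))
        (IsLocalRing.closedPoint (AlgebraicClosure L)) w) ▸ hW
    let j : Over.mk (W.ι ≫ T.hom) ⟶ T := Over.homMk W.ι rfl
    haveI : IsIso W.ι := by
      refine isIso_of_isOpenImmersion_of_opensRange_eq_top _ ?_
      rw [Scheme.Opens.opensRange_ι, htop]
    have hy₂ : y₂ = y₁ ≫ A g := hext (by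
      have e₁ : (j ≫ y₁) ≫ a = z := by
        rw [Category.assoc, ← hr₂, reassoc_of% hz, hs, Category.comp_id]
      have e₂ : (j ≫ y₂) ≫ a = z ≫ (ρ g).hom := by
        rw [Category.assoc, ← hr₁, reassoc_of% hz, ht]
      refine Over.OverMorphism.ext ((cancel_epi W.ι).1 ?_)
      have e₃ := congrArg CommaMorphism.left
        (show j ≫ y₂ ≫ a = j ≫ (y₁ ≫ A g) ≫ a by
          rw [← Category.assoc j, e₂, ← e₁, Category.assoc, Category.assoc, Category.assoc, hA₁])
      exact e₃) (by rw [Category.assoc, hA₂, hy])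
    have hleft : Spec.map τ' ≫ x = Spec.map ι ≫ x ≫ (A g).left :=
      (congrArg CommaMorphism.left hy₂).trans (Category.assoc _ _ _)
    have hgv : (A g).left v = v := by
      let ω := IsLocalRing.closedPoint (AlgebraicClosure L)
      have e₁ : x (Spec.map ι ω) = v := congrArg x (Subsingleton.elim (α := PrimeSpectrum L) _ _)
      have e₂ : x (Spec.map τ' ω) = v := congrArg x (Subsingleton.elim (α := PrimeSpectrum L) _ _)
      have e₃ := congr($hleft ω)
      simp only [Scheme.Hom.comp_apply] at e₃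
      rw [e₁, e₂] at e₃
      exact e₃.symm
    refine ⟨⟨g, hgv⟩, AlgHom.ext fun y => ?_⟩
    have e : τ' = φ ⟨g, hgv⟩ ≫ ι := huniq _ _ (by rw [hleft, Spec.map_comp, Category.assoc, hφ])
    exact congr($e y)
  obtain ⟨hgal, hfin, e, he⟩ := FreeFieldPoint.exists_galois_equiv α
    (fun g h => AlgEquiv.ext fun y => congr($(hφmul g h) y)) hαinj htrans
  let T' : Over S := Over.mk (Spec.map (CommRingCat.ofHom (algebraMap k L)) ≫ σ)
  let x' : T' ⟶ U := Over.homMk (x ≫ a.left) (by
    show (x ≫ a.left) ≫ U.hom = Spec.map _ ≫ σ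
    rw [Category.assoc, Over.w a, ← hx, Category.assoc, ← Over.w snd]
    rfl)
  refine ⟨L, inferInstance, inferInstance, inferInstance, hgal, H, hfin, e, x', fun h => ?_, ?_⟩
  · show Spec.map (CommRingCat.ofHom (e h).symm.toRingEquiv.toRingHom) ≫ x ≫ a.left = (x ≫ a.left) ≫ (ρ (h : G)).hom.left
    rw [he, hαφ, reassoc_of% hφ h, Category.assoc, ← Over.comp_left, ← Over.comp_left, hA₁]
  · show (AlgSp.yon S).map x' ≫ p = _
    let xT : T' ⟶ V := Over.homMk x (by
      show x ≫ V.hom = Spec.map _ ≫ σ
      rw [← hx, Category.assoc, ← Over.w snd]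
      rfl)
    have e₁ : xT ≫ a = x' := Over.OverMorphism.ext rfl
    have e₂ : xT ≫ snd = Over.homMk (Spec.map (CommRingCat.ofHom (algebraMap k L))) := Over.OverMorphism.ext hx
    rw [← e₁, Functor.map_comp, Category.assoc, sqV.w, ← Category.assoc, ← Functor.map_comp, e₂]

end Groth.Agent.S9895
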