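import Groth.Statements.S9931
import Groth.Agent.AlgSpLib.Criteria

set_option autoImplicit false
universe u
open CategoryTheory CategoryTheory.Limits AlgebraicGeometry
open AlgSp

set_option backward.isDefEq.respectTransparency false

namespace Groth.Agent.S9931

/-- (3) ⇒ (1): for P = closed immersion, open immersion or immersion, a morphism of algebraic spaces
whose base change to every affine scheme over the target is representable with P is itself
representable with P. -/
theorem result {S : Scheme.{u}} (P : MorphismProperty Scheme.{u})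
    (hP : P = @IsClosedImmersion ∨ P = @IsOpenImmersion ∨ P = @IsImmersion) {X Y : AlgSp.Space S} (f : X ⟶ Y)
    (h : ∀ (Z : Over S), IsAffine Z.left → ∀ (g : (AlgSp.yon S).obj Z ⟶ Y.obj) (P₀ : AlgSp.Sp S)
      (fst : P₀ ⟶ X.obj) (snd : P₀ ⟶ (AlgSp.yon S).obj Z), IsPullback fst snd f.hom g → AlgSp.RepWith P snd) :
    AlgSp.RepWith P f.hom := by
  have key : ∀ ⦃T : Over S⦄, IsAffine T.left → ∀ ξ : (AlgSp.yon S).obj T ⟶ Y.obj,
      ∃ (V : Over S) (v : V ⟶ T) (z : (AlgSp.yon S).obj V ⟶ X.obj),
        IsPullback z ((AlgSp.yon S).map v) f.hom ξ ∧ P v.left := by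
    intro T hT ξ
    obtain ⟨V, z, v, sq, hv⟩ := Groth.Agent.AlgSpLib.exists_repWith
      (h T hT ξ _ _ _ (IsPullback.of_hasPullback f.hom ξ)) (𝟙 _)
    exact ⟨V, v, z ≫ pullback.fst _ _, by simpa using sq.paste_horiz (IsPullback.of_hasPullback f.hom ξ), hv⟩
  rcases hP with rfl | rfl | rfl
  all_goals
    refine Groth.Agent.AlgSpLib.repWith_of_affine _ ?_ f.hom key
    intro _ _ r hr
  · have : IsClosedImmersion r := hr
    exact Groth.Agent.QA.IndQA.of_isImmersion r
  · have : IsOpenImmersion r := hr
    exact Groth.Agent.QA.IndQA.of_isImmersion r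
  · have : IsImmersion r := hr
    exact Groth.Agent.QA.IndQA.of_isImmersion r

end Groth.Agent.S9931
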