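import Groth.Statements.S9932
import Groth.Agent.AlgSpLib.Criteria

set_option autoImplicit false
universe u
open CategoryTheory CategoryTheory.Limits AlgebraicGeometry
open AlgSp

set_option backward.isDefEq.respectTransparency false

namespace Groth.Agent.S9932

/-- (4) ⇒ (1): for P = closed immersion, open immersion or immersion, being representable with P
descends along a surjective etale base change from a scheme. -/
theorem result {S : Scheme.{u}} (P : MorphismProperty Scheme.{u})
    (hP : P = @IsClosedImmersion ∨ P = @IsOpenImmersion ∨ P = @IsImmersion) {X Y : AlgSp.Space S} (f : X ⟶ Y)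
    (V : Over S) (p : (AlgSp.yon S).obj V ⟶ Y.obj) (hp : AlgSp.RepWith @Etale p) (hps : AlgSp.RepWith @Surjective p)
    {P₀ : AlgSp.Sp S} (fst : P₀ ⟶ X.obj) (snd : P₀ ⟶ (AlgSp.yon S).obj V) (sq : IsPullback fst snd f.hom p)
    (h : AlgSp.RepWith P snd) : AlgSp.RepWith P f.hom := by
  have hcov : AlgSp.IsFppfCover (fun _ : PUnit.{u + 1} => (AlgSp.yon S).obj V) (fun _ => p) :=
    ⟨fun _ => ⟨(Groth.Agent.AlgSpLib.locP_iff_repWith Groth.Agent.AlgSpLib.etST_flat Y.property hp.1).2 (Groth.Agent.AlgSpLib.repWith_mono (fun _ _ r hr => by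
        have : Etale r := hr
        infer_instance) hp),
      (Groth.Agent.AlgSpLib.locP_iff_repWith Groth.Agent.AlgSpLib.etST_lfp Y.property hp.1).2 (Groth.Agent.AlgSpLib.repWith_mono (fun _ _ r hr => by
        have : Etale r := hr
        infer_instance) hp)⟩,
      fun x => ⟨PUnit.unit, Groth.Agent.AlgSpLib.isSurjectiveMor_of_repWith hps x⟩⟩
  rcases hP with rfl | rfl | rfl
  all_goals
    refine Groth.Agent.AlgSpLib.repWith_of_fppfCover _ ?_ Y.property (fun _ => AlgSp.IsAlgSpace.yon_obj V) hcov f.hom
      (fun _ => P₀) (fun _ => snd) (fun _ => fst) (fun _ => sq) fun _ => h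
    intro _ _ r hr
  · have : IsClosedImmersion r := hr
    exact Groth.Agent.QA.IndQA.of_isImmersion r
  · have : IsOpenImmersion r := hr
    exact Groth.Agent.QA.IndQA.of_isImmersion r
  · have : IsImmersion r := hr
    exact Groth.Agent.QA.IndQA.of_isImmersion r

end Groth.Agent.S9932
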