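import Groth.Statements.S9933
import Groth.Agent.AlgSpLib.Graph

set_option autoImplicit false
universe u
open CategoryTheory CategoryTheory.Limits AlgebraicGeometry
open AlgSp

set_option backward.isDefEq.respectTransparency false

namespace Groth.Agent.S9933

/-- Permanence for Z -> Y -> X: the five representable finiteness/separation properties of Z -> X pass
to Z -> Y, and a closed immersion Z -> X with Y -> X separated gives a closed immersion Z -> Y. -/
theorem result {S : Scheme.{u}} {Z Y X : AlgSp.Space S} (a : Z ⟶ Y) (b : Y ⟶ X) :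
    ((AlgSp.Representable (a ≫ b).hom ∧ AlgSp.RepWith @LocallyOfFiniteType (a ≫ b).hom ∧
        AlgSp.RepWith (@LocallyQuasiFinite ⊓ @LocallyOfFiniteType) (a ≫ b).hom ∧
        AlgSp.RepWith @IsSeparated (a ≫ b).hom ∧
        AlgSp.RepWith (MorphismProperty.monomorphisms Scheme.{u}) (a ≫ b).hom) →
      (AlgSp.Representable a.hom ∧ AlgSp.RepWith @LocallyOfFiniteType a.hom ∧
        AlgSp.RepWith (@LocallyQuasiFinite ⊓ @LocallyOfFiniteType) a.hom ∧
        AlgSp.RepWith @IsSeparated a.hom ∧
        AlgSp.RepWith (MorphismProperty.monomorphisms Scheme.{u}) a.hom)) ∧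
    (AlgSp.RepWith @IsClosedImmersion (a ≫ b).hom → AlgSp.IsSeparatedMor b.hom →
      AlgSp.RepWith @IsClosedImmersion a.hom) := by
  have e : a.hom ≫ b.hom = (a ≫ b).hom := rfl
  have key : ∀ {Q : MorphismProperty Scheme.{u}} [Q.IsStableUnderBaseChange] [Q.IsStableUnderComposition],
      AlgSp.RepWith Q (pullback.diagonal b.hom) → AlgSp.RepWith Q (a ≫ b).hom → AlgSp.RepWith Q a.hom :=
    fun hd h => Groth.Agent.AlgSpLib.repWith_of_comp a.hom _ b.hom e h hd
  refine ⟨fun ⟨_, h2, h3, h4, h5⟩ => ?_, fun h hb => key hb h⟩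
  have hm := key (Groth.Agent.AlgSpLib.repWith_diagonal b.hom (Groth.Agent.AlgSpLib.repWith_diag_mono Y.property)) h5
  exact ⟨hm.1, key (Groth.Agent.AlgSpLib.repWith_diagonal b.hom (Groth.Agent.AlgSpLib.repWith_diag_lft Y.property)) h2,
    key (Groth.Agent.AlgSpLib.repWith_diagonal b.hom (Groth.Agent.AlgSpLib.repWith_diag_lqf Y.property)) h3,
    key (Groth.Agent.AlgSpLib.repWith_diagonal b.hom (Groth.Agent.AlgSpLib.repWith_diag_isSeparated Y.property)) h4, hm⟩

end Groth.Agent.S9933
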