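import Groth.Statements.S9936
import Groth.Agent.AlgSpLib.Criteria

set_option autoImplicit false
universe u
open CategoryTheory CategoryTheory.Limits AlgebraicGeometry
open AlgSp

set_option backward.isDefEq.respectTransparency false

namespace Groth.Agent.S9936

/-- Closed immersions between algebraic spaces are quasi-compact morphisms. -/
theorem result {S : Scheme.{u}} {X Y : AlgSp.Space S} (f : X ⟶ Y)
    (hf : AlgSp.RepWith @IsClosedImmersion f.hom) : AlgSp.IsQuasiCompactMor f.hom := by
  refine Groth.Agent.AlgSpLib.isQuasiCompactMor_of_affine X.property Y.property f.hom fun Z hZ g W fst snd sq => ?_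
  obtain ⟨V, z, v, sqV, hv⟩ := Groth.Agent.AlgSpLib.exists_repWith (Groth.Agent.AlgSpLib.repWith_baseChange sq hf) (𝟙 _)
  have : IsClosedImmersion v.left := hv
  have : CompactSpace V.left := QuasiCompact.compactSpace_of_compactSpace v.left
  have : IsIso z := sqV.isIso_fst_of_isIso
  exact Groth.Agent.AlgSpLib.isQuasiCompactSp_of_isSurjectiveMor
    (Groth.Agent.AlgSpLib.isAlgSpace_of_isPullback_space Y.property X.property (AlgSp.IsAlgSpace.yon_obj Z) sq) z
    (fun x => ⟨AlgSp.Points.map (inv z) x, by rw [← AlgSp.Points.map_comp, IsIso.inv_hom_id, AlgSp.Points.map_id]⟩)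
    (Groth.Agent.AlgSpLib.isQuasiCompactSp_yon V)

end Groth.Agent.S9936
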