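import Groth.Statements.S9937
import Groth.Agent.AlgSpLib.Criteria

set_option autoImplicit false
universe u
open CategoryTheory CategoryTheory.Limits AlgebraicGeometry
open AlgSp

set_option backward.isDefEq.respectTransparency false

namespace Groth.Agent.S9937

/-- Closed immersions between algebraic spaces are separated morphisms. -/
theorem result {S : Scheme.{u}} {X Y : AlgSp.Space S} (f : X ⟶ Y)
    (hf : AlgSp.RepWith @IsClosedImmersion f.hom) : AlgSp.IsSeparatedMor f.hom := by
  have : Mono f.hom := Groth.Agent.AlgSpLib.mono_of_repWith_immersion (Groth.Agent.AlgSpLib.repWith_mono (fun _ _ r hr => by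
    have : IsClosedImmersion r := hr
    infer_instance) hf)
  exact Groth.Agent.AlgSpLib.repWith_of_isIso (pullback.diagonal f.hom)

end Groth.Agent.S9937
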