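import Groth.Statements.S9940
import Groth.Agent.AlgSpLib.Criteria

set_option autoImplicit false
universe u
open CategoryTheory CategoryTheory.Limits AlgebraicGeometry
open AlgSp

set_option backward.isDefEq.respectTransparency false

namespace Groth.Agent.S9940

/-- (4) ⇒ (1): universal injectivity of a morphism of algebraic spaces descends along a surjective base
change from a scheme. -/
theorem result {S : Scheme.{u}} {X Y : AlgSp.Space S} (f : X ⟶ Y)
    (Z : Over S) (g : (AlgSp.yon S).obj Z ⟶ Y.obj) (hg : AlgSp.IsSurjectiveMor g) {P : AlgSp.Sp S}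
    (fst : P ⟶ X.obj) (snd : P ⟶ (AlgSp.yon S).obj Z) (sq : IsPullback fst snd f.hom g)
    (h : AlgSp.IsUnivInjectiveMor snd) : AlgSp.IsUnivInjectiveMor f.hom := by
  intro W W' hW a fst' snd' sqW x y e
  obtain ⟨z, hz⟩ := hg (AlgSp.Points.map a (AlgSp.Points.map snd' x))
  have sqA := IsPullback.of_hasPullback a g
  obtain ⟨w, hw₁, hw₂⟩ := Groth.Agent.AlgSpLib.exists_point_of_isPullback sqA (AlgSp.Points.map snd' x) z hz.symm
  have hA := Groth.Agent.AlgSpLib.isAlgSpace_of_isPullback_space Y.property hW (AlgSp.IsAlgSpace.yon_obj Z) sqA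
  have sqB := IsPullback.of_hasPullback snd' (pullback.fst a g)
  have big := (sqA.w ▸ sqB.paste_horiz sqW :)
  let m := sq.lift (pullback.fst snd' (pullback.fst a g) ≫ fst')
    (pullback.snd snd' (pullback.fst a g) ≫ pullback.snd a g) (big.w.trans (Category.assoc _ _ _).symm)
  have hinj := h hA (pullback.snd a g) m _
    (IsPullback.of_right (by rw [sq.lift_fst]; exact big) (sq.lift_snd _ _ _) sq)
  obtain ⟨p, hp, hp'⟩ := Groth.Agent.AlgSpLib.exists_point_of_isPullback sqB x w hw₁.symm
  obtain ⟨q, hq, hq'⟩ := Groth.Agent.AlgSpLib.exists_point_of_isPullback sqB y w (e.symm.trans hw₁.symm)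
  rw [← hp, ← hq, hinj (hp'.trans hq'.symm)]

end Groth.Agent.S9940
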