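import Groth.Statements.S9942
import Groth.Agent.AlgSpLib.Criteria

set_option autoImplicit false
universe u
open CategoryTheory CategoryTheory.Limits AlgebraicGeometry
open AlgSp

set_option backward.isDefEq.respectTransparency false

namespace Groth.Agent.S9942

/-- (3) ⇒ (2): if X x_Y V is an affine scheme for every affine scheme V etale over Y, then f : X -> Y is
affine. -/
theorem result {S : Scheme.{u}} {X Y : AlgSp.Space S} (f : X ⟶ Y)
    (h : ∀ (V : Over S), IsAffine V.left → ∀ (b : (AlgSp.yon S).obj V ⟶ Y.obj), AlgSp.RepWith @Etale b →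
      ∀ (P : AlgSp.Sp S) (fst : P ⟶ X.obj) (snd : P ⟶ (AlgSp.yon S).obj V), IsPullback fst snd f.hom b →
      ∃ (W : Over S), IsAffine W.left ∧ Nonempty ((AlgSp.yon S).obj W ≅ P)) :
    AlgSp.IsAffineMor f.hom := by
  rw [Groth.Agent.AlgSpLib.isAffineMor_iff_repWith]
  obtain ⟨ι, Z, g, hZ, hge, hg⟩ := Groth.Agent.AlgSpLib.exists_affine_cover Y.property
  refine Groth.Agent.AlgSpLib.repWith_of_fpqcCover @IsAffineHom (fun _ _ r hr => by
    have : IsAffineHom r := hr
    exact Groth.Agent.AlgSpLib.indQA_of_isAffineHom r) Y.property X.property hg f.hom _ _ _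
    (fun i => IsPullback.of_hasPullback f.hom (g i)) fun i => ?_
  obtain ⟨W, hW, ⟨e⟩⟩ := h (Z i) (hZ i) (g i) (hge i) _ _ _ (IsPullback.of_hasPullback f.hom (g i))
  obtain ⟨r, hr⟩ := Groth.Agent.AlgSpLib.exists_map_eq (e.hom ≫ pullback.snd f.hom (g i))
  refine (Groth.Agent.AlgSpLib.repWith_iso_comp_iff e.hom _).1 ?_
  rw [← hr, Groth.Agent.AlgSpLib.repWith_yon_iff]
  have := hW
  have := hZ i
  show IsAffineHom r.left
  infer_instance

end Groth.Agent.S9942
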