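import Groth.Statements.S9944
import Groth.Agent.AlgSpLib.Graph

set_option autoImplicit false
universe u
open CategoryTheory CategoryTheory.Limits AlgebraicGeometry
open AlgSp

set_option backward.isDefEq.respectTransparency false

namespace Groth.Agent.S9944

/-- Let g : X -> Y be a morphism over a base algebraic space B with X affine over B. Then g is affine as
soon as the diagonal of Y over B is affine, and in particular as soon as Y is B-separated. (The
published lemma also has two versions with the absolute diagonal of Y; this row states the versions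
over B.) -/
theorem result {S : Scheme.{u}} {X Y B : AlgSp.Space S} (g : X ⟶ Y) (p : X ⟶ B)
    (q : Y ⟶ B) (comm : g ≫ q = p) (hp : AlgSp.IsAffineMor p.hom) :
    (AlgSp.IsAffineMor (pullback.diagonal q.hom) → AlgSp.IsAffineMor g.hom) ∧
    (AlgSp.IsSeparatedMor q.hom → AlgSp.IsAffineMor g.hom) := by
  have hp' := (Groth.Agent.AlgSpLib.isAffineMor_iff_repWith p.hom).1 hp
  have e : g.hom ≫ q.hom = p.hom := congrArg (fun m => m.hom) comm
  refine ⟨fun h => (Groth.Agent.AlgSpLib.isAffineMor_iff_repWith g.hom).2 (Groth.Agent.AlgSpLib.repWith_of_comp g.hom p.hom q.hom e hp'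
      ((Groth.Agent.AlgSpLib.isAffineMor_iff_repWith _).1 h)),
    fun h => (Groth.Agent.AlgSpLib.isAffineMor_iff_repWith g.hom).2 (Groth.Agent.AlgSpLib.repWith_of_comp g.hom p.hom q.hom e hp'
      (Groth.Agent.AlgSpLib.repWith_mono (P := @IsClosedImmersion) (fun _ _ r hr => by
        have : IsClosedImmersion r := hr
        exact (inferInstance : IsAffineHom r)) h))⟩

end Groth.Agent.S9944
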