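import Groth.Statements.S9945
import Groth.Agent.ArtAffine.Basic

set_option autoImplicit false
universe u
open CategoryTheory CategoryTheory.Limits AlgebraicGeometry
open AlgSp

namespace Groth.Agent.S9945

/-- Over a base scheme with quasi-separated underlying space, every morphism from the spectrum of an
Artinian ring to an algebraic space quasi-separated over S is affine. (The published statement
assumes X quasi-separated in the absolute sense over any base; this row assumes the base
quasi-separated and X quasi-separated over it, which on such bases is the same condition.) -/
theorem result {S : Scheme.{u}} [QuasiSeparatedSpace ↥S] (X : AlgSp.Space S)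
    (hX : AlgSp.IsQuasiSeparatedSp X.obj) (A : Type u) [CommRing A] [IsArtinianRing A]
    (str : Spec (CommRingCat.of A) ⟶ S) (a : (AlgSp.yon S).obj (Over.mk str) ⟶ X.obj) :
    AlgSp.IsAffineMor a := by
  haveI : Finite ↥(Over.mk str : Over S).left := inferInstanceAs (Finite (PrimeSpectrum A))
  haveI : DiscreteTopology ↥(Over.mk str : Over S).left := inferInstanceAs (DiscreteTopology (PrimeSpectrum A))
  exact Groth.Agent.ArtAffine.isAffineMor_of_finite_discrete X.property hX a

end Groth.Agent.S9945
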