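import Groth.Agent.AlgSpLib.LocPMore
import Groth.Prelude.Def_AlgSp4

set_option autoImplicit false
universe u
open CategoryTheory CategoryTheory.Limits AlgebraicGeometry
open AlgSp

set_option backward.isDefEq.respectTransparency false

namespace Groth.Agent.S9953

/-- An immersion of algebraic spaces is locally of finite type. -/
theorem result {S : Scheme.{u}} {X Y : AlgSp.Space S} (f : X ⟶ Y)
    (hf : AlgSp.RepWith @IsImmersion f.hom) : AlgSp.LocP @LocallyOfFiniteType f.hom := by
  exact (Groth.Agent.AlgSpLib.locP_iff_repWith Groth.Agent.AlgSpLib.etST_lft Y.property hf.1).2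
    (Groth.Agent.AlgSpLib.repWith_mono (fun _ _ g (hg : IsImmersion g) => (Groth.Agent.AlgSpLib.lft_unram_of_immersion g).1) hf)

end Groth.Agent.S9953
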