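import Groth.Agent.AlgSpLib.NoethPts
import Groth.Prelude.Def_AlgSp4

set_option autoImplicit false
universe u
open CategoryTheory CategoryTheory.Limits AlgebraicGeometry
open AlgSp

set_option backward.isDefEq.respectTransparency false

namespace Groth.Agent.S9958

/-- Over a locally Noetherian algebraic space, locally of finite type implies locally of finite
presentation. -/
theorem result {S : Scheme.{u}} {X Y : AlgSp.Space S} (f : X ⟶ Y)
    (hY : AlgSp.IsLocNoethSp Y.obj) (hf : AlgSp.LocP @LocallyOfFiniteType f.hom) :
    AlgSp.LocP @LocallyOfFinitePresentation f.hom := by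
  exact fun _ _ a b h ha hb c =>
    have := Groth.Agent.AlgSpLib.isLocallyNoetherian_chart Y.property hY hb
    have := hf a b h ha hb c
    LocallyOfFinitePresentation.iff_locallyOfFiniteType.2 this

end Groth.Agent.S9958
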