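import Groth.Agent.AlgSpLib.LocP
import Groth.Agent.LimDesc.FPCancel
import Groth.Prelude.Def_AlgSp4

set_option autoImplicit false
universe u
open CategoryTheory CategoryTheory.Limits AlgebraicGeometry
open AlgSp

set_option backward.isDefEq.respectTransparency false

namespace Groth.Agent.S9959

/-- Given X -> Y -> Z with X -> Z locally finitely presented and Y -> Z locally of finite type, X -> Y
is locally finitely presented (all three etale locally on source and target). -/
theorem result {S : Scheme.{u}} {X Y Z : AlgSp.Space S} (f : X ⟶ Y) (g : Y ⟶ Z)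
    (hX : AlgSp.LocP @LocallyOfFinitePresentation (f ≫ g).hom) (hY : AlgSp.LocP @LocallyOfFiniteType g.hom) :
    AlgSp.LocP @LocallyOfFinitePresentation f.hom := by
  exact Groth.Agent.AlgSpLib.locP_cancel Groth.Agent.AlgSpLib.etST_lfp (Q := @LocallyOfFiniteType)
    (fun _ _ _ f' g' (hg : LocallyOfFiniteType g') (h : LocallyOfFinitePresentation (f' ≫ g')) =>
      Groth.Agent.LimDesc.lfp_of_comp f' g') Z.property hX hY

end Groth.Agent.S9959
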