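import Groth.Statements.S9963
import Groth.Agent.AlgSpLib.Criteria

set_option autoImplicit false
universe u
open CategoryTheory CategoryTheory.Limits AlgebraicGeometry
open AlgSp

set_option backward.isDefEq.respectTransparency false

namespace Groth.Agent.S9963

/-- A morphism of algebraic spaces that is flat, quasi-compact and surjective is submersive, and
universally submersive. -/
theorem result {S : Scheme.{u}} {X Y : AlgSp.Space S} (f : X ⟶ Y)
    (hfl : AlgSp.LocP @Flat f.hom) (hqc : AlgSp.IsQuasiCompactMor f.hom) (hs : AlgSp.IsSurjectiveMor f.hom) :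
    AlgSp.IsSubmersiveMor f.hom ∧ AlgSp.IsUnivSubmersiveMor f.hom := by
  refine ⟨Groth.Agent.AlgSpLib.isSubmersiveMor_of_flat_qc_surjective X.property Y.property f.hom hfl hqc hs,
    fun Z Z' hZ g fst snd sq => ?_⟩
  have hZ' := Groth.Agent.AlgSpLib.isAlgSpace_of_isPullback_space Y.property X.property hZ sq
  exact Groth.Agent.AlgSpLib.isSubmersiveMor_of_flat_qc_surjective hZ' hZ snd
    (Groth.Agent.AlgSpLib.locP_baseChange Groth.Agent.AlgSpLib.etST_flat X.property Y.property hZ' hZ sq hfl)
    (fun W W' hW hWq a fst' snd' sq' => hqc hW hWq _ _ _ (sq'.paste_horiz sq))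
    (Groth.Agent.AlgSpLib.isSurjectiveMor_baseChange sq hs)

end Groth.Agent.S9963
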