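import Groth.Agent.SchImg.Dense
import Groth.Prelude.Def_AlgSpSub

set_option autoImplicit false
universe u
open CategoryTheory CategoryTheory.Limits AlgebraicGeometry
open AlgSp

set_option backward.isDefEq.respectTransparency false

namespace Groth.Agent.S9970

/-- The intersection of two scheme theoretically dense open subspaces is scheme theoretically dense. -/
theorem result {S : Scheme.{u}} {U V X P : AlgSp.Space S} (jU : U ⟶ X) (jV : V ⟶ X)
    (hU : AlgSp.IsSchDense jU.hom) (hV : AlgSp.IsSchDense jV.hom) (fst : P ⟶ U) (snd : P ⟶ V)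
    (sq : IsPullback fst.hom snd.hom jU.hom jV.hom) : AlgSp.IsSchDense (fst ≫ jU).hom := by
  obtain ⟨A, π, hπ, hπs⟩ := X.property.atlas
  obtain ⟨WU, fU, sqU⟩ := SchImg.exists_open_pullback hU.1 π
  obtain ⟨WV, fV, sqV⟩ := SchImg.exists_open_pullback hV.1 π
  have hj : AlgSp.RepWith @IsOpenImmersion (fst.hom ≫ jU.hom) :=
    Groth.Agent.AlgSpLib.repWith_comp (Groth.Agent.AlgSpLib.repWith_baseChange sq.flip hV.1) hU.1
  obtain ⟨W, fW, sqW⟩ := SchImg.exists_open_pullback hj π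
  have hW : W = WU ⊓ WV := by
    ext v
    show v ∈ W ↔ v ∈ WU ∧ v ∈ WV
    rw [SchImg.mem_open_iff sqW, SchImg.mem_open_iff sqU, SchImg.mem_open_iff sqV]
    refine ⟨fun ⟨x, hx⟩ => ?_, fun ⟨⟨a, ha⟩, ⟨b, hb⟩⟩ => ?_⟩
    · rw [AlgSp.Points.map_comp] at hx
      refine ⟨⟨_, hx⟩, ⟨AlgSp.Points.map snd.hom x, ?_⟩⟩
      rw [← hx, ← AlgSp.Points.map_comp, ← AlgSp.Points.map_comp, ← sq.w]
    · obtain ⟨p, hp, -⟩ := Groth.Agent.AlgSpLib.exists_point_of_isPullback sq a b (ha.trans hb.symm)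
      exact ⟨p, by rw [AlgSp.Points.map_comp, hp, ha]⟩
  refine ⟨hj, A, π, W, fW, hπ, hπs, sqW, ?_⟩
  rw [hW]
  exact SchImg.dense_inf (SchImg.dense_of_schDense X.property hU hπ sqU) (SchImg.dense_of_schDense X.property hV hπ sqV)

end Groth.Agent.S9970
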