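import Groth.Agent.SchImg.Dense
import Groth.Prelude.Def_AlgSpSub
import Mathlib.AlgebraicGeometry.Morphisms.Flat

set_option autoImplicit false
universe u
open CategoryTheory CategoryTheory.Limits AlgebraicGeometry
open AlgSp

set_option backward.isDefEq.respectTransparency false

namespace Groth.Agent.S9973

/-- The inverse image of a quasi-compact scheme theoretically dense open under a flat morphism of
algebraic spaces is scheme theoretically dense. -/
theorem result {S : Scheme.{u}} {X Y V V' : AlgSp.Space S} (f : X ⟶ Y)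
    (hf : AlgSp.LocP @Flat f.hom) (j : V ⟶ Y) (hj : AlgSp.IsSchDense j.hom) (hjq : AlgSp.IsQuasiCompactMor j.hom)
    (fst : V' ⟶ V) (jX : V' ⟶ X) (sq : IsPullback fst.hom jX.hom j.hom f.hom) : AlgSp.IsSchDense jX.hom := by
  have hjX := Groth.Agent.AlgSpLib.repWith_baseChange sq hj.1
  have hqX := SchImg.isQuasiCompactMor_baseChange sq hjq
  refine (SchImg.schDense_iff_schImage V'.property X.property hjX hqX).2 ?_
  have hI := (SchImg.schDense_iff_schImage V.property Y.property hj.1 hjq).1 hj
  obtain ⟨U, π, hπ, hπs⟩ := X.property.atlas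
  refine SchImg.isSchImage_of_kerIdeal V'.property X.property (Bootstrap.repWith_id _) hπ hπs ?_
  rw [SchImg.kerIdeal_of_isPullback sq π, (SchImg.pullIdeal_eq_kerIdeal V.property Y.property hjq hI (π ≫ f.hom)
    (Groth.Agent.AlgSpLib.locP_comp_isEtaleMor (Groth.Agent.AlgSpLib.isEtaleMor_of_repWith' hπ) hf)).unique
    (SchImg.isPullIdeal_id _)]
  exact SchImg.isPullIdeal_id π

end Groth.Agent.S9973
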