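import Groth.Statements.S9978
import Groth.Agent.SpQS.Jacob
import Groth.Agent.Nagata.Scheme
import Groth.Agent.Nagata.FiniteType

set_option autoImplicit false
universe u
open CategoryTheory CategoryTheory.Limits AlgebraicGeometry
open AlgSp

namespace Groth.Agent.S9978

/-- An algebraic space locally of finite type over a Nagata algebraic space is Nagata. -/
theorem result {S : Scheme.{u}} {X Y : AlgSp.Space S} (f : X ⟶ Y)
    (hf : AlgSp.LocP @LocallyOfFiniteType f.hom)
    (hY : AlgSp.EtaleLocally (fun U => ∀ V : U.Opens, IsAffineOpen V → CAlg.IsNagata ↑Γ(U, V)) Y.obj) :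
    AlgSp.EtaleLocally (fun U => ∀ V : U.Opens, IsAffineOpen V → CAlg.IsNagata ↑Γ(U, V)) X.obj := by
  obtain ⟨U, π, hπ, hπs, hU⟩ := hY
  obtain ⟨W, a, ha, has⟩ := X.property.atlas
  obtain ⟨P, p, q, sq⟩ := AlgSpLib.exists_pullback Y.property.diag (a ≫ f.hom) π
  have he : AlgSp.RepWith @Etale ((AlgSp.yon S).map p) := AlgSpLib.repWith_baseChange sq.flip hπ
  have hs : AlgSp.RepWith @Surjective ((AlgSp.yon S).map p) := AlgSpLib.repWith_baseChange sq.flip hπs
  have : LocallyOfFiniteType q.left :=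
    hf ((AlgSp.yon S).map p ≫ a) π q (AlgSpLib.repWith_comp he ha) hπ (by rw [Category.assoc]; exact sq.w)
  refine ⟨P, (AlgSp.yon S).map p ≫ a, AlgSpLib.repWith_comp he ha, AlgSpLib.repWith_comp hs has, fun V hV => ?_⟩
  have hloc : ∀ x : P.left, ∃ V' : P.left.Opens, IsAffineOpen V' ∧ x ∈ V' ∧ CAlg.IsNagata Γ(P.left, V') := fun x => by
    obtain ⟨O, hO, hxO, -⟩ := exists_isAffineOpen_mem_and_subset (X := U.left) (x := q.left x) (U := ⊤) (Set.mem_univ _)
    obtain ⟨V', hV', hxV, hVO⟩ := exists_isAffineOpen_mem_and_subset (X := P.left) (x := x) (U := q.left ⁻¹ᵁ O) hxO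
    letI : Algebra Γ(U.left, O) Γ(P.left, V') := (q.left.appLE O V' hVO).hom.toAlgebra
    haveI : Algebra.FiniteType Γ(U.left, O) Γ(P.left, V') := q.left.finiteType_appLE hO hV' hVO
    exact ⟨V', hV', hxV, Nagata.isNagata_of_finiteType (R := Γ(U.left, O)) (hU O hO)⟩
  choose V' hV' hmem hN using hloc
  exact Nagata.isNagata_affine V' (eq_top_iff.mpr fun x _ => TopologicalSpace.Opens.mem_iSup.mpr ⟨x, hmem x⟩) hV' hN V hV

end Groth.Agent.S9978
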