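import Groth.Statements.S9980
import Groth.Agent.AlgSpLib.Residual
import Groth.Agent.SpQS.FtPts
-- import your own Groth.Agent.* helpers here

set_option autoImplicit false
universe u
open CategoryTheory CategoryTheory.Limits AlgebraicGeometry
open AlgSp

namespace Groth.Agent.S9980

open Groth.Agent.AlgSpLib Groth.Agent

set_option backward.isDefEq.respectTransparency false in
theorem exists_mono_atlas {S : Scheme.{u}} {X : AlgSp.Sp S} (hX : AlgSp.IsAlgSpace X) {U : Over S}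
    {a : (AlgSp.yon S).obj U ⟶ X} (ha : AlgSp.RepWith @Etale a) (u : ↥U.left) :
    ∃ (Z : AlgSp.Sp S) (i : Z ⟶ X)
      (p : (AlgSp.yon S).obj (Over.mk (U.left.fromSpecResidueField u ≫ U.hom)) ⟶ Z),
      AlgSp.IsAlgSpace Z ∧ Mono i ∧ AlgSp.RepWith @Etale p ∧ AlgSp.RepWith @Surjective p ∧
      p ≫ i = (AlgSp.yon S).map (Over.homMk (U.left.fromSpecResidueField u) rfl :
        Over.mk (U.left.fromSpecResidueField u ≫ U.hom) ⟶ U) ≫ a := by
  let K : Over S := Over.mk (U.left.fromSpecResidueField u ≫ U.hom)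
  let m : K ⟶ U := Over.homMk (U.left.fromSpecResidueField u) rfl
  let p0 : (AlgSp.yon S).obj K ⟶ X := (AlgSp.yon S).map m ≫ a
  let p : (AlgSp.yon S).obj K ⟶ Sheaf.image p0 := Sheaf.toImage p0
  let i : Sheaf.image p0 ⟶ X := Sheaf.imageι p0
  have hi : p ≫ i = p0 := Sheaf.toImage_ι p0
  have : Epi p := inferInstanceAs (Epi (Sheaf.toImage p0))
  have : Mono i := inferInstanceAs (Mono (Sheaf.imageι p0))
  have : Sheaf.IsLocallySurjective p := (Sheaf.isLocallySurjective_iff_epi _).2 inferInstance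
  obtain ⟨R, t, s, sq⟩ := exists_pullback hX.diag p0 p0
  obtain ⟨W, q, w, sqW⟩ := exists_pullback hX.diag p0 a
  have hq : Etale q.left := (repWith_yon_iff q).1 (repWith_baseChange sqW.flip ha)
  obtain ⟨l, hl⟩ := exists_map_eq (sqW.lift ((AlgSp.yon S).map t) ((AlgSp.yon S).map s ≫ (AlgSp.yon S).map m)
    (by rw [sq.w, Category.assoc]))
  have hlt : (AlgSp.yon S).map l ≫ (AlgSp.yon S).map q = (AlgSp.yon S).map t := by rw [hl, sqW.lift_fst]
  have hlm : (AlgSp.yon S).map l ≫ (AlgSp.yon S).map w = (AlgSp.yon S).map s ≫ (AlgSp.yon S).map m := by rw [hl, sqW.lift_snd]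
  have sqR : IsPullback ((AlgSp.yon S).map l) ((AlgSp.yon S).map s) ((AlgSp.yon S).map w) ((AlgSp.yon S).map m) :=
    IsPullback.of_right (by rw [hlt]; exact sq) hlm sqW
  have sqS : IsPullback l.left s.left w.left m.left :=
    isPullback_yon_iff.1 sqR
  have : IsPreimmersion m.left := inferInstanceAs (IsPreimmersion (U.left.fromSpecResidueField u))
  have : IsPreimmersion l.left := MorphismProperty.of_isPullback sqS.flip this
  let qK : W.left ⟶ Spec (U.left.residueField u) := q.left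
  have : Etale qK := hq
  have : DiscreteTopology W.left := (SpQS.finite_of_etale_over_field (K := U.left.residueField u) qK).1
  have : IsReduced (Spec (U.left.residueField u)) := inferInstance
  have : IsReduced W.left := SpQS.isReduced_of_etale_reduced qK
  have := isOpenImmersion_of_isPreimmersion_discrete l.left
  have ht : Etale t.left := by
    have e : l ≫ q = t := (AlgSp.yon S).map_injective (by rw [Functor.map_comp, hlt])
    rw [← e]
    show Etale (l.left ≫ q.left)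
    infer_instance
  have sq' : IsPullback ((AlgSp.yon S).map t) ((AlgSp.yon S).map s) p p :=
    isPullback_of_comp_mono i (by rw [hi]; exact sq)
  obtain ⟨hA, he, hs⟩ := atlas_of_isLocallySurjective sq'.flip ht
  exact ⟨_, i, p, hA, inferInstance, he, hs, hi⟩

end Groth.Agent.S9980

namespace Groth.Agent.S9980

/-- Characterizations of finite type points via one-point algebraic spaces locally of finite type over X
and via monomorphisms from quotients of spectra of fields. -/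
theorem result {S : Scheme.{u}} (X : AlgSp.Space S) (x : AlgSp.Points X.obj) :
    ((∃ (k : Type u) (_ : Field k) (str : Spec (CommRingCat.of k) ⟶ S) (ξ : (AlgSp.yon S).obj (Over.mk str) ⟶ X.obj),
        AlgSp.LocP @LocallyOfFiniteType ξ ∧ AlgSp.Points.ofPt ξ (IsLocalRing.closedPoint k) = x) ↔
      ∃ (Z : AlgSp.Space S) (f : Z ⟶ X), Nonempty (Unique (AlgSp.Points Z.obj)) ∧
        AlgSp.LocP @LocallyOfFiniteType f.hom ∧ Set.range (AlgSp.Points.map f.hom) = {x}) ∧
    ((∃ (k : Type u) (_ : Field k) (str : Spec (CommRingCat.of k) ⟶ S) (ξ : (AlgSp.yon S).obj (Over.mk str) ⟶ X.obj),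
        AlgSp.LocP @LocallyOfFiniteType ξ ∧ AlgSp.Points.ofPt ξ (IsLocalRing.closedPoint k) = x) ↔
      ∃ (Z : AlgSp.Space S) (f : Z ⟶ X) (k : Type u) (_ : Field k) (str : Spec (CommRingCat.of k) ⟶ S)
        (z : (AlgSp.yon S).obj (Over.mk str) ⟶ Z.obj), AlgSp.RepWith @Etale z ∧ AlgSp.RepWith @Surjective z ∧
        AlgSp.LocP @LocallyOfFiniteType f.hom ∧ Mono f.hom ∧
        AlgSp.Points.ofPt (z ≫ f.hom) (IsLocalRing.closedPoint k) = x) := by
  have key : ∀ (U : Over S) (a : (AlgSp.yon S).obj U ⟶ X.obj) (u : ↥U.left), AlgSp.RepWith @Etale a →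
      Groth.Agent.FtPtsLib.ClosedInAffine u → AlgSp.Points.ofPt a u = x →
      ∃ (Z : AlgSp.Space S) (f : Z ⟶ X) (k : Type u) (_ : Field k) (str : Spec (CommRingCat.of k) ⟶ S)
        (z : (AlgSp.yon S).obj (Over.mk str) ⟶ Z.obj), AlgSp.RepWith @Etale z ∧ AlgSp.RepWith @Surjective z ∧
        AlgSp.LocP @LocallyOfFiniteType f.hom ∧ Mono f.hom ∧
        AlgSp.Points.ofPt (z ≫ f.hom) (IsLocalRing.closedPoint k) = x := by
    intro U a u ha hu hx
    obtain ⟨Z, i, p, hZ, hm, he, hs, hi⟩ := exists_mono_atlas X.property ha u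
    refine ⟨⟨Z, hZ⟩, ObjectProperty.homMk i, U.left.residueField u, inferInstance, _, p, he, hs,
      Groth.Agent.AlgSpLib.locP_of_chart Groth.Agent.AlgSpLib.etST_lft hZ X.property he hs ha hi
        (Groth.Agent.FtPtsLib.lft_of_closedInAffine u hu), hm, ?_⟩
    show AlgSp.Points.ofPt (p ≫ i) _ = x
    rw [hi, Groth.Agent.AlgSpLib.ofPt_comp, ← hx]
    exact congrArg (AlgSp.Points.ofPt a) (Scheme.fromSpecResidueField_apply u _)
  have toPt : (∃ (Z : AlgSp.Space S) (f : Z ⟶ X) (k : Type u) (_ : Field k) (str : Spec (CommRingCat.of k) ⟶ S)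
        (z : (AlgSp.yon S).obj (Over.mk str) ⟶ Z.obj), AlgSp.RepWith @Etale z ∧ AlgSp.RepWith @Surjective z ∧
        AlgSp.LocP @LocallyOfFiniteType f.hom ∧ Mono f.hom ∧
        AlgSp.Points.ofPt (z ≫ f.hom) (IsLocalRing.closedPoint k) = x) →
      ∃ (k : Type u) (_ : Field k) (str : Spec (CommRingCat.of k) ⟶ S)
        (ξ : (AlgSp.yon S).obj (Over.mk str) ⟶ X.obj),
        AlgSp.LocP @LocallyOfFiniteType ξ ∧ AlgSp.Points.ofPt ξ (IsLocalRing.closedPoint k) = x := by
    rintro ⟨Z, f, k, hk, str, z, he, -, hf, -, hx⟩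
    exact ⟨k, hk, str, z ≫ f.hom,
      Groth.Agent.AlgSpLib.locP_comp_isEtaleMor (Groth.Agent.AlgSpLib.isEtaleMor_of_repWith' he) hf, hx⟩
  have toMono : (∃ (k : Type u) (_ : Field k) (str : Spec (CommRingCat.of k) ⟶ S)
        (ξ : (AlgSp.yon S).obj (Over.mk str) ⟶ X.obj),
        AlgSp.LocP @LocallyOfFiniteType ξ ∧ AlgSp.Points.ofPt ξ (IsLocalRing.closedPoint k) = x) →
      ∃ (Z : AlgSp.Space S) (f : Z ⟶ X) (k : Type u) (_ : Field k) (str : Spec (CommRingCat.of k) ⟶ S)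
        (z : (AlgSp.yon S).obj (Over.mk str) ⟶ Z.obj), AlgSp.RepWith @Etale z ∧ AlgSp.RepWith @Surjective z ∧
        AlgSp.LocP @LocallyOfFiniteType f.hom ∧ Mono f.hom ∧
        AlgSp.Points.ofPt (z ≫ f.hom) (IsLocalRing.closedPoint k) = x := by
    rintro ⟨k, hk, str, ξ, hξ, hx⟩
    obtain ⟨U, φ, u, hφ, hu, e⟩ := Groth.Agent.SpQS.exists_closed_chart_point X.property ξ hξ
    exact key U φ u hφ (Groth.Agent.SpQS.closedInAffine_of_isClosed hu) (e.trans hx)
  refine ⟨⟨fun h => ?_, ?_⟩, ⟨toMono, toPt⟩⟩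
  · obtain ⟨Z, f, k, hk, str, z, he, hs, hf, hm, hx⟩ := toMono h
    have hpt : ∀ w : AlgSp.Points Z.obj, w = AlgSp.Points.ofPt z (IsLocalRing.closedPoint k) := fun w => by
      obtain ⟨v, rfl⟩ := Groth.Agent.AlgSpLib.ofPt_surjective hs w
      exact congrArg (AlgSp.Points.ofPt z) (Subsingleton.elim (α := PrimeSpectrum k) v _)
    refine ⟨Z, f, ⟨⟨⟨_⟩, hpt⟩⟩, hf, Set.eq_singleton_iff_unique_mem.2 ⟨⟨AlgSp.Points.ofPt z (IsLocalRing.closedPoint k), ?_⟩, ?_⟩⟩
    · rw [AlgSp.Points.map_ofPt]; exact hx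
    · rintro _ ⟨w, rfl⟩
      rw [hpt w, AlgSp.Points.map_ofPt]
      exact hx
  · rintro ⟨Z, f, ⟨hZu⟩, hf, hr⟩
    obtain ⟨y, -, k, hk, str, ξ, hξ, hy⟩ := Groth.Agent.SpQS.exists_ftPoint_of_isLocallyClosed Z.property
      (T := Set.univ) isOpen_univ.isLocallyClosed ⟨hZu.default, trivial⟩
    refine ⟨k, hk, str, ξ ≫ f.hom,
      Groth.Agent.AlgSpLib.locP_comp Groth.Agent.AlgSpLib.etST_lft Z.property X.property hξ hf, ?_⟩
    have : AlgSp.Points.map f.hom y ∈ Set.range (AlgSp.Points.map f.hom) := ⟨y, rfl⟩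
    rw [hr] at this
    rw [← AlgSp.Points.map_ofPt, hy]
    exact this

end Groth.Agent.S9980
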