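import Groth.Statements.S9983
import Groth.Agent.EtInvariance.PushImage

set_option autoImplicit false
universe u
open CategoryTheory CategoryTheory.Limits AlgebraicGeometry
open AlgSp

set_option backward.isDefEq.respectTransparency false

namespace Groth.Agent.S9983

/-- For a closed immersion i of algebraic spaces, i_* on the small etale sites is fully faithful on
sheaves of sets and on abelian sheaves, with i⁻¹ a left inverse (the counit i⁻¹ i_* ⟶ id is an
isomorphism). (The published statement also describes the essential images of i_*; this row states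
only full faithfulness and the left inverse.) -/
theorem result {S : Scheme.{u}} {Z X : AlgSp.Space S} (i : Z ⟶ X)
    (hi : AlgSp.RepWith @IsClosedImmersion i.hom) :
    ((AlgSp.pushEt hi.1 (Type (u + 1))).Full ∧ (AlgSp.pushEt hi.1 (Type (u + 1))).Faithful) ∧
    ((AlgSp.pushEt hi.1 AddCommGrpCat.{u + 1}).Full ∧ (AlgSp.pushEt hi.1 AddCommGrpCat.{u + 1}).Faithful) ∧
    IsIso (AlgSp.pullPushAdjEt hi.1 (Type (u + 1))).counit := by
  have h1 : AlgSp.RepWith @IsIntegralHom i.hom := Groth.Agent.AlgSpLib.repWith_mono (P := @IsClosedImmersion)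
    (Q := @IsIntegralHom) (fun _ _ g hg => have : IsClosedImmersion g := hg; inferInstance) hi
  have h2 : AlgSp.RepWith @UniversallyInjective i.hom := Groth.Agent.AlgSpLib.repWith_mono (P := @IsClosedImmersion)
    (Q := @UniversallyInjective) (fun _ _ g hg => have : IsClosedImmersion g := hg; inferInstance) hi
  have hu : AlgSp.IsUnivInjectiveMor i.hom :=
    (Groth.Agent.UnivInjMor.injective_iff_isUnivInjectiveMor Z.property _).1
      ((Groth.Agent.UnivInjMor.repWith_universallyInjective_iff hi.1).1 h2)
  obtain ⟨hF, hfa⟩ := Groth.Agent.EtInvariance.fullyFaithful_pushEt h1 hu (Type (u + 1))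
  refine ⟨⟨hF, hfa⟩, Groth.Agent.EtInvariance.fullyFaithful_pushEt h1 hu _, ?_⟩
  infer_instance

end Groth.Agent.S9983
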