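import Groth.Agent.SchImg.DenseMono
import Groth.Prelude.Def_AlgSpSub
import Groth.Prelude.Def_AlgSpOX2

set_option autoImplicit false
universe u
open CategoryTheory CategoryTheory.Limits AlgebraicGeometry
open AlgSp

set_option backward.isDefEq.respectTransparency false

namespace Groth.Agent.S9986

/-- For an open immersion j : U -> X of algebraic spaces, U is scheme theoretically dense in X exactly
when the comparison map from O_X to j_* O_U on the small etale site of X is a monomorphism of
sheaves of rings. -/
theorem result {S : Scheme.{u}} {U X : AlgSp.Space S} (j : U ⟶ X)
    (hj : AlgSp.RepWith @IsOpenImmersion j.hom) :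
    AlgSp.IsSchDense j.hom ↔ Mono (AlgSp.bcRingHom hj.1) := by
  exact (SchImg.schDense_iff_injective X.property hj).trans (SchImg.mono_bcRingHom_iff hj.1).symm

end Groth.Agent.S9986
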