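import Groth.Statements.S9987
import Groth.Agent.AlgSpLib.StalkPoint
import Groth.Agent.AlgSpLib.Basic

set_option autoImplicit false
universe u
open CategoryTheory CategoryTheory.Limits AlgebraicGeometry Opposite
open AlgSp

namespace Groth.Agent.S9987

/-- For a closed immersion i : Z ⟶ X of algebraic spaces over S (representable, every base change to a
scheme a closed immersion), the comparison map O_X ⟶ i_* O_Z of sheaves of rings on the small etale
site of X is locally surjective. (The published statement also asserts that i_* O_Z is a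
quasi-coherent O_X-module and that the kernel of O_X ⟶ i_* O_Z is a quasi-coherent sheaf of ideals;
those two assertions are the closed-immersion cases of the general facts that direct images along
quasi-compact quasi-separated morphisms preserve quasi-coherence and that the kernel ideal of a
quasi-compact morphism is quasi-coherent, a closed immersion being quasi-compact and separated, and
only the surjectivity is stated here.) -/
theorem result {S : Scheme.{u}} {Z X : AlgSp.Space S} (i : Z ⟶ X)
    (hi : AlgSp.RepWith @IsClosedImmersion i.hom) :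
    Presheaf.IsLocallySurjective (AlgSp.etTop X.obj) (AlgSp.bcRingHom hi.1).hom := by
  refine ⟨fun {U} s => Groth.Agent.AlgSpLib.StalkPoint.mem_etTop_of_jointly_surjective _ fun x => ?_⟩
  obtain ⟨O, hO, hx, -⟩ := exists_isAffineOpen_mem_and_subset (X := U.obj.left.left) (x := x) (U := ⊤) trivial
  let O' : Over S := Over.mk (O.ι ≫ U.obj.left.hom)
  let ι : O' ⟶ U.obj.left := Over.homMk O.ι rfl
  have he : AlgSp.RepWith @Etale ((AlgSp.yon S).map ι ≫ U.obj.hom) :=
    Groth.Agent.AlgSpLib.repWith_comp ((Groth.Agent.AlgSpLib.repWith_yon_iff ι).2 (show Etale O.ι from inferInstance)) U.property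
  let E : AlgSp.EtOver X.obj := AlgSp.EtOver.mk _ he
  let g : E ⟶ U := AlgSp.EtOver.homMk ι rfl
  refine ⟨E, g, ?_, ⟨x, hx⟩, rfl⟩
  have : IsAffine E.obj.left.left := hO
  have : IsClosedImmersion (hi.1.snd E.obj.hom).left := hi.2 _ _ _ (hi.1.isPullback E.obj.hom)
  obtain ⟨v, hv⟩ := (hi.1.snd E.obj.hom).left.app_surjective ⊤ (isAffineOpen_top _)
    (((((AlgSp.EtOver.bc hi.1).sheafPushforwardContinuous RingCat.{u + 1} (AlgSp.etTop X.obj) (AlgSp.etTop Z.obj)).obj
      (AlgSp.OEtRing Z.obj)).obj.map g.op).hom s).down
  exact ⟨⟨v⟩, ULift.ext _ _ hv⟩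

end Groth.Agent.S9987
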