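import Groth.Agent.SpQS.FiniteFibrePts
import Groth.Prelude.Def_AlgSpDec
import Groth.Prelude.Def_AlgSp4
import Mathlib.AlgebraicGeometry.Morphisms.QuasiFinite

set_option autoImplicit false
universe u
open CategoryTheory CategoryTheory.Limits AlgebraicGeometry
open AlgSp

set_option backward.isDefEq.respectTransparency false

namespace Groth.Agent.S9995

/-- For a morphism f : X ⟶ Y of algebraic spaces of finite type and a point y of |Y|, the set of points
of |X| over y where f is quasi-finite is finite (in the neighbourhood sense, through some chart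
diagram). -/
theorem result {S : Scheme.{u}} {X Y : AlgSp.Space S} (f : X ⟶ Y)
    (hf : AlgSp.IsFiniteTypeMor f.hom) (y : AlgSp.Points Y.obj) :
    {x : AlgSp.Points X.obj | AlgSp.Points.map f.hom x = y ∧
      AlgSp.HasAtMor (fun U _ h u => ∃ W : U.Opens, u ∈ W ∧ LocallyQuasiFinite (W.ι ≫ h) ∧
        LocallyOfFiniteType (W.ι ≫ h)) f.hom x}.Finite := by
  obtain ⟨h'⟩ : Nonempty (AlgSp.IsAlgSpace X.obj ∧ AlgSp.IsAlgSpace Y.obj) := ⟨X.property, Y.property⟩
  refine (SpQS.finite_qfAtPt_over h'.1 h'.2 f.hom hf.1 hf.2 y).subset ?_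
  rintro x ⟨hx, hq⟩
  exact ⟨hx, (SpQS.hasAtMor_nhd_iff h'.1 h'.2 f.hom hf.1 x).1 hq⟩

end Groth.Agent.S9995
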