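import Groth.Statements.S9997
import Groth.Agent.AlgSpLib.LocP
import Groth.Agent.AlgSpLib.EtST
import Groth.Agent.AlgSpLib.Presentation
import Groth.Agent.AlgSpLib.LocalTarget

set_option autoImplicit false
universe u
open CategoryTheory CategoryTheory.Limits AlgebraicGeometry Opposite
open AlgSp

namespace Groth.Agent.S9997

/-- A closed immersion i : Z ⟶ X of algebraic spaces is (locally) of finite presentation if and only if
its sheaf of ideals is of finite type; finite type is rendered chart by chart, as finite generation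
of the kernel ideal Ker(Γ(U, O_U) → Γ(Z ×_X U, O)) for every affine etale chart U of X (for a
quasi-coherent sheaf of ideals the two readings agree by descent of finite generation along etale
coverings). -/
theorem result {S : Scheme.{u}} {Z X : AlgSp.Space S} (i : Z ⟶ X)
    (hi : AlgSp.RepWith @IsClosedImmersion i.hom) :
    AlgSp.LocP @LocallyOfFinitePresentation i.hom ↔
      ∀ (E : AlgSp.EtOver X.obj) (hE : IsAffine E.obj.left.left), ((AlgSp.idealOfRep hi.1).ideal E hE).FG := by
  have key : ∀ (E : AlgSp.EtOver X.obj) (hE : IsAffine E.obj.left.left),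
      LocallyOfFinitePresentation (AlgSp.EtOver.bcπ hi.1 E).left ↔ ((AlgSp.idealOfRep hi.1).ideal E hE).FG := by
    intro E hE
    let π := (AlgSp.EtOver.bcπ hi.1 E).left
    have : IsClosedImmersion π := hi.2 _ _ _ (AlgSp.EtOver.isPullback_bcObj hi.1 E)
    have : IsAffineHom π := IsClosedImmersion.instIsAffineHom π
    have : IsAffine (AlgSp.EtOver.bcObj hi.1 E).obj.left.left := isAffine_of_isAffineHom π
    rw [HasRingHomProperty.iff_of_isAffine (P := @LocallyOfFinitePresentation)]
    have hsurj : Function.Surjective π.appTop.hom := π.app_surjective ⊤ (isAffineOpen_top _)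
    refine ⟨fun h => ?_, fun h => RingHom.FinitePresentation.of_surjective _ hsurj h⟩
    algebraize [π.appTop.hom]
    exact Algebra.FinitePresentation.ker_fG_of_surjective (Algebra.ofId _ _) hsurj
  rw [Groth.Agent.AlgSpLib.locP_iff_repWith Groth.Agent.AlgSpLib.etST_lfp X.property hi.1]
  refine ⟨fun h E hE => (key E hE).1 (h.2 _ _ _ (AlgSp.EtOver.isPullback_bcObj hi.1 E)), fun h => ?_⟩
  obtain ⟨U, p, hpe, hps⟩ := X.property.atlas
  obtain ⟨V, fst, snd, sq, -⟩ := Groth.Agent.AlgSpLib.exists_repWith hi p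
  have := Groth.Agent.AlgSpLib.isLocallySurjective_of_atlas hpe hps
  refine Groth.Agent.AlgSpLib.repWith_of_isLocallySurjective hi.1 sq ((Groth.Agent.AlgSpLib.repWith_yon_iff snd).2 ?_)
  refine IsZariskiLocalAtTarget.of_iSup_eq_top (P := @LocallyOfFinitePresentation)
    (fun O : U.left.affineOpens => O.1) (iSup_affineOpens_eq_top _) fun O => ?_
  let O' : Over S := Over.mk (O.1.ι ≫ U.hom)
  let j : O' ⟶ U := Over.homMk O.1.ι rfl
  have hje : AlgSp.RepWith @Etale ((AlgSp.yon S).map j ≫ p) :=
    Groth.Agent.AlgSpLib.repWith_comp ((Groth.Agent.AlgSpLib.repWith_yon_iff j).2 (show Etale O.1.ι from inferInstance)) hpe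
  let E : AlgSp.EtOver X.obj := AlgSp.EtOver.mk _ hje
  have hl := (key E O.2).2 (h E O.2)
  have sqE := AlgSp.EtOver.isPullback_bcObj hi.1 E
  let V' : Over S := Over.mk ((snd.left ⁻¹ᵁ O.1).ι ≫ V.hom)
  let jV : V' ⟶ V := Over.homMk (snd.left ⁻¹ᵁ O.1).ι rfl
  let sO : V' ⟶ O' := Over.homMk (snd.left ∣_ O.1) (by
    show (snd.left ∣_ O.1) ≫ O.1.ι ≫ U.hom = (snd.left ⁻¹ᵁ O.1).ι ≫ V.hom
    rw [morphismRestrict_ι_assoc, Over.w snd])
  have sqO : IsPullback ((AlgSp.yon S).map jV ≫ fst) ((AlgSp.yon S).map sO) i.hom ((AlgSp.yon S).map j ≫ p) :=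
    (Groth.Agent.AlgSpLib.isPullback_yon_iff.2 (isPullback_morphismRestrict snd.left O.1).flip).paste_horiz sq
  obtain ⟨e, he⟩ := Groth.Agent.AlgSpLib.exists_map_eq (sqO.isoIsPullback _ _ sqE).hom
  have : IsIso ((AlgSp.yon S).map e) := he ▸ inferInstance
  have : IsIso e := isIso_of_reflects_iso e (AlgSp.yon S)
  have he' : e ≫ AlgSp.EtOver.bcπ hi.1 E = sO := (AlgSp.yon S).map_injective (by
    rw [Functor.map_comp, he, sqO.isoIsPullback_hom_snd _ _ sqE])
  show LocallyOfFinitePresentation (sO.left)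
  rw [← he', Over.comp_left]
  have := hl
  have : IsIso e.left := (inferInstance : IsIso ((Over.forget S).map e))
  have : IsOpenImmersion e.left := inferInstance
  exact MorphismProperty.comp_mem @LocallyOfFinitePresentation _ _ inferInstance hl

end Groth.Agent.S9997
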