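import Groth.Statements.S9999
import Groth.Agent.EtQC.ClosedRight
import Groth.Agent.EtQC.PullExist

set_option autoImplicit false
universe u
open CategoryTheory CategoryTheory.Limits AlgebraicGeometry Opposite
open AlgSp

namespace Groth.Agent.S9999

/-- For a closed immersion i : Z ⟶ X of algebraic spaces over S, the direct image functor i_* from
quasi-coherent O_Z-modules to quasi-coherent O_X-modules (on the small etale sites; that i_*
preserves quasi-coherence is taken as a hypothesis) has a right adjoint. -/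
theorem result {S : Scheme.{u}} {Z X : AlgSp.Space S} (i : Z ⟶ X)
    (hi : AlgSp.RepWith @IsClosedImmersion i.hom)
    (hq : ∀ G : AlgSp.ModEt Z.obj, G.IsQuasicoherent → ((AlgSp.pushModEt hi.1).obj G).IsQuasicoherent) :
    ((SheafOfModules.isQuasicoherent (AlgSp.OEtRing X.obj)).lift
        ((SheafOfModules.isQuasicoherent (AlgSp.OEtRing Z.obj)).ι ⋙ AlgSp.pushModEt hi.1)
        (fun G => hq G.obj G.property)).IsLeftAdjoint := by
  haveI := Groth.Agent.EtQC.isRightAdjoint_pushModEt hi.1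
  let P := SheafOfModules.isQuasicoherent (AlgSp.OEtRing X.obj)
  let Q := SheafOfModules.isQuasicoherent (AlgSp.OEtRing Z.obj)
  let Φ : Q.FullSubcategory ⥤ P.FullSubcategory :=
    P.lift (Q.ι ⋙ AlgSp.pushModEt hi.1) (fun G => hq G.obj G.property)
  let σ : ∀ F : P.FullSubcategory, @Groth.Agent.EtQC.SubFam S X.obj F.obj :=
    fun F => Groth.Agent.EtQC.sSupFam (Groth.Agent.EtQC.killedFams hi.1 F.obj)
  have hF : ∀ F : P.FullSubcategory, F.obj.IsQuasicoherent := fun F => F.property
  let Robj : P.FullSubcategory → Q.FullSubcategory := fun F =>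
    haveI := hF F
    haveI := (σ F).isQuasicoherent_toMod
    ⟨(AlgSp.pullModEt hi.1).obj (σ F).toMod, Groth.Agent.EtQC.isQuasicoherent_pull hi.1 (σ F).toMod X.property⟩
  let e : ∀ F : P.FullSubcategory,
      (AlgSp.pushModEt hi.1).obj ((AlgSp.pullModEt hi.1).obj (@Groth.Agent.EtQC.SubFam.toMod S X.obj F.obj (σ F) (hF F))) ≅
        @Groth.Agent.EtQC.SubFam.toMod S X.obj F.obj (σ F) (hF F) := fun F =>
    haveI := hF F
    haveI := (σ F).isQuasicoherent_toMod
    (Groth.Agent.EtQC.exists_push_iso hi X.property (σ F).toMod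
      (fun E hE s => Groth.Agent.EtQC.annihilated_sSup_killedFams hi.1 F.obj E hE s)).some
  let c : ∀ F : P.FullSubcategory, Φ.obj (Robj F) ⟶ F := fun F =>
    haveI := hF F
    ObjectProperty.homMk ((e F).hom ≫ (σ F).ι)
  have hb : ∀ (G : Q.FullSubcategory) (F : P.FullSubcategory),
      Function.Bijective (fun ψ : G ⟶ Robj F => Φ.map ψ ≫ c F) := fun G F => by
    haveI := hF F
    haveI : G.obj.IsQuasicoherent := G.property
    haveI : ((AlgSp.pushModEt hi.1).obj G.obj).IsQuasicoherent := hq G.obj G.property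
    have hp := Groth.Agent.EtQC.push_map_bijective hi X.property Z.property G.obj (Robj F).obj
    refine ⟨fun ψ ψ' h => ?_, fun φ => ?_⟩
    · refine ObjectProperty.hom_ext _ (hp.1 ((cancel_mono ((e F).hom ≫ (σ F).ι)).mp ?_))
      exact congrArg InducedCategory.Hom.hom h
    · let φ0 : (AlgSp.pushModEt hi.1).obj G.obj ⟶ F.obj := φ.hom
      obtain ⟨ψ, hψ⟩ := hp.2 ((σ F).lift φ0 (fun E hE a => Groth.Agent.EtQC.le_sSupFam
        (Groth.Agent.EtQC.imFam_mem_killedFams hi φ0) E hE ⟨a, rfl⟩) ≫ (e F).inv)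
      refine ⟨ObjectProperty.homMk ψ, ObjectProperty.hom_ext _ ?_⟩
      show (AlgSp.pushModEt hi.1).map ψ ≫ (e F).hom ≫ (σ F).ι = φ0
      have hψ' : (AlgSp.pushModEt hi.1).map ψ = _ := hψ
      rw [hψ', Category.assoc, Iso.inv_hom_id_assoc, Groth.Agent.EtQC.SubFam.lift_ι]
  let E : ∀ (G : Q.FullSubcategory) (F : P.FullSubcategory), (Φ.obj G ⟶ F) ≃ (G ⟶ Robj F) :=
    fun G F => (Equiv.ofBijective _ (hb G F)).symm
  exact (Adjunction.adjunctionOfEquivRight (F := Φ) E (fun G' G F f g => (hb G' F).1 (by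
    show Φ.map (E G' F (Φ.map f ≫ g)) ≫ c F = Φ.map (f ≫ E G F g) ≫ c F
    rw [show Φ.map (E G' F (Φ.map f ≫ g)) ≫ c F = Φ.map f ≫ g from (Equiv.ofBijective _ (hb G' F)).apply_symm_apply _,
      Φ.map_comp, Category.assoc,
      show Φ.map (E G F g) ≫ c F = g from (Equiv.ofBijective _ (hb G F)).apply_symm_apply g]))).isLeftAdjoint

end Groth.Agent.S9999
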